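import Mathlib
import Cfsg.Agent.H74.Mathieu

/-! # Upper bound for the Schur multiplier of `M11` (generated certificate) -/

set_option autoImplicit false
set_option maxRecDepth 1000000
set_option linter.style.longLine false

namespace Cfsg.Agent.H74

open Cfsg Cfsg.Agent.H42 Cfsg.Agent.H46

/-- Rules. -/
def c11p2_rule : List (List (List ℕ)) :=
  [[[1, 3], [1], [1, 2, 3], [3]],
   [[], [3], [2, 3], [3]],
   [[], [], [3], [3]],
   [[], [], [], []]]

/-- Fused subgroups. -/
def c11p2_fq : List (List (List ℕ)) :=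
  []

/-- Their images. -/
def c11p2_fq' : List (List (List ℕ)) :=
  []

/-- Rows. -/
def c11p2_sA : List Spec :=
  [⟨1, [0], [], 0, 1, 31⟩,
   ⟨1, [1], [], 5, 1, 31⟩,
   ⟨1, [2], [], 2, 1, 31⟩,
   ⟨1, [3], [], 10, 1, 31⟩,
   ⟨0, [1], [1, 1], 7, 1, 31⟩,
   ⟨0, [2], [2, 2], 11, 1, 31⟩,
   ⟨0, [2], [1, 0], 3, 1, 31⟩,
   ⟨0, [0], [0, 0], 1, 1, 31⟩,
   ⟨0, [2], [1, 1], 15, 1, 31⟩,
   ⟨0, [2], [0, 0], 6, 1, 11⟩]

/-- Rows. -/
def c11p2_sB : List Spec :=
  []

/-- Rows. -/
def c11p2_sC : List Spec :=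
  []

/-- The certificate. -/
noncomputable def c11p2 : Cert where
  q := 1
  n := 4
  nf := 0
  b := 16
  M := 32
  D := 2
  fuel := 26
  rule := fun i j => getLL (getL3 c11p2_rule i) j
  fq := fun i j => getLL (getL3 c11p2_fq i) j
  fq' := fun i j => getLL (getL3 c11p2_fq' i) j
  nrm := nrmM 16 16 5
  nri := getL [0, 1, 0, 2]
  nrj := getL [0, 1, 2, 2]
  B := getL [0x1f00000001, 0xa00160000, 0x1000a00150000, 0x14000a0000]
  nU := 0
  U := getL []
  ord := getL []
  sA := c11p2_sA
  sB := c11p2_sB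
  sC := c11p2_sC

theorem c11p2_nrm : Nrm c11p2.b c11p2.R c11p2.M c11p2.nrm := by
  dsimp only [c11p2, Cert.R]
  exact (nrm_nrmM (b := 16) (R := 16) (v := 5) (by norm_num) : Nrm 16 16 (2 ^ 5) _)

theorem c11p2_chk : c11p2.chk 1 = true := by decide +kernel

theorem c11p2_bound : MBound Spor.M11 (495 * 495) 1 :=
  Cert.mBound_perm test11 (C := c11p2)
    (xs := getL [235912592559525145725232928982994976, 936741154273517938852481970894610464, 608444840082577724295141279928850464, 719708130282520820308329691860975648])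
    (gs := getL [])
    (inv := getLL [[9], [7, 15], [7], [2]])
    (by show Nat.Prime 2; norm_num) card_M11 c11p2_nrm (by decide +kernel) c11p2_chk

/-- Rules. -/
def c11p3_rule : List (List (List ℕ)) :=
  [[[], [1]],
   [[], []]]

/-- Fused subgroups. -/
def c11p3_fq : List (List (List ℕ)) :=
  [[[0, 0, 1, 1], [1, 1]]]

/-- Their images. -/
def c11p3_fq' : List (List (List ℕ)) :=
  [[[0, 1], [1, 1]]]

/-- Rows. -/
def c11p3_sA : List Spec :=
  [⟨1, [0], [], 0, 1, 26⟩,
   ⟨1, [1], [], 3, 1, 26⟩,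
   ⟨3, [1, 0], [0, 1], 1, 1, 14⟩]

/-- Rows. -/
def c11p3_sB : List Spec :=
  []

/-- Rows. -/
def c11p3_sC : List Spec :=
  []

/-- The certificate. -/
noncomputable def c11p3 : Cert where
  q := 2
  n := 2
  nf := 1
  b := 16
  M := 27
  D := 3
  fuel := 30
  rule := fun i j => getLL (getL3 c11p3_rule i) j
  fq := fun i j => getLL (getL3 c11p3_fq i) j
  fq' := fun i j => getLL (getL3 c11p3_fq' i) j
  nrm := nrmL 16 6 27
  nri := getL [0, 1]
  nrj := getL [0, 1]
  B := getL [0x1, 0x10000]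
  nU := 0
  U := getL []
  ord := getL []
  sA := c11p3_sA
  sB := c11p3_sB
  sC := c11p3_sC

theorem c11p3_nrm : Nrm c11p3.b c11p3.R c11p3.M c11p3.nrm := by
  dsimp only [c11p3, Cert.R]
  exact nrm_nrmL 16 6 27

theorem c11p3_chk : c11p3.chk 1 = true := by decide +kernel

theorem c11p3_bound : MBound Spor.M11 (880 * 880) 1 :=
  Cert.mBound_perm test11 (C := c11p3)
    (xs := getL [928718206277989008510816407558424608, 487373122709212905255923294881187872])
    (gs := getL [984355386066803413838770983050249280])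
    (inv := getLL [[5], [3]])
    (by show Nat.Prime 3; norm_num) card_M11 c11p3_nrm (by decide +kernel) c11p3_chk

theorem bound11 : MBound Spor.M11 1 1 :=
  (((c11p2_bound.mul
    c11p3_bound).mul
    (mBound_of_prime (p := 5) (k := 1584) (by norm_num) card_M11)).mul
    (mBound_of_prime (p := 11) (k := 720) (by norm_num) card_M11)).congr (by norm_num) (by norm_num)

end Cfsg.Agent.H74
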