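import Mathlib
import Cfsg.Agent.H74.Mathieu

/-! # Upper bound for the Schur multiplier of `M23` (generated certificate) -/

set_option autoImplicit false
set_option maxRecDepth 1000000
set_option linter.style.longLine false

namespace Cfsg.Agent.H74

open Cfsg Cfsg.Agent.H42 Cfsg.Agent.H46

/-- Rules. -/
def c23p2_rule : List (List (List ℕ)) :=
  [[[1, 2, 3, 6], [2, 3, 4], [1, 3, 4, 6], [3, 4, 6], [4, 5], [5], [4, 6]],
   [[], [], [2, 4], [3, 4], [4], [5], [4, 5, 6]],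
   [[], [], [5], [3, 5], [4], [5], [4, 6]],
   [[], [], [], [], [4], [5], [6]],
   [[], [], [], [], [], [5], [6]],
   [[], [], [], [], [], [], [6]],
   [[], [], [], [], [], [], []]]

/-- Fused subgroups. -/
def c23p2_fq : List (List (List ℕ)) :=
  [[[1, 5, 6], [2, 3], [3, 5], [3, 4, 6], [3, 4], [5]],
   [[1, 2], [0, 2, 6], [3], [4, 5, 6], [3, 4, 6], [5, 6]],
   [[0, 3, 4, 6], [4, 5], [1], [1, 2, 3, 5], [2, 3]]]

/-- Their images. -/
def c23p2_fq' : List (List (List ℕ)) :=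
  [[[2, 4], [1, 4, 5], [4, 6], [3, 6], [4, 5, 6], [4, 5]],
   [[0, 2, 3], [0, 1, 3], [3], [4, 5], [3, 4], [4, 5, 6]],
   [[0, 1, 3, 5, 6], [1, 4], [1, 2, 3, 4, 5], [5], [4]]]

/-- Rows. -/
def c23p2_sA : List Spec :=
  [⟨1, [0], [], 0, 1, 255⟩,
   ⟨1, [1], [], 1, 1, 255⟩,
   ⟨1, [2], [], 2, 1, 255⟩,
   ⟨1, [3], [], 4, 1, 255⟩,
   ⟨1, [4], [], 3, 1, 255⟩,
   ⟨1, [5], [], 6, 1, 255⟩,
   ⟨1, [6], [], 8, 1, 255⟩,
   ⟨0, [2], [2, 2], 19, 1, 255⟩,
   ⟨4, [4, 2], [2, 4], 27, 1, 1⟩,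
   ⟨0, [6], [5, 0], 33, 1, 255⟩,
   ⟨0, [4], [4, 0], 40, 1, 1⟩,
   ⟨4, [5, 2], [2, 5], 25, 1, 255⟩,
   ⟨0, [6], [4, 0], 41, 1, 1⟩,
   ⟨3, [5, 3], [3, 5], 34, 1, 1⟩,
   ⟨0, [6], [6, 0], 32, 1, 1⟩,
   ⟨3, [5, 2], [2, 5], 26, 1, 1⟩,
   ⟨0, [3], [3, 0], 48, 1, 1⟩,
   ⟨0, [5], [1, 0], 12, 1, 255⟩,
   ⟨3, [5, 0], [0, 5], 18, 1, 255⟩,
   ⟨5, [4, 1], [1, 4], 11, 1, 255⟩,
   ⟨0, [4], [0, 0], 5, 1, 255⟩,
   ⟨3, [2, 2], [], 24, 1, 1⟩,
   ⟨5, [4, 2], [2, 4], 10, 1, 1⟩,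
   ⟨0, [6], [1, 0], 20, 1, 1⟩,
   ⟨0, [3], [0, 0], 17, 1, 1⟩,
   ⟨0, [2], [1, 0], 13, 1, 1⟩,
   ⟨3, [2, 1], [1, 2, 5], 54, 1, 1⟩,
   ⟨3, [3, 0], [0, 3, 5], 9, 1, 85⟩,
   ⟨0, [1], [1, 0], 16, 1, 1⟩,
   ⟨4, [2, 1], [1, 2, 5], 61, 1, 1⟩,
   ⟨3, [2, 0], [0, 4, 5], 53, 1, 1⟩,
   ⟨4, [2, 0], [0, 4, 5], 60, 1, 1⟩,
   ⟨4, [3, 0], [0, 2, 4], 59, 1, 255⟩,
   ⟨5, [4, 0], [0, 3, 4], 66, 1, 1⟩,
   ⟨5, [1, 0], [0, 1, 2, 3, 4], 67, 1, 1⟩]

/-- Rows. -/
def c23p2_sB : List Spec :=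
  []

/-- Rows. -/
def c23p2_sC : List Spec :=
  [⟨4, [2, 2], [], 58, 2, 255⟩,
   ⟨5, [1, 1], [], 64, 2, 255⟩,
   ⟨3, [3, 3], [], 52, 2, 255⟩,
   ⟨3, [1, 1], [], 50, 2, 255⟩,
   ⟨5, [2, 2], [], 65, 2, 255⟩,
   ⟨0, [0], [0, 0], 51, 2, 255⟩]

/-- The certificate. -/
noncomputable def c23p2 : Cert where
  q := 1
  n := 7
  nf := 3
  b := 24
  M := 256
  D := 2
  fuel := 93
  rule := fun i j => getLL (getL3 c23p2_rule i) j
  fq := fun i j => getLL (getL3 c23p2_fq i) j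
  fq' := fun i j => getLL (getL3 c23p2_fq' i) j
  nrm := nrmM 24 70 8
  nri := getL [0, 0, 0, 0, 0, 0, 1]
  nrj := getL [0, 1, 2, 4, 3, 6, 1]
  B := getL [0x10000020000ff0000000000000000ff000001, 0x1000000000000000000000000000000000000, 0x10000010000ff0000000000010000ff000000, 0x10000010000000000ff0000ff000000, 0xfe000000000000000000000000000000, 0xfe000000000000000000, 0x20000fe000000000000000000000000]
  nU := 0
  U := getL []
  ord := getL []
  sA := c23p2_sA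
  sB := c23p2_sB
  sC := c23p2_sC

theorem c23p2_nrm : Nrm c23p2.b c23p2.R c23p2.M c23p2.nrm := by
  dsimp only [c23p2, Cert.R]
  exact (nrm_nrmM (b := 24) (R := 70) (v := 8) (by norm_num) : Nrm 24 70 (2 ^ 8) _)

theorem c23p2_chk : c23p2.chk 1 = true := by decide +kernel

theorem c23p2_bound : MBound Spor.M23 (79695 * 79695) 1 :=
  Cert.mBound_perm test23 (C := c23p2)
    (xs := getL [973803310276043016259401315016675392, 984389335412866629269198819667628320, 983991774753981078610810633448760384, 983991419431302060320892116034627232, 984778551226145691544909149262458112, 984035668360141982437242148508390688, 984365217902686453248235801272398976])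
    (gs := getL [984722692898472390874717050624967790, 979122530882918621805649888735036480, 984765742883269521305132332757846112])
    (inv := getLL [[14], [12, 16], [12], [1, 9, 4, 8, 6, 19, 3, 7], [1, 4, 9, 6], [1, 4], [1]])
    (by show Nat.Prime 2; norm_num) card_M23 c23p2_nrm (by decide +kernel) c23p2_chk

/-- Rules. -/
def c23p3_rule : List (List (List ℕ)) :=
  [[[], [1]],
   [[], []]]

/-- Fused subgroups. -/
def c23p3_fq : List (List (List ℕ)) :=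
  [[[0, 1], [1, 1]]]

/-- Their images. -/
def c23p3_fq' : List (List (List ℕ)) :=
  [[[1, 1], [0]]]

/-- Rows. -/
def c23p3_sA : List Spec :=
  [⟨1, [0], [], 0, 1, 26⟩,
   ⟨1, [1], [], 3, 1, 26⟩,
   ⟨3, [1, 0], [0, 1], 1, 1, 7⟩]

/-- Rows. -/
def c23p3_sB : List Spec :=
  []

/-- Rows. -/
def c23p3_sC : List Spec :=
  []

/-- The certificate. -/
noncomputable def c23p3 : Cert where
  q := 2
  n := 2
  nf := 1
  b := 15
  M := 27
  D := 3
  fuel := 18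
  rule := fun i j => getLL (getL3 c23p3_rule i) j
  fq := fun i j => getLL (getL3 c23p3_fq i) j
  fq' := fun i j => getLL (getL3 c23p3_fq' i) j
  nrm := nrmL 15 6 27
  nri := getL [0, 1]
  nrj := getL [0, 1]
  B := getL [0x1, 0x8000]
  nU := 0
  U := getL []
  ord := getL []
  sA := c23p3_sA
  sB := c23p3_sB
  sC := c23p3_sC

theorem c23p3_nrm : Nrm c23p3.b c23p3.R c23p3.M c23p3.nrm := by
  dsimp only [c23p3, Cert.R]
  exact nrm_nrmL 15 6 27

theorem c23p3_chk : c23p3.chk 1 = true := by decide +kernel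

theorem c23p3_bound : MBound Spor.M23 (1133440 * 1133440) 1 :=
  Cert.mBound_perm test23 (C := c23p3)
    (xs := getL [983183014433909528179272068273319968, 983194013971430707138330014630710304])
    (gs := getL [966079907362330876933316655672952833])
    (inv := getLL [[6], [2]])
    (by show Nat.Prime 3; norm_num) card_M23 c23p3_nrm (by decide +kernel) c23p3_chk

theorem bound23 : MBound Spor.M23 1 1 :=
  (((((c23p2_bound.mul
    c23p3_bound).mul
    (mBound_of_prime (p := 5) (k := 2040192) (by norm_num) card_M23)).mul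
    (mBound_of_prime (p := 7) (k := 1457280) (by norm_num) card_M23)).mul
    (mBound_of_prime (p := 11) (k := 927360) (by norm_num) card_M23)).mul
    (mBound_of_prime (p := 23) (k := 443520) (by norm_num) card_M23)).congr (by norm_num) (by norm_num)

end Cfsg.Agent.H74
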