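import Mathlib
import Cfsg.Agent.H74.Mathieu

/-! # Upper bound for the Schur multiplier of `M24` (generated certificate) -/

set_option autoImplicit false
set_option maxRecDepth 1000000
set_option linter.style.longLine false

namespace Cfsg.Agent.H74

open Cfsg Cfsg.Agent.H42 Cfsg.Agent.H46

/-- Rules. -/
def c24p2_rule : List (List (List ℕ)) :=
  [[[2, 3, 5, 6, 7, 8], [1, 2, 3, 5, 6, 9], [2, 6, 7, 9], [1, 2, 4, 7, 8, 9], [1, 2, 3, 7, 8, 9], [1, 4, 6, 9], [7, 9], [6, 7, 8], [6, 7, 8, 9], [6, 7]],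
   [[], [6, 7, 9], [3, 5, 8, 9], [2, 5, 7], [4, 7, 8, 9], [5, 7, 8, 9], [7, 9], [7], [6, 7, 8, 9], [6, 7]],
   [[], [], [6, 7, 8], [3, 4, 5, 7, 8], [5, 6], [4, 9], [6, 7], [7], [7, 8], [6, 7, 8, 9]],
   [[], [], [], [4, 5, 7, 9], [5, 7, 9], [4, 6, 8, 9], [6, 7], [8, 9], [7, 8], [6]],
   [[], [], [], [], [], [5, 6, 8], [8], [6, 9], [6], [7, 8]],
   [[], [], [], [], [], [6, 7, 9], [7, 9], [8, 9], [6, 7, 8, 9], [6, 8, 9]],
   [[], [], [], [], [], [], [], [7], [8], [9]],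
   [[], [], [], [], [], [], [], [], [8], [9]],
   [[], [], [], [], [], [], [], [], [], [9]],
   [[], [], [], [], [], [], [], [], [], []]]

/-- Fused subgroups. -/
def c24p2_fq : List (List (List ℕ)) :=
  [[[1, 2, 3, 5, 8], [0, 1, 3, 4, 7, 8, 9], [2, 3, 4, 8], [4, 5, 6, 7], [3, 5, 6, 8], [6, 9], [8], [6, 7], [6]],
   [[0, 1, 2, 3, 7], [1, 2, 3, 6, 9], [2, 5, 7], [3, 4, 5, 6], [4, 8, 9], [4, 5, 6], [6, 9], [8, 9], [6, 7, 9]],
   [[0, 1, 3, 4, 5], [1, 4, 9], [1, 2, 3, 4, 5, 6], [4, 5, 6], [5, 7, 9], [8], [6, 8], [7, 9], [8, 9]],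
   [[0, 1, 4, 6, 7, 8, 9], [1, 2, 3, 4, 6, 8], [2, 3, 5, 7, 8, 9], [4, 6, 7], [5, 6, 7, 8], [6, 9], [6, 7], [7, 8, 9], [6]]]

/-- Their images. -/
def c24p2_fq' : List (List (List ℕ)) :=
  [[[0, 1, 3, 4, 6, 8, 9], [0, 3, 4, 9], [2, 4, 5, 6, 9], [3, 4, 7, 8, 9], [4, 5, 6, 8], [6, 7, 8], [9], [6, 7], [6, 8, 9]],
   [[0, 2, 3, 4, 5, 7, 8, 9], [0, 1, 3, 6, 8, 9], [1, 3, 4, 5, 8, 9], [0, 1, 2, 3, 4, 5, 6, 7, 8, 9], [0, 2, 4, 7, 8], [2, 3, 4, 9], [0, 1, 2, 4, 5, 6, 7], [0, 1, 3, 4, 6, 8, 9], [1, 2, 3, 5, 7, 9]],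
   [[0, 2, 6, 8, 9], [1, 2, 3], [2, 3, 9], [4, 6, 7, 9], [4, 5, 8], [6], [6, 7, 9], [8], [6, 7, 8]],
   [[0, 2, 3, 6, 8], [1, 2, 3, 4], [1, 4, 5, 6], [4, 8, 9], [4, 5, 7, 8], [6, 7], [6, 9], [6, 7, 9], [8]]]

/-- Rows. -/
def c24p2_sA : List Spec :=
  [⟨1, [0], [], 0, 1, 2047⟩,
   ⟨1, [1], [], 1, 1, 2047⟩,
   ⟨1, [2], [], 2, 1, 2047⟩,
   ⟨1, [3], [], 3, 1, 2047⟩,
   ⟨1, [4], [], 22, 1, 2047⟩,
   ⟨1, [5], [], 23, 1, 2047⟩,
   ⟨1, [6], [], 4, 1, 2047⟩,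
   ⟨1, [7], [], 5, 1, 2047⟩,
   ⟨1, [8], [], 6, 1, 2047⟩,
   ⟨1, [9], [], 7, 1, 2047⟩,
   ⟨0, [6], [4, 4], 48, 1, 2047⟩,
   ⟨0, [9], [7, 1], 79, 1, 2047⟩,
   ⟨0, [9], [6, 4], 78, 1, 2047⟩,
   ⟨6, [8, 5], [5, 8], 68, 1, 2047⟩,
   ⟨3, [8, 7], [7, 8], 67, 1, 1⟩,
   ⟨6, [8, 6], [6, 8], 89, 1, 1⟩,
   ⟨5, [7, 5], [5, 7], 69, 1, 1⟩,
   ⟨0, [6], [6, 2], 77, 1, 1⟩,
   ⟨0, [6], [2, 2], 27, 1, 2047⟩,
   ⟨0, [2], [2, 2], 28, 1, 2047⟩,
   ⟨0, [7], [7, 0], 88, 1, 1⟩,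
   ⟨3, [6, 6], [], 99, 1, 2047⟩,
   ⟨0, [6], [2, 0], 29, 1, 1⟩,
   ⟨0, [7], [4, 2], 66, 1, 2047⟩,
   ⟨0, [9], [4, 4], 57, 1, 2047⟩,
   ⟨0, [1], [1, 1], 19, 1, 2047⟩,
   ⟨0, [6], [4, 2], 56, 1, 1⟩,
   ⟨0, [6], [4, 3], 38, 1, 2047⟩,
   ⟨0, [5], [5, 5], 59, 1, 2047⟩,
   ⟨0, [7], [5, 5], 58, 1, 2047⟩,
   ⟨0, [7], [2, 1], 49, 1, 1⟩,
   ⟨0, [7], [5, 3], 39, 1, 2047⟩,
   ⟨6, [5, 5], [], 47, 1, 1⟩,
   ⟨0, [9], [2, 0], 8, 1, 2047⟩,
   ⟨5, [5, 4], [4, 6, 7], 127, 1, 1⟩,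
   ⟨5, [5, 3], [3, 7], 126, 1, 2047⟩,
   ⟨6, [8, 4], [4, 5, 6], 138, 1, 2047⟩,
   ⟨6, [8, 3], [3, 5, 6, 7], 137, 1, 1⟩,
   ⟨0, [4], [2, 2], 37, 1, 2047⟩,
   ⟨5, [7, 1], [1, 5], 36, 1, 1⟩,
   ⟨0, [9], [3, 1], 46, 1, 1⟩,
   ⟨0, [9], [0, 0], 17, 1, 2047⟩,
   ⟨0, [9], [5, 1], 18, 1, 1⟩,
   ⟨6, [6, 4], [4, 5, 7, 8], 9, 1, 2047⟩,
   ⟨3, [6, 3], [3, 5, 7], 107, 1, 1⟩,
   ⟨3, [6, 4], [4, 7], 105, 1, 2047⟩,
   ⟨0, [3], [3, 3], 45, 1, 2047⟩,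
   ⟨0, [5], [5, 2], 55, 1, 2047⟩,
   ⟨3, [5, 3], [3, 5, 6, 8], 108, 1, 1⟩,
   ⟨0, [6], [3, 0], 26, 1, 683⟩,
   ⟨3, [6, 0], [0, 5, 7], 16, 1, 2047⟩,
   ⟨0, [4], [2, 1], 34, 1, 1⟩,
   ⟨5, [4, 1], [1, 4], 14, 1, 2047⟩,
   ⟨0, [5], [5, 0], 11, 1, 1⟩,
   ⟨3, [4, 4], [7, 8], 35, 1, 1⟩,
   ⟨5, [5, 0], [0, 5, 6, 8], 128, 1, 1⟩,
   ⟨0, [3], [3, 1], 33, 1, 2047⟩,
   ⟨5, [4, 4], [], 44, 1, 2047⟩,
   ⟨0, [2], [0, 0], 25, 1, 1103⟩,
   ⟨0, [3], [1, 1], 24, 1, 407⟩,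
   ⟨0, [4], [2, 0], 12, 1, 975⟩,
   ⟨6, [3, 2], [2, 3, 7], 13, 1, 7⟩,
   ⟨4, [2, 2], [5], 115, 1, 1⟩,
   ⟨4, [4, 4], [8], 118, 1, 1⟩,
   ⟨0, [0], [0, 0], 15, 1, 1281⟩,
   ⟨6, [3, 0], [0, 1, 3, 7], 131, 1, 1⟩,
   ⟨4, [7, 5], [5, 6], 117, 1, 2047⟩,
   ⟨5, [4, 0], [0, 2, 3, 5, 7], 124, 1, 1145⟩,
   ⟨5, [1, 0], [0, 3, 4, 5, 7], 122, 1, 1951⟩,
   ⟨3, [4, 0], [0, 2, 3, 4], 103, 1, 1⟩,
   ⟨6, [4, 0], [0, 1, 2, 4, 6, 7, 8], 135, 1, 657⟩,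
   ⟨4, [1, 0], [0, 4, 8], 114, 1, 683⟩,
   ⟨4, [3, 1], [1, 2, 7], 116, 1, 1⟩]

/-- Rows. -/
def c24p2_sB : List Spec :=
  []

/-- Rows. -/
def c24p2_sC : List Spec :=
  [⟨5, [5, 5], [], 125, 2, 1823⟩,
   ⟨6, [8, 8], [], 136, 2, 641⟩,
   ⟨5, [7, 7], [], 106, 2, 21⟩,
   ⟨5, [3, 3], [], 121, 2, 413⟩,
   ⟨6, [3, 3], [7], 133, 2, 2047⟩,
   ⟨6, [4, 4], [5, 6, 7, 8], 134, 2, 2047⟩,
   ⟨3, [3, 3], [6, 8], 104, 2, 1187⟩,
   ⟨0, [5], [0, 0], 123, 2, 961⟩,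
   ⟨4, [8, 5], [5, 8], 132, 2, 1309⟩,
   ⟨3, [3, 0], [0, 3], 102, 2, 849⟩]

/-- The certificate. -/
noncomputable def c24p2 : Cert where
  q := 1
  n := 10
  nf := 4
  b := 35
  M := 2048
  D := 2
  fuel := 2215
  rule := fun i j => getLL (getL3 c24p2_rule i) j
  fq := fun i j => getLL (getL3 c24p2_fq i) j
  fq' := fun i j => getLL (getL3 c24p2_fq' i) j
  nrm := nrmM 35 140 11
  nri := getL [0, 0, 0, 0, 2, 2, 0, 0, 0, 0]
  nrj := getL [0, 1, 2, 3, 2, 3, 4, 5, 6, 7]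
  B := getL [0x2aa800000556000000000000000aa8000002aa000000556000000aac000001ffc00000155800000001, 0x2ac000000557000000000000000aa8000002ab000000554000000aa800000000400000155000000000, 0x1550000002ab000000000000001554000001550000002ac000000556000001ffc000002ab000000000, 0x2aa800000555000000ffe000000aa8000002aa000000556000000aae00000000000000155800000000, 0x2aa800000555000000ffe000000aac000002aa000000556000000aac00000000000000155800000000, 0x2ab800000556000000002000000aac000002ab000000554000000aa800000000400000154800000000, 0x100000000000000000000000000000000000000000000000001ffc00000000000000000, 0x2ab000000556000000000000000aa8000002aa000000556000000aac000001ff800000156000000000, 0x3ff0000007ff0000000000000000000000000000000000000000000000000000400000000000000000, 0x1550000002a9000000000000001558000001560000002aa000000554000000004000002aa000000000]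
  nU := 0
  U := getL []
  ord := getL []
  sA := c24p2_sA
  sB := c24p2_sB
  sC := c24p2_sC

theorem c24p2_nrm : Nrm c24p2.b c24p2.R c24p2.M c24p2.nrm := by
  dsimp only [c24p2, Cert.R]
  exact (nrm_nrmM (b := 35) (R := 140) (v := 11) (by norm_num) : Nrm 35 140 (2 ^ 11) _)

theorem c24p2_chk : c24p2.chk 1 = true := by decide +kernel

theorem c24p2_bound : MBound M24 (239085 * 239085) 1 :=
  Cert.mBound_perm test24 (C := c24p2)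
    (xs := getL [91819245987544518377046663583864289, 803875140850136887430444263311391376, 819678389631678844203575342313579663, 226722102975375532883900216537352832, 964024773321639484175595653237738112, 546738162477768361728157874303097216, 542864460121385472515336834470041632, 346002956830814544231012909260942368, 152792920591298884919776072591710240, 798707012314215304092476350591776800])
    (gs := getL [147068665254383620305279669701261696, 480625157278966325220059887288982819, 152407393836847395587388647076354080, 944253425095160666184672321713802272])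
    (inv := getLL [[0, 15, 16, 18], [0, 15], [0], [16], [1, 12], [1], [2, 6, 14, 11, 8, 19, 3, 23], [2, 14, 6, 8], [2, 14], [2]])
    (by show Nat.Prime 2; norm_num) card_M24 c24p2_nrm (by decide +kernel) c24p2_chk

/-- Rules. -/
def c24p3_rule : List (List (List ℕ)) :=
  [[[], [1, 2, 2], [2]],
   [[], [], [2]],
   [[], [], []]]

/-- Fused subgroups. -/
def c24p3_fq : List (List (List ℕ)) :=
  [[[0], [1], [2, 2]]]

/-- Their images. -/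
def c24p3_fq' : List (List (List ℕ)) :=
  [[[0, 0, 2], [1, 1, 2, 2], [2, 2]]]

/-- Rows. -/
def c24p3_sA : List Spec :=
  [⟨1, [0], [], 1, 1, 80⟩,
   ⟨1, [1], [], 0, 1, 80⟩,
   ⟨1, [2], [], 4, 1, 80⟩,
   ⟨3, [2, 0], [0, 2], 2, 1, 40⟩,
   ⟨0, [1], [0, 0, 0], 8, 1, 40⟩,
   ⟨3, [2, 1], [1, 2], 5, 1, 40⟩,
   ⟨3, [1, 0], [0, 1, 2], 11, 1, 1⟩]

/-- Rows. -/
def c24p3_sB : List Spec :=
  []

/-- Rows. -/
def c24p3_sC : List Spec :=
  []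

/-- The certificate. -/
noncomputable def c24p3 : Cert where
  q := 2
  n := 3
  nf := 1
  b := 20
  M := 81
  D := 3
  fuel := 41
  rule := fun i j => getLL (getL3 c24p3_rule i) j
  fq := fun i j => getLL (getL3 c24p3_fq i) j
  fq' := fun i j => getLL (getL3 c24p3_fq' i) j
  nrm := nrmL 20 12 81
  nri := getL [0, 0, 1]
  nrj := getL [1, 0, 1]
  B := getL [0x100000, 0x10000000000, 0x27]
  nU := 0
  U := getL []
  ord := getL []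
  sA := c24p3_sA
  sB := c24p3_sB
  sC := c24p3_sC

theorem c24p3_nrm : Nrm c24p3.b c24p3.R c24p3.M c24p3.nrm := by
  dsimp only [c24p3, Cert.R]
  exact nrm_nrmL 20 12 81

theorem c24p3_chk : c24p3.chk 1 = true := by decide +kernel

theorem c24p3_bound : MBound M24 (9067520 * 9067520) 1 :=
  Cert.mBound_perm test24 (C := c24p3)
    (xs := getL [106009324553218934778649933392223425, 969809323307909563716060915635423634, 970533085071645315527893002545629190])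
    (gs := getL [320107981681492851900748844478072864])
    (inv := getLL [[2], [3], [0]])
    (by show Nat.Prime 3; norm_num) card_M24 c24p3_nrm (by decide +kernel) c24p3_chk

theorem bound24 : MBound M24 1 1 :=
  (((((c24p2_bound.mul
    c24p3_bound).mul
    (mBound_of_prime (p := 5) (k := 48964608) (by norm_num) card_M24)).mul
    (mBound_of_prime (p := 7) (k := 34974720) (by norm_num) card_M24)).mul
    (mBound_of_prime (p := 11) (k := 22256640) (by norm_num) card_M24)).mul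
    (mBound_of_prime (p := 23) (k := 10644480) (by norm_num) card_M24)).congr (by norm_num) (by norm_num)

end Cfsg.Agent.H74
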