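import Cfsg.Agent.H44.Coset
import Cfsg.Agent.H44.Perm3

set_option autoImplicit false
set_option maxRecDepth 1000000
set_option linter.all false
set_option Elab.async false

namespace Cfsg.Agent.H74.PresA6.L0
open Cfsg.Agent.H44

noncomputable def rT0 : Tr :=
 (.leaf (nat_lit 0x9020e1650))
noncomputable def gT0 : Tr :=
 (.leaf (nat_lit 0))
/-- The relators. -/
def R : List (List ℕ) := [[1, 2],
  [1, 1, 1]]
/-- The subgroup generators. -/
def S : List (List ℕ) := []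
def Wr : List (List ℕ) := [[1, 2],
  [2, 1],
  [2, 2, 2]]
def Wn : List (List ℕ) := []
def cr : List (ℕ × ℕ × ℕ) := [(0, 0, 0), (0, 0, 0), (2, 1, 0)]
def cn : List (ℕ × ℕ × ℕ) := []
noncomputable def rT : Tr := rT0
noncomputable def gT : Tr := gT0
noncomputable def rC (i : ℕ) : ℕ := rT.get (nat_lit 0) i
noncomputable def gC (i : ℕ) : ℕ := gT.get (nat_lit 0) i
noncomputable def row (p : ℕ) : ℕ := rec2 rC (nat_lit 8) (nat_lit 255) (nat_lit 12) (nat_lit 4095) p
noncomputable def gf (p : ℕ) : ℕ := rec2 gC (nat_lit 9) (nat_lit 511) (nat_lit 8) (nat_lit 255) p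
noncomputable def gw (c : ℕ) : List ℕ := nth [] Wr c
noncomputable def wn (c : ℕ) : ℕ := pack (nat_lit 2) (nth [] Wn c) (nat_lit 0)
noncomputable def C : Cert :=
  { n := (nat_lit 3), na := (nat_lit 0), M := (nat_lit 0), nc := (nat_lit 2), W := (nat_lit 2), EB := (nat_lit 4),
    LB := (nat_lit 2), nreg := (nat_lit 3), ivT := (nat_lit 24), base := (nat_lit 0),
    row := row, gf := gf, gw := gw, wn := wn }
theorem masks : Masks C (nat_lit 3) (nat_lit 15) (nat_lit 3) (nat_lit 6) (nat_lit 63) :=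
  ⟨by decide +kernel, by decide +kernel, by decide +kernel, by decide +kernel, by decide +kernel⟩
noncomputable def rchk : ℕ → ℕ → ℕ → Bool :=
  rowChk row gf gw (nat_lit 3) (nat_lit 0) (nat_lit 2) (nat_lit 2) (nat_lit 3) (nat_lit 4) (nat_lit 15) (nat_lit 2) (nat_lit 3) (nat_lit 6) (nat_lit 63) (nat_lit 3) (nat_lit 24) (nat_lit 1) (nat_lit 1) (nat_lit 6) (nat_lit 63)
noncomputable def fchk : ℕ → ℕ → ℕ → Bool :=
  auxRun row gf wn (nat_lit 3) (nat_lit 0) (nat_lit 0) (nat_lit 2) (nat_lit 2) (nat_lit 3) (nat_lit 4) (nat_lit 15) (nat_lit 2) (nat_lit 3) (nat_lit 6) (nat_lit 24) (nat_lit 0) (nat_lit 2) (nat_lit 3)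
theorem rows_of {lo hi : ℕ} {t : JL} (h : t.run rchk (nat_lit 12) hi lo = true) : C.RowsOK lo hi :=
  rowsOK_of_run masks h
theorem facts_of {lo hi : ℕ} {t : JL} (h : t.run fchk (nat_lit 20) hi lo = true) : C.FactsOK lo hi :=
  factsOK_of_run masks h
theorem words_ok : wordsChk 3 2 2 2 3 24 0 R S Wr Wn cr cn = true := by
  decide +kernel
noncomputable def j0 : JL :=
(.cons (nat_lit 3) (nat_lit 0xc0001081) (nat_lit 0)
.nil)
theorem t0 : C.RowsOK (nat_lit 0) (nat_lit 3) :=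
  rows_of (t := j0) (by decide +kernel)
theorem checked : Checked C R S :=
  ⟨⟨Wr, Wn, cr, cn, fun _ => rfl, fun _ => rfl, words_ok⟩, t0,
    fun _ _ h => absurd h (Nat.not_lt_zero _)⟩

/-- In any group whose elements `g 1, …, g 2` satisfy the relators `R`, a subgroup containing the words
of `S` has index at most 3 in the subgroup generated by these elements. -/
theorem idxLe {G : Type*} [Group G] {g : ℕ → G} (hg : Sat g R) {H : Subgroup G}
    (hS : ∀ s ∈ S, ev g s ∈ H) : IdxLe H (gen g 2) 3 :=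
  checked.idxLe hg hS

end Cfsg.Agent.H74.PresA6.L0

namespace Cfsg.Agent.H74.PresA6.L1
open Cfsg.Agent.H44

noncomputable def rT0 : Tr :=
 (.leaf (nat_lit 0x9282ab85e901cc32b100))
noncomputable def gT0 : Tr :=
 (.leaf (nat_lit 147520))
/-- The relators. -/
def R : List (List ℕ) := [[1, 2],
  [3, 3],
  [1, 1, 1],
  [1, 3, 1, 3, 1, 3]]
/-- The subgroup generators. -/
def S : List (List ℕ) := [[1],
  [2]]
def Wr : List (List ℕ) := [[2, 1],
  [3, 3],
  [1, 2],
  [2, 2, 2],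
  [3, 2, 3, 2, 3, 2]]
def Wn : List (List ℕ) := [[1, 4]]
def cr : List (ℕ × ℕ × ℕ) := [(0, 0, 0), (0, 0, 0), (0, 0, 0), (2, 2, 0), (2, 3, 0)]
def cn : List (ℕ × ℕ × ℕ) := [(1, 4, 0)]
noncomputable def rT : Tr := rT0
noncomputable def gT : Tr := gT0
noncomputable def rC (i : ℕ) : ℕ := rT.get (nat_lit 0) i
noncomputable def gC (i : ℕ) : ℕ := gT.get (nat_lit 0) i
noncomputable def row (p : ℕ) : ℕ := rec2 rC (nat_lit 8) (nat_lit 255) (nat_lit 20) (nat_lit 0xfffff) p
noncomputable def gf (p : ℕ) : ℕ := rec2 gC (nat_lit 9) (nat_lit 511) (nat_lit 10) (nat_lit 1023) p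
noncomputable def gw (c : ℕ) : List ℕ := nth [] Wr c
noncomputable def wn (c : ℕ) : ℕ := pack (nat_lit 3) (nth [] Wn c) (nat_lit 0)
noncomputable def C : Cert :=
  { n := (nat_lit 4), na := (nat_lit 0), M := (nat_lit 2), nc := (nat_lit 3), W := (nat_lit 2), EB := (nat_lit 5),
    LB := (nat_lit 3), nreg := (nat_lit 5), ivT := (nat_lit 0xde5650), base := (nat_lit 80),
    row := row, gf := gf, gw := gw, wn := wn }
theorem masks : Masks C (nat_lit 3) (nat_lit 31) (nat_lit 7) (nat_lit 7) (nat_lit 127) :=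
  ⟨by decide +kernel, by decide +kernel, by decide +kernel, by decide +kernel, by decide +kernel⟩
noncomputable def rchk : ℕ → ℕ → ℕ → Bool :=
  rowChk row gf gw (nat_lit 4) (nat_lit 2) (nat_lit 3) (nat_lit 2) (nat_lit 3) (nat_lit 5) (nat_lit 31) (nat_lit 3) (nat_lit 7) (nat_lit 7) (nat_lit 127) (nat_lit 5) (nat_lit 0xde5650) (nat_lit 1) (nat_lit 1) (nat_lit 6) (nat_lit 63)
noncomputable def fchk : ℕ → ℕ → ℕ → Bool :=
  auxRun row gf wn (nat_lit 4) (nat_lit 0) (nat_lit 2) (nat_lit 3) (nat_lit 2) (nat_lit 3) (nat_lit 5) (nat_lit 31) (nat_lit 3) (nat_lit 7) (nat_lit 7) (nat_lit 0xde5650) (nat_lit 80) (nat_lit 3) (nat_lit 7)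
theorem rows_of {lo hi : ℕ} {t : JL} (h : t.run rchk (nat_lit 18) hi lo = true) : C.RowsOK lo hi :=
  rowsOK_of_run masks h
theorem facts_of {lo hi : ℕ} {t : JL} (h : t.run fchk (nat_lit 20) hi lo = true) : C.FactsOK lo hi :=
  factsOK_of_run masks h
theorem words_ok : wordsChk 4 3 2 3 5 14571088 80 R S Wr Wn cr cn = true := by
  decide +kernel
noncomputable def j0 : JL :=
(.cons (nat_lit 4) (nat_lit 0x1440020030010c2046) (nat_lit 1)
.nil)
theorem t0 : C.RowsOK (nat_lit 0) (nat_lit 4) :=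
  rows_of (t := j0) (by decide +kernel)
noncomputable def j1 : JL :=
(.cons (nat_lit 2) (nat_lit 0x1800000) (nat_lit 0x3001001000000)
.nil)
theorem t1 : C.FactsOK (nat_lit 0) (nat_lit 2) :=
  facts_of (t := j1) (by decide +kernel)
theorem checked : Checked C R S :=
  ⟨⟨Wr, Wn, cr, cn, fun _ => rfl, fun _ => rfl, words_ok⟩, t0,
    t1⟩

/-- In any group whose elements `g 1, …, g 3` satisfy the relators `R`, a subgroup containing the words
of `S` has index at most 4 in the subgroup generated by these elements. -/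
theorem idxLe {G : Type*} [Group G] {g : ℕ → G} (hg : Sat g R) {H : Subgroup G}
    (hS : ∀ s ∈ S, ev g s ∈ H) : IdxLe H (gen g 3) 4 :=
  checked.idxLe hg hS

end Cfsg.Agent.H74.PresA6.L1

namespace Cfsg.Agent.H74.PresA6.L2
open Cfsg.Agent.H44

noncomputable def rT0 : Tr :=
 (.leaf (nat_lit 0x23564c12258d011c426808c164c00a42642092060800))
noncomputable def gT0 : Tr :=
 (.leaf (nat_lit 0x13004400900140))
/-- The relators. -/
def R : List (List ℕ) := [[1, 2],
  [3, 3],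
  [4, 4],
  [1, 1, 1],
  [1, 3, 1, 3, 1, 3],
  [1, 4, 1, 4],
  [3, 4, 3, 4, 3, 4]]
/-- The subgroup generators. -/
def S : List (List ℕ) := [[1],
  [2],
  [3]]
def Wr : List (List ℕ) := [[2, 1],
  [4, 4],
  [1, 4, 1, 4],
  [3, 3],
  [1, 2],
  [4, 3, 4, 3, 4, 3],
  [2, 2, 2],
  [3, 2, 3, 2, 3, 2],
  [4, 2, 4, 2]]
def Wn : List (List ℕ) := [[1, 5],
  [3, 9]]
def cr : List (ℕ × ℕ × ℕ) := [(0, 0, 0), (0, 0, 0), (1, 5, 0), (0, 0, 0), (0, 0, 0), (1, 6, 1), (2, 3, 0), (2, 4, 0), (2, 5, 0)]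
def cn : List (ℕ × ℕ × ℕ) := [(1, 7, 0), (1, 9, 0)]
noncomputable def rT : Tr := rT0
noncomputable def gT : Tr := gT0
noncomputable def rC (i : ℕ) : ℕ := rT.get (nat_lit 0) i
noncomputable def gC (i : ℕ) : ℕ := gT.get (nat_lit 0) i
noncomputable def row (p : ℕ) : ℕ := rec2 rC (nat_lit 7) (nat_lit 127) (nat_lit 35) (nat_lit 0x7ffffffff) p
noncomputable def gf (p : ℕ) : ℕ := rec2 gC (nat_lit 8) (nat_lit 255) (nat_lit 14) (nat_lit 16383) p
noncomputable def gw (c : ℕ) : List ℕ := nth [] Wr c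
noncomputable def wn (c : ℕ) : ℕ := pack (nat_lit 4) (nth [] Wn c) (nat_lit 0)
noncomputable def C : Cert :=
  { n := (nat_lit 5), na := (nat_lit 0), M := (nat_lit 4), nc := (nat_lit 4), W := (nat_lit 3), EB := (nat_lit 7),
    LB := (nat_lit 4), nreg := (nat_lit 9), ivT := (nat_lit 0x9a785643120), base := (nat_lit 672),
    row := row, gf := gf, gw := gw, wn := wn }
theorem masks : Masks C (nat_lit 7) (nat_lit 127) (nat_lit 15) (nat_lit 10) (nat_lit 1023) :=
  ⟨by decide +kernel, by decide +kernel, by decide +kernel, by decide +kernel, by decide +kernel⟩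
noncomputable def rchk : ℕ → ℕ → ℕ → Bool :=
  rowChk row gf gw (nat_lit 5) (nat_lit 4) (nat_lit 4) (nat_lit 3) (nat_lit 7) (nat_lit 7) (nat_lit 127) (nat_lit 4) (nat_lit 15) (nat_lit 10) (nat_lit 1023) (nat_lit 9) (nat_lit 0x9a785643120) (nat_lit 2) (nat_lit 3) (nat_lit 7) (nat_lit 127)
noncomputable def fchk : ℕ → ℕ → ℕ → Bool :=
  auxRun row gf wn (nat_lit 5) (nat_lit 0) (nat_lit 4) (nat_lit 4) (nat_lit 3) (nat_lit 7) (nat_lit 7) (nat_lit 127) (nat_lit 4) (nat_lit 15) (nat_lit 10) (nat_lit 0x9a785643120) (nat_lit 672) (nat_lit 4) (nat_lit 15)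
theorem rows_of {lo hi : ℕ} {t : JL} (h : t.run rchk (nat_lit 28) hi lo = true) : C.RowsOK lo hi :=
  rowsOK_of_run masks h
theorem facts_of {lo hi : ℕ} {t : JL} (h : t.run fchk (nat_lit 20) hi lo = true) : C.FactsOK lo hi :=
  factsOK_of_run masks h
theorem words_ok : wordsChk 5 4 3 4 9 10615102124320 672 R S Wr Wn cr cn = true := by
  decide +kernel
noncomputable def j0 : JL :=
(.cons (nat_lit 5) (nat_lit 0x122038004100050c000850010083042c08a) (nat_lit 14)
.nil)
theorem t0 : C.RowsOK (nat_lit 0) (nat_lit 5) :=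
  rows_of (t := j0) (by decide +kernel)
noncomputable def j1 : JL :=
(.cons (nat_lit 4) (nat_lit 0x4c000300001800000) (nat_lit 0x60010024001001000000000000)
.nil)
theorem t1 : C.FactsOK (nat_lit 0) (nat_lit 4) :=
  facts_of (t := j1) (by decide +kernel)
theorem checked : Checked C R S :=
  ⟨⟨Wr, Wn, cr, cn, fun _ => rfl, fun _ => rfl, words_ok⟩, t0,
    t1⟩

/-- In any group whose elements `g 1, …, g 4` satisfy the relators `R`, a subgroup containing the words
of `S` has index at most 5 in the subgroup generated by these elements. -/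
theorem idxLe {G : Type*} [Group G] {g : ℕ → G} (hg : Sat g R) {H : Subgroup G}
    (hS : ∀ s ∈ S, ev g s ∈ H) : IdxLe H (gen g 4) 5 :=
  checked.idxLe hg hS

end Cfsg.Agent.H74.PresA6.L2

namespace Cfsg.Agent.H74.PresA6.L3
open Cfsg.Agent.H44

noncomputable def rT0 : Tr :=
 (.leaf (nat_lit 0x6ad1a1406c95bd7a0ceb168ac10d188cd0116a911400290a132144902060800))
noncomputable def gT0 : Tr :=
 (.leaf (nat_lit 0x14004c011003000a00180))
/-- The relators. -/
def R : List (List ℕ) := [[1, 2],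
  [3, 3],
  [4, 4],
  [5, 5],
  [1, 1, 1],
  [1, 3, 1, 3, 1, 3],
  [1, 4, 1, 4],
  [3, 4, 3, 4, 3, 4],
  [1, 5, 1, 5],
  [1, 5, 3, 1, 5, 3],
  [4, 5, 4, 5, 4, 5]]
/-- The subgroup generators. -/
def S : List (List ℕ) := [[1],
  [2],
  [3],
  [4]]
def Wr : List (List ℕ) := [[2, 1],
  [5, 5],
  [1, 5, 1, 5],
  [3, 1, 5, 3, 1, 5],
  [4, 4],
  [1, 4, 1, 4],
  [3, 3],
  [5, 4, 5, 4, 5, 4],
  [1, 2],
  [4, 3, 4, 3, 4, 3],
  [5, 3, 1, 5, 3, 1],
  [2, 2, 2],
  [3, 2, 3, 2, 3, 2],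
  [4, 2, 4, 2],
  [5, 2, 5, 2]]
def Wn : List (List ℕ) := [[1, 6],
  [3, 10],
  [4, 12]]
def cr : List (ℕ × ℕ × ℕ) := [(0, 0, 0), (0, 0, 0), (1, 8, 0), (1, 9, 2), (0, 0, 0), (1, 6, 0), (0, 0, 0), (1, 10, 1), (0, 0, 0), (1, 7, 1), (1, 9, 1), (2, 4, 0), (2, 5, 0), (2, 6, 0), (2, 8, 0)]
def cn : List (ℕ × ℕ × ℕ) := [(1, 11, 0), (1, 13, 0), (1, 14, 0)]
noncomputable def rT : Tr := rT0
noncomputable def gT : Tr := gT0
noncomputable def rC (i : ℕ) : ℕ := rT.get (nat_lit 0) i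
noncomputable def gC (i : ℕ) : ℕ := gT.get (nat_lit 0) i
noncomputable def row (p : ℕ) : ℕ := rec2 rC (nat_lit 7) (nat_lit 127) (nat_lit 42) (nat_lit 0x3ffffffffff) p
noncomputable def gf (p : ℕ) : ℕ := rec2 gC (nat_lit 8) (nat_lit 255) (nat_lit 14) (nat_lit 16383) p
noncomputable def gw (c : ℕ) : List ℕ := nth [] Wr c
noncomputable def wn (c : ℕ) : ℕ := pack (nat_lit 4) (nth [] Wn c) (nat_lit 0)
noncomputable def C : Cert :=
  { n := (nat_lit 6), na := (nat_lit 0), M := (nat_lit 6), nc := (nat_lit 5), W := (nat_lit 3), EB := (nat_lit 7),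
    LB := (nat_lit 4), nreg := (nat_lit 15), ivT := (nat_lit 0xcdab8967543120), base := (nat_lit 5440),
    row := row, gf := gf, gw := gw, wn := wn }
theorem masks : Masks C (nat_lit 7) (nat_lit 127) (nat_lit 15) (nat_lit 10) (nat_lit 1023) :=
  ⟨by decide +kernel, by decide +kernel, by decide +kernel, by decide +kernel, by decide +kernel⟩
noncomputable def rchk : ℕ → ℕ → ℕ → Bool :=
  rowChk row gf gw (nat_lit 6) (nat_lit 6) (nat_lit 5) (nat_lit 3) (nat_lit 7) (nat_lit 7) (nat_lit 127) (nat_lit 4) (nat_lit 15) (nat_lit 10) (nat_lit 1023) (nat_lit 15) (nat_lit 0xcdab8967543120) (nat_lit 3) (nat_lit 7) (nat_lit 7) (nat_lit 127)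
noncomputable def fchk : ℕ → ℕ → ℕ → Bool :=
  auxRun row gf wn (nat_lit 6) (nat_lit 0) (nat_lit 6) (nat_lit 5) (nat_lit 3) (nat_lit 7) (nat_lit 7) (nat_lit 127) (nat_lit 4) (nat_lit 15) (nat_lit 10) (nat_lit 0xcdab8967543120) (nat_lit 5440) (nat_lit 5) (nat_lit 31)
theorem rows_of {lo hi : ℕ} {t : JL} (h : t.run rchk (nat_lit 35) hi lo = true) : C.RowsOK lo hi :=
  rowsOK_of_run masks h
theorem facts_of {lo hi : ℕ} {t : JL} (h : t.run fchk (nat_lit 20) hi lo = true) : C.FactsOK lo hi :=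
  factsOK_of_run masks h
theorem words_ok : wordsChk 6 5 3 4 15 57890976858124576 5440 R S Wr Wn cr cn = true := by
  decide +kernel
noncomputable def j0 : JL :=
(.cons (nat_lit 6) (nat_lit 0x78e1a3000b0a1c00904280011220007021800508041822444090) (nat_lit 355)
.nil)
theorem t0 : C.RowsOK (nat_lit 0) (nat_lit 6) :=
  rows_of (t := j0) (by decide +kernel)
noncomputable def j1 : JL :=
(.cons (nat_lit 6) (nat_lit 0x820006500048000300001800000) (nat_lit 0x2400400ce0020045001001000000000000000000)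
.nil)
theorem t1 : C.FactsOK (nat_lit 0) (nat_lit 6) :=
  facts_of (t := j1) (by decide +kernel)
theorem checked : Checked C R S :=
  ⟨⟨Wr, Wn, cr, cn, fun _ => rfl, fun _ => rfl, words_ok⟩, t0,
    t1⟩

/-- In any group whose elements `g 1, …, g 5` satisfy the relators `R`, a subgroup containing the words
of `S` has index at most 6 in the subgroup generated by these elements. -/
theorem idxLe {G : Type*} [Group G] {g : ℕ → G} (hg : Sat g R) {H : Subgroup G}
    (hS : ∀ s ∈ S, ev g s ∈ H) : IdxLe H (gen g 5) 6 :=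
  checked.idxLe hg hS

end Cfsg.Agent.H74.PresA6.L3

namespace Cfsg.Agent.H74.PresA6
open Cfsg.Agent.H44

def R : List (List ℕ) := [[1, 2], [3, 3], [4, 4], [5, 5], [1, 1, 1], [1, 3, 1, 3, 1, 3], [1, 4, 1, 4], [3, 4, 3, 4, 3, 4], [1, 5, 1, 5], [1, 5, 3, 1, 5, 3], [4, 5, 4, 5, 4, 5]]

theorem card0 {G : Type*} [Group G] {g : ℕ → G} (hg : Sat g R) :
    Finite (wgen g [[1], [2]]) ∧ Nat.card (wgen g [[1], [2]]) ≤ 3 :=
  (L0.checked.step hg [0, 1, 2] (S₁ := []) (by decide +kernel) (by decide +kernel)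
    (by decide +kernel)).wcard (n := 3) (m := 1) (by decide) (wcard_nil g)

theorem card1 {G : Type*} [Group G] {g : ℕ → G} (hg : Sat g R) :
    Finite (wgen g [[1], [2], [3]]) ∧ Nat.card (wgen g [[1], [2], [3]]) ≤ 12 :=
  (L1.checked.step hg [0, 1, 2, 3] (S₁ := [[1], [2]]) (by decide +kernel) (by decide +kernel)
    (by decide +kernel)).wcard (n := 4) (m := 3) (by decide) (card0 hg)

theorem card2 {G : Type*} [Group G] {g : ℕ → G} (hg : Sat g R) :
    Finite (wgen g [[1], [2], [3], [4]]) ∧ Nat.card (wgen g [[1], [2], [3], [4]]) ≤ 60 :=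
  (L2.checked.step hg [0, 1, 2, 3, 4] (S₁ := [[1], [2], [3]]) (by decide +kernel) (by decide +kernel)
    (by decide +kernel)).wcard (n := 5) (m := 12) (by decide) (card1 hg)

theorem card3 {G : Type*} [Group G] {g : ℕ → G} (hg : Sat g R) :
    Finite (wgen g [[1], [2], [3], [4], [5]]) ∧ Nat.card (wgen g [[1], [2], [3], [4], [5]]) ≤ 360 :=
  (L3.checked.step hg [0, 1, 2, 3, 4, 5] (S₁ := [[1], [2], [3], [4]]) (by decide +kernel) (by decide +kernel)
    (by decide +kernel)).wcard (n := 6) (m := 60) (by decide) (card2 hg)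

theorem card_le {G : Type*} [Group G] {g : ℕ → G} (hg : Sat g R) :
    Finite (wgen g [[1], [2], [3], [4], [5]]) ∧ Nat.card (wgen g [[1], [2], [3], [4], [5]]) ≤ 360 := card3 hg

end Cfsg.Agent.H74.PresA6
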