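import Mathlib
import Cfsg.Agent.H43.Cent
import Cfsg.Agent.H74.NetPres
import Cfsg.Agent.H74.PresA6
import Cfsg.Agent.H74.NetPc

set_option autoImplicit false
set_option maxRecDepth 1000000
set_option Elab.async false
set_option linter.style.longLine false

namespace Cfsg.Agent.H74.MA6

open Cfsg.Agent.H43 Cfsg.Agent.H46 

theorem m_hn : NOk 6 := by decide

theorem m_hk : 6 ≤ 2 ^ 3 := by decide

noncomputable def m_g1 : Net := (Net.cons (nat_lit 2) (nat_lit 2) (Net.cons (nat_lit 4) (nat_lit 2) (Net.cons (nat_lit 2) (nat_lit 2) (Net.cons (nat_lit 1) (nat_lit 1) Net.nil))))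

theorem m_g1_ok : Net.ok 6 m_g1 = true := by decide +kernel

noncomputable def m_g2 : Net := (Net.cons (nat_lit 1) (nat_lit 4) (Net.cons (nat_lit 2) (nat_lit 1) (Net.cons (nat_lit 4) (nat_lit 1) (Net.cons (nat_lit 2) (nat_lit 3) (Net.cons (nat_lit 1) (nat_lit 4) Net.nil)))))

theorem m_g2_ok : Net.ok 6 m_g2 = true := by decide +kernel

noncomputable def m_g3 : Net := (Net.cons (nat_lit 2) (nat_lit 3) (Net.cons (nat_lit 4) (nat_lit 3) (Net.cons (nat_lit 2) (nat_lit 3) (Net.cons (nat_lit 1) (nat_lit 20) Net.nil))))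

theorem m_g3_ok : Net.ok 6 m_g3 = true := by decide +kernel

noncomputable def m_g4 : Net := (Net.cons (nat_lit 1) (nat_lit 16) (Net.cons (nat_lit 2) (nat_lit 2) (Net.cons (nat_lit 4) (nat_lit 2) (Net.cons (nat_lit 2) (nat_lit 2) Net.nil))))

theorem m_g4_ok : Net.ok 6 m_g4 = true := by decide +kernel

noncomputable def p_E : List Net := [m_g1, m_g2, m_g3, m_g4]

theorem p_E_ok : okE 6 p_E = true := (okE_cons.2 ⟨m_g1_ok, (okE_cons.2 ⟨m_g2_ok, (okE_cons.2 ⟨m_g3_ok, (okE_cons.2 ⟨m_g4_ok, (okE_nil 6)⟩)⟩)⟩)⟩)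

def p_code : List ℕ := [0, 6, 7, 4, 2, 0]

noncomputable def m_g5 : Net := (Net.cons (nat_lit 1) (nat_lit 20) (Net.cons (nat_lit 4) (nat_lit 2) (Net.cons (nat_lit 2) (nat_lit 1) (Net.cons (nat_lit 1) (nat_lit 20) Net.nil))))

theorem m_g5_ok : Net.ok 6 m_g5 = true := by decide +kernel

noncomputable def m_g6 : Net := (Net.cons (nat_lit 2) (nat_lit 1) (Net.cons (nat_lit 4) (nat_lit 3) (Net.cons (nat_lit 2) (nat_lit 3) (Net.cons (nat_lit 1) (nat_lit 21) Net.nil))))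

theorem m_g6_ok : Net.ok 6 m_g6 = true := by decide +kernel

noncomputable def m_g7 : Net := (Net.cons (nat_lit 4) (nat_lit 1) (Net.cons (nat_lit 2) (nat_lit 2) Net.nil))

theorem m_g7_ok : Net.ok 6 m_g7 = true := by decide +kernel

noncomputable def u_c2_X : List Net := [m_g5, m_g6, m_g7]

theorem u_c2_X_ok : okE 6 u_c2_X = true := (okE_cons.2 ⟨m_g5_ok, (okE_cons.2 ⟨m_g6_ok, (okE_cons.2 ⟨m_g7_ok, (okE_nil 6)⟩)⟩)⟩)

noncomputable def u_c2_Y : List Net := []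

theorem u_c2_Y_ok : okE 6 u_c2_Y = true := (okE_nil 6)

noncomputable def m_g10 : Net := (Net.cons (nat_lit 2) (nat_lit 2) (Net.cons (nat_lit 4) (nat_lit 2) Net.nil))

theorem m_g10_ok : Net.ok 6 m_g10 = true := by decide +kernel

noncomputable def m_g11 : Net := (Net.cons (nat_lit 2) (nat_lit 2) (Net.cons (nat_lit 4) (nat_lit 3) (Net.cons (nat_lit 2) (nat_lit 1) Net.nil)))

theorem m_g11_ok : Net.ok 6 m_g11 = true := by decide +kernel

noncomputable def u_c3_X : List Net := [m_g10, m_g11]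

theorem u_c3_X_ok : okE 6 u_c3_X = true := (okE_cons.2 ⟨m_g10_ok, (okE_cons.2 ⟨m_g11_ok, (okE_nil 6)⟩)⟩)

noncomputable def u_c3_Y : List Net := []

theorem u_c3_Y_ok : okE 6 u_c3_Y = true := (okE_nil 6)

theorem p_gen : H44.gen (H44.gp 6 p_E p_code) 5 = grp 6 p_E :=
  H44.gen_gp (by decide +kernel)

theorem p_satL : H44.Sat (H44.gp 6 p_E p_code) (PresA6.R) :=
  H44.sat_of_satB m_hn (det_lab m_hk ⊤) p_E_ok le_top (by decide +kernel)

theorem p_sat : H44.Sat (H44.gp 6 p_E p_code) PresA6.R :=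
  p_satL

noncomputable def p_ch : Ch := (Ch.cons (nat_lit 0) [nat_lit 1] (Ch.cons (nat_lit 1) [nat_lit 3] (Ch.cons (nat_lit 2) [nat_lit 5] (Ch.cons (nat_lit 3) [nat_lit 7] Ch.nil))))

theorem p_chk : Ch.chk 6 3 (nat_lit 33157) p_E p_ch 360 = true :=
  by decide +kernel

theorem p_card : Nat.card (grp 6 p_E) = 360 :=
  card_net p_gen (Ch.le_card_grp m_hn p_E_ok p_chk) (by decide) (PresA6.card_le p_sat).2

theorem p_exact : Ch.Exact 6 p_E p_ch (grp 6 p_E) :=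
  Ch.exact m_hn p_E_ok p_chk (wgrp_le_grp _ _ _) p_card.le

theorem p_pres : Pres (netGen 6 p_E p_code) 5 PresA6.R :=
  pres_net p_gen p_sat p_card.ge (by decide) (by decide +kernel) fun _ _ _ h => PresA6.card_le h

theorem com1 : cmw (netGen 6 p_E p_code) [1] [4, 5] 1 = 1 :=
  cmw_netGen p_gen (by decide) (by decide) (com_pow_eq_one m_hn (det_lab m_hk ⊤) p_E_ok le_top (by decide +kernel))

theorem com2 : cmw (netGen 6 p_E p_code) [1, 5] [3] 1 = 1 :=
  cmw_netGen p_gen (by decide) (by decide) (com_pow_eq_one m_hn (det_lab m_hk ⊤) p_E_ok le_top (by decide +kernel))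

noncomputable def u_L : ℕ := (nat_lit 33157)

theorem u_det : Det 6 3 u_L (grp 6 p_E) :=
  det_of_base p_exact.isBase (by decide +kernel)

/-- Rules. -/
def u_c2_rule : List (List (List ℕ)) :=
  [[[], [1, 2], [2]],
   [[], [2], [2]],
   [[], [], []]]

/-- Fused subgroups. -/
def u_c2_fq : List (List (List ℕ)) :=
  []

/-- Their images. -/
def u_c2_fq' : List (List (List ℕ)) :=
  []

/-- Rows. -/
def u_c2_sA : List Spec :=
  [⟨1, [0], [], 1, 1, 15⟩,
   ⟨1, [1], [], 0, 1, 15⟩,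
   ⟨1, [2], [], 4, 1, 15⟩,
   ⟨0, [1], [1, 1], 5, 1, 15⟩,
   ⟨0, [1], [0, 0], 8, 1, 15⟩]

/-- Rows. -/
def u_c2_sB : List Spec :=
  [⟨0, [2], [0, 0], 2, 2, 15⟩]

/-- Rows. -/
def u_c2_sC : List Spec :=
  [⟨2, [0], [], 2, 1, 1⟩]

/-- The certificate. -/
noncomputable def u_c2 : Cert where
  q := 1
  n := 3
  nf := 0
  b := 14
  M := 16
  D := 2
  fuel := 17
  rule := fun i j => getLL (getL3 u_c2_rule i) j
  fq := fun i j => getLL (getL3 u_c2_fq i) j
  fq' := fun i j => getLL (getL3 u_c2_fq' i) j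
  nrm := nrmM 14 9 4
  nri := getL [0, 0, 1]
  nrj := getL [1, 0, 1]
  B := getL [0x4000, 0x1000000f, 0xe]
  nU := 1
  U := getL [unitV 14 8 * 1]
  ord := getL [2]
  sA := u_c2_sA
  sB := u_c2_sB
  sC := u_c2_sC

theorem u_c2_nrm : Nrm u_c2.b u_c2.R u_c2.M u_c2.nrm := by
  dsimp only [u_c2, Cert.R]
  exact (nrm_nrmM (b := 14) (R := 9) (v := 4) (by norm_num) : Nrm 14 9 (2 ^ 4) _)

theorem u_c2_chk : u_c2.chk 2 = true := by decide +kernel

theorem m_le8 : grp 6 u_c2_X ≤ grp 6 p_E :=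
  grp_le_of_memB m_hn m_hk p_E_ok u_c2_X_ok (ws := [nat_lit 0x8050703050701030501, nat_lit 0x7050703050701, nat_lit 0x8050703050701030507]) (by decide +kernel)

theorem m_le9 : grp 6 u_c2_Y ≤ grp 6 p_E :=
  grp_le_of_memB m_hn m_hk p_E_ok u_c2_Y_ok (ws := []) (by decide +kernel)

theorem u_c2_card : 2 ^ 3 ≤ Nat.card (grp 6 u_c2_X) :=
  Ch.le_card_grp m_hn u_c2_X_ok (k := 2) (L := (nat_lit 68)) (c := (Ch.cons (nat_lit 2) [nat_lit 3] (Ch.cons (nat_lit 0) [nat_lit 1281, nat_lit 1] Ch.nil))) (by decide +kernel)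

theorem u_c2_rows : allN (pcRowB u_c2 6 3 u_L u_c2_X) u_c2.n = true :=
  by decide +kernel

theorem u_c2_fus : allN (pcFusB u_c2 6 3 u_L u_c2_X u_c2_Y) u_c2.nf = true :=
  by decide +kernel

theorem u_c2_bound : MBound (grp 6 p_E) (45 * 45) 2 :=
  mBound_net' (C := u_c2) m_hn u_det u_c2_X_ok u_c2_Y_ok (m_le8.trans le_rfl) (m_le9.trans le_rfl)
    (by show Nat.Prime 2; norm_num) p_card u_c2_nrm (by decide +kernel) u_c2_rows u_c2_fus u_c2_card u_c2_chk

/-- Rules. -/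
def u_c3_rule : List (List (List ℕ)) :=
  [[[], [1]],
   [[], []]]

/-- Fused subgroups. -/
def u_c3_fq : List (List (List ℕ)) :=
  []

/-- Their images. -/
def u_c3_fq' : List (List (List ℕ)) :=
  []

/-- Rows. -/
def u_c3_sA : List Spec :=
  [⟨1, [0], [], 0, 1, 26⟩,
   ⟨1, [1], [], 3, 1, 26⟩]

/-- Rows. -/
def u_c3_sB : List Spec :=
  [⟨0, [1], [0, 0, 0], 1, 3, 26⟩]

/-- Rows. -/
def u_c3_sC : List Spec :=
  [⟨2, [0], [], 1, 1, 26⟩]

/-- The certificate. -/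
noncomputable def u_c3 : Cert where
  q := 2
  n := 2
  nf := 0
  b := 15
  M := 27
  D := 3
  fuel := 16
  rule := fun i j => getLL (getL3 u_c3_rule i) j
  fq := fun i j => getLL (getL3 u_c3_fq i) j
  fq' := fun i j => getLL (getL3 u_c3_fq' i) j
  nrm := nrmL 15 4 27
  nri := getL [0, 1]
  nrj := getL [0, 1]
  B := getL [0x1, 0x8000]
  nU := 1
  U := getL [unitV 15 1 * 1]
  ord := getL [3]
  sA := u_c3_sA
  sB := u_c3_sB
  sC := u_c3_sC

theorem u_c3_nrm : Nrm u_c3.b u_c3.R u_c3.M u_c3.nrm := by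
  dsimp only [u_c3, Cert.R]
  exact nrm_nrmL 15 4 27

theorem u_c3_chk : u_c3.chk 3 = true := by decide +kernel

theorem m_le12 : grp 6 u_c3_X ≤ grp 6 p_E :=
  grp_le_of_memB m_hn m_hk p_E_ok u_c3_X_ok (ws := [nat_lit 0x5030508, nat_lit 0x3050701030507]) (by decide +kernel)

theorem m_le13 : grp 6 u_c3_Y ≤ grp 6 p_E :=
  grp_le_of_memB m_hn m_hk p_E_ok u_c3_Y_ok (ws := []) (by decide +kernel)

theorem u_c3_card : 3 ^ 2 ≤ Nat.card (grp 6 u_c3_X) :=
  Ch.le_card_grp m_hn u_c3_X_ok (k := 2) (L := (nat_lit 129)) (c := (Ch.cons (nat_lit 0) [nat_lit 3] (Ch.cons (nat_lit 1) [nat_lit 1] Ch.nil))) (by decide +kernel)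

theorem u_c3_rows : allN (pcRowB u_c3 6 3 u_L u_c3_X) u_c3.n = true :=
  by decide +kernel

theorem u_c3_fus : allN (pcFusB u_c3 6 3 u_L u_c3_X u_c3_Y) u_c3.nf = true :=
  by decide +kernel

theorem u_c3_bound : MBound (grp 6 p_E) (40 * 40) 3 :=
  mBound_net' (C := u_c3) m_hn u_det u_c3_X_ok u_c3_Y_ok (m_le12.trans le_rfl) (m_le13.trans le_rfl)
    (by show Nat.Prime 3; norm_num) p_card u_c3_nrm (by decide +kernel) u_c3_rows u_c3_fus u_c3_card u_c3_chk

theorem u_bound : MBound (grp 6 p_E) 1 6 :=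
  ((u_c2_bound.mul
    u_c3_bound).mul
    (mBound_of_prime (p := 5) (k := 72) (by norm_num) p_card)).congr (by norm_num) (by norm_num)

theorem c_hn : NOk 18 := by decide

theorem c_hk : 18 ≤ 2 ^ 5 := by decide

noncomputable def c_g1 : Net := (Net.cons (nat_lit 1) (nat_lit 21760) (Net.cons (nat_lit 2) (nat_lit 8736) (Net.cons (nat_lit 4) (nat_lit 2816) (Net.cons (nat_lit 8) (nat_lit 131) (Net.cons (nat_lit 16) (nat_lit 3) (Net.cons (nat_lit 8) (nat_lit 3) (Net.cons (nat_lit 4) (nat_lit 3086) (Net.cons (nat_lit 2) (nat_lit 785) (Net.cons (nat_lit 1) (nat_lit 340) Net.nil)))))))))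

theorem c_g1_ok : Net.ok 18 c_g1 = true := by decide +kernel

noncomputable def c_g2 : Net := (Net.cons (nat_lit 2) (nat_lit 8704) (Net.cons (nat_lit 4) (nat_lit 1536) (Net.cons (nat_lit 8) (nat_lit 248) (Net.cons (nat_lit 4) (nat_lit 768) (Net.cons (nat_lit 2) (nat_lit 13072) Net.nil)))))

theorem c_g2_ok : Net.ok 18 c_g2 = true := by decide +kernel

noncomputable def c_g3 : Net := (Net.cons (nat_lit 1) (nat_lit 1088) (Net.cons (nat_lit 2) (nat_lit 305) (Net.cons (nat_lit 8) (nat_lit 7) (Net.cons (nat_lit 16) (nat_lit 3) (Net.cons (nat_lit 8) (nat_lit 3) (Net.cons (nat_lit 4) (nat_lit 2051) (Net.cons (nat_lit 2) (nat_lit 305) (Net.cons (nat_lit 1) (nat_lit 1088) Net.nil))))))))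

theorem c_g3_ok : Net.ok 18 c_g3 = true := by decide +kernel

noncomputable def c_g4 : Net := (Net.cons (nat_lit 2) (nat_lit 4400) (Net.cons (nat_lit 4) (nat_lit 768) (Net.cons (nat_lit 8) (nat_lit 7) (Net.cons (nat_lit 16) (nat_lit 3) (Net.cons (nat_lit 8) (nat_lit 3) (Net.cons (nat_lit 4) (nat_lit 771) (Net.cons (nat_lit 2) (nat_lit 8496) (Net.cons (nat_lit 1) (nat_lit 86016) Net.nil))))))))

theorem c_g4_ok : Net.ok 18 c_g4 = true := by decide +kernel

noncomputable def c_g5 : Net := (Net.cons (nat_lit 1) (nat_lit 83220) (Net.cons (nat_lit 2) (nat_lit 4624) (Net.cons (nat_lit 4) (nat_lit 2304) (Net.cons (nat_lit 8) (nat_lit 129) (Net.cons (nat_lit 16) (nat_lit 1) (Net.cons (nat_lit 8) (nat_lit 1) (Net.cons (nat_lit 4) (nat_lit 2308) (Net.cons (nat_lit 2) (nat_lit 13074) (Net.cons (nat_lit 1) (nat_lit 20805) Net.nil)))))))))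

theorem c_g5_ok : Net.ok 18 c_g5 = true := by decide +kernel

noncomputable def cx_E : List Net := [c_g1, c_g2, c_g3, c_g4, c_g5]

theorem cx_E_ok : okE 18 cx_E = true := (okE_cons.2 ⟨c_g1_ok, (okE_cons.2 ⟨c_g2_ok, (okE_cons.2 ⟨c_g3_ok, (okE_cons.2 ⟨c_g4_ok, (okE_cons.2 ⟨c_g5_ok, (okE_nil 18)⟩)⟩)⟩)⟩)⟩)

def cx_code : List ℕ := [0, 0, 1, 2, 4, 6, 8]

theorem cx_z : Cen (H44.gp 18 cx_E cx_code) 5 [[6]] :=
  cen_of_cenN c_hn c_hk cx_E_ok (by decide +kernel)

theorem cx_cenL : Cen (H44.gp 18 cx_E cx_code) 5 (PresA6.R) :=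
  cen_of_cenZ (m := 3) c_hn c_hk cx_E_ok cx_z (by decide +kernel)

theorem cx_cen : Cen (H44.gp 18 cx_E cx_code) 5 PresA6.R :=
  cx_cenL

theorem x1 : orderOf (cmw (H44.gp 18 cx_E cx_code) [1] [4, 5] 1) = 3 :=
  ((congrArg orderOf (cmw_eq_of_beq c_hn c_hk cx_E_ok (w := [6]) (by decide +kernel))).trans
      (orderOf_gp (p := 3) (e := 0) c_hn c_hk cx_E_ok (by norm_num) (by decide +kernel) (by decide +kernel)))

theorem d_hn : NOk 80 := by decide

theorem d_hk : 80 ≤ 2 ^ 7 := by decide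

noncomputable def d_g1 : Net := (Net.cons (nat_lit 2) (nat_lit 0x3000030300330000300) (Net.cons (nat_lit 4) (nat_lit 0x30000030c0c00000c00) (Net.cons (nat_lit 8) (nat_lit 0xc00fc000f0000) (Net.cons (nat_lit 16) (nat_lit 0xf00c00000000) (Net.cons (nat_lit 32) (nat_lit 0xf00c0000) (Net.cons (nat_lit 16) (nat_lit 0xff0f00000f00) (Net.cons (nat_lit 8) (nat_lit 0x3c003c003000cf00c0) (Net.cons (nat_lit 4) (nat_lit 0x30f0f0300000f030c0c) (Net.cons (nat_lit 2) (nat_lit 0x3003300000330003300) (Net.cons (nat_lit 1) (nat_lit 0x4541554050004400000) Net.nil))))))))))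

theorem d_g1_ok : Net.ok 80 d_g1 = true := by decide +kernel

noncomputable def d_g2 : Net := (Net.cons (nat_lit 2) (nat_lit 0x33000000300333300000) (Net.cons (nat_lit 4) (nat_lit 0x3000303030300) (Net.cons (nat_lit 8) (nat_lit 0xf000f3000f0000) (Net.cons (nat_lit 16) (nat_lit 0x30c300000000) (Net.cons (nat_lit 32) (nat_lit 0x30cf0000) (Net.cons (nat_lit 16) (nat_lit 0xfffc00000f00) (Net.cons (nat_lit 8) (nat_lit 0xcc0000000c00ff00f0) (Net.cons (nat_lit 4) (nat_lit 0xf0f000c000c0c0c0c00) (Net.cons (nat_lit 2) (nat_lit 0x33003333033000033333) (Net.cons (nat_lit 1) (nat_lit 0x5054140005145111511) Net.nil))))))))))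

theorem d_g2_ok : Net.ok 80 d_g2 = true := by decide +kernel

noncomputable def d_g3 : Net := (Net.cons (nat_lit 2) (nat_lit 0x3000033030000) (Net.cons (nat_lit 4) (nat_lit 0xf00000f03030c00) (Net.cons (nat_lit 8) (nat_lit 0xc0003000cf000f0000) (Net.cons (nat_lit 16) (nat_lit 0xcf3c00000000) (Net.cons (nat_lit 32) (nat_lit 0xc03fcf3f) (Net.cons (nat_lit 64) (nat_lit 53055) (Net.cons (nat_lit 32) (nat_lit 53055) (Net.cons (nat_lit 16) (nat_lit 0xfffc00003fc0) (Net.cons (nat_lit 8) (nat_lit 0xc0003000cf000f00cc) (Net.cons (nat_lit 4) (nat_lit 0xf00000f030f000f) (Net.cons (nat_lit 2) (nat_lit 0x30000003003033030000) (Net.cons (nat_lit 1) (nat_lit 0x10005515411011441145) Net.nil))))))))))))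

theorem d_g3_ok : Net.ok 80 d_g3 = true := by decide +kernel

noncomputable def d_g4 : Net := (Net.cons (nat_lit 2) (nat_lit 0x3003303030033003000) (Net.cons (nat_lit 4) (nat_lit 0xc00030c0f0f0c000000) (Net.cons (nat_lit 8) (nat_lit 0xc0003300cc0000) (Net.cons (nat_lit 16) (nat_lit 0x33c00000000) (Net.cons (nat_lit 32) (nat_lit 0xc33c0000) (Net.cons (nat_lit 16) (nat_lit 0xfff300000cc0) (Net.cons (nat_lit 8) (nat_lit 0xc300f300cc003300cc) (Net.cons (nat_lit 4) (nat_lit 0xc0f0c030000030f0f0f) (Net.cons (nat_lit 2) (nat_lit 0x30333303030033003000) (Net.cons (nat_lit 1) (nat_lit 0x45100410450510510554) Net.nil))))))))))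

theorem d_g4_ok : Net.ok 80 d_g4 = true := by decide +kernel

noncomputable def d_g5 : Net := (Net.cons (nat_lit 1) (nat_lit 0x55555555555555555555) Net.nil)

theorem d_g5_ok : Net.ok 80 d_g5 = true := by decide +kernel

noncomputable def cy_E : List Net := [d_g1, d_g2, d_g3, d_g4, d_g5]

theorem cy_E_ok : okE 80 cy_E = true := (okE_cons.2 ⟨d_g1_ok, (okE_cons.2 ⟨d_g2_ok, (okE_cons.2 ⟨d_g3_ok, (okE_cons.2 ⟨d_g4_ok, (okE_cons.2 ⟨d_g5_ok, (okE_nil 80)⟩)⟩)⟩)⟩)⟩)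

def cy_code : List ℕ := [0, 0, 1, 2, 4, 6, 8]

theorem cy_z : Cen (H44.gp 80 cy_E cy_code) 5 [[6]] :=
  cen_of_cenN d_hn d_hk cy_E_ok (by decide +kernel)

theorem cy_cenL : Cen (H44.gp 80 cy_E cy_code) 5 (PresA6.R) :=
  cen_of_cenZ (m := 2) d_hn d_hk cy_E_ok cy_z (by decide +kernel)

theorem cy_cen : Cen (H44.gp 80 cy_E cy_code) 5 PresA6.R :=
  cy_cenL

theorem y2 : orderOf (cmw (H44.gp 80 cy_E cy_code) [1, 5] [3] 1) = 2 :=
  ((congrArg orderOf (cmw_eq_of_beq d_hn d_hk cy_E_ok (w := [6]) (by decide +kernel))).trans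
      (orderOf_gp (p := 2) (e := 0) d_hn d_hk cy_E_ok (by norm_num) (by decide +kernel) (by decide +kernel)))

theorem mult : Cfsg.HasCyclicSchurMultiplier (alternatingGroup (Fin 6)) 6 := by
  rw [← eq_alternating (H := grp 6 p_E) (by rw [p_card]; rfl)]
  exact u_bound.finish_cyclic ((p_pres.mElt cy_cen (by decide) (by decide) com2 y2).mul
    (p_pres.mElt cx_cen (by decide) (by decide) com1 x1) (by norm_num))

end Cfsg.Agent.H74.MA6
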