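import Mathlib
import Cfsg.Agent.H43.Cent
import Cfsg.Agent.H74.NetPres
import Cfsg.Agent.H74.PresA7
import Cfsg.Agent.H74.NetPc

set_option autoImplicit false
set_option maxRecDepth 1000000
set_option Elab.async false
set_option linter.style.longLine false

namespace Cfsg.Agent.H74.MA7

open Cfsg.Agent.H43 Cfsg.Agent.H46 

theorem m_hn : NOk 7 := by decide

theorem m_hk : 7 ≤ 2 ^ 3 := by decide

noncomputable def m_g1 : Net := (Net.cons (nat_lit 1) (nat_lit 16) (Net.cons (nat_lit 4) (nat_lit 1) (Net.cons (nat_lit 1) (nat_lit 20) Net.nil)))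

theorem m_g1_ok : Net.ok 7 m_g1 = true := by decide +kernel

noncomputable def m_g2 : Net := (Net.cons (nat_lit 1) (nat_lit 4) (Net.cons (nat_lit 2) (nat_lit 2) (Net.cons (nat_lit 1) (nat_lit 20) Net.nil)))

theorem m_g2_ok : Net.ok 7 m_g2 = true := by decide +kernel

noncomputable def m_g3 : Net := (Net.cons (nat_lit 1) (nat_lit 16) (Net.cons (nat_lit 2) (nat_lit 16) (Net.cons (nat_lit 1) (nat_lit 20) Net.nil)))

theorem m_g3_ok : Net.ok 7 m_g3 = true := by decide +kernel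

noncomputable def m_g4 : Net := (Net.cons (nat_lit 1) (nat_lit 16) (Net.cons (nat_lit 2) (nat_lit 2) (Net.cons (nat_lit 4) (nat_lit 2) (Net.cons (nat_lit 2) (nat_lit 18) (Net.cons (nat_lit 1) (nat_lit 16) Net.nil)))))

theorem m_g4_ok : Net.ok 7 m_g4 = true := by decide +kernel

noncomputable def m_g5 : Net := (Net.cons (nat_lit 2) (nat_lit 16) (Net.cons (nat_lit 1) (nat_lit 16) Net.nil))

theorem m_g5_ok : Net.ok 7 m_g5 = true := by decide +kernel

noncomputable def p_E : List Net := [m_g1, m_g2, m_g3, m_g4, m_g5]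

theorem p_E_ok : okE 7 p_E = true := (okE_cons.2 ⟨m_g1_ok, (okE_cons.2 ⟨m_g2_ok, (okE_cons.2 ⟨m_g3_ok, (okE_cons.2 ⟨m_g4_ok, (okE_cons.2 ⟨m_g5_ok, (okE_nil 7)⟩)⟩)⟩)⟩)⟩)

def p_code : List ℕ := [0, 8, 9, 6, 4, 2, 0]

noncomputable def m_g6 : Net := (Net.cons (nat_lit 1) (nat_lit 4) (Net.cons (nat_lit 2) (nat_lit 2) (Net.cons (nat_lit 4) (nat_lit 6) (Net.cons (nat_lit 2) (nat_lit 2) (Net.cons (nat_lit 1) (nat_lit 4) Net.nil)))))

theorem m_g6_ok : Net.ok 7 m_g6 = true := by decide +kernel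

noncomputable def m_g7 : Net := (Net.cons (nat_lit 1) (nat_lit 16) (Net.cons (nat_lit 2) (nat_lit 16) (Net.cons (nat_lit 4) (nat_lit 6) (Net.cons (nat_lit 2) (nat_lit 16) (Net.cons (nat_lit 1) (nat_lit 16) Net.nil)))))

theorem m_g7_ok : Net.ok 7 m_g7 = true := by decide +kernel

noncomputable def u_c2_X : List Net := [m_g2, m_g6, m_g7]

theorem u_c2_X_ok : okE 7 u_c2_X = true := (okE_cons.2 ⟨m_g2_ok, (okE_cons.2 ⟨m_g6_ok, (okE_cons.2 ⟨m_g7_ok, (okE_nil 7)⟩)⟩)⟩)

noncomputable def u_c2_Y : List Net := []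

theorem u_c2_Y_ok : okE 7 u_c2_Y = true := (okE_nil 7)

noncomputable def m_g10 : Net := (Net.cons (nat_lit 2) (nat_lit 16) (Net.cons (nat_lit 4) (nat_lit 4) Net.nil))

theorem m_g10_ok : Net.ok 7 m_g10 = true := by decide +kernel

noncomputable def m_g11 : Net := (Net.cons (nat_lit 2) (nat_lit 2) (Net.cons (nat_lit 4) (nat_lit 6) (Net.cons (nat_lit 2) (nat_lit 16) Net.nil)))

theorem m_g11_ok : Net.ok 7 m_g11 = true := by decide +kernel

noncomputable def u_c3_X : List Net := [m_g10, m_g11]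

theorem u_c3_X_ok : okE 7 u_c3_X = true := (okE_cons.2 ⟨m_g10_ok, (okE_cons.2 ⟨m_g11_ok, (okE_nil 7)⟩)⟩)

noncomputable def u_c3_Y : List Net := []

theorem u_c3_Y_ok : okE 7 u_c3_Y = true := (okE_nil 7)

theorem p_gen : H44.gen (H44.gp 7 p_E p_code) 6 = grp 7 p_E :=
  H44.gen_gp (by decide +kernel)

theorem p_satL : H44.Sat (H44.gp 7 p_E p_code) (PresA7.R) :=
  H44.sat_of_satB m_hn (det_lab m_hk ⊤) p_E_ok le_top (by decide +kernel)

theorem p_sat : H44.Sat (H44.gp 7 p_E p_code) PresA7.R :=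
  p_satL

noncomputable def p_ch : Ch := (Ch.cons (nat_lit 0) [nat_lit 1] (Ch.cons (nat_lit 1) [nat_lit 3] (Ch.cons (nat_lit 2) [nat_lit 5] (Ch.cons (nat_lit 3) [nat_lit 7] (Ch.cons (nat_lit 4) [nat_lit 9] Ch.nil)))))

theorem p_chk : Ch.chk 7 3 (nat_lit 394005) p_E p_ch 2520 = true :=
  by decide +kernel

theorem p_card : Nat.card (grp 7 p_E) = 2520 :=
  card_net p_gen (Ch.le_card_grp m_hn p_E_ok p_chk) (by decide) (PresA7.card_le p_sat).2

theorem p_exact : Ch.Exact 7 p_E p_ch (grp 7 p_E) :=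
  Ch.exact m_hn p_E_ok p_chk (wgrp_le_grp _ _ _) p_card.le

theorem p_pres : Pres (netGen 7 p_E p_code) 6 PresA7.R :=
  pres_net p_gen p_sat p_card.ge (by decide) (by decide +kernel) fun _ _ _ h => PresA7.card_le h

theorem com1 : cmw (netGen 7 p_E p_code) [1] [4, 5] 1 = 1 :=
  cmw_netGen p_gen (by decide) (by decide) (com_pow_eq_one m_hn (det_lab m_hk ⊤) p_E_ok le_top (by decide +kernel))

theorem com2 : cmw (netGen 7 p_E p_code) [1, 4] [6] 1 = 1 :=
  cmw_netGen p_gen (by decide) (by decide) (com_pow_eq_one m_hn (det_lab m_hk ⊤) p_E_ok le_top (by decide +kernel))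

noncomputable def u_L : ℕ := (nat_lit 394005)

theorem u_det : Det 7 3 u_L (grp 7 p_E) :=
  det_of_base p_exact.isBase (by decide +kernel)

/-- Rules. -/
def u_c2_rule : List (List (List ℕ)) :=
  [[[], [1, 2], [2]],
   [[], [], [2]],
   [[], [], []]]

/-- Fused subgroups. -/
def u_c2_fq : List (List (List ℕ)) :=
  []

/-- Their images. -/
def u_c2_fq' : List (List (List ℕ)) :=
  []

/-- Rows. -/
def u_c2_sA : List Spec :=
  [⟨1, [0], [], 1, 1, 15⟩,
   ⟨1, [1], [], 0, 1, 15⟩,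
   ⟨1, [2], [], 4, 1, 15⟩,
   ⟨0, [1], [0, 0], 8, 1, 15⟩,
   ⟨0, [1], [1, 0], 5, 1, 1⟩]

/-- Rows. -/
def u_c2_sB : List Spec :=
  [⟨0, [2], [0, 0], 2, 2, 15⟩]

/-- Rows. -/
def u_c2_sC : List Spec :=
  [⟨2, [0], [], 2, 1, 1⟩]

/-- The certificate. -/
noncomputable def u_c2 : Cert where
  q := 1
  n := 3
  nf := 0
  b := 14
  M := 16
  D := 2
  fuel := 17
  rule := fun i j => getLL (getL3 u_c2_rule i) j
  fq := fun i j => getLL (getL3 u_c2_fq i) j
  fq' := fun i j => getLL (getL3 u_c2_fq' i) j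
  nrm := nrmM 14 9 4
  nri := getL [0, 0, 1]
  nrj := getL [1, 0, 1]
  B := getL [0x4000, 0x10000000, 0xe]
  nU := 1
  U := getL [unitV 14 8 * 1]
  ord := getL [2]
  sA := u_c2_sA
  sB := u_c2_sB
  sC := u_c2_sC

theorem u_c2_nrm : Nrm u_c2.b u_c2.R u_c2.M u_c2.nrm := by
  dsimp only [u_c2, Cert.R]
  exact (nrm_nrmM (b := 14) (R := 9) (v := 4) (by norm_num) : Nrm 14 9 (2 ^ 4) _)

theorem u_c2_chk : u_c2.chk 2 = true := by decide +kernel

theorem m_le8 : grp 7 u_c2_X ≤ grp 7 p_E :=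
  grp_le_of_memB m_hn m_hk p_E_ok u_c2_X_ok (ws := [nat_lit 3, nat_lit 0x9070a05070a, nat_lit 0x70a0507030507]) (by decide +kernel)

theorem m_le9 : grp 7 u_c2_Y ≤ grp 7 p_E :=
  grp_le_of_memB m_hn m_hk p_E_ok u_c2_Y_ok (ws := []) (by decide +kernel)

theorem u_c2_card : 2 ^ 3 ≤ Nat.card (grp 7 u_c2_X) :=
  Ch.le_card_grp m_hn u_c2_X_ok (k := 2) (L := (nat_lit 264)) (c := (Ch.cons (nat_lit 3) [nat_lit 3] (Ch.cons (nat_lit 1) [nat_lit 1, nat_lit 5] Ch.nil))) (by decide +kernel)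

theorem u_c2_rows : allN (pcRowB u_c2 7 3 u_L u_c2_X) u_c2.n = true :=
  by decide +kernel

theorem u_c2_fus : allN (pcFusB u_c2 7 3 u_L u_c2_X u_c2_Y) u_c2.nf = true :=
  by decide +kernel

theorem u_c2_bound : MBound (grp 7 p_E) (315 * 315) 2 :=
  mBound_net' (C := u_c2) m_hn u_det u_c2_X_ok u_c2_Y_ok (m_le8.trans le_rfl) (m_le9.trans le_rfl)
    (by show Nat.Prime 2; norm_num) p_card u_c2_nrm (by decide +kernel) u_c2_rows u_c2_fus u_c2_card u_c2_chk

/-- Rules. -/
def u_c3_rule : List (List (List ℕ)) :=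
  [[[], [1]],
   [[], []]]

/-- Fused subgroups. -/
def u_c3_fq : List (List (List ℕ)) :=
  []

/-- Their images. -/
def u_c3_fq' : List (List (List ℕ)) :=
  []

/-- Rows. -/
def u_c3_sA : List Spec :=
  [⟨1, [0], [], 0, 1, 26⟩,
   ⟨1, [1], [], 3, 1, 26⟩]

/-- Rows. -/
def u_c3_sB : List Spec :=
  [⟨0, [1], [0, 0, 0], 1, 3, 26⟩]

/-- Rows. -/
def u_c3_sC : List Spec :=
  [⟨2, [0], [], 1, 1, 26⟩]

/-- The certificate. -/
noncomputable def u_c3 : Cert where
  q := 2
  n := 2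
  nf := 0
  b := 15
  M := 27
  D := 3
  fuel := 16
  rule := fun i j => getLL (getL3 u_c3_rule i) j
  fq := fun i j => getLL (getL3 u_c3_fq i) j
  fq' := fun i j => getLL (getL3 u_c3_fq' i) j
  nrm := nrmL 15 4 27
  nri := getL [0, 1]
  nrj := getL [0, 1]
  B := getL [0x1, 0x8000]
  nU := 1
  U := getL [unitV 15 1 * 1]
  ord := getL [3]
  sA := u_c3_sA
  sB := u_c3_sB
  sC := u_c3_sC

theorem u_c3_nrm : Nrm u_c3.b u_c3.R u_c3.M u_c3.nrm := by
  dsimp only [u_c3, Cert.R]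
  exact nrm_nrmL 15 4 27

theorem u_c3_chk : u_c3.chk 3 = true := by decide +kernel

theorem m_le12 : grp 7 u_c3_X ≤ grp 7 p_E :=
  grp_le_of_memB m_hn m_hk p_E_ok u_c3_X_ok (ws := [nat_lit 0x7050709, nat_lit 0x9070a05070a0305]) (by decide +kernel)

theorem m_le13 : grp 7 u_c3_Y ≤ grp 7 p_E :=
  grp_le_of_memB m_hn m_hk p_E_ok u_c3_Y_ok (ws := []) (by decide +kernel)

theorem u_c3_card : 3 ^ 2 ≤ Nat.card (grp 7 u_c3_X) :=
  Ch.le_card_grp m_hn u_c3_X_ok (k := 2) (L := (nat_lit 514)) (c := (Ch.cons (nat_lit 1) [nat_lit 3] (Ch.cons (nat_lit 2) [nat_lit 1] Ch.nil))) (by decide +kernel)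

theorem u_c3_rows : allN (pcRowB u_c3 7 3 u_L u_c3_X) u_c3.n = true :=
  by decide +kernel

theorem u_c3_fus : allN (pcFusB u_c3 7 3 u_L u_c3_X u_c3_Y) u_c3.nf = true :=
  by decide +kernel

theorem u_c3_bound : MBound (grp 7 p_E) (280 * 280) 3 :=
  mBound_net' (C := u_c3) m_hn u_det u_c3_X_ok u_c3_Y_ok (m_le12.trans le_rfl) (m_le13.trans le_rfl)
    (by show Nat.Prime 3; norm_num) p_card u_c3_nrm (by decide +kernel) u_c3_rows u_c3_fus u_c3_card u_c3_chk

theorem u_bound : MBound (grp 7 p_E) 1 6 :=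
  (((u_c2_bound.mul
    u_c3_bound).mul
    (mBound_of_prime (p := 5) (k := 504) (by norm_num) p_card)).mul
    (mBound_of_prime (p := 7) (k := 360) (by norm_num) p_card)).congr (by norm_num) (by norm_num)

theorem c_hn : NOk 45 := by decide

theorem c_hk : 45 ≤ 2 ^ 6 := by decide

noncomputable def c_g1 : Net := (Net.cons (nat_lit 1) (nat_lit 0x15545000500) (Net.cons (nat_lit 2) (nat_lit 0x2231010000) (Net.cons (nat_lit 4) (nat_lit 0x50e040200) (Net.cons (nat_lit 8) (nat_lit 0x1e000000c0) (Net.cons (nat_lit 16) (nat_lit 4797) (Net.cons (nat_lit 32) (nat_lit 4861) (Net.cons (nat_lit 16) (nat_lit 3389) (Net.cons (nat_lit 8) (nat_lit 0x1a000000e0) (Net.cons (nat_lit 4) (nat_lit 0x1050202020e) (Net.cons (nat_lit 2) (nat_lit 0x23132000013) (Net.cons (nat_lit 1) (nat_lit 0x14000400154) Net.nil)))))))))))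

theorem c_g1_ok : Net.ok 45 c_g1 = true := by decide +kernel

noncomputable def c_g2 : Net := (Net.cons (nat_lit 1) (nat_lit 0x4500404000) (Net.cons (nat_lit 2) (nat_lit 0x2232021020) (Net.cons (nat_lit 4) (nat_lit 0xa090100) (Net.cons (nat_lit 8) (nat_lit 0x1700800080) (Net.cons (nat_lit 16) (nat_lit 38784) (Net.cons (nat_lit 32) (nat_lit 6016) (Net.cons (nat_lit 16) (nat_lit 6032) (Net.cons (nat_lit 8) (nat_lit 0x1700e800ef) (Net.cons (nat_lit 4) (nat_lit 0xa00090800) (Net.cons (nat_lit 2) (nat_lit 0x10221221) (Net.cons (nat_lit 1) (nat_lit 0x4500400505) Net.nil)))))))))))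

theorem c_g2_ok : Net.ok 45 c_g2 = true := by decide +kernel

noncomputable def c_g3 : Net := (Net.cons (nat_lit 1) (nat_lit 0x40104111440) (Net.cons (nat_lit 2) (nat_lit 0x1201100020) (Net.cons (nat_lit 4) (nat_lit 0x7000c0000) (Net.cons (nat_lit 8) (nat_lit 0x1c00800060) (Net.cons (nat_lit 16) (nat_lit 32796) (Net.cons (nat_lit 32) (nat_lit 4220) (Net.cons (nat_lit 16) (nat_lit 3612) (Net.cons (nat_lit 8) (nat_lit 0x1f00800061) (Net.cons (nat_lit 4) (nat_lit 0x7000e0006) (Net.cons (nat_lit 2) (nat_lit 0x2201110020) (Net.cons (nat_lit 1) (nat_lit 0x55104111440) Net.nil)))))))))))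

theorem c_g3_ok : Net.ok 45 c_g3 = true := by decide +kernel

noncomputable def c_g4 : Net := (Net.cons (nat_lit 1) (nat_lit 0x140000) (Net.cons (nat_lit 2) (nat_lit 0x22022210130) (Net.cons (nat_lit 4) (nat_lit 0x10a01090800) (Net.cons (nat_lit 8) (nat_lit 0x1800000060) (Net.cons (nat_lit 16) (nat_lit 32927) (Net.cons (nat_lit 32) (nat_lit 6399) (Net.cons (nat_lit 16) (nat_lit 927) (Net.cons (nat_lit 8) (nat_lit 0x1800600064) (Net.cons (nat_lit 4) (nat_lit 0x10001090803) (Net.cons (nat_lit 2) (nat_lit 0x20222232130) (Net.cons (nat_lit 1) (nat_lit 0x140000) Net.nil)))))))))))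

theorem c_g4_ok : Net.ok 45 c_g4 = true := by decide +kernel

noncomputable def c_g5 : Net := (Net.cons (nat_lit 1) (nat_lit 0x45100540400) (Net.cons (nat_lit 2) (nat_lit 0x110110000) (Net.cons (nat_lit 4) (nat_lit 0x10000000600) (Net.cons (nat_lit 8) (nat_lit 0x1000810080) (Net.cons (nat_lit 16) (nat_lit 61568) (Net.cons (nat_lit 32) (nat_lit 4224) (Net.cons (nat_lit 16) (nat_lit 6648) (Net.cons (nat_lit 8) (nat_lit 0x1d00810097) (Net.cons (nat_lit 4) (nat_lit 0x10200010701) (Net.cons (nat_lit 2) (nat_lit 0x110110000) (Net.cons (nat_lit 1) (nat_lit 0x45100540400) Net.nil)))))))))))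

theorem c_g5_ok : Net.ok 45 c_g5 = true := by decide +kernel

noncomputable def c_g6 : Net := (Net.cons (nat_lit 1) (nat_lit 0x54514514514) (Net.cons (nat_lit 2) (nat_lit 0x10210210210) (Net.cons (nat_lit 4) (nat_lit 0xc00040800) (Net.cons (nat_lit 8) (nat_lit 0xc00000) (Net.cons (nat_lit 16) (nat_lit 16512) (Net.cons (nat_lit 32) (nat_lit 128) (Net.cons (nat_lit 16) (nat_lit 128) (Net.cons (nat_lit 8) (nat_lit 0x400c00080) (Net.cons (nat_lit 4) (nat_lit 0x10c040c0804) (Net.cons (nat_lit 2) (nat_lit 0x12312312312) (Net.cons (nat_lit 1) (nat_lit 0x5145145145) Net.nil)))))))))))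

theorem c_g6_ok : Net.ok 45 c_g6 = true := by decide +kernel

noncomputable def cx_E : List Net := [c_g1, c_g2, c_g3, c_g4, c_g5, c_g6]

theorem cx_E_ok : okE 45 cx_E = true := (okE_cons.2 ⟨c_g1_ok, (okE_cons.2 ⟨c_g2_ok, (okE_cons.2 ⟨c_g3_ok, (okE_cons.2 ⟨c_g4_ok, (okE_cons.2 ⟨c_g5_ok, (okE_cons.2 ⟨c_g6_ok, (okE_nil 45)⟩)⟩)⟩)⟩)⟩)⟩)

def cx_code : List ℕ := [0, 0, 1, 2, 4, 6, 8, 10]

theorem cx_z : Cen (H44.gp 45 cx_E cx_code) 6 [[7]] :=
  cen_of_cenN c_hn c_hk cx_E_ok (by decide +kernel)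

theorem cx_cenL : Cen (H44.gp 45 cx_E cx_code) 6 (PresA7.R) :=
  cen_of_cenZ (m := 3) c_hn c_hk cx_E_ok cx_z (by decide +kernel)

theorem cx_cen : Cen (H44.gp 45 cx_E cx_code) 6 PresA7.R :=
  cx_cenL

theorem x1 : orderOf (cmw (H44.gp 45 cx_E cx_code) [1] [4, 5] 1) = 3 :=
  ((congrArg orderOf (cmw_eq_of_beq c_hn c_hk cx_E_ok (w := [7]) (by decide +kernel))).trans
      (orderOf_gp (p := 3) (e := 0) c_hn c_hk cx_E_ok (by norm_num) (by decide +kernel) (by decide +kernel)))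

theorem d_hn : NOk 240 := by decide

theorem d_hk : 240 ≤ 2 ^ 8 := by decide

noncomputable def d_g1 : Net := (Net.cons (nat_lit 2) (nat_lit 0x330303303000303000303033300030330300030030330030000030) (Net.cons (nat_lit 4) (nat_lit 0xc03000c00000c0f03030f000c030f000f0f000f0300000c0f0300000000) (Net.cons (nat_lit 8) (nat_lit 0x300c0003c000c00c300f0000000c0003f0033003000c000ff0000) (Net.cons (nat_lit 16) (nat_lit 0xf0330000c0fc00000c3c0000c0fc0000f0c0000003f30000c000) (Net.cons (nat_lit 32) (nat_lit 0x30f0000000000c0ccc0c00000000cf0333000000000000000000) (Net.cons (nat_lit 64) (nat_lit 0xc0c00ff300000000000000000000c33c000000000000) (Net.cons (nat_lit 128) (nat_lit 0xc030cff30c0cc33c0cc000000000) (Net.cons (nat_lit 64) (nat_lit 0xf00000f00ccc0000000000000000cffcf3cf30c0c000) (Net.cons (nat_lit 32) (nat_lit 0xff3300000000c0cf0ccf00000000c0f33f0300000000f0f03000) (Net.cons (nat_lit 16) (nat_lit 0xfcf300003cf30000cff30000cff00000c0cc00003c330000ff30)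 (Net.cons (nat_lit 8) (nat_lit 0xf000c300c3003000c000cf00cf00cf00cc003300c30030000000f00000) (Net.cons (nat_lit 4) (nat_lit 0xc0c0c0f00030f03000f0303000c000f0f0f0f0300000c0f030000000c) (Net.cons (nat_lit 2) (nat_lit 0x333300030033030030033303033300333330003000033000333030000033) (Net.cons (nat_lit 1) (nat_lit 0x150004001145104001050010450104010414004110100544000000000) Net.nil))))))))))))))

theorem d_g1_ok : Net.ok 240 d_g1 = true := by decide +kernel

noncomputable def d_g2 : Net := (Net.cons (nat_lit 2) (nat_lit 0x3000030033330030303300300300030300303303303030333030033000) (Net.cons (nat_lit 4) (nat_lit 0xc0c000f0c000f0f0c030f0c030f03000c0c0f0f0c030f030f030c0c0c00) (Net.cons (nat_lit 8) (nat_lit 0xc00ff00cf003300f30030003f003f00030003003300f0000c00cf0000) (Net.cons (nat_lit 16) (nat_lit 0xf0030000c03c00000cf3000030f00000fc30000003330000c030) (Net.cons (nat_lit 32) (nat_lit 0xc0000000000030c0300c00000000ffff0f300000000030c00000) (Net.cons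 (nat_lit 64) (nat_lit 0xc3330c00000000000000000000fff3000000000000) (Net.cons (nat_lit 128) (nat_lit 0xc0c3030c00c3ffff300c30000000) (Net.cons (nat_lit 64) (nat_lit 0xcf30ccf3cff30000000000000000cfff0f0030cfc030) (Net.cons (nat_lit 32) (nat_lit 0x3cff00000000000ffcff00000000ffff33cf00000000c30fcf30) (Net.cons (nat_lit 16) (nat_lit 0xcc00003f000000ccf30000cf0f00000f3c0000ccc000000f00) (Net.cons (nat_lit 8) (nat_lit 0xc00c300cf00f000f3003000c000c000cc00c000f00033000c00c3003c) (Net.cons (nat_lit 4) (nat_lit 0xc0c0f000c0f00000c03000c0300030f0c0c00000c03000300030c0c0c0f) (Net.cons (nat_lit 2) (nat_lit 0x330033303300003303030030033033303033030030030303000303300333) (Net.cons (nat_lit 1) (nat_lit 0x110000540015004510405405404144550400054555111405141455151515) Net.nil))))))))))))))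

theorem d_g2_ok : Net.ok 240 d_g2 = true := by decide +kernel

noncomputable def d_g3 : Net := (Net.cons (nat_lit 2) (nat_lit 0x303000333000300000333003333030330300300000003003033303000300) (Net.cons (nat_lit 4) (nat_lit 0x30f00030f00030f0c0f0f000000000c030c0c03030f030c0c0c030f0c00) (Net.cons (nat_lit 8) (nat_lit 0x330030003300c3000c003000cf00cc00cf003f003f003f00c00000) (Net.cons (nat_lit 16) (nat_lit 0x3cc0000f33c00000c030000ff0000000c330000c30000003c00) (Net.cons (nat_lit 32) (nat_lit 0x303300000000333ff0ff0000000003cccc0f00000000300c0000) (Net.cons (nat_lit 64) (nat_lit 0xc0003cf00cfc0000000000000000c3cc000000000000) (Net.cons (nat_lit 128) (nat_lit 0xc0000cf00ffcc3ff330f30000000) (Net.cons (nat_lit 64) (nat_lit 0xcc300c3cf3ff00000000000000000fc3fff3ffc33000) (Net.cons (nat_lit 32) (nat_lit 0xf03000000000cc3cf30f0000000033ccf333000000000fc003c0) (Net.cons (nat_lit 16) (nat_lit 0x3c0c00000c0f0000c3fc00000f030000ff3000000333000003fc) (Net.cons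 (nat_lit 8) (nat_lit 0xc3000f00ff000f000c000300f3003000fc000c000c0003003300f000cf) (Net.cons (nat_lit 4) (nat_lit 0x3000f03000f03000c00000f0f0f0f0c030c0c030300030c0c0c03000c0f) (Net.cons (nat_lit 2) (nat_lit 0x30333000333033333000330000303003033033333330330300030333033) (Net.cons (nat_lit 1) (nat_lit 0x454111101555411000444145000011510014111005104110545154545455) Net.nil))))))))))))))

theorem d_g3_ok : Net.ok 240 d_g3 = true := by decide +kernel

noncomputable def d_g4 : Net := (Net.cons (nat_lit 2) (nat_lit 0x33000330333303003000333033030303333000000330000003003003300) (Net.cons (nat_lit 4) (nat_lit 0xf0c00030f000c0300030000000000030f03000c0f00030c0c0f0c0000) (Net.cons (nat_lit 8) (nat_lit 0xf00003000c000f003300ff00c0000f00c000cf00ff003c0030003c0000) (Net.cons (nat_lit 16) (nat_lit 0xc330000fcff00000000000030f30000c0cf00003f0f0000c000) (Net.cons (nat_lit 32) (nat_lit 0xccc00000000000cf30300000000030cccc0f0000000030000000) (Net.cons (nat_lit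 64) (nat_lit 0x30033c00c33000000000000000000f3000000000000) (Net.cons (nat_lit 128) (nat_lit 0xc30033f00f3f03f3303c00000000) (Net.cons (nat_lit 64) (nat_lit 0xc3c0030f033f000000000000000033330ccf030ff000) (Net.cons (nat_lit 32) (nat_lit 0x30c300000000333cff3c0000000033cc030f00000000330cccc0) (Net.cons (nat_lit 16) (nat_lit 0xf0fc0000ff33000003ff000030f000000f030000f30f00000cfc) (Net.cons (nat_lit 8) (nat_lit 0x3c000300c300c3000300cf000f00f3000c00cf00ff00f0003000f00003) (Net.cons (nat_lit 4) (nat_lit 0xf00030f00030f000c0c0f0f0c0f0c0c00000f0c00030f0f030303000c0c) (Net.cons (nat_lit 2) (nat_lit 0x33000330333303003000333033030303333000000330000003003003300) (Net.cons (nat_lit 1) (nat_lit 0x51055150401405040411501140150005540005044511454514450115155) Net.nil))))))))))))))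

theorem d_g4_ok : Net.ok 240 d_g4 = true := by decide +kernel

noncomputable def d_g5 : Net := (Net.cons (nat_lit 2) (nat_lit 0x300033003330030330030003330003003000000330303330000300330000) (Net.cons (nat_lit 4) (nat_lit 0xc00000003030f030f0c0000030c03000c0f0300000c0c0f030000) (Net.cons (nat_lit 8) (nat_lit 0x3000c0000000f3003c0000000c00fc003c00ff00c0000000fc00000000) (Net.cons (nat_lit 16) (nat_lit 0x3c0000000ff000030300000fc030000cc0f0000330000000030) (Net.cons (nat_lit 32) (nat_lit 0xc03c0000000000fc300f00000000cf0c03fc00000000000c0000) (Net.cons (nat_lit 64) (nat_lit 0xc033333c30000000000000000000c0c000000000000) (Net.cons (nat_lit 128) (nat_lit 0xc333333f3003fcf00cc00000000) (Net.cons (nat_lit 64) (nat_lit 0xcf30303fffcc0000000000000000ff33f3cf3c03c030) (Net.cons (nat_lit 32) (nat_lit 0xc00f0000000033c3fccc000000003f0f3fcc00000000fc03cff0) (Net.cons (nat_lit 16) (nat_lit 0xcf0c0000f30c0000333c000033ff0000330f00003c3c0000c3cc) (Net.cons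 (nat_lit 8) (nat_lit 0x33003f00cf003000c3003000f000ff00f000cf00fc000c000c0033003f) (Net.cons (nat_lit 4) (nat_lit 0xf00030f03030f00030c0f0f00030f0c000c0f0000000c000f03000c030f) (Net.cons (nat_lit 2) (nat_lit 0x303033003330030330030003000003033000330330300330030300330000) (Net.cons (nat_lit 1) (nat_lit 0x51010154505011141010511145404015140014010454500451541454555) Net.nil))))))))))))))

theorem d_g5_ok : Net.ok 240 d_g5 = true := by decide +kernel

noncomputable def d_g6 : Net := (Net.cons (nat_lit 1) (nat_lit 0x555555555555555555555555555555555555555555555555555555555555) Net.nil)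

theorem d_g6_ok : Net.ok 240 d_g6 = true := by decide +kernel

noncomputable def cy_E : List Net := [d_g1, d_g2, d_g3, d_g4, d_g5, d_g6]

theorem cy_E_ok : okE 240 cy_E = true := (okE_cons.2 ⟨d_g1_ok, (okE_cons.2 ⟨d_g2_ok, (okE_cons.2 ⟨d_g3_ok, (okE_cons.2 ⟨d_g4_ok, (okE_cons.2 ⟨d_g5_ok, (okE_cons.2 ⟨d_g6_ok, (okE_nil 240)⟩)⟩)⟩)⟩)⟩)⟩)

def cy_code : List ℕ := [0, 0, 1, 2, 4, 6, 8, 10]

theorem cy_z : Cen (H44.gp 240 cy_E cy_code) 6 [[7]] :=
  cen_of_cenN d_hn d_hk cy_E_ok (by decide +kernel)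

theorem cy_cenL : Cen (H44.gp 240 cy_E cy_code) 6 (PresA7.R) :=
  cen_of_cenZ (m := 2) d_hn d_hk cy_E_ok cy_z (by decide +kernel)

theorem cy_cen : Cen (H44.gp 240 cy_E cy_code) 6 PresA7.R :=
  cy_cenL

theorem y2 : orderOf (cmw (H44.gp 240 cy_E cy_code) [1, 4] [6] 1) = 2 :=
  ((congrArg orderOf (cmw_eq_of_beq d_hn d_hk cy_E_ok (w := [7]) (by decide +kernel))).trans
      (orderOf_gp (p := 2) (e := 0) d_hn d_hk cy_E_ok (by norm_num) (by decide +kernel) (by decide +kernel)))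

theorem mult : Cfsg.HasCyclicSchurMultiplier (alternatingGroup (Fin 7)) 6 := by
  rw [← eq_alternating (H := grp 7 p_E) (by rw [p_card]; rfl)]
  exact u_bound.finish_cyclic ((p_pres.mElt cy_cen (by decide) (by decide) com2 y2).mul
    (p_pres.mElt cx_cen (by decide) (by decide) com1 x1) (by norm_num))

end Cfsg.Agent.H74.MA7
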