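import Mathlib
import Cfsg.Prelude.Def_LieTypeChar
import Cfsg.Agent.H75.T3Good
import Cfsg.Agent.H35.StSplit

/-!
# Doubly transitive actions of the simple groups of Lie type: definitions and statements

The paper proof is in `stubs/notes/h74_cks.md`.
-/

set_option autoImplicit false

namespace Cfsg.Agent.H74.Cks

open Cfsg.Agent.H35 Cfsg.Agent.Lead.T3

universe u

/-- `G` is doubly transitive on the cosets of the maximal subgroup `H`. -/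
structure Two {G : Type} [Group G] (H : Subgroup G) : Prop where
  max : IsCoatom H
  two : MulAction.IsMultiplyPretransitive G (G ⧸ H) 2
  dvd : H.index * (H.index - 1) ∣ Nat.card G

/-- The conclusion of the theorem for the degree `N`. -/
def Conc (G : Type u) [Group G] (N : ℕ) : Prop :=
    (∃ (F : Type) (_ : Field F) (_ : Fintype F) (l : ℕ), 3 ≤ l ∧ Nonempty (G ≃* Matrix.ProjectiveSpecialLinearGroup (Fin l) F) ∧ N * (Fintype.card F - 1) = Fintype.card F ^ l - 1) ∨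
    (∃ (F : Type) (_ : Field F) (_ : Fintype F), 4 ≤ Fintype.card F ∧ Nonempty (G ≃* Matrix.ProjectiveSpecialLinearGroup (Fin 2) F) ∧ N = Fintype.card F + 1) ∨
    (∃ (F : Type) (_ : Field F) (_ : Fintype F) (q : ℕ), 3 ≤ q ∧ Fintype.card F = q ^ 2 ∧ Nonempty (G ≃* Cfsg.PSU 3 F q) ∧ N = q ^ 3 + 1) ∨
    (∃ (F : Type) (_ : Field F) (_ : Fintype F) (m : ℕ), 1 ≤ m ∧ Fintype.card F = 2 ^ (2 * m + 1) ∧ Nonempty (G ≃* ↥(Cfsg.Lie.Sz F (2 ^ (m + 1)))) ∧ N = Fintype.card F ^ 2 + 1) ∨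
    (∃ (K : Type) (_ : Field K) (_ : Fintype K) (m : ℕ), 1 ≤ m ∧ Fintype.card K = 3 ^ (2 * m + 1) ∧ Nonempty (G ≃* ↥(Cfsg.Lie.twistedG2 K (3 ^ m))) ∧ N = Fintype.card K ^ 3 + 1) ∨
    (∃ (F : Type) (_ : Field F) (_ : Fintype F), Fintype.card F = 9 ∧ Nonempty (G ≃* Matrix.ProjectiveSpecialLinearGroup (Fin 2) F) ∧ N = 6) ∨
    (∃ (F : Type) (_ : Field F) (_ : Fintype F), Fintype.card F = 11 ∧ Nonempty (G ≃* Matrix.ProjectiveSpecialLinearGroup (Fin 2) F) ∧ N = 11) ∨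
    (∃ (F : Type) (_ : Field F) (_ : Fintype F), Fintype.card F = 2 ∧ Nonempty (G ≃* Matrix.ProjectiveSpecialLinearGroup (Fin 4) F) ∧ N = 8) ∨
    (∃ (F : Type) (_ : Field F) (_ : Fintype F) (n : ℕ), 3 ≤ n ∧ Fintype.card F = 2 ∧ Nonempty (G ≃* Cfsg.PSp n F) ∧ (N = 2 ^ (n - 1) * (2 ^ n + 1) ∨ N = 2 ^ (n - 1) * (2 ^ n - 1)))

/-- Conjugate subgroup `g K g⁻¹`. -/
abbrev cn {G : Type} [Group G] (g : G) (K : Subgroup G) : Subgroup G :=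
  K.map (MulAut.conj g).toMonoidHom

/-- The order of a Sylow `p`-subgroup. -/
noncomputable def pp (p : ℕ) (G : Type) [Group G] : ℕ := p ^ (Nat.card G).factorization p

/-- `H` is transitive on the Sylow `p`-subgroups. -/
def FT (p : ℕ) {G : Type} [Group G] (H : Subgroup G) : Prop :=
  ∀ U : Sylow p G, ∀ g : G, ∃ h ∈ H, ∃ x ∈ Subgroup.normalizer ((U : Subgroup G) : Set G), g = h * x

/-- `H` is transitive on the Sylow `p`-subgroups, which have `k ≤ b` orbits on the cosets. -/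
def FTI (p : ℕ) {G : Type} [Group G] (H : Subgroup G) (b : ℕ) : Prop :=
  FT p H ∧ ∃ k, 0 < k ∧ k ≤ b ∧ ¬ p ∣ k ∧ ∀ U : Sylow p G,
    H.index * Nat.card ↥((U : Subgroup G) ⊓ H) = k * Nat.card (U : Subgroup G)

/-! ### Split `BN`-pairs with root groups -/

/-- A split `BN`-pair of rank `n` with simple root groups. -/
structure Sys (G : Type) [Group G] (p n : ℕ) where
  bn : BNPair G
  sp : BN.Split bn p
  e : Fin n ≃ bn.S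
  X : Fin n → Subgroup G
  X_T : ∀ i, bn.B ⊓ bn.N ≤ Subgroup.normalizer (X i : Set G)
  X_sup : ∀ i, X i ⊔ sp.U {e i} = sp.U ∅
  anti : ∀ J K, J ⊆ K → sp.U K ≤ sp.U J
  cell : ∀ i, ∀ g ∈ BN.cell bn ((BN.gens bn).s (e i)), ∃ y ∈ X i, g⁻¹ * (y * e i) ∈ bn.B
  conj : ∀ i m (hm : m ∈ bn.N), (BN.gens bn).len (BN.mkW bn m hm) <
      (BN.gens bn).len ((BN.gens bn).s (e i) * BN.mkW bn m hm) → ∀ J : Finset bn.S,
    (BN.mkW bn m hm)⁻¹ * (BN.gens bn).s (e i) * BN.mkW bn m hm ∉ BN.WJ bn J →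
    ∀ y ∈ X i, m⁻¹ * y * m ∈ sp.U J
  conjS : ∀ i j m (hm : m ∈ bn.N), (BN.gens bn).len (BN.mkW bn m hm) <
      (BN.gens bn).len ((BN.gens bn).s (e i) * BN.mkW bn m hm) →
    (BN.gens bn).s (e i) * BN.mkW bn m hm = BN.mkW bn m hm * (BN.gens bn).s (e j) →
    ∀ y ∈ X i, m⁻¹ * y * m ∈ X j
  comm : ∀ a ∈ bn.B ⊓ bn.N, ∀ b ∈ bn.B ⊓ bn.N, a * b = b * a
  s_mem : ∀ i, (e i : G) ∈ (bn.B ⊓ bn.N) ⊔ (X i ⊔ cn (e i) (X i))
  levi : ∀ J : Finset (Fin n), ((bn.B ⊓ bn.N) ⊔ ⨆ i ∈ J, (X i ⊔ cn (e i) (X i))) ⊓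
    sp.U (J.map e.toEmbedding) = ⊥
  cm2 : ∀ i j, orderOf ((BN.gens bn).s (e i) * (BN.gens bn).s (e j)) = 2 →
    ∀ a ∈ X i ⊔ cn (e i) (X i), ∀ b ∈ X j ⊔ cn (e j) (X j), a * b = b * a

namespace Sys

variable {G : Type} [Group G] {p n : ℕ} (S : Sys G p n)

/-- The Borel subgroup. -/
abbrev B : Subgroup G := S.bn.B
/-- The torus. -/
abbrev T : Subgroup G := S.bn.B ⊓ S.bn.N
/-- The Sylow subgroup. -/
abbrev U : Subgroup G := S.sp.U ∅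
/-- The unipotent radicals. -/
abbrev Q (J : Finset (Fin n)) : Subgroup G := S.sp.U (J.map S.e.toEmbedding)
/-- The parabolic subgroups. -/
abbrev P (J : Finset (Fin n)) : Subgroup G := BN.PJ S.bn (J.map S.e.toEmbedding)
/-- The representative of a simple reflection. -/
abbrev s (i : Fin n) : G := S.e i
/-- The simple reflection. -/
abbrev w (i : Fin n) : BN.W S.bn := (BN.gens S.bn).s (S.e i)
/-- The rank one groups. -/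
abbrev L (i : Fin n) : Subgroup G := S.X i ⊔ cn (S.s i) (S.X i)
/-- The Coxeter matrix. -/
noncomputable abbrev m (i j : Fin n) : ℕ := orderOf (S.w i * S.w j)
/-- The parameters. -/
noncomputable abbrev q (i : Fin n) : ℕ := Nat.card (S.X i)
/-- The root group of `s_k α_j`. -/
abbrev Y (j k : Fin n) : Subgroup G := cn (S.s k) (S.X j)

/-- `U` is generated by the simple root groups. -/
def Gen : Prop := ⨆ i, S.X i = S.U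
/-- No isolated nodes. -/
def Conn : Prop := ∀ i, ∃ j, 3 ≤ S.m i j
/-- The first and the third root group of the window commute. -/
def Kind (j k : Fin n) : Prop := ∀ a ∈ S.X j, ∀ b ∈ S.Y j k, a * b = b * a
/-- The degenerate bond. -/
def Deg : Prop := ∃ j k, S.m j k = 4 ∧ S.q j = 2 ∧ S.q k = 2
/-- `G = H B`. -/
def Ft (H : Subgroup G) : Prop := ∀ g, ∃ h ∈ H, ∃ b ∈ S.B, g = h * b
/-- `H` is chamber transitive and in standard position. -/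
def Setup (H : Subgroup G) : Prop := S.Ft H ∧ H ⊓ S.B = (H ⊓ S.U) ⊔ (H ⊓ S.T)
/-- `H ∩ U` covers `U / Q_J`. -/
def Full (H : Subgroup G) (J : Finset (Fin n)) : Prop := (H ⊓ S.U) ⊔ S.Q J = S.U
/-- `(H ∩ P_J) Q_J`. -/
abbrev HJ (H : Subgroup G) (J : Finset (Fin n)) : Subgroup G := (H ⊓ S.P J) ⊔ S.Q J

/-- A bond of order three: Steinberg generators and the linear action on the plane. -/
structure Plane (i j : Fin n) (F : Type) [Field F] where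
  x : Fin 3 → Fin 3 → F → G
  rel : StRel x
  m01 : ∀ g, g ∈ S.X i ↔ ∃ t, x 0 1 t = g
  m12 : ∀ g, g ∈ S.X j ↔ ∃ t, x 1 2 t = g
  m10 : ∀ t, x 1 0 t ∈ S.L i
  m21 : ∀ t, x 2 1 t ∈ S.L j
  h01 : ∀ t, t ≠ 0 → hh x 0 1 t ∈ S.T
  h12 : ∀ t, t ≠ 0 → hh x 1 2 t ∈ S.T
  D : Subgroup (G × GL (Fin 3) F)
  fst : ∀ g, g ∈ S.P {i, j} ↔ ∃ A, (g, A) ∈ D
  sc : ∀ A : GL (Fin 3) F, (1, A) ∈ D ↔ ∃ c : F, (A : Matrix (Fin 3) (Fin 3) F) = c • 1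
  bor : ∀ g A, (g, A) ∈ D → (g ∈ S.B ↔ (A : Matrix (Fin 3) (Fin 3) F).BlockTriangular id)
  el : ∀ a b, a ≠ b → ∀ t, ∃ A : GL (Fin 3) F,
    (A : Matrix (Fin 3) (Fin 3) F) = Matrix.transvection a b t ∧ (x a b t, A) ∈ D
  ker : ∀ g ∈ S.U, (g, 1) ∈ D ↔ g ∈ S.Q {i, j}

/-- A bond `j k` of order four next to a bond `i j` of order three. -/
structure Quad (i j k : Fin n) (F : Type) [Field F] where
  d : QD F (S.X k)
  x1 : F → G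
  x3 : F → G
  a : S.X k →* G
  rel : QRel (S.X j) (S.Y k j) (S.Y j k) (S.X k) d x1 x3 a
  wj : cn (S.s j) (S.Y j k) = S.Y j k
  wk : cn (S.s k) (S.Y k j) = S.Y k j
  nf : ∀ u ∈ S.U, ∃ s y t, ∃ y' : S.X k, ∃ r ∈ S.Q {j, k}, u = x1 s * a y * x3 t * y' * r
  uniq : ∀ s y t (y' : S.X k), x1 s * a y * x3 t * y' ∈ S.Q {j, k} →
    s = 0 ∧ y = 1 ∧ t = 0 ∧ y' = 1
  h : F → G
  h' : F → G
  hT : ∀ t, t ≠ 0 → h t ∈ S.T ⊓ (S.L i ⊔ S.L j) ∧ h' t ∈ S.T ⊓ (S.L i ⊔ S.L j)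
  h1 : ∀ t, t ≠ 0 → ∀ s, h t * x1 s * (h t)⁻¹ = x1 (t * s)
  h2 : ∀ t, t ≠ 0 → ∀ y, h t * a y * (h t)⁻¹ = a (d.sm t y)
  h3 : ∀ t, t ≠ 0 → ∀ s, h t * x3 s * (h t)⁻¹ = x3 (t * s)
  h4 : ∀ t, t ≠ 0 → ∀ y : S.X k, h t * y * (h t)⁻¹ = y
  k1 : ∀ t, t ≠ 0 → ∀ s, h' t * x1 s * (h' t)⁻¹ = x1 (t⁻¹ * s)
  k2 : ∀ t, t ≠ 0 → ∀ y, h' t * a y * (h' t)⁻¹ = a y
  k3 : ∀ t, t ≠ 0 → ∀ s, h' t * x3 s * (h' t)⁻¹ = x3 (d.σ t * s)
  k4 : ∀ t, t ≠ 0 → ∀ y : S.X k, h' t * y * (h' t)⁻¹ = d.sm t y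

/-- All simple bonds have planes. -/
def Planes : Prop := ∀ i j, S.m i j = 3 →
  ∃ (F : Type) (_ : Field F) (_ : Finite F), Nonempty (S.Plane i j F)

/-- All double bonds next to a simple bond have windows. -/
def Quads : Prop := ∀ i j k, S.m i j = 3 → S.m j k = 4 → S.m i k = 2 →
  ∃ (F : Type) (_ : Field F) (_ : Finite F), Nonempty (S.Quad i j k F)

/-- A minimal set of nodes that is not covered, with a maximal invariant subgroup. -/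
structure MinJ (H : Subgroup G) (J : Finset (Fin n)) (M : Subgroup G) : Prop where
  nf : ¬ S.Full H J
  mn : ∀ K, K ⊂ J → S.Full H K
  le : (H ⊓ S.U) ⊔ S.Q J ≤ M
  lt : M < S.U
  nB : S.B ≤ Subgroup.normalizer (M : Set G)
  sup : ∀ i ∈ J, S.X i ⊔ M = S.U

end Sys

/-- Statements about all systems. -/
def AllS (P : ∀ {G : Type} [Group G] [Finite G] [IsSimpleGroup G] {p n : ℕ} [Fact p.Prime]
    (_ : Sys G p n), Prop) : Prop :=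
  ∀ {G : Type} [Group G] [Finite G] [IsSimpleGroup G] {p n : ℕ} [Fact p.Prime] (S : Sys G p n), P S

/-- Statements about all systems of rank `n`. -/
def AllN (n : ℕ) (P : ∀ {G : Type} [Group G] [Finite G] [IsSimpleGroup G] {p : ℕ} [Fact p.Prime]
    (_ : Sys G p n), Prop) : Prop :=
  ∀ {G : Type} [Group G] [Finite G] [IsSimpleGroup G] {p : ℕ} [Fact p.Prime] (S : Sys G p n), P S

/-! ### Systems: extraction and basics -/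

/-- **EXT** -/
def ExtStmt : Prop :=
  ∀ {Γ : Type} [Group Γ] [Finite Γ] [IsSimpleGroup Γ] {p : ℕ} [Fact p.Prime]
    (M : H75.Model.{0, 0} p Γ) {n : ℕ} {A : Fin n → Fin n → ℕ} {q : Fin n → ℕ} {e : Fin n → M.ι},
    H75.T3G.MD M A q e → (∀ a b, A a b = 1 → a = b) → (∀ a ∈ M.H, ∀ b ∈ M.H, a * b = b * a) →
    ∃ S : Sys Γ p n, (∀ a b, S.m a b = A a b) ∧ (∀ a, S.q a = q a) ∧
      (∀ a, S.X a = M.UJ (e a)) ∧ S.U = M.U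

/-- **BAS1** -/
def Bas1Stmt : Prop := AllS fun {G} _ _ _ {p n} _ S =>
  Subgroup.normalizer (S.U : Set G) = S.B ∧ (∃ U : Sylow p G, (U : Subgroup G) = S.U) ∧
  Nat.card S.U = pp p G ∧ Nat.card S.B = Nat.card S.U * Nat.card S.T ∧ S.U ⊓ S.T = ⊥ ∧
  (∀ b ∈ S.B, ∃ u ∈ S.U, ∃ t ∈ S.T, b = u * t) ∧
  S.Q ∅ = S.U ∧ S.Q Finset.univ = ⊥ ∧ (∀ J K, J ⊆ K → S.Q K ≤ S.Q J) ∧ (∀ J, S.Q J ≤ S.U) ∧
  (∀ i, S.X i ⊔ S.Q {i} = S.U ∧ S.X i ⊓ S.Q {i} = ⊥ ∧ S.X i ≠ ⊥ ∧ ∃ c, 0 < c ∧ S.q i = p ^ c) ∧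
  (∀ J k, k ∉ J → S.X k ≤ S.Q J) ∧
  (∀ i g, g ∈ S.P {i} ↔ g ∈ S.B ∨ ∃ y ∈ S.X i, ∃ b ∈ S.B, g = y * S.s i * b) ∧
  (∀ i, ∀ y ∈ S.X i, (S.s i)⁻¹ * y * S.s i ∈ S.B → y = 1) ∧
  (∀ i, S.L i ⊓ S.B = S.X i ⊔ (S.T ⊓ S.L i)) ∧ (∀ i, ∃ t ∈ S.T, S.s i * t ∈ S.L i) ∧
  (∀ J, ∀ i ∈ J, S.L i ≤ S.P J) ∧
  (∀ i, S.m i i = 1) ∧ (∀ i j, S.m i j = S.m j i) ∧ ∀ i j : Fin n, i ≠ j → 2 ≤ S.m i j

/-- **BAS2** -/
def Bas2Stmt : Prop := AllS fun {G} _ _ _ {p _} _ S => ∀ H : Subgroup G,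
  (S.Ft H ↔ FT p H) ∧ (S.Ft H → ∃ g, S.Setup (cn g H)) ∧
  (∀ g, (cn g H).index = H.index ∧ (Two H → Two (cn g H)) ∧ (FT p (cn g H) → FT p H) ∧
    ∀ b, FTI p (cn g H) b → FTI p H b) ∧
  (S.Setup H → H.index * Nat.card ↥(H ⊓ S.U) = (H ⊓ S.T).relIndex S.T * Nat.card S.U ∧
    (∀ b, (H ⊓ S.T).relIndex S.T ≤ b → FTI p H b) ∧ (S.T ≤ H → ∃ c, H.index = p ^ c)) ∧
  ((∃ c, H.index = p ^ c) → ∀ g, ∃ h ∈ H, ∃ u ∈ S.U, g = h * u)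

/-- **TGEN** -/
def TgenStmt : Prop := AllS fun {_} _ _ _ {_ n} _ S => 0 < n → S.T ≤ ⨆ i, S.T ⊓ S.L i

/-- **FAITH** -/
def FaithStmt : Prop := AllS fun {_} _ _ _ {_ n} _ S => 0 < n →
  ∀ t ∈ S.T, (∀ i, ∀ y ∈ S.X i, t * y = y * t) → t = 1

/-- **GEN** -/
def GenStmt : Prop := AllS fun {_} _ _ _ {_ n} _ S =>
  (∀ i j, S.m i j = 2 → S.X i ⊔ S.X j ⊔ S.Q {i, j} = S.U) ∧
  ((∀ i j : Fin n, i ≠ j → S.X i ⊔ S.X j ⊔ S.Q {i, j} = S.U) → 0 < n → S.Gen)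

/-- **LAD** -/
def LadStmt : Prop := AllS fun {G} _ _ _ {_ n} _ S => ∀ H : Subgroup G, S.Setup H →
  (∀ i, ∀ y ∈ S.X i, ∃ b ∈ S.B, y * S.s i * b ∈ H) ∧
  (∀ J, S.HJ H J ⊓ S.U = (H ⊓ S.U) ⊔ S.Q J ∧ S.HJ H J ⊓ S.T = H ⊓ S.T ∧
    S.HJ H J ⊓ S.B = ((H ⊓ S.U) ⊔ S.Q J) ⊔ (H ⊓ S.T)) ∧
  (∀ J, ∀ g ∈ S.P J, ∃ h ∈ H ⊓ S.P J, ∃ b ∈ S.B, g = h * b) ∧
  (∀ J, S.Full H J → (⨆ i ∈ J, S.L i) ≤ S.HJ H J ∧ S.T ⊓ (⨆ i ∈ J, S.L i) ≤ H) ∧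
  (∀ J K, J ⊆ K → S.Full H K → S.Full H J) ∧
  (∀ i, H ⊓ S.U ≤ S.Q {i} → ¬ S.Full H {i}) ∧
  (S.Full H Finset.univ → 0 < n → H = ⊤) ∧
  (IsCoatom H → 0 < n → (∀ i, H ⊓ S.U ≤ S.Q {i}) → H ⊓ S.U = ⊥)

/-! ### Characters -/

/-- The average over a subgroup. -/
noncomputable def avg {G : Type} [Group G] (K : Subgroup G) (f : G → ℂ) : ℂ :=
  (Nat.card K : ℂ)⁻¹ * ∑ᶠ y : K, f y

/-- **PD1** -/
def Pd1Stmt : Prop := AllS fun {G} _ _ _ {_ n} _ S => ∀ χ : G → ℂ, IsIrrCharacter G χ →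
  avg S.B χ ≠ 0 → ∀ (l : S.U →* ℂˣ) (J : Finset (Fin n)),
    (∀ i ∈ J, ∃ y : S.U, (y : G) ∈ S.X i ∧ l y ≠ 1) → (∀ y : S.U, (y : G) ∈ S.Q J → l y = 1) →
    (Nat.card S.U : ℂ)⁻¹ * ∑ᶠ y : S.U, χ y * ((l y)⁻¹ : ℂˣ) =
      ∑ K ∈ J.powerset, (-1 : ℂ) ^ K.card * avg (S.P K) χ

/-- **PD2** -/
def PdivStmt : Prop := AllS fun {G} _ _ _ {p _} _ S => S.Gen → ∀ H : Subgroup G, Two H →
  p ∣ H.index → S.Ft H

/-- **HCD** -/
def HcdStmt : Prop := AllS fun {G} _ _ _ {_ _} _ S => ∀ H : Subgroup G, Two H →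
  (∀ g, ∃ h ∈ H, ∃ u ∈ S.U, g = h * u) → ∀ i j, ¬ S.Full H {i} → ¬ S.Full H {j} →
  IsConj (S.w i) (S.w j)

/-- **RLW** -/
def RlwStmt : Prop :=
  ∀ {A : Type} [CommGroup A] [Finite A] (a b : MulAut A) (m : ℕ), m = 2 ∨ m = 4 ∨ m = 6 ∨ m = 8 →
    a * a = 1 → b * b = 1 → (a * b) ^ m = 1 →
    (∀ x y : A, x ≠ 1 → y ≠ 1 → ∃ d ∈ Subgroup.closure {a, b}, d x = y) →
    Nat.card A ≤ 4 ∧ (m ≠ 6 → Nat.card A ≤ 3)

/-- **RL** -/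
def RlStmt : Prop :=
  (AllN 1 fun {G} _ _ _ {_} _ S => ∀ H : Subgroup G, Two H → S.Setup H →
    (H ⊓ S.T).relIndex S.T ≤ 3) ∧
  AllN 2 fun {G} _ _ _ {_} _ S => S.m 0 1 = 4 ∨ S.m 0 1 = 6 ∨ S.m 0 1 = 8 → ∀ H : Subgroup G,
    Two H → S.Setup H → (H ⊓ S.T).relIndex S.T ≤ if S.m 0 1 = 6 then 4 else 3

/-- **CNT** -/
def CntStmt : Prop :=
  ∀ {G : Type} [Group G] [Finite G] (H : Subgroup G), Two H → ∀ D : Set G,
    (∀ d ∈ D, ∀ g, g * d * g⁻¹ ∈ D) → (∀ d ∈ D, d ∉ H) →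
    H.index - 1 ∣ D.ncard ∧ (D.ncard = H.index - 1 → ∀ d ∈ D, ∀ d' ∈ D, d ≠ d' →
      ∀ g, g * (d⁻¹ * d') * g⁻¹ ∉ H)

/-! ### The parabolic case -/

/-- **PAR** -/
def ParStmt : Prop :=
  ∀ {G : Type} [Group G] [Finite G] {p : ℕ} [Fact p.Prime], IsLieTypeChar p G →
    ∀ H : Subgroup G, IsCoatom H → ∀ U : Sylow p G, (U : Subgroup G) ≤ H →
      Subgroup.normalizer ((U : Subgroup G) : Set G) ≤ H

/-- **DC2** -/
def Dc2Stmt : Prop :=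
  (AllN 2 fun {G} _ _ _ {_} _ S => ∀ H : Subgroup G, Two H → S.B ≤ H → S.m 0 1 < 4) ∧
  AllS fun {G} _ _ _ {_ n} _ S => ∀ par sp, Typ n par sp → (∀ a b, S.m a b = tm n par sp a b) →
    ∀ H : Subgroup G, Two H → S.B ≤ H → par = parA ∧ sp = 0

/-- **IDX** -/
def IdxStmt : Prop := AllS fun {G} _ _ _ {_ n} _ S => (∀ a b, S.m a b = tm n parA 0 a b) →
  ∀ q, (∀ a, S.q a = q) → ∀ H : Subgroup G, Two H → S.B ≤ H → H.index * (q - 1) = q ^ (n + 1) - 1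

/-! ### Planes -/

/-- **ARI** -/
def AriStmt : Prop := ∀ p f b c : ℕ, p.Prime → 0 < f → b ≤ f →
  (p ^ f + 1) * (p ^ b - 1) + 1 = p ^ c → b = 0 ∨ b = f

/-- **PAN**: subgroups of `GL₂` that are transitive on the projective line. -/
def PanStmt : Prop := AllF fun F _ _ => ∀ K : Subgroup (GL (Fin 2) F),
  (∀ A : GL (Fin 2) F, (∃ c : F, (A : Matrix (Fin 2) (Fin 2) F) = c • 1) → A ∈ K) →
  (∀ A : GL (Fin 2) F, ∃ k ∈ K, ((k⁻¹ * A : GL (Fin 2) F) : Matrix (Fin 2) (Fin 2) F) 1 0 = 0) →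
  (∀ t : F, ∃ k ∈ K, (k : Matrix (Fin 2) (Fin 2) F) = !![1, t; 0, 1]) ∨
    (({t : F | ∃ k ∈ K, (k : Matrix (Fin 2) (Fin 2) F) = !![1, t; 0, 1]}.ncard ≤ 2 ∨
      Fintype.card F = 9) ∧
    ({c : F | ∃ k ∈ K, (k : Matrix (Fin 2) (Fin 2) F) 1 0 = 0 ∧
      (k : Matrix (Fin 2) (Fin 2) F) 0 0 = c * (k : Matrix (Fin 2) (Fin 2) F) 1 1}.ncard ≤ 2 ∨
      (Fintype.card F).Prime))

/-- A flag-transitive subgroup of `GL₃` containing the scalars. -/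
def FlagT {F : Type} [Field F] (K : Subgroup (GL (Fin 3) F)) : Prop :=
  (∀ A : GL (Fin 3) F, (∃ c : F, (A : Matrix (Fin 3) (Fin 3) F) = c • 1) → A ∈ K) ∧
  ∀ A : GL (Fin 3) F, ∃ k ∈ K,
    ((k⁻¹ * A : GL (Fin 3) F) : Matrix (Fin 3) (Fin 3) F).BlockTriangular id

/-- No transvections. -/
def NoTv {F : Type} [Field F] (K : Subgroup (GL (Fin 3) F)) : Prop :=
  ∀ k ∈ K, ((k : Matrix (Fin 3) (Fin 3) F) - 1) * ((k : Matrix (Fin 3) (Fin 3) F) - 1) = 0 → k = 1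

/-- **POL**: no polarity without absolute points. -/
def PolStmt : Prop := AllF fun F _ _ => ∀ L : (Fin 3 → F) → (Fin 3 → F),
  (∀ x, x ≠ 0 → L x ⬝ᵥ x ≠ 0) → (∀ x y, x ≠ 0 → y ≠ 0 → L x ⬝ᵥ y = 0 → L y ⬝ᵥ x = 0) →
  (∀ x y, x ≠ 0 → y ≠ 0 → ((∃ c : F, L y = c • L x) ↔ ∃ c : F, y = c • x)) → False

/-- **HM1** -/
def Hm1Stmt : Prop := AllF fun F _ _ => ∀ K : Subgroup (GL (Fin 3) F), FlagT K →
  NoTv K ∨ ∀ A : GL (Fin 3) F, (A : Matrix (Fin 3) (Fin 3) F).det = 1 → A ∈ K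

/-- **HM2** -/
def Hm2Stmt : Prop := AllF fun F _ _ => Odd (Fintype.card F) → ∀ K : Subgroup (GL (Fin 3) F),
  FlagT K → ¬ NoTv K

/-- **HM3** -/
def Hm3Stmt : Prop := AllF fun F _ _ => Even (Fintype.card F) → ∀ K : Subgroup (GL (Fin 3) F),
  FlagT K → NoTv K → Fintype.card F = 2

/-- **RGX**: the root groups of the building. -/
def RgxStmt : Prop := AllS fun {G} _ _ _ {_ n} _ S => S.Conn → 0 < n →
  ∃ (W : Type) (_ : Group W) (_ : Finite W) (X : Cox (Fin n) W) (T : Typed S.bn X),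
    T.e = S.e ∧ (∀ i j, X.m i j = S.m i j) ∧
    Function.Injective (MulAction.toPermHom G (G ⧸ S.bn.B)) ∧
    (∀ g, MulAction.toPermHom G (G ⧸ S.bn.B) g ∈ T.bld.Aut Set.univ ((1 : G) : G ⧸ S.bn.B)) ∧
    ∃ σ : W → G ⧸ S.bn.B, T.bld.Apt σ ∧ T.bld.Mou Set.univ (σ 1) ∧
      (∀ m (hm : m ∈ S.bn.N), σ (T.φ (BN.mkW S.bn m hm)) = (m : G ⧸ S.bn.B)) ∧
      ∀ m (hm : m ∈ S.bn.N) i, T.bld.R σ Set.univ (T.φ (BN.mkW S.bn m hm)) i =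
        (cn m (S.X i)).map (MulAction.toPermHom G (G ⧸ S.bn.B))

/-- **PLX** -/
def PlxStmt : Prop := AllS fun {_} _ _ _ {_ _} _ S => S.Conn → S.Planes

/-- **QDX** -/
def QdxStmt : Prop := AllS fun {_} _ _ _ {_ _} _ S => S.Conn → S.Quads

/-- Statements about planes. -/
def AllP (P : ∀ {G : Type} [Group G] [Finite G] [IsSimpleGroup G] {p n : ℕ} [Fact p.Prime]
    (S : Sys G p n) (i j : Fin n) (F : Type) [Field F] [Finite F] (_ : S.Plane i j F), Prop) :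
    Prop := AllS fun {_} _ _ _ {_ _} _ S => ∀ i j, S.m i j = 3 →
  ∀ (F : Type) [Field F] [Finite F] (D : S.Plane i j F), P S i j F D

/-- Statements about windows. -/
def AllQ (P : ∀ {G : Type} [Group G] [Finite G] [IsSimpleGroup G] {p n : ℕ} [Fact p.Prime]
    (S : Sys G p n) (i j k : Fin n) (F : Type) [Field F] [Finite F] (_ : S.Quad i j k F), Prop) :
    Prop := AllS fun {_} _ _ _ {_ _} _ S => ∀ i j k, S.m i j = 3 → S.m j k = 4 → S.m i k = 2 →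
  ∀ (F : Type) [Field F] [Finite F] (D : S.Quad i j k F), P S i j k F D

/-- **PLF** -/
def PlfStmt : Prop := AllP fun {G} _ _ _ {_ _} _ S i j _ _ _ _ => ∀ H : Subgroup G, S.Setup H →
  S.Full H {i, j} ∨ (S.q i = 2 ∧ H ⊓ S.U ≤ S.Q {i, j})

/-- **TORQ** -/
def TorqStmt : Prop := AllP fun {_} _ _ _ {_ _} _ S i j F _ _ D =>
  S.q i = Nat.card F ∧ S.q j = Nat.card F ∧
  Nat.card S.U = Nat.card F ^ 3 * Nat.card (S.Q {i, j}) ∧ S.X i ⊔ S.X j ⊔ S.Q {i, j} = S.U ∧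
  (∀ c : F, c ≠ 0 → ∃ t ∈ S.T ⊓ S.L i, (∀ s, t * D.x 0 1 s * t⁻¹ = D.x 0 1 (c ^ 2 * s)) ∧
    ∀ s, t * D.x 1 2 s * t⁻¹ = D.x 1 2 (c⁻¹ * s)) ∧
  ∀ c : F, c ≠ 0 → ∃ t ∈ S.T ⊓ S.L j, (∀ s, t * D.x 0 1 s * t⁻¹ = D.x 0 1 (c⁻¹ * s)) ∧
    ∀ s, t * D.x 1 2 s * t⁻¹ = D.x 1 2 (c ^ 2 * s)

/-! ### Windows -/

/-- **QGEN** -/
def QgenStmt : Prop := AllQ fun {_} _ _ _ {_ _} _ S _ j k F _ _ D =>
  S.q j = Nat.card F ∧ (S.Kind j k ↔ ∀ t, D.d.z t = 1) ∧ (S.Kind k j ↔ ∀ y y', D.d.Bf y y' = 0) ∧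
  QPar (S.q j) (S.q k) (S.Kind j k) ∧
  (¬ (S.q j = 2 ∧ S.q k = 2) → S.X j ⊔ S.X k ⊔ S.Q {j, k} = S.U)

/-- **QF1** -/
def Qf1Stmt : Prop := AllQ fun {G} _ _ _ {_ _} _ S i j k F _ _ D => (∀ t, D.d.z t = 1) →
  4 ≤ Nat.card F → ∀ H : Subgroup G, S.Setup H → S.Full H {i, j} → S.Full H {j, k}

/-- **QF2** -/
def Qf2Stmt : Prop := AllQ fun {G} _ _ _ {_ _} _ S i j k _ _ _ D => ¬ (∀ t, D.d.z t = 1) →
  ∀ H : Subgroup G, S.Setup H → S.Full H {i, j} → S.Full H {j, k}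

/-- **QF3** -/
def Qf3Stmt : Prop := AllQ fun {G} _ _ _ {_ _} _ S i j k F _ _ D => (∀ t, D.d.z t = 1) →
  Nat.card F = 3 → S.q k = 9 → ∀ H : Subgroup G, S.Setup H → S.Full H {i, j} → S.Full H {j, k}

/-- **Q24** -/
def Q24Stmt : Prop := AllQ fun {G} _ _ _ {_ _} _ S _ j k F _ _ _ =>
  Nat.card F = 2 → S.q k = 4 → ∀ H : Subgroup G, S.Setup H → S.Full H {j, k}

/-- **TK3** -/
def Tk3Stmt : Prop := AllQ fun {_} _ _ _ {_ _} _ S _ j k F _ _ D => (∀ t, D.d.z t = 1) →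
  Nat.card F = 3 → S.q k = 3 → (∀ l, l ≠ j → l ≠ k → S.m l k = 2) → S.T ⊓ S.L k = ⊥

/-- **QT** -/
def QtStmt : Prop := AllQ fun {_} _ _ _ {_ _} _ S _ _ k F _ _ _ =>
  (Nat.card F = 2 ∧ S.q k = 4) ∨ (Nat.card F = 3 ∧ S.q k = 9) →
  ∃ t ∈ S.T ⊓ S.L k, ∀ y ∈ S.X k, t * y = y * t → y = 1

/-! ### Minimal uncovered sets -/

/-- **MINJ** -/
def MinjStmt : Prop := AllS fun {G} _ _ _ {_ _} _ S => S.Gen → ∀ H : Subgroup G, S.T ≤ H →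
  ∀ J, ¬ S.Full H J → (∀ K, K ⊂ J → S.Full H K) → ∃ M, S.MinJ H J M

/-- **TF** -/
def TfStmt : Prop := AllS fun {G} _ _ _ {_ _} _ S => S.Planes → ∀ (H : Subgroup G) J M,
  S.MinJ H J M → ∀ i ∈ J, ∀ j ∈ J,
    (∀ k, S.m i k = 3 → S.m k j = 2 → S.q i = 2) ∧
    (∀ k, S.m i k = 3 → S.m i j = 2 → S.q i ≤ 3) ∧
    (∀ k l, S.m i k = 3 → S.m j l = 3 → S.q i = S.q j) ∧
    (S.m i j = 3 → S.q i ≠ 3) ∧
    (S.m i j = 2 → ¬ ∃ t ∈ S.T ⊓ S.L j, ∀ y ∈ S.X j, t * y = y * t → y = 1)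

/-- **TWO** -/
def TwoStmt : Prop := AllS fun {G} _ _ _ {_ _} _ S => S.Gen → S.Planes → ∀ (H : Subgroup G) J M,
  S.Setup H → S.T ≤ H → S.MinJ H J M → (∀ i ∈ J, S.q i = 2) → (∀ i ∈ J, ∀ j ∈ J, S.m i j ≤ 3) →
  ∀ i ∈ J, ∀ j ∈ J, S.m i j ≠ 3

/-- **PROD** -/
def ProdStmt : Prop := AllS fun {G} _ _ _ {_ _} _ S => S.Gen → S.Planes → ∀ (H : Subgroup G) J M,
  S.Setup H → S.MinJ H J M → (∀ i ∈ J, S.q i = 2) → ∀ K, ∀ i ∈ J, i ∈ K → ∀ k ∈ K, S.m i k = 3 →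
  (∀ l ∈ J, l ∉ K → ∀ a ∈ K, S.m l a = 2) → ¬ S.Full H K

/-- The surviving cases in rank at least three (`N` the degree, `u` the order of `U`). -/
def Out (n : ℕ) (par : ℕ → ℕ) (sp : ℕ) (q : Fin n → ℕ) (N u : ℕ) : Prop :=
  (sp = 0 ∧ (∀ a, q a = 2) ∧ N = u) ∨
  (n = 3 ∧ sp = 0 ∧ ∃ r, (r = 2 ∨ r = 3) ∧ (∀ a, q a = r) ∧ N * r ^ 3 ≤ u) ∨
  (4 ≤ n ∧ par = parD n ∧ sp = 0 ∧ ∃ r, (r = 2 ∨ r = 3) ∧ ∀ a, q a = r) ∨
  (sp + 1 = n ∧ ∀ a, q a = 3) ∨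
  (n = 4 ∧ sp = 3 ∧ ∃ r, (r = 2 ∨ r = 3) ∧ ∀ a, q a = qC n r (r ^ 2) a)

/-- The conclusion for a chamber-transitive maximal subgroup. -/
def R3c {G : Type} [Group G] {p n : ℕ} (S : Sys G p n) (par : ℕ → ℕ) (sp : ℕ) : Prop :=
  (∀ a b, S.m a b = tm n par sp a b) → S.Planes → S.Quads → ¬ S.Deg →
  ∀ H : Subgroup G, IsCoatom H → S.Setup H →
    S.T ≤ H ∧ Out n par sp S.q H.index (Nat.card S.U)

/-- **R3A** -/
def R3aStmt : Prop := AllS fun {_} _ _ _ {_ n} _ S => ∀ par, SLType n par → S.Gen → R3c S par 0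

/-- **R3C** -/
def R3cStmt : Prop := AllS fun {_} _ _ _ {_ n} _ S => 3 ≤ n → S.Gen → R3c S parA (n - 1)

/-- **R3F** -/
def R3fStmt : Prop := AllN 4 fun {_} _ _ _ {_} _ S => S.Gen → R3c S parA 2

/-- **GEN3** -/
def Gen3Stmt : Prop := AllS fun {_} _ _ _ {_ n} _ S => ∀ par sp, Typ n par sp →
  (∀ a b, S.m a b = tm n par sp a b) → S.Conn ∧ (S.Planes → S.Quads → ¬ S.Deg → S.Gen)

/-! ### The reductions -/

/-- **R1** -/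
def R1Stmt : Prop := AllN 1 fun {G} _ _ _ {p} _ S => IsLieTypeChar p G → ∀ H : Subgroup G, Two H →
  H.index = S.q 0 + 1 ∨ (p ∣ H.index ∧ FTI p H 3)

/-- **R2** -/
def R2Stmt : Prop := AllN 2 fun {G} _ _ _ {p} _ S => IsLieTypeChar p G →
  S.m 0 1 = 4 ∨ S.m 0 1 = 6 ∨ S.m 0 1 = 8 → ∀ H : Subgroup G, Two H →
  (S.Gen ∨ (p ∣ H.index → ∃ c, H.index = p ^ c)) →
  p ∣ H.index ∧ FTI p H (if S.m 0 1 = 6 then 4 else 3) ∧ H.index ≠ pp p G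

/-- **RA** -/
def RaStmt : Prop := AllN 2 fun {G} _ _ _ {p} _ S => IsLieTypeChar p G →
  (∀ a b, S.m a b = tm 2 parA 0 a b) → ∀ q, (∀ a, S.q a = q) → ∀ H : Subgroup G, Two H →
  H.index * (q - 1) = q ^ 3 - 1 ∨ (q = 2 ∧ H.index = 8)

/-- **R3** -/
def R3Stmt : Prop := AllS fun {G} _ _ _ {p n} _ S => IsLieTypeChar p G → ∀ par sp, Typ n par sp →
  (∀ a b, S.m a b = tm n par sp a b) → ∀ H : Subgroup G, Two H →
  (par = parA ∧ sp = 0 ∧ ∀ q, (∀ a, S.q a = q) → H.index * (q - 1) = q ^ (n + 1) - 1) ∨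
  (p ∣ H.index ∧ (¬ S.Deg → FT p H ∧ (∃ c, H.index = p ^ c) ∧ Out n par sp S.q H.index (pp p G)))

/-! ### The families: data -/

/-- There is a system with the given matrix and parameters. -/
def Has (Γ : Type) [Group Γ] (p n : ℕ) (A : Fin n → Fin n → ℕ) (q : Fin n → ℕ) : Prop :=
  ∃ S : Sys Γ p n, (∀ a b, S.m a b = A a b) ∧ ∀ a, S.q a = q a

/-- There is a system of rank two. -/
def Has2 (Γ : Type) [Group Γ] (p m : ℕ) (g : Prop) : Prop :=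
  ∃ S : Sys Γ p 2, S.m 0 1 = m ∧ (g → S.Gen)

/-- There is a system of rank one. -/
def Has1 (Γ : Type) [Group Γ] (p q : ℕ) : Prop := ∃ S : Sys Γ p 1, S.q 0 = q

/-- Statements about finite fields with their characteristic. -/
def AllC (P : ∀ (F : Type) [Field F] [Fintype F] (p : ℕ) [Fact p.Prime] [CharP F p], Prop) : Prop :=
  ∀ (F : Type) [Field F] [Fintype F] (p : ℕ) [Fact p.Prime] [CharP F p], P F p

/-- Shorthand. -/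
abbrev PL (n : ℕ) (F : Type) [Field F] : Type := Matrix.ProjectiveSpecialLinearGroup (Fin n) F

/-- An anisotropic binary form. -/
def Ani {F : Type} [Field F] (a b : F) : Prop :=
  ∀ z₁ z₂ : F, z₁ ^ 2 + a * z₁ * z₂ + b * z₂ ^ 2 = 0 → z₁ = 0 ∧ z₂ = 0

/-- **MDA** -/
def MdaStmt : Prop := AllC fun F _ _ p _ _ => ∀ n, 1 ≤ n → (n = 1 → 4 ≤ Fintype.card F) →
  Has (PL (n + 1) F) p n (tm n parA 0) fun _ => Fintype.card F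

/-- **MDC** -/
def MdcStmt : Prop := AllC fun F _ _ p _ _ =>
  (∀ n, 3 ≤ n → Has (PSp n F) p n (tm n parA (n - 1)) fun _ => Fintype.card F) ∧
  (3 ≤ Fintype.card F → Has2 (PSp 2 F) p 4 True)

/-- **MDO** -/
def MdoStmt : Prop := AllC fun F _ _ p _ _ =>
  (∀ n, 3 ≤ n → Odd (Fintype.card F) →
    Has (POmega F (quadFormOdd n F)) p n (tm n parA (n - 1)) fun _ => Fintype.card F) ∧
  (∀ n, 4 ≤ n → Has (POmega F (quadFormPlus n F)) p n (tm n (parD n) 0) fun _ => Fintype.card F) ∧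
  ∀ n, 3 ≤ n → ∀ a b : F, Ani a b → Has (POmega F (quadFormMinus n F a b)) p n
    (tm n parA (n - 1)) (qC n (Fintype.card F) (Fintype.card F ^ 2))

/-- **MDU** -/
def MduStmt : Prop := AllC fun F _ _ p _ _ => ∀ r, Fintype.card F = r ^ 2 →
  ∀ n, 3 ≤ n → Has (PSU (2 * n) F r) p n (tm n parA (n - 1)) (qC n (r ^ 2) r) ∧
    Has (PSU (2 * n + 1) F r) p n (tm n parA (n - 1)) (qC n (r ^ 2) (r ^ 3))

/-- **MDV** -/
def MdvStmt : Prop := AllC fun F _ _ p _ _ => ∀ r, Fintype.card F = r ^ 2 →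
  Has2 (PSU 4 F r) p 4 True ∧ Has2 (PSU 5 F r) p 4 True ∧ (r ≠ 2 → Has1 (PSU 3 F r) p (r ^ 3))

/-- **MDE** -/
def MdeStmt : Prop := AllC fun F _ _ p _ _ =>
  Has (Lie.chevE6.group F) p 6 (tm 6 (parE 6) 0) (fun _ => Fintype.card F) ∧
  Has (Lie.chevE7.group F) p 7 (tm 7 (parE 7) 0) (fun _ => Fintype.card F) ∧
  Has (Lie.chevE8.group F) p 8 (tm 8 (parE 8) 0) (fun _ => Fintype.card F) ∧
  Has (Lie.chevF4.group F) p 4 (tm 4 parA 2) (fun _ => Fintype.card F) ∧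
  (3 ≤ Fintype.card F → Has2 (Lie.chevG2.group F) p 6 (4 ≤ Fintype.card F))

/-- **MDT** -/
def MdtStmt : Prop := AllC fun F _ _ p _ _ => ∀ r, IsPrimePow r →
  (Fintype.card F = r ^ 2 → Has (Lie.twistedE6 F r) p 4 (tm 4 parA 2) ![r ^ 2, r ^ 2, r, r]) ∧
  (Fintype.card F = r ^ 3 → Has2 (Lie.twistedD4 F r) p 6 True)

/-- **MDR** -/
def MdrStmt : Prop := AllF fun F _ _ => ∀ m, 1 ≤ m →
  (Fintype.card F = 2 ^ (2 * m + 1) → Has1 (Lie.Sz F (2 ^ (m + 1))) 2 (Fintype.card F ^ 2)) ∧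
  (Fintype.card F = 3 ^ (2 * m + 1) → Has1 (Lie.twistedG2 F (3 ^ m)) 3 (Fintype.card F ^ 3))

/-- **MDF** -/
def MdfStmt : Prop := AllF fun F _ _ => ∀ m, 1 ≤ m → Fintype.card F = 2 ^ (2 * m + 1) →
  Has2 (Lie.twistedF4 F (2 ^ m)) 2 8 True

/-! ### The families: endgames -/

/-- Endgame in rank one. -/
def Fin1 (Γ : Type) [Group Γ] (p : ℕ) : Prop :=
  ∀ H : Subgroup Γ, Two H → p ∣ H.index → FTI p H 3 → Conc Γ H.index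

/-- Endgame in rank two. -/
def Fin2 (Γ : Type) [Group Γ] (p b : ℕ) : Prop :=
  ∀ H : Subgroup Γ, Two H → p ∣ H.index → FTI p H b → H.index ≠ pp p Γ → False

/-- A bound for `H ∩ U`. -/
def Vle (Γ : Type) [Group Γ] (p b : ℕ) : Prop :=
  ∀ H : Subgroup Γ, H ≠ ⊤ → FT p H → ∃ U : Sylow p Γ, Nat.card ↥((U : Subgroup Γ) ⊓ H) ≤ b

/-- No doubly transitive action of degree a power of `p`. -/
def NoPow (Γ : Type) [Group Γ] (p : ℕ) : Prop :=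
  ∀ H : Subgroup Γ, Two H → FT p H → ¬ ∃ c, H.index = p ^ c

/-- **FL2** -/
def Fl2Stmt : Prop := AllC fun F _ _ p _ _ => 4 ≤ Fintype.card F → Fin1 (PL 2 F) p

/-- **FU3** -/
def Fu3Stmt : Prop := AllC fun F _ _ p _ _ => ∀ r, Fintype.card F = r ^ 2 → r ≠ 2 →
  Fin1 (PSU 3 F r) p

/-- **FSZ** -/
def FszStmt : Prop := AllF fun F _ _ => ∀ m, 1 ≤ m → Fintype.card F = 2 ^ (2 * m + 1) →
  Fin1 (Lie.Sz F (2 ^ (m + 1))) 2

/-- **FRE1** -/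
def Fre1Stmt : Prop := AllF fun F _ _ => ∀ m, 1 ≤ m → Fintype.card F = 3 ^ (2 * m + 1) →
  ∀ H : Subgroup (Lie.twistedG2 F (3 ^ m)), Two H → 3 ∣ H.index → FTI 3 H 3 →
    H.index = Fintype.card F ^ 2

/-- **FRE2** -/
def Fre2Stmt : Prop := AllF fun F _ _ => ∀ m, 1 ≤ m → Fintype.card F = 3 ^ (2 * m + 1) →
  ∀ H : Subgroup (Lie.twistedG2 F (3 ^ m)), H.index ≠ Fintype.card F ^ 2

/-- **FS4** -/
def Fs4Stmt : Prop := AllC fun F _ _ p _ _ => 3 ≤ Fintype.card F → Fin2 (PSp 2 F) p 3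

/-- **FU4** -/
def Fu4Stmt : Prop := AllC fun F _ _ p _ _ => ∀ r, Fintype.card F = r ^ 2 → Fin2 (PSU 4 F r) p 3

/-- **FU5** -/
def Fu5Stmt : Prop := AllC fun F _ _ p _ _ => ∀ r, Fintype.card F = r ^ 2 → Fin2 (PSU 5 F r) p 3

/-- **G2V** -/
def G2vStmt : Prop := AllC fun F _ _ p _ _ => 3 ≤ Fintype.card F →
  Vle (Lie.chevG2.group F) p (Fintype.card F ^ 2)

/-- **D4V** -/
def D4vStmt : Prop := AllC fun F _ _ p _ _ => ∀ r, IsPrimePow r → Fintype.card F = r ^ 3 →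
  Vle (Lie.twistedD4 F r) p (r ^ 4)

/-- **F4V** -/
def F4vStmt : Prop := AllF fun F _ _ => ∀ m, 1 ≤ m → Fintype.card F = 2 ^ (2 * m + 1) →
  Vle (Lie.twistedF4 F (2 ^ m)) 2 (Fintype.card F ^ 4)

/-- **XN**: the numerical endgames of the exceptional groups of rank two. -/
def XnStmt : Prop :=
  (AllC fun F _ _ p _ _ => 3 ≤ Fintype.card F →
    (Vle (Lie.chevG2.group F) p (Fintype.card F ^ 2) → Fin2 (Lie.chevG2.group F) p 4) ∧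
    (Fintype.card F = 3 → ∀ H : Subgroup (Lie.chevG2.group F), Two H → p ∣ H.index →
      ∃ c, H.index = p ^ c)) ∧
  (AllC fun F _ _ p _ _ => ∀ r, IsPrimePow r → Fintype.card F = r ^ 3 →
    Vle (Lie.twistedD4 F r) p (r ^ 4) → Fin2 (Lie.twistedD4 F r) p 4) ∧
  AllF fun F _ _ => ∀ m, 1 ≤ m → Fintype.card F = 2 ^ (2 * m + 1) →
    Vle (Lie.twistedF4 F (2 ^ m)) 2 (Fintype.card F ^ 4) → Fin2 (Lie.twistedF4 F (2 ^ m)) 2 3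

/-- **FLN** -/
def FlnStmt : Prop := AllC fun F _ _ p _ _ => ∀ n, 3 ≤ n → ∀ H : Subgroup (PL (n + 1) F), Two H →
  (Fintype.card F = 2 → H.index ≠ pp p (PL (n + 1) F)) ∧
  (n = 3 → (Fintype.card F = 2 ∨ Fintype.card F = 3) → (∃ c, H.index = p ^ c) →
    H.index * Fintype.card F ^ 3 ≤ pp p (PL (n + 1) F) → Fintype.card F = 2 ∧ H.index = 8)

/-- **FEN** -/
def FenStmt : Prop := AllF fun F _ _ => Fintype.card F = 2 →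
  (∀ H : Subgroup (Lie.chevE6.group F), Two H → H.index ≠ pp 2 (Lie.chevE6.group F)) ∧
  (∀ H : Subgroup (Lie.chevE7.group F), Two H → H.index ≠ pp 2 (Lie.chevE7.group F)) ∧
  (∀ H : Subgroup (Lie.chevE8.group F), Two H → H.index ≠ pp 2 (Lie.chevE8.group F))

/-- **FON**: numerical orthogonal endgames. -/
def FonStmt : Prop := AllC fun F _ _ p _ _ =>
  (Fintype.card F = 2 → ∀ n, 4 ≤ n → NoPow (POmega F (quadFormPlus n F)) p) ∧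
  (Fintype.card F = 2 ∨ Fintype.card F = 3 → ∀ a b : F, Ani a b →
    NoPow (POmega F (quadFormMinus 4 F a b)) p)

/-- **OP3** -/
def Op3Stmt : Prop := AllF fun F _ _ => Fintype.card F = 3 → ∀ n, 4 ≤ n →
  NoPow (POmega F (quadFormPlus n F)) 3

/-- **OB3** -/
def Ob3Stmt : Prop := AllF fun F _ _ => Fintype.card F = 3 → ∀ n, 3 ≤ n →
  NoPow (POmega F (quadFormOdd n F)) 3

/-- **SP3** -/
def Sp3Stmt : Prop := AllF fun F _ _ => Fintype.card F = 3 → ∀ n, 3 ≤ n → NoPow (PSp n F) 3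

/-- `H` is transitive on the non-zero vectors. -/
def VecT {F : Type} [Field F] {n : ℕ} (H : Subgroup (PSp n F)) : Prop :=
  ∀ v w : Fin n ⊕ Fin n → F, v ≠ 0 → w ≠ 0 → ∃ g : Matrix.symplecticGroup (Fin n) F,
    (g : PSp n F) ∈ H ∧ g.1.mulVec v = w

/-- **SP2A** -/
def Sp2aStmt : Prop := AllF fun F _ _ => Fintype.card F = 2 → ∀ n, 3 ≤ n →
  ∀ H : Subgroup (PSp n F), Two H → ¬ VecT H →
    H.index = 2 ^ (n - 1) * (2 ^ n + 1) ∨ H.index = 2 ^ (n - 1) * (2 ^ n - 1)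

/-- **SP2B** -/
def Sp2bStmt : Prop := AllF fun F _ _ => Fintype.card F = 2 → ∀ n, 3 ≤ n →
  ∀ H : Subgroup (PSp n F), Two H → ¬ VecT H

/-- **F42A** -/
def F42aStmt : Prop := AllF fun F _ _ => Fintype.card F = 2 →
  ∀ H : Subgroup (Lie.chevF4.group F), H ≠ ⊤ → 442 < H.index

/-- **F42B** -/
def F42bStmt : Prop := AllF fun F _ _ => Fintype.card F = 2 →
  ∀ H : Subgroup (Lie.chevF4.group F), H.index ≠ 4096

/-- **F42N** -/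
def F42nStmt : Prop := AllF fun F _ _ => Fintype.card F = 2 →
  ∀ H : Subgroup (Lie.chevF4.group F), Two H → 2 ∣ H.index → H.index ≤ 442 ∨ H.index = 4096

end Cfsg.Agent.H74.Cks
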