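/-
Centralizers of elements of prime order with simple quotient of trivial multiplier.
-/
import Cfsg.Prelude.Def_KGroupFacts
import Cfsg.Agent.H49.Large

set_option autoImplicit false

namespace Cfsg.Agent.H74.Mon

open Cfsg Subgroup Cfsg.Agent.H49
open scoped commutatorElement

variable {G T : Type} [Group G] [Finite G] [Group T]

theorem commutator_eq_top_of_simple [IsSimpleGroup T] (hc : center T = ⊥) : commutator T = ⊤ := by
  refine (IsSimpleGroup.eq_bot_or_eq_top_of_normal (commutator T) inferInstance).resolve_left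
    fun e => ?_
  rw [commutator_eq_bot_iff_center_eq_top, hc] at e
  exact bot_ne_top e

/-- the extension splits over the commutator subgroup -/
theorem cen_split [IsSimpleGroup T] (hc : center T = ⊥) (hM : HasCyclicSchurMultiplier T 1) {b : G}
    (hb : (orderOf b).Prime) (σ : centralizer ({b} : Set G) →* T) (hs : Function.Surjective σ)
    (hk : ∀ c, σ c = 1 ↔ c.1 ∈ zpowers b) :
    Function.Bijective (σ.comp (commutator (centralizer ({b} : Set G))).subtype) := by
  have : Fact (orderOf b).Prime := ⟨hb⟩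
  have bC : b ∈ centralizer ({b} : Set G) := mem_centralizer_singleton_iff.2 rfl
  have hz : σ.ker = zpowers ⟨b, bC⟩ := by
    ext c
    rw [MonoidHom.mem_ker, hk]
    exact ⟨fun ⟨n, e⟩ => ⟨n, Subtype.ext e⟩, fun ⟨n, e⟩ => ⟨n, congrArg Subtype.val e⟩⟩
  have ho : Nat.card σ.ker = orderOf b := by rw [hz, Nat.card_zpowers, orderOf_mk]
  refine ⟨(injective_iff_map_eq_one _).2 fun c h1 => ?_, fun t => ?_⟩
  · by_contra hne
    have h2 : zpowers c.1 = σ.ker := by
      refine eq_of_le_of_card_ge (zpowers_le.2 h1) ?_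
      have h3 := card_dvd_of_le (zpowers_le.2 (show c.1 ∈ σ.ker from h1))
      rw [ho] at h3 ⊢
      refine ((Nat.dvd_prime hb).1 h3).elim (fun e => ?_) fun e => e.ge
      rw [Nat.card_zpowers, orderOf_eq_one_iff] at e
      exact absurd (Subtype.ext e) hne
    obtain ⟨π, hπ⟩ := hM.2 _ σ ⟨hs, by
      rw [hz, zpowers_le, mem_center_iff]
      exact fun g => Subtype.ext (mem_centralizer_singleton_iff.1 g.2), by
      rw [← h2, zpowers_le]; exact c.2⟩
    have := Nat.card_le_card_of_surjective π hπ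
    rw [ho, Nat.card_eq_fintype_card] at this
    exact absurd (hb.two_le.trans this) (by decide)
  · have h1 := map_commutator_eq _ σ
    rw [MonoidHom.range_eq_top.2 hs, ← _root_.commutator_def, commutator_eq_top_of_simple hc] at h1
    obtain ⟨c, h2, e⟩ := (h1 ▸ mem_top t : t ∈ (commutator _).map σ)
    exact ⟨⟨c, h2⟩, e⟩

/-- a complement centralized by an involution -/
theorem cen_invol [IsSimpleGroup T] (hc : center T = ⊥) (hM : HasCyclicSchurMultiplier T 1) {b : G}
    (hb : (orderOf b).Prime) (ho : Odd (orderOf b)) (σ : centralizer ({b} : Set G) →* T)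
    (hs : Function.Surjective σ) (hk : ∀ c, σ c = 1 ↔ c.1 ∈ zpowers b) {t : G} {k n : ℕ}
    (hO : Nat.card (Out T) = n) (ht : t * b * t⁻¹ = b ^ k) (hn : t ^ n * b * (t ^ n)⁻¹ = b⁻¹) :
    ∃ (K : Subgroup G) (d : G), K ≤ centralizer {b} ∧ Nonempty (K ≃* T) ∧ d * d = 1 ∧ d ≠ 1 ∧
      d * b * d⁻¹ = b⁻¹ ∧ K ≤ centralizer {d} := by
  let C := centralizer ({b} : Set G)
  have hC : C = centralizer ({b} : Set G) := rfl
  have bij := cen_split hc hM hb σ hs hk
  let K := (commutator C).map C.subtype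
  have hK : K = (commutator C).map C.subtype := rfl
  have KC : K ≤ C := map_subtype_le _
  let e : K ≃* T := ((commutator C).equivMapOfInjective _ C.subtype_injective).symm.trans
    (MulEquiv.ofBijective _ bij)
  have tC : t ∈ normalizer (C : Set G) := by
    rw [← cj_eq_iff, hC, cj_centralizer_singleton, ht]
    refine (eq_of_le_of_card_ge (fun x hx => mem_centralizer_singleton_iff.2
      (Commute.pow_right (mem_centralizer_singleton_iff.1 hx) k)) ?_).symm
    rw [← ht, ← cj_centralizer_singleton, card_cj]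
  have tK : t ∈ normalizer (K : Set G) := by
    rw [← cj_eq_iff] at tC ⊢
    rw [hK, map_subtype_commutator]
    exact (map_commutator _ _ _).trans (congrArg₂ _ tC tC)
  have h1 : MulAut.congr e (normalizerMonoidHom K ⟨t, tK⟩) ^ n ∈ Inn T := by
    rw [← QuotientGroup.eq_one_iff, QuotientGroup.mk_pow, ← hO, pow_card_eq_one']
  obtain ⟨u, hu⟩ := h1
  obtain ⟨u, rfl⟩ := e.surjective u
  rw [← map_pow, ← map_pow] at hu
  have h2 : ∀ x ∈ K, u.1 * x * u.1⁻¹ = t ^ n * x * (t ^ n)⁻¹ := fun x hx => by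
    have := DFunLike.congr_fun hu (e ⟨x, hx⟩)
    rw [MulAut.conj_apply, ← map_inv, ← map_mul, ← map_mul, MulAut.congr_apply] at this
    simp only [MulEquiv.trans_apply, MulEquiv.symm_apply_apply, EmbeddingLike.apply_eq_iff_eq] at this
    exact congrArg Subtype.val this
  have h3 : ∀ x ∈ K, x * (u.1⁻¹ * t ^ n) = u.1⁻¹ * t ^ n * x := fun x hx => by
    calc x * (u.1⁻¹ * t ^ n) = u.1⁻¹ * (u.1 * x * u.1⁻¹) * t ^ n := by group
      _ = _ := by rw [h2 x hx]; group
  have ub : u.1 * b = b * u.1 := mem_centralizer_singleton_iff.1 (KC u.2)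
  have h4 : u.1⁻¹ * t ^ n * b * (u.1⁻¹ * t ^ n)⁻¹ = b⁻¹ := by
    calc _ = u.1⁻¹ * (t ^ n * b * (t ^ n)⁻¹) * u.1 := by group
      _ = (u.1⁻¹ * (b * u.1))⁻¹ := by rw [hn]; group
      _ = _ := by rw [← ub]; group
  generalize u.1⁻¹ * t ^ n = d at h3 h4
  have odd : ∀ x ∈ zpowers b, x * x = 1 → x = 1 := fun x hx e => by
    have h5 : orderOf x ∣ 2 := orderOf_dvd_of_pow_eq_one (by rw [sq, e])
    exact orderOf_eq_one_iff.1 (Nat.eq_one_of_dvd_coprimes (Nat.coprime_two_left.2 ho) h5
      (orderOf_dvd_of_mem_zpowers hx))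
  have dd : d * d ∈ C := mem_centralizer_singleton_iff.2 (mul_inv_eq_iff_eq_mul.1 (by
    calc d * d * b * (d * d)⁻¹ = d * (d * b * d⁻¹) * d⁻¹ := by group
      _ = (d * b * d⁻¹)⁻¹ := by nth_rw 1 [h4]; group
      _ = b := by rw [h4, inv_inv]))
  have h6 : d * d ∈ zpowers b := by
    refine (hk ⟨_, dd⟩).1 (mem_bot.1 (hc ▸ mem_center_iff.2 fun x => ?_))
    obtain ⟨x, rfl⟩ := bij.2 x
    rw [MonoidHom.comp_apply, ← map_mul, ← map_mul]
    refine congrArg σ (Subtype.ext ?_)
    have := h3 _ (mem_map_of_mem C.subtype x.2)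
    change x.1.1 * d = d * x.1.1 at this
    change x.1.1 * (d * d) = d * d * x.1.1
    rw [← mul_assoc, this, mul_assoc, this, mul_assoc]
  refine ⟨K, d, KC, ⟨e⟩, odd _ h6 ?_, fun e => ?_, h4,
    fun x hx => mem_centralizer_singleton_iff.2 (h3 x hx)⟩
  · obtain ⟨j, hj⟩ := mem_zpowers_iff.1 h6
    have h7 : d * b ^ j * d⁻¹ = (b ^ j)⁻¹ := by rw [← conj_zpow, h4, inv_zpow]
    rw [hj, ← mul_assoc, mul_inv_cancel_right] at h7
    exact mul_eq_one_iff_eq_inv.2 h7
  · rw [e, one_mul, inv_one, mul_one] at h4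
    have := odd b (mem_zpowers b) (mul_eq_one_iff_eq_inv.2 h4)
    rw [this, orderOf_one] at hb
    exact Nat.not_prime_one hb

end Cfsg.Agent.H74.Mon
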