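/-
The Thompson group in a group of Monster type, from the recognition theorem.
-/
import Cfsg.Agent.H74.CenSplit
import Cfsg.Agent.H74.Mon3B
import Cfsg.Agent.H49.Fix3
import Cfsg.Agent.S2057
import Cfsg.Agent.S2083
import Cfsg.Agent.S1700

set_option autoImplicit false

namespace Cfsg.Agent.H74.Mon

open Cfsg Subgroup Cfsg.Agent.H48 Cfsg.Agent.H42 Cfsg.Agent.H43 Cfsg.Agent.H49

/-- the recognition theorem for the Thompson group -/
def ThRec : Prop := ∀ {G : Type} [Group G] [Finite G] (z : G) (_ : orderOf z = 2)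
  (_ : centralizer ({z} : Set G) ⊔ oddCore G ≠ ⊤)
  (_ : IsExtraspecial 2 ↥(pCore 2 ↥(centralizer ({z} : Set G))))
  (_ : Nat.card ↥(pCore 2 ↥(centralizer ({z} : Set G))) = 2 ^ 9)
  (_ : centralizer ((pCore 2 ↥(centralizer ({z} : Set G))) : Set ↥(centralizer ({z} : Set G))) ≤
    pCore 2 ↥(centralizer ({z} : Set G)))
  [(pCore 2 ↥(centralizer ({z} : Set G))).Normal]
  (_ : (↥(centralizer ({z} : Set G)) ⧸ pCore 2 ↥(centralizer ({z} : Set G))) ≃*
    ↥(alternatingGroup (Fin 9))), Spor.IsoTh G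

theorem isoTh_of_type (hT : ThRec) {X : Type} [Group X] [Finite X] (h : IsOfThompsonType X) :
    Spor.IsoTh X := by
  obtain ⟨z, Q, hn, ⟨hz, hF, hQ, hc, g, ⟨hg, hgQ⟩, hne⟩, ⟨e⟩⟩ := h
  obtain ⟨hL, h2⟩ := LX.of_fstar (Q := Q.map (centralizer ({z} : Set X)).subtype)
    (orderOf_two_iff.1 hz).1 (by rw [hF]) ((isExtraspecial_map_iff (subtype_injective _)).2 hQ)
  obtain rfl := map_injective (subtype_injective _) h2
  refine hT z hz (fun ht => hne ?_) hQ hc (fun c hc => (mem_map_iff_mem (subtype_injective _)).1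
    (hL.cQ ?_)) e
  · obtain ⟨c, hc, o, ho, rfl⟩ := mem_sup_of_normal_right.1 (ht ▸ mem_top g⁻¹⁻¹ : g⁻¹⁻¹ ∈ _) |>.imp
      fun _ h => h.imp_right fun h => h.imp fun _ h => h.imp_right fun h => h.trans (inv_inv g)
    have hc' := mem_centralizer_singleton_iff.1 hc
    have h3 : c * o * z * (c * o)⁻¹ * z⁻¹ ∈ oddCore X := by
      have : c * o * z * (c * o)⁻¹ * z⁻¹ = c * (o * (z * o⁻¹ * z⁻¹)) * c⁻¹ := by
        calc _ = c * (o * z * o⁻¹) * (z * c)⁻¹ := by group
          _ = _ := by rw [← hc']; group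
      rw [this]
      exact Normal.conj_mem inferInstance _
        (mul_mem ho (Normal.conj_mem inferInstance _ (inv_mem ho) z)) c
    exact mul_inv_eq_one.1 (eq_one_of_mem_odd_of_mem_two
      (Nat.coprime_two_right.1 (H3.pPrimeCore_coprime 2 _)) hL.isPGroup h3
      (mul_mem ⟨_, hgQ, rfl⟩ (inv_mem hL.mem)))
  · rintro _ ⟨y, hy, rfl⟩
    exact congrArg Subtype.val (hc y hy)

theorem center_Th : center Spor.Th = ⊥ := by
  have := S1700.result.1
  refine (IsSimpleGroup.eq_bot_or_eq_top_of_normal _ inferInstance).resolve_right fun e => ?_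
  let _ : CommGroup Spor.Th := Group.commGroupOfCenterEqTop e
  have h := IsSimpleGroup.prime_card (α := Spor.Th)
  rw [S1700.result.2] at h
  exact absurd h (by norm_num)

/-- the centralizer of an element of class 3C -/
theorem th_sub (hT : ThRec) {G : Type} [Group G] [Finite G] {z : G} {Q : Subgroup G}
    {θ : centralizer ({z} : Set G) →* Spor.Co1} {R : Lam → G → Prop} (h : MD Q z θ R) :
    ∃ (b d : G) (K : Subgroup G), orderOf b = 3 ∧
      Nat.card (centralizer ({b} : Set G)) = 272237831663616000 ∧ K ≤ centralizer {b} ∧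
      Spor.IsoTh K ∧ IsTh K ∧ d * d = 1 ∧ d ≠ 1 ∧ d * b * d⁻¹ = b⁻¹ ∧ K ≤ centralizer {d} := by
  have : Fact (Nat.Prime 3) := ⟨Nat.prime_three⟩
  obtain ⟨b, hb, a⟩ := exists_ass_order h (by decide) f3_ord
  obtain ⟨s, r⟩ := h.ex2 (e8 none)
  have b3 : b ^ 3 = 1 := hb ▸ pow_orderOf_eq_one b
  have hsb : s * b = b * s := (h.comm_iff_fix (by rw [hb]; decide) a r).2
    (cong_of_mem_mono (permEl_mem_mono _) none)
  have n1 : ((zpowers b).subgroupOf (centralizer (zpowers b : Set G))).Normal :=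
    (normal_subgroupOf_iff_le_normalizer (le_centralizer _)).2 (centralizer_le_normalizer _)
  obtain ⟨zs, Qs, hQ, h3, h4, -⟩ := h.odd_quot (w := 4) (by decide) f3_ord f3_centData
    f3_fs hb a (h.mem r) (h.e8_spec r).1 (h.e8_spec r).2 hsb rfl
  obtain ⟨φ⟩ := isoTh_of_type hT ⟨zs, Qs, hQ, h3, h4⟩
  have i0 := inM_m24reps (i := 4) (by norm_num)
  have i1 : inM 594624527598774741981035416995766959 = true := by decide +kernel
  obtain ⟨t, -, ht⟩ := h.lift (by decide) b3 a (g := permEl (toM 594624527598774741981035416995766959))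
    (k := 2) (by
      simp only [f3x, ← permHom_apply]
      rw [← map_pow, ← map_mul, ← map_mul, ← toM_ppow i0,
        ← toM_pmul i1 i0, ← toM_pmul (inM_ppow i0 2) i1]
      exact congrArg _ (congrArg _ (by decide +kernel)))
  let ι : centralizer ({b} : Set G) ≃* centralizer (zpowers b : Set G) :=
    MulEquiv.subgroupCongr (centralizer_zpowers' b).symm
  have hS := S1700.result.1
  obtain ⟨K, d, h5, ⟨e⟩, h6, h7, h8, h9⟩ := cen_invol center_Th S2057.result (b := b)
    (hb ▸ Nat.prime_three) (by rw [hb]; decide)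
    (φ.toMonoidHom.comp ((QuotientGroup.mk' _).comp ι.toMonoidHom))
    (φ.surjective.comp ((QuotientGroup.mk'_surjective _).comp ι.surjective))
    (fun c => φ.map_eq_one_iff.trans (QuotientGroup.eq_one_iff (ι c))) S2083.result ht
    (by rw [pow_one, ht, eq_inv_iff_mul_eq_one, ← pow_succ, b3])
  refine ⟨b, d, K, hb, ?_, h5, ⟨e⟩, ⟨e.isSimpleGroup, (Nat.card_congr e.toEquiv).trans
    S1700.result.2⟩, h6, h7, h8, h9⟩
  rw [Nat.card_congr ι.toEquiv, card_eq_card_quotient_mul_card_subgroup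
    ((zpowers b).subgroupOf (centralizer (zpowers b : Set G))), Nat.card_congr φ.toEquiv,
    S1700.result.2, Nat.card_congr (subgroupOfEquivOfLe (le_centralizer _)).toEquiv,
    Nat.card_zpowers, hb]

end Cfsg.Agent.H74.Mon
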