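/-
`PSp₆(2)` and `PΩ₈⁺(2)` as groups of nets.
-/
import Mathlib
import Cfsg.Agent.H74.NetPres
import Cfsg.Agent.H28.Transport
import Cfsg.Agent.S0245
import Cfsg.Agent.S0246
import Cfsg.Agent.S0293

set_option autoImplicit false

namespace Cfsg.Agent.H74

open Cfsg H43 Equiv Matrix
open scoped commutatorElement

/-- The vector with the given bits. -/
def vec2 (m a : ℕ) : Fin m ⊕ Fin m → ZMod 2 :=
  Sum.elim (fun i => (Nat.shiftRight a i : ℕ)) (fun i => (Nat.shiftRight a (Nat.add m i) : ℕ))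

/-- The matrix with the given columns. -/
def mat2 (m c : ℕ) : Matrix (Fin m ⊕ Fin m) (Fin m ⊕ Fin m) (ZMod 2) :=
  Matrix.of fun i => Sum.elim (fun j => vec2 m (Nat.shiftRight c (Nat.mul 8 j)) i)
    (fun j => vec2 m (Nat.shiftRight c (Nat.mul 8 (Nat.add m j))) i)

/-- The `i`-th vector of a table. -/
def tab2 (m t i : ℕ) : Fin m ⊕ Fin m → ZMod 2 := vec2 m (Nat.shiftRight t (Nat.mul 8 i))

theorem card_sp62 : Nat.card (symplecticGroup (Fin 3) (ZMod 2)) = 1451520 := by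
  rw [S0245.result (ZMod.card 2) 3]; decide

theorem equiv_psp62 {n t : ℕ} {E : List Net} (hE : okE n E = true)
    (hp : ∀ i < n, ∀ j < n, tab2 3 t i = tab2 3 t j → i = j)
    (h : ∀ o ∈ E, ∃ c, mat2 3 c * J (Fin 3) (ZMod 2) * (mat2 3 c)ᵀ = J (Fin 3) (ZMod 2) ∧
      ∀ i < n, mat2 3 c *ᵥ tab2 3 t i = tab2 3 t (o.pt i))
    (hc : Nat.card (grp n E) = 1451520) {F : Type*} [Field F] [Fintype F]
    (hF : Fintype.card F = 2) : Nonempty (grp n E ≃* PSp 3 F) := by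
  have : Finite (symplecticGroup (Fin 3) (ZMod 2)) :=
    Nat.finite_of_card_ne_zero (by rw [card_sp62]; norm_num)
  obtain ⟨e⟩ := equiv_of_mulVec (symplecticGroup (Fin 3) (ZMod 2)).subtype hE hp
    (fun o ho => let ⟨c, h1, h2⟩ := h o ho; ⟨⟨mat2 3 c, SymplecticGroup.mem_iff.2 h1⟩, h2⟩)
    (card_sp62.trans hc.symm).le
  exact ⟨(e.trans (quotCenterEquiv (S0246.result (ZMod.card 2) 3 (by norm_num)))).trans
    (H28.pspEquiv (FiniteField.ringEquivOfCardEq ((ZMod.card 2).trans hF.symm)) 3)⟩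

theorem vec2_surj (v : Fin 4 ⊕ Fin 4 → ZMod 2) : ∃ a < 256, v = vec2 4 a := by
  have h1 : ∀ w : Fin 4 → ZMod 2, ∃ a < 16, ∀ i : Fin 4, w i = (Nat.shiftRight a i : ℕ) := by
    decide +kernel
  obtain ⟨a, ha, h2⟩ := h1 fun i => v (.inl i)
  obtain ⟨b, hb, h3⟩ := h1 fun i => v (.inr i)
  have h4 : ∀ a < 16, ∀ b < 16, ∀ i : Fin 4,
      ((Nat.shiftRight a i : ℕ) : ZMod 2) = vec2 4 (a + 16 * b) (.inl i) ∧
      ((Nat.shiftRight b i : ℕ) : ZMod 2) = vec2 4 (a + 16 * b) (.inr i) := by decide +kernel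
  refine ⟨a + 16 * b, by omega, funext fun i => ?_⟩
  rcases i with i | i
  exacts [(h2 i).trans (h4 a ha b hb i).1, (h3 i).trans (h4 a ha b hb i).2]

/-- The codes describe an isometry and its inverse. -/
def Iso8 (x x' : ℕ) : Prop := mat2 4 x * mat2 4 x' = 1 ∧
  ∀ a < 256, quadFormPlus 4 (ZMod 2) (mat2 4 x *ᵥ vec2 4 a) = quadFormPlus 4 (ZMod 2) (vec2 4 a)

instance (x x' : ℕ) : Decidable (Iso8 x x') := inferInstanceAs (Decidable (_ ∧ _))

/-- The isometry. -/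
def Iso8.el {x x' : ℕ} (h : Iso8 x x') : isometryGroup (ZMod 2) (quadFormPlus 4 (ZMod 2)) :=
  ⟨⟨mat2 4 x, mat2 4 x', h.1, mul_eq_one_comm.1 h.1⟩, (H28.mem_isometryGroup_iff _).2 fun v => by
    obtain ⟨a, ha, rfl⟩ := vec2_surj v
    exact h.2 a ha⟩

theorem card_center_omega82 :
    Nat.card (Subgroup.center (Omega (ZMod 2) (quadFormPlus 4 (ZMod 2)))) = 1 := by
  classical
  exact (H30.card_center_Omega (H30.qPlus_nondegenerate (F := ZMod 2) 4)
    (H30.not_isExc_of_finrank (by simp)) (by simp)).trans (if_neg fun h => h.1 rfl)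

theorem card_omega82 : Nat.card (Omega (ZMod 2) (quadFormPlus 4 (ZMod 2))) = 174182400 := by
  have := S0293.result (F := ZMod 2) (ZMod.card 2) 4 le_rfl
  rw [← Nat.card_congr (quotCenterEquiv card_center_omega82).toEquiv] at this
  simpa [Finset.prod_range_succ] using this

theorem equiv_pomega82 {n t : ℕ} {E : List Net} (hE : okE n E = true)
    (hp : ∀ i < n, ∀ j < n, tab2 4 t i = tab2 4 t j → i = j)
    (h : ∀ o ∈ E, ∃ c x x' y y', Iso8 x x' ∧ Iso8 y y' ∧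
      mat2 4 x * mat2 4 y * mat2 4 x' * mat2 4 y' = mat2 4 c ∧
      ∀ i < n, mat2 4 c *ᵥ tab2 4 t i = tab2 4 t (o.pt i))
    (hc : Nat.card (grp n E) = 174182400) {F : Type*} [Field F] [Fintype F]
    (hF : Fintype.card F = 2) : Nonempty (grp n E ≃* POmega F (quadFormPlus 4 F)) := by
  have : Finite (Omega (ZMod 2) (quadFormPlus 4 (ZMod 2))) :=
    Nat.finite_of_card_ne_zero (by rw [card_omega82]; norm_num)
  obtain ⟨e⟩ := equiv_of_mulVec ((Units.coeHom _).comp ((Subgroup.subtype _).comp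
    (Omega (ZMod 2) (quadFormPlus 4 (ZMod 2))).subtype)) hE hp
    (fun o ho => by
      obtain ⟨c, x, x', y, y', hx, hy, h1, h2⟩ := h o ho
      refine ⟨⟨⁅hx.el, hy.el⁆, Subgroup.commutator_mem_commutator (Subgroup.mem_top _)
        (Subgroup.mem_top _)⟩, ?_⟩
      rw [← h1] at h2
      exact h2)
    (card_omega82.trans hc.symm).le
  let f := FiniteField.ringEquivOfCardEq ((ZMod.card 2).trans hF.symm)
  exact ⟨(e.trans (quotCenterEquiv card_center_omega82)).trans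
    (H28.pomegaEquiv (H28.isometryEquiv f _ _ (H28.quadFormPlus_map f 4)))⟩

end Cfsg.Agent.H74
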