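/-
A group of matrices modulo scalars that permutes a family of points as the nets do.
-/
import Mathlib
import Cfsg.Agent.H74.NetPres

set_option autoImplicit false

namespace Cfsg.Agent.H74

open Cfsg H43 Equiv Matrix

theorem equiv_of_proj {ι F G : Type*} [Fintype ι] [DecidableEq ι] [Field F] [Group G]
    (ρ : G →* Matrix ι ι F) (Z : Subgroup G) [Z.Normal] [Finite (G ⧸ Z)]
    (hZ : ∀ z ∈ Z, ∃ c : F, ρ z = c • (1 : Matrix ι ι F)) {n : ℕ} {pts : ℕ → ι → F}
    {E : List Net} (hE : okE n E = true)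
    (hp : ∀ i < n, ∀ j < n, ∀ c : F, pts i = c • pts j → i = j)
    (h : ∀ o ∈ E, ∃ g : G, ∀ i < n, ∃ c : F, c ≠ 0 ∧ ρ g *ᵥ pts i = c • pts (o.pt i))
    (hc : Nat.card (G ⧸ Z) ≤ Nat.card (grp n E)) : Nonempty (grp n E ≃* G ⧸ Z) := by
  let _ : MulAction G (Submodule F (ι → F)) :=
    { smul := fun g U => U.map (ρ g).mulVecLin
      one_smul := fun U => by
        change U.map (ρ 1).mulVecLin = U
        rw [map_one, mulVecLin_one, Submodule.map_id]
      mul_smul := fun g g' U => by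
        change U.map (ρ (g * g')).mulVecLin = (U.map (ρ g').mulVecLin).map (ρ g).mulVecLin
        rw [map_mul, mulVecLin_mul, Submodule.map_comp] }
  have h1 : ∀ z ∈ Z, ∀ U : Submodule F (ι → F), z • U ≤ U := fun z hz U => by
    obtain ⟨c, e⟩ := hZ z hz
    rintro _ ⟨v, hv, rfl⟩
    rw [e, mulVecLin_apply, smul_mulVec, one_mulVec]
    exact U.smul_mem c hv
  let ψ : G ⧸ Z →* Perm (Submodule F (ι → F)) :=
    QuotientGroup.lift Z (MulAction.toPermHom G _) fun z hz => Equiv.ext fun U =>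
      le_antisymm (h1 z hz U) (by
        have := Submodule.map_mono (f := (ρ z).mulVecLin) (h1 z⁻¹ (Z.inv_mem hz) U)
        change z • z⁻¹ • U ≤ z • U at this
        rwa [smul_inv_smul] at this)
  let _ : MulAction (G ⧸ Z) (Submodule F (ι → F)) := MulAction.compHom _ ψ
  obtain ⟨e, -⟩ := exists_equiv_of_card_le (Γ := G ⧸ Z) (pts := fun i : Fin n => F ∙ pts i)
    (fun i j e => by
      have h2 : pts i ∈ F ∙ pts j := by
        change (F ∙ pts i) = F ∙ pts j at e
        rw [← e]; exact Submodule.mem_span_singleton_self _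
      obtain ⟨c, h3⟩ := Submodule.mem_span_singleton.1 h2
      exact Fin.ext (hp i i.2 j j.2 c h3.symm)) (K := ⊤) (E := E) (fun o ho => by
      obtain ⟨g, hg⟩ := h o ho
      refine ⟨g, trivial, fun i => ?_⟩
      obtain ⟨c, h2, h3⟩ := hg i i.2
      change (F ∙ pts i).map (ρ g).mulVecLin = F ∙ pts _
      rw [Submodule.map_span, Set.image_singleton, mulVecLin_apply, h3,
        Submodule.span_singleton_smul_eq h2.isUnit, Net.pt_eq (okE_iff.1 hE o ho)])
    (by rwa [Subgroup.card_top])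
  exact ⟨e.symm.trans Subgroup.topEquiv⟩

theorem equiv_psl {ι F : Type*} [Fintype ι] [DecidableEq ι] [Field F]
    [Finite (ProjectiveSpecialLinearGroup ι F)] {n : ℕ} {pts : ℕ → ι → F}
    {E : List Net} (hE : okE n E = true)
    (hp : ∀ i < n, ∀ j < n, ∀ c : F, pts i = c • pts j → i = j)
    (h : ∀ o ∈ E, ∃ g : Matrix ι ι F, g.det = 1 ∧
      ∀ i < n, ∃ c : F, c ≠ 0 ∧ g *ᵥ pts i = c • pts (o.pt i))
    (hc : Nat.card (ProjectiveSpecialLinearGroup ι F) ≤ Nat.card (grp n E)) :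
    Nonempty (grp n E ≃* ProjectiveSpecialLinearGroup ι F) :=
  equiv_of_proj SpecialLinearGroup.coeMonoidHom _ (fun z hz => by
    obtain ⟨r, -, e⟩ := Matrix.SpecialLinearGroup.mem_center_iff.1 hz
    exact ⟨r, e.symm.trans (smul_one_eq_diagonal r).symm⟩) hE hp
    (fun o ho => let ⟨g, h1, h2⟩ := h o ho; ⟨⟨g, h1⟩, h2⟩) hc

end Cfsg.Agent.H74
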