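import Cfsg.Agent.H44.Coset
import Cfsg.Agent.H44.Perm3

set_option autoImplicit false
set_option maxRecDepth 1000000
set_option linter.all false
set_option Elab.async false

namespace Cfsg.Agent.H74.PresL34.L0
open Cfsg.Agent.H44

noncomputable def rT0 : Tr :=
 (.leaf (nat_lit 28))
noncomputable def gT0 : Tr :=
 (.leaf (nat_lit 0))
/-- The relators. -/
def R : List (List ℕ) := [[1, 1]]
/-- The subgroup generators. -/
def S : List (List ℕ) := []
def Wr : List (List ℕ) := [[1, 1]]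
def Wn : List (List ℕ) := []
def cr : List (ℕ × ℕ × ℕ) := [(0, 0, 0)]
def cn : List (ℕ × ℕ × ℕ) := []
noncomputable def rT : Tr := rT0
noncomputable def gT : Tr := gT0
noncomputable def rC (i : ℕ) : ℕ := rT.get (nat_lit 0) i
noncomputable def gC (i : ℕ) : ℕ := gT.get (nat_lit 0) i
noncomputable def row (p : ℕ) : ℕ := rec2 rC (nat_lit 10) (nat_lit 1023) (nat_lit 4) (nat_lit 15) p
noncomputable def gf (p : ℕ) : ℕ := rec2 gC (nat_lit 10) (nat_lit 1023) (nat_lit 4) (nat_lit 15) p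
noncomputable def gw (c : ℕ) : List ℕ := nth [] Wr c
noncomputable def wn (c : ℕ) : ℕ := pack (nat_lit 1) (nth [] Wn c) (nat_lit 0)
noncomputable def C : Cert :=
  { n := (nat_lit 2), na := (nat_lit 0), M := (nat_lit 0), nc := (nat_lit 1), W := (nat_lit 1), EB := (nat_lit 2),
    LB := (nat_lit 1), nreg := (nat_lit 1), ivT := (nat_lit 2), base := (nat_lit 0),
    row := row, gf := gf, gw := gw, wn := wn }
theorem masks : Masks C (nat_lit 1) (nat_lit 3) (nat_lit 1) (nat_lit 3) (nat_lit 7) :=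
  ⟨by decide +kernel, by decide +kernel, by decide +kernel, by decide +kernel, by decide +kernel⟩
noncomputable def rchk : ℕ → ℕ → ℕ → Bool :=
  rowChk row gf gw (nat_lit 2) (nat_lit 0) (nat_lit 1) (nat_lit 1) (nat_lit 1) (nat_lit 2) (nat_lit 3) (nat_lit 1) (nat_lit 1) (nat_lit 3) (nat_lit 7) (nat_lit 1) (nat_lit 2) (nat_lit 1) (nat_lit 1) (nat_lit 5) (nat_lit 31)
noncomputable def fchk : ℕ → ℕ → ℕ → Bool :=
  auxRun row gf wn (nat_lit 2) (nat_lit 0) (nat_lit 0) (nat_lit 1) (nat_lit 1) (nat_lit 1) (nat_lit 2) (nat_lit 3) (nat_lit 1) (nat_lit 1) (nat_lit 3) (nat_lit 2) (nat_lit 0) (nat_lit 1) (nat_lit 1)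
theorem rows_of {lo hi : ℕ} {t : JL} (h : t.run rchk (nat_lit 5) hi lo = true) : C.RowsOK lo hi :=
  rowsOK_of_run masks h
theorem facts_of {lo hi : ℕ} {t : JL} (h : t.run fchk (nat_lit 20) hi lo = true) : C.FactsOK lo hi :=
  factsOK_of_run masks h
theorem words_ok : wordsChk 2 1 1 1 1 2 0 R S Wr Wn cr cn = true := by
  decide +kernel
noncomputable def j0 : JL :=
(.cons (nat_lit 2) (nat_lit 1) (nat_lit 0)
.nil)
theorem t0 : C.RowsOK (nat_lit 0) (nat_lit 2) :=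
  rows_of (t := j0) (by decide +kernel)
theorem checked : Checked C R S :=
  ⟨⟨Wr, Wn, cr, cn, fun _ => rfl, fun _ => rfl, words_ok⟩, t0,
    fun _ _ h => absurd h (Nat.not_lt_zero _)⟩

/-- In any group whose elements `g 1, …, g 1` satisfy the relators `R`, a subgroup containing the words
of `S` has index at most 2 in the subgroup generated by these elements. -/
theorem idxLe {G : Type*} [Group G] {g : ℕ → G} (hg : Sat g R) {H : Subgroup G}
    (hS : ∀ s ∈ S, ev g s ∈ H) : IdxLe H (gen g 1) 2 :=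
  checked.idxLe hg hS

end Cfsg.Agent.H74.PresL34.L0

namespace Cfsg.Agent.H74.PresL34.L1
open Cfsg.Agent.H44

noncomputable def rT0 : Tr :=
 (.leaf (nat_lit 467776))
noncomputable def gT0 : Tr :=
 (.leaf (nat_lit 9228))
/-- The relators. -/
def R : List (List ℕ) := [[1, 1],
  [2, 2],
  [1, 2, 1, 2]]
/-- The subgroup generators. -/
def S : List (List ℕ) := [[1]]
def Wr : List (List ℕ) := [[2, 2],
  [1, 2, 1, 2]]
def Wn : List (List ℕ) := [[1, 3]]
def cr : List (ℕ × ℕ × ℕ) := [(0, 0, 0), (1, 2, 0)]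
def cn : List (ℕ × ℕ × ℕ) := [(1, 3, 0)]
noncomputable def rT : Tr := rT0
noncomputable def gT : Tr := gT0
noncomputable def rC (i : ℕ) : ℕ := rT.get (nat_lit 0) i
noncomputable def gC (i : ℕ) : ℕ := gT.get (nat_lit 0) i
noncomputable def row (p : ℕ) : ℕ := rec2 rC (nat_lit 8) (nat_lit 255) (nat_lit 12) (nat_lit 4095) p
noncomputable def gf (p : ℕ) : ℕ := rec2 gC (nat_lit 9) (nat_lit 511) (nat_lit 8) (nat_lit 255) p
noncomputable def gw (c : ℕ) : List ℕ := nth [] Wr c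
noncomputable def wn (c : ℕ) : ℕ := pack (nat_lit 3) (nth [] Wn c) (nat_lit 0)
noncomputable def C : Cert :=
  { n := (nat_lit 2), na := (nat_lit 0), M := (nat_lit 2), nc := (nat_lit 2), W := (nat_lit 1), EB := (nat_lit 4),
    LB := (nat_lit 3), nreg := (nat_lit 2), ivT := (nat_lit 14472), base := (nat_lit 8),
    row := row, gf := gf, gw := gw, wn := wn }
theorem masks : Masks C (nat_lit 1) (nat_lit 15) (nat_lit 7) (nat_lit 5) (nat_lit 31) :=
  ⟨by decide +kernel, by decide +kernel, by decide +kernel, by decide +kernel, by decide +kernel⟩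
noncomputable def rchk : ℕ → ℕ → ℕ → Bool :=
  rowChk row gf gw (nat_lit 2) (nat_lit 2) (nat_lit 2) (nat_lit 1) (nat_lit 1) (nat_lit 4) (nat_lit 15) (nat_lit 3) (nat_lit 7) (nat_lit 5) (nat_lit 31) (nat_lit 2) (nat_lit 14472) (nat_lit 1) (nat_lit 1) (nat_lit 6) (nat_lit 63)
noncomputable def fchk : ℕ → ℕ → ℕ → Bool :=
  auxRun row gf wn (nat_lit 2) (nat_lit 0) (nat_lit 2) (nat_lit 2) (nat_lit 1) (nat_lit 1) (nat_lit 4) (nat_lit 15) (nat_lit 3) (nat_lit 7) (nat_lit 5) (nat_lit 14472) (nat_lit 8) (nat_lit 3) (nat_lit 7)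
theorem rows_of {lo hi : ℕ} {t : JL} (h : t.run rchk (nat_lit 12) hi lo = true) : C.RowsOK lo hi :=
  rowsOK_of_run masks h
theorem facts_of {lo hi : ℕ} {t : JL} (h : t.run fchk (nat_lit 20) hi lo = true) : C.FactsOK lo hi :=
  factsOK_of_run masks h
theorem words_ok : wordsChk 2 2 1 3 2 14472 8 R S Wr Wn cr cn = true := by
  decide +kernel
noncomputable def j0 : JL :=
(.cons (nat_lit 2) (nat_lit 8259) (nat_lit 1)
.nil)
theorem t0 : C.RowsOK (nat_lit 0) (nat_lit 2) :=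
  rows_of (t := j0) (by decide +kernel)
noncomputable def j1 : JL :=
(.cons (nat_lit 2) (nat_lit 0x1800000) (nat_lit 0x2001001000000)
.nil)
theorem t1 : C.FactsOK (nat_lit 0) (nat_lit 2) :=
  facts_of (t := j1) (by decide +kernel)
theorem checked : Checked C R S :=
  ⟨⟨Wr, Wn, cr, cn, fun _ => rfl, fun _ => rfl, words_ok⟩, t0,
    t1⟩

/-- In any group whose elements `g 1, …, g 2` satisfy the relators `R`, a subgroup containing the words
of `S` has index at most 2 in the subgroup generated by these elements. -/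
theorem idxLe {G : Type*} [Group G] {g : ℕ → G} (hg : Sat g R) {H : Subgroup G}
    (hS : ∀ s ∈ S, ev g s ∈ H) : IdxLe H (gen g 2) 2 :=
  checked.idxLe hg hS

end Cfsg.Agent.H74.PresL34.L1

namespace Cfsg.Agent.H74.PresL34.L2
open Cfsg.Agent.H44

noncomputable def rT0 : Tr :=
 (.leaf (nat_lit 0x7733440))
noncomputable def gT0 : Tr :=
 (.leaf (nat_lit 0x28241810))
/-- The relators. -/
def R : List (List ℕ) := [[1, 1],
  [2, 2],
  [3, 3],
  [1, 2, 1, 2],
  [1, 3, 1, 3],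
  [2, 3, 2, 3]]
/-- The subgroup generators. -/
def S : List (List ℕ) := [[1],
  [2]]
def Wr : List (List ℕ) := [[3, 3],
  [1, 3, 1, 3],
  [2, 3, 2, 3]]
def Wn : List (List ℕ) := [[1, 4],
  [2, 6]]
def cr : List (ℕ × ℕ × ℕ) := [(0, 0, 0), (1, 4, 0), (1, 5, 0)]
def cn : List (ℕ × ℕ × ℕ) := [(1, 6, 0), (1, 7, 0)]
noncomputable def rT : Tr := rT0
noncomputable def gT : Tr := gT0
noncomputable def rC (i : ℕ) : ℕ := rT.get (nat_lit 0) i
noncomputable def gC (i : ℕ) : ℕ := gT.get (nat_lit 0) i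
noncomputable def row (p : ℕ) : ℕ := rec2 rC (nat_lit 8) (nat_lit 255) (nat_lit 16) (nat_lit 65535) p
noncomputable def gf (p : ℕ) : ℕ := rec2 gC (nat_lit 9) (nat_lit 511) (nat_lit 8) (nat_lit 255) p
noncomputable def gw (c : ℕ) : List ℕ := nth [] Wr c
noncomputable def wn (c : ℕ) : ℕ := pack (nat_lit 3) (nth [] Wn c) (nat_lit 0)
noncomputable def C : Cert :=
  { n := (nat_lit 2), na := (nat_lit 0), M := (nat_lit 4), nc := (nat_lit 3), W := (nat_lit 1), EB := (nat_lit 4),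
    LB := (nat_lit 3), nreg := (nat_lit 3), ivT := (nat_lit 0xde5688), base := (nat_lit 80),
    row := row, gf := gf, gw := gw, wn := wn }
theorem masks : Masks C (nat_lit 1) (nat_lit 15) (nat_lit 7) (nat_lit 5) (nat_lit 31) :=
  ⟨by decide +kernel, by decide +kernel, by decide +kernel, by decide +kernel, by decide +kernel⟩
noncomputable def rchk : ℕ → ℕ → ℕ → Bool :=
  rowChk row gf gw (nat_lit 2) (nat_lit 4) (nat_lit 3) (nat_lit 1) (nat_lit 1) (nat_lit 4) (nat_lit 15) (nat_lit 3) (nat_lit 7) (nat_lit 5) (nat_lit 31) (nat_lit 3) (nat_lit 0xde5688) (nat_lit 2) (nat_lit 3) (nat_lit 6) (nat_lit 63)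
noncomputable def fchk : ℕ → ℕ → ℕ → Bool :=
  auxRun row gf wn (nat_lit 2) (nat_lit 0) (nat_lit 4) (nat_lit 3) (nat_lit 1) (nat_lit 1) (nat_lit 4) (nat_lit 15) (nat_lit 3) (nat_lit 7) (nat_lit 5) (nat_lit 0xde5688) (nat_lit 80) (nat_lit 4) (nat_lit 15)
theorem rows_of {lo hi : ℕ} {t : JL} (h : t.run rchk (nat_lit 18) hi lo = true) : C.RowsOK lo hi :=
  rowsOK_of_run masks h
theorem facts_of {lo hi : ℕ} {t : JL} (h : t.run fchk (nat_lit 20) hi lo = true) : C.FactsOK lo hi :=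
  factsOK_of_run masks h
theorem words_ok : wordsChk 2 3 1 3 3 14571144 80 R S Wr Wn cr cn = true := by
  decide +kernel
noncomputable def j0 : JL :=
(.cons (nat_lit 2) (nat_lit 0x3081144) (nat_lit 14)
.nil)
theorem t0 : C.RowsOK (nat_lit 0) (nat_lit 2) :=
  rows_of (t := j0) (by decide +kernel)
noncomputable def j1 : JL :=
(.cons (nat_lit 4) (nat_lit 0x4c000300001800000) (nat_lit 0x50010023001001000000000000)
.nil)
theorem t1 : C.FactsOK (nat_lit 0) (nat_lit 4) :=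
  facts_of (t := j1) (by decide +kernel)
theorem checked : Checked C R S :=
  ⟨⟨Wr, Wn, cr, cn, fun _ => rfl, fun _ => rfl, words_ok⟩, t0,
    t1⟩

/-- In any group whose elements `g 1, …, g 3` satisfy the relators `R`, a subgroup containing the words
of `S` has index at most 2 in the subgroup generated by these elements. -/
theorem idxLe {G : Type*} [Group G] {g : ℕ → G} (hg : Sat g R) {H : Subgroup G}
    (hS : ∀ s ∈ S, ev g s ∈ H) : IdxLe H (gen g 3) 2 :=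
  checked.idxLe hg hS

end Cfsg.Agent.H74.PresL34.L2

namespace Cfsg.Agent.H74.PresL34.L3
open Cfsg.Agent.H44

noncomputable def rT0 : Tr :=
 (.leaf (nat_lit 0x739c8321080))
noncomputable def gT0 : Tr :=
 (.leaf (nat_lit 0x130481102407014))
/-- The relators. -/
def R : List (List ℕ) := [[1, 1],
  [2, 2],
  [3, 3],
  [4, 4],
  [1, 2, 1, 2],
  [1, 3, 1, 3],
  [2, 3, 2, 3],
  [1, 4, 1, 4],
  [2, 4, 2, 4],
  [3, 4, 3, 4]]
/-- The subgroup generators. -/
def S : List (List ℕ) := [[1],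
  [2],
  [3]]
def Wr : List (List ℕ) := [[4, 4],
  [1, 4, 1, 4],
  [2, 4, 2, 4],
  [3, 4, 3, 4]]
def Wn : List (List ℕ) := [[1, 5],
  [2, 7],
  [3, 9]]
def cr : List (ℕ × ℕ × ℕ) := [(0, 0, 0), (1, 7, 0), (1, 8, 0), (1, 9, 0)]
def cn : List (ℕ × ℕ × ℕ) := [(1, 10, 0), (1, 11, 0), (1, 12, 0)]
noncomputable def rT : Tr := rT0
noncomputable def gT : Tr := gT0
noncomputable def rC (i : ℕ) : ℕ := rT.get (nat_lit 0) i
noncomputable def gC (i : ℕ) : ℕ := gT.get (nat_lit 0) i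
noncomputable def row (p : ℕ) : ℕ := rec2 rC (nat_lit 7) (nat_lit 127) (nat_lit 25) (nat_lit 0x1ffffff) p
noncomputable def gf (p : ℕ) : ℕ := rec2 gC (nat_lit 9) (nat_lit 511) (nat_lit 10) (nat_lit 1023) p
noncomputable def gw (c : ℕ) : List ℕ := nth [] Wr c
noncomputable def wn (c : ℕ) : ℕ := pack (nat_lit 4) (nth [] Wn c) (nat_lit 0)
noncomputable def C : Cert :=
  { n := (nat_lit 2), na := (nat_lit 0), M := (nat_lit 6), nc := (nat_lit 4), W := (nat_lit 1), EB := (nat_lit 5),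
    LB := (nat_lit 4), nreg := (nat_lit 4), ivT := (nat_lit 0x9a785643210), base := (nat_lit 672),
    row := row, gf := gf, gw := gw, wn := wn }
theorem masks : Masks C (nat_lit 1) (nat_lit 31) (nat_lit 15) (nat_lit 6) (nat_lit 63) :=
  ⟨by decide +kernel, by decide +kernel, by decide +kernel, by decide +kernel, by decide +kernel⟩
noncomputable def rchk : ℕ → ℕ → ℕ → Bool :=
  rowChk row gf gw (nat_lit 2) (nat_lit 6) (nat_lit 4) (nat_lit 1) (nat_lit 1) (nat_lit 5) (nat_lit 31) (nat_lit 4) (nat_lit 15) (nat_lit 6) (nat_lit 63) (nat_lit 4) (nat_lit 0x9a785643210) (nat_lit 3) (nat_lit 7) (nat_lit 7) (nat_lit 127)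
noncomputable def fchk : ℕ → ℕ → ℕ → Bool :=
  auxRun row gf wn (nat_lit 2) (nat_lit 0) (nat_lit 6) (nat_lit 4) (nat_lit 1) (nat_lit 1) (nat_lit 5) (nat_lit 31) (nat_lit 4) (nat_lit 15) (nat_lit 6) (nat_lit 0x9a785643210) (nat_lit 672) (nat_lit 5) (nat_lit 31)
theorem rows_of {lo hi : ℕ} {t : JL} (h : t.run rchk (nat_lit 28) hi lo = true) : C.RowsOK lo hi :=
  rowsOK_of_run masks h
theorem facts_of {lo hi : ℕ} {t : JL} (h : t.run fchk (nat_lit 20) hi lo = true) : C.FactsOK lo hi :=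
  factsOK_of_run masks h
theorem words_ok : wordsChk 2 4 1 4 4 10615102124560 672 R S Wr Wn cr cn = true := by
  decide +kernel
noncomputable def j0 : JL :=
(.cons (nat_lit 2) (nat_lit 0x10182021c305) (nat_lit 355)
.nil)
theorem t0 : C.RowsOK (nat_lit 0) (nat_lit 2) :=
  rows_of (t := j0) (by decide +kernel)
noncomputable def j1 : JL :=
(.cons (nat_lit 6) (nat_lit 0x820006500048000300001800000) (nat_lit 0x2000400cc0020044001001000000000000000000)
.nil)
theorem t1 : C.FactsOK (nat_lit 0) (nat_lit 6) :=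
  facts_of (t := j1) (by decide +kernel)
theorem checked : Checked C R S :=
  ⟨⟨Wr, Wn, cr, cn, fun _ => rfl, fun _ => rfl, words_ok⟩, t0,
    t1⟩

/-- In any group whose elements `g 1, …, g 4` satisfy the relators `R`, a subgroup containing the words
of `S` has index at most 2 in the subgroup generated by these elements. -/
theorem idxLe {G : Type*} [Group G] {g : ℕ → G} (hg : Sat g R) {H : Subgroup G}
    (hS : ∀ s ∈ S, ev g s ∈ H) : IdxLe H (gen g 4) 2 :=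
  checked.idxLe hg hS

end Cfsg.Agent.H74.PresL34.L3

namespace Cfsg.Agent.H74.PresL34.L4
open Cfsg.Agent.H44

noncomputable def rT0 : Tr :=
 (.leaf (nat_lit 0x901639238600e45134d146148208200))
noncomputable def gT0 : Tr :=
 (.leaf (nat_lit 0x1401301201100d00b0090070))
/-- The relators. -/
def R : List (List ℕ) := [[1, 1],
  [2, 2],
  [3, 3],
  [4, 4],
  [5, 6],
  [1, 2, 1, 2],
  [1, 3, 1, 3],
  [2, 3, 2, 3],
  [1, 4, 1, 4],
  [2, 4, 2, 4],
  [3, 4, 3, 4],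
  [5, 5, 5],
  [6, 1, 5, 2],
  [5, 1, 6, 2, 1],
  [6, 3, 5, 4, 2],
  [3, 5, 3, 5, 3, 5]]
/-- The subgroup generators. -/
def S : List (List ℕ) := [[1],
  [2],
  [3],
  [4]]
def Wr : List (List ℕ) := [[5, 6],
  [6, 5],
  [1, 6, 2, 1, 5],
  [2, 6, 1, 5],
  [3, 6, 3, 6, 3, 6],
  [4, 2, 6, 3, 5],
  [1, 5, 2, 6],
  [2, 1, 5, 1, 6],
  [3, 5, 4, 2, 6],
  [6, 6, 6]]
def Wn : List (List ℕ) := [[1, 7],
  [2, 9],
  [3, 11],
  [4, 13]]
def cr : List (ℕ × ℕ × ℕ) := [(0, 0, 0), (0, 0, 0), (1, 13, 1), (1, 12, 3), (2, 15, 1), (1, 14, 3), (1, 12, 1), (1, 13, 3), (1, 14, 1), (2, 11, 0)]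
def cn : List (ℕ × ℕ × ℕ) := [(1, 16, 0), (1, 17, 0), (1, 18, 0), (1, 19, 0)]
noncomputable def rT : Tr := rT0
noncomputable def gT : Tr := gT0
noncomputable def rC (i : ℕ) : ℕ := rT.get (nat_lit 0) i
noncomputable def gC (i : ℕ) : ℕ := gT.get (nat_lit 0) i
noncomputable def row (p : ℕ) : ℕ := rec2 rC (nat_lit 7) (nat_lit 127) (nat_lit 42) (nat_lit 0x3ffffffffff) p
noncomputable def gf (p : ℕ) : ℕ := rec2 gC (nat_lit 8) (nat_lit 255) (nat_lit 12) (nat_lit 4095) p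
noncomputable def gw (c : ℕ) : List ℕ := nth [] Wr c
noncomputable def wn (c : ℕ) : ℕ := pack (nat_lit 4) (nth [] Wn c) (nat_lit 0)
noncomputable def C : Cert :=
  { n := (nat_lit 3), na := (nat_lit 0), M := (nat_lit 8), nc := (nat_lit 6), W := (nat_lit 2), EB := (nat_lit 6),
    LB := (nat_lit 4), nreg := (nat_lit 10), ivT := (nat_lit 0xdebc9a785643210), base := (nat_lit 10880),
    row := row, gf := gf, gw := gw, wn := wn }
theorem masks : Masks C (nat_lit 3) (nat_lit 63) (nat_lit 15) (nat_lit 8) (nat_lit 255) :=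
  ⟨by decide +kernel, by decide +kernel, by decide +kernel, by decide +kernel, by decide +kernel⟩
noncomputable def rchk : ℕ → ℕ → ℕ → Bool :=
  rowChk row gf gw (nat_lit 3) (nat_lit 8) (nat_lit 6) (nat_lit 2) (nat_lit 3) (nat_lit 6) (nat_lit 63) (nat_lit 4) (nat_lit 15) (nat_lit 8) (nat_lit 255) (nat_lit 10) (nat_lit 0xdebc9a785643210) (nat_lit 3) (nat_lit 7) (nat_lit 7) (nat_lit 127)
noncomputable def fchk : ℕ → ℕ → ℕ → Bool :=
  auxRun row gf wn (nat_lit 3) (nat_lit 0) (nat_lit 8) (nat_lit 6) (nat_lit 2) (nat_lit 3) (nat_lit 6) (nat_lit 63) (nat_lit 4) (nat_lit 15) (nat_lit 8) (nat_lit 0xdebc9a785643210) (nat_lit 10880) (nat_lit 5) (nat_lit 31)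
theorem rows_of {lo hi : ℕ} {t : JL} (h : t.run rchk (nat_lit 42) hi lo = true) : C.RowsOK lo hi :=
  rowsOK_of_run masks h
theorem facts_of {lo hi : ℕ} {t : JL} (h : t.run fchk (nat_lit 20) hi lo = true) : C.FactsOK lo hi :=
  factsOK_of_run masks h
theorem words_ok : wordsChk 3 6 2 4 10 1003117063354724880 10880 R S Wr Wn cr cn = true := by
  decide +kernel
noncomputable def j0 : JL :=
(.cons (nat_lit 3) (nat_lit 0x5000c244070004305080c1011c3460b) (nat_lit 4012)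
.nil)
theorem t0 : C.RowsOK (nat_lit 0) (nat_lit 3) :=
  rows_of (t := j0) (by decide +kernel)
noncomputable def j1 : JL :=
(.cons (nat_lit 8) (nat_lit 0xb70009a0007d0006000048000300001800000) (nat_lit 0x60008022800400d00020046001001000000000000000000000000)
.nil)
theorem t1 : C.FactsOK (nat_lit 0) (nat_lit 8) :=
  facts_of (t := j1) (by decide +kernel)
theorem checked : Checked C R S :=
  ⟨⟨Wr, Wn, cr, cn, fun _ => rfl, fun _ => rfl, words_ok⟩, t0,
    t1⟩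

/-- In any group whose elements `g 1, …, g 6` satisfy the relators `R`, a subgroup containing the words
of `S` has index at most 3 in the subgroup generated by these elements. -/
theorem idxLe {G : Type*} [Group G] {g : ℕ → G} (hg : Sat g R) {H : Subgroup G}
    (hS : ∀ s ∈ S, ev g s ∈ H) : IdxLe H (gen g 6) 3 :=
  checked.idxLe hg hS

end Cfsg.Agent.H74.PresL34.L4

namespace Cfsg.Agent.H74.PresL34.L5
open Cfsg.Agent.H44

noncomputable def rT0 : Tr :=
 (.leaf (nat_lit 0x216c73db364d534cd07624911a1497280742ce25ac482c9272a0a9018c1640055b50841d8a6b4a500df33b18f83c6f43c67390c900d064b50b11c665b5905140353845740640090f64dec5312c1b047544a4008e4394ee4c8467296a628027c9b0114446c8a33b972008d1110430cc921c5303440210c4221846005514c0321b82629c0119cee18c640c4251956d0c00142c6d1a8243388232ccb004861a4230bc2e3242d218011a0220b02b2902a0a428004210002709825090230880708460100401004010000))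
noncomputable def gT0 : Tr :=
 (.leaf (nat_lit 0x94000900008c0008800084000400003800030000280002000))
/-- The relators. -/
def R : List (List ℕ) := [[1, 1],
  [2, 2],
  [3, 3],
  [4, 4],
  [5, 6],
  [7, 7],
  [1, 2, 1, 2],
  [1, 3, 1, 3],
  [2, 3, 2, 3],
  [1, 4, 1, 4],
  [2, 4, 2, 4],
  [3, 4, 3, 4],
  [5, 5, 5],
  [6, 1, 5, 2],
  [5, 1, 6, 2, 1],
  [6, 3, 5, 4, 2],
  [3, 5, 3, 5, 3, 5],
  [4, 7, 4, 7, 4, 7],
  [5, 7, 5, 7, 5, 7],
  [1, 7, 1, 7, 1, 7, 1, 7],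
  [2, 7, 2, 7, 2, 7, 2, 7],
  [7, 5, 2, 3, 7, 5, 3, 2],
  [1, 5, 7, 1, 5, 7, 1, 5, 7]]
/-- The subgroup generators. -/
def S : List (List ℕ) := [[1],
  [2],
  [3],
  [4],
  [5],
  [6]]
def Wr : List (List ℕ) := [[6, 5],
  [7, 7],
  [1, 1],
  [2, 2],
  [3, 3],
  [4, 4],
  [5, 6],
  [4, 6, 3, 5, 2],
  [6, 1, 5, 2],
  [7, 1, 5, 7, 1, 5, 7, 1, 5],
  [7, 4, 7, 4, 7, 4],
  [2, 3, 7, 5, 3, 2, 7, 5],
  [3, 2, 7, 5, 2, 3, 7, 5],
  [6, 6, 6],
  [7, 6, 7, 6, 7, 6],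
  [1, 2, 1, 2],
  [1, 3, 1, 3],
  [6, 3, 6, 3, 6, 3],
  [1, 4, 1, 4],
  [6, 1, 2, 5, 1],
  [2, 6, 1, 5],
  [3, 4, 3, 4],
  [1, 7, 1, 7, 1, 7, 1, 7],
  [3, 7, 5, 3, 2, 7, 5, 2],
  [4, 7, 4, 7, 4, 7],
  [2, 4, 2, 4],
  [5, 4, 2, 6, 3],
  [7, 5, 3, 2, 7, 5, 2, 3],
  [1, 5, 2, 6],
  [3, 2, 3, 2],
  [1, 5, 7, 1, 5, 7, 1, 5, 7],
  [2, 7, 2, 7, 2, 7, 2, 7],
  [3, 5, 4, 2, 6],
  [5, 7, 5, 7, 5, 7],
  [1, 6, 2, 1, 5],
  [3, 5, 3, 5, 3, 5],
  [4, 2, 6, 3, 5],
  [5, 5, 5],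
  [7, 5, 7, 5, 7, 5],
  [2, 1, 2, 1],
  [3, 1, 3, 1],
  [4, 1, 4, 1],
  [6, 2, 1, 5, 1],
  [4, 2, 4, 2],
  [5, 1, 6, 1, 2],
  [7, 2, 7, 2, 7, 2, 7, 2],
  [3, 2, 6, 7, 2, 3, 6, 7],
  [6, 7, 6, 7, 6, 7]]
def Wn : List (List ℕ) := [[1, 8],
  [2, 10],
  [3, 12],
  [4, 14],
  [5, 16]]
def cr : List (ℕ × ℕ × ℕ) := [(0, 0, 0), (0, 0, 0), (0, 0, 0), (0, 0, 0), (0, 0, 0), (0, 0, 0), (0, 0, 0), (2, 15, 1), (1, 13, 0), (1, 22, 2), (1, 17, 1), (1, 21, 2), (1, 21, 6), (2, 12, 0), (2, 18, 0), (1, 6, 0), (1, 7, 0), (2, 16, 0), (1, 9, 0), (2, 14, 4), (1, 13, 3), (1, 11, 0), (1, 19, 0), (1, 21, 3), (1, 17, 0), (1, 10, 0), (1, 15, 2), (1, 21, 4), (1, 13, 1), (1, 8, 1), (1, 22, 0), (1, 20, 0), (1, 15, 1), (1, 18, 0), (1, 14, 1), (1, 16, 0), (1, 15, 3), (1, 12, 0), (1, 18, 1), (1, 6, 1), (1, 7, 1), (1, 9, 1), (1, 14, 2), (1, 10, 1), (2, 14, 2), (1, 20, 1), (2, 21, 4), (2, 18, 1)]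
def cn : List (ℕ × ℕ × ℕ) := [(1, 23, 0), (1, 24, 0), (1, 25, 0), (1, 26, 0), (1, 27, 0)]
noncomputable def rT : Tr := rT0
noncomputable def gT : Tr := gT0
noncomputable def rC (i : ℕ) : ℕ := rT.get (nat_lit 0) i
noncomputable def gC (i : ℕ) : ℕ := gT.get (nat_lit 0) i
noncomputable def row (p : ℕ) : ℕ := rec2 rC (nat_lit 6) (nat_lit 63) (nat_lit 80) (nat_lit 0xffffffffffffffffffff) p
noncomputable def gf (p : ℕ) : ℕ := rec2 gC (nat_lit 8) (nat_lit 255) (nat_lit 20) (nat_lit 0xfffff) p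
noncomputable def gw (c : ℕ) : List ℕ := nth [] Wr c
noncomputable def wn (c : ℕ) : ℕ := pack (nat_lit 5) (nth [] Wn c) (nat_lit 0)
noncomputable def C : Cert :=
  { n := (nat_lit 20), na := (nat_lit 0), M := (nat_lit 10), nc := (nat_lit 7), W := (nat_lit 5), EB := (nat_lit 10),
    LB := (nat_lit 5), nreg := (nat_lit 48), ivT := (nat_lit 0x94e1173d8d52d09394c418820), base := (nat_lit 349440),
    row := row, gf := gf, gw := gw, wn := wn }
theorem masks : Masks C (nat_lit 31) (nat_lit 1023) (nat_lit 31) (nat_lit 15) (nat_lit 32767) :=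
  ⟨by decide +kernel, by decide +kernel, by decide +kernel, by decide +kernel, by decide +kernel⟩
noncomputable def rchk : ℕ → ℕ → ℕ → Bool :=
  rowChk row gf gw (nat_lit 20) (nat_lit 10) (nat_lit 7) (nat_lit 5) (nat_lit 31) (nat_lit 10) (nat_lit 1023) (nat_lit 5) (nat_lit 31) (nat_lit 15) (nat_lit 32767) (nat_lit 48) (nat_lit 0x94e1173d8d52d09394c418820) (nat_lit 4) (nat_lit 15) (nat_lit 8) (nat_lit 255)
noncomputable def fchk : ℕ → ℕ → ℕ → Bool :=
  auxRun row gf wn (nat_lit 20) (nat_lit 0) (nat_lit 10) (nat_lit 7) (nat_lit 5) (nat_lit 31) (nat_lit 10) (nat_lit 1023) (nat_lit 5) (nat_lit 31) (nat_lit 15) (nat_lit 0x94e1173d8d52d09394c418820) (nat_lit 349440) (nat_lit 5) (nat_lit 31)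
theorem rows_of {lo hi : ℕ} {t : JL} (h : t.run rchk (nat_lit 56) hi lo = true) : C.RowsOK lo hi :=
  rowsOK_of_run masks h
theorem facts_of {lo hi : ℕ} {t : JL} (h : t.run fchk (nat_lit 20) hi lo = true) : C.FactsOK lo hi :=
  factsOK_of_run masks h
theorem words_ok : wordsChk 20 7 5 5 48 737214392205380596374588983328 349440 R S Wr Wn cr cn = true := by
  decide +kernel
noncomputable def j0 : JL :=
(.cons (nat_lit 16) (nat_lit 0x1221921201f020e00061e041d1c011b00051a03000107191815170b0e00061615030a14070005041302120706000411020107060500100f0e0006050403020007080d0c030b0107000504030a09070800040302010706050003020107060504000001070605040302013534333231) (nat_lit 624485)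
(.cons (nat_lit 4) (nat_lit 0x3022192f20172e092d2c1e0010022b072a29280027002625241523) (nat_lit 0)
.nil))
theorem t0 : C.RowsOK (nat_lit 0) (nat_lit 20) :=
  rows_of (t := j0) (by decide +kernel)
noncomputable def j1 : JL :=
(.cons (nat_lit 10) (nat_lit 0xec000cf000b200095000780006000048000300001800000) (nat_lit 0xf00100568008022c00400d20020047001001000000000000000000000000000000)
.nil)
theorem t1 : C.FactsOK (nat_lit 0) (nat_lit 10) :=
  facts_of (t := j1) (by decide +kernel)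
theorem checked : Checked C R S :=
  ⟨⟨Wr, Wn, cr, cn, fun _ => rfl, fun _ => rfl, words_ok⟩, t0,
    t1⟩

/-- In any group whose elements `g 1, …, g 7` satisfy the relators `R`, a subgroup containing the words
of `S` has index at most 20 in the subgroup generated by these elements. -/
theorem idxLe {G : Type*} [Group G] {g : ℕ → G} (hg : Sat g R) {H : Subgroup G}
    (hS : ∀ s ∈ S, ev g s ∈ H) : IdxLe H (gen g 7) 20 :=
  checked.idxLe hg hS

end Cfsg.Agent.H74.PresL34.L5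

namespace Cfsg.Agent.H74.PresL34.L6
open Cfsg.Agent.H44

noncomputable def rT0 : Tr :=
 (.leaf (nat_lit 0x130025ad84254751945d127429ca2486962a6b021ac409716b0492cd683a4ea01ce164a3101a0e525488ae4e31554012344b590ac09054087539254280451dae5b0482192f5ba317980463c469c484a3403541d4a358d5b48d19d4c648e500d254998f74c6628e6b82deb00e9394446191337cce44bdb300d12114633a03424c725c51200c441890931c47009925c4331bc46390e8008684bca42943211486219ce0c4025306e1ac442150f30d0c4300231c6a10cc70c02f4282e31c021a44232c2d0b0e50ac2a0a402104620042809c260942408c27000222848118461184610202110060100401004010000))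
noncomputable def gT0 : Tr :=
 (.leaf (nat_lit 0x9c00094000900008c000880008400054000440003c000340002c0002400))
/-- The relators. -/
def R : List (List ℕ) := [[1, 1],
  [2, 2],
  [3, 3],
  [4, 4],
  [5, 6],
  [7, 7],
  [8, 8],
  [1, 2, 1, 2],
  [1, 3, 1, 3],
  [2, 3, 2, 3],
  [1, 4, 1, 4],
  [2, 4, 2, 4],
  [3, 4, 3, 4],
  [5, 5, 5],
  [6, 1, 5, 2],
  [5, 1, 6, 2, 1],
  [6, 3, 5, 4, 2],
  [3, 5, 3, 5, 3, 5],
  [4, 7, 4, 7, 4, 7],
  [5, 7, 5, 7, 5, 7],
  [1, 7, 1, 7, 1, 7, 1, 7],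
  [2, 7, 2, 7, 2, 7, 2, 7],
  [7, 5, 2, 3, 7, 5, 3, 2],
  [1, 5, 7, 1, 5, 7, 1, 5, 7],
  [3, 8, 3, 8],
  [4, 8, 4, 8],
  [8, 1, 8, 4, 1],
  [8, 2, 8, 3, 2],
  [2, 5, 8, 2, 5, 8],
  [7, 8, 7, 8, 7, 8]]
/-- The subgroup generators. -/
def S : List (List ℕ) := [[1],
  [2],
  [3],
  [4],
  [5],
  [6],
  [7]]
def Wr : List (List ℕ) := [[6, 5],
  [8, 8],
  [1, 8, 4, 1, 8],
  [2, 8, 3, 2, 8],
  [3, 8, 3, 8],
  [4, 8, 4, 8],
  [5, 8, 2, 5, 8, 2],
  [7, 7],
  [1, 1],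
  [2, 2],
  [3, 3],
  [4, 4],
  [5, 6],
  [8, 7, 8, 7, 8, 7],
  [8, 2, 8, 3, 2],
  [4, 6, 3, 5, 2],
  [6, 1, 5, 2],
  [7, 1, 5, 7, 1, 5, 7, 1, 5],
  [8, 3, 8, 3],
  [6, 7, 2, 3, 6, 7, 3, 2],
  [7, 4, 7, 4, 7, 4],
  [8, 4, 8, 4],
  [2, 3, 7, 5, 3, 2, 7, 5],
  [3, 2, 7, 5, 2, 3, 7, 5],
  [6, 6, 6],
  [7, 6, 7, 6, 7, 6],
  [1, 2, 1, 2],
  [8, 6, 2, 8, 6, 2],
  [1, 3, 1, 3],
  [6, 3, 6, 3, 6, 3],
  [1, 4, 1, 4],
  [5, 1, 6, 2, 1],
  [8, 4, 1, 8, 1],
  [3, 4, 3, 4],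
  [1, 7, 1, 7, 1, 7, 1, 7],
  [2, 6, 1, 5],
  [3, 7, 5, 3, 2, 7, 5, 2],
  [4, 7, 4, 7, 4, 7],
  [2, 4, 2, 4],
  [3, 2, 3, 2],
  [7, 8, 7, 8, 7, 8],
  [8, 1, 8, 1, 4],
  [1, 5, 2, 6],
  [2, 8, 6, 2, 8, 6],
  [1, 5, 7, 1, 5, 7, 1, 5, 7],
  [2, 7, 2, 7, 2, 7, 2, 7],
  [3, 5, 4, 2, 6],
  [5, 7, 5, 7, 5, 7],
  [1, 6, 2, 1, 5],
  [3, 5, 3, 5, 3, 5],
  [4, 2, 6, 3, 5],
  [5, 5, 5],
  [7, 5, 7, 5, 7, 5],
  [2, 1, 2, 1],
  [3, 1, 3, 1],
  [4, 1, 4, 1],
  [6, 2, 1, 5, 1],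
  [4, 2, 4, 2],
  [5, 1, 6, 1, 2],
  [7, 2, 7, 2, 7, 2, 7, 2],
  [8, 3, 2, 8, 2],
  [3, 2, 6, 7, 2, 3, 6, 7],
  [6, 7, 6, 7, 6, 7]]
def Wn : List (List ℕ) := [[1, 9],
  [2, 11],
  [3, 13],
  [4, 15],
  [5, 17],
  [7, 21]]
def cr : List (ℕ × ℕ × ℕ) := [(0, 0, 0), (0, 0, 0), (1, 26, 1), (1, 27, 1), (1, 24, 0), (1, 25, 0), (1, 28, 1), (0, 0, 0), (0, 0, 0), (0, 0, 0), (0, 0, 0), (0, 0, 0), (0, 0, 0), (1, 29, 1), (1, 27, 0), (2, 16, 1), (1, 14, 0), (1, 23, 2), (1, 24, 1), (2, 22, 6), (1, 18, 1), (1, 25, 1), (1, 22, 2), (1, 22, 6), (2, 13, 0), (2, 19, 0), (1, 7, 0), (2, 28, 0), (1, 8, 0), (2, 17, 0), (1, 10, 0), (1, 15, 0), (1, 26, 2), (1, 12, 0), (1, 20, 0), (1, 14, 3), (1, 22, 3), (1, 18, 0), (1, 11, 0), (1, 9, 1), (1, 29, 0), (2, 26, 2), (1, 14, 1), (2, 28, 2), (1, 23, 0), (1, 21, 0), (1, 16, 1), (1, 19, 0), (1, 15, 1), (1, 17, 0), (1, 16, 3), (1, 13, 0), (1, 19, 1), (1, 7, 1), (1, 8, 1), (1, 10, 1), (1, 15,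 2), (1, 11, 1), (2, 15, 2), (1, 21, 1), (1, 27, 2), (2, 22, 4), (2, 19, 1)]
def cn : List (ℕ × ℕ × ℕ) := [(1, 30, 0), (1, 31, 0), (1, 32, 0), (1, 33, 0), (1, 34, 0), (1, 36, 0)]
noncomputable def rT : Tr := rT0
noncomputable def gT : Tr := gT0
noncomputable def rC (i : ℕ) : ℕ := rT.get (nat_lit 0) i
noncomputable def gC (i : ℕ) : ℕ := gT.get (nat_lit 0) i
noncomputable def row (p : ℕ) : ℕ := rec2 rC (nat_lit 6) (nat_lit 63) (nat_lit 90) (nat_lit 0x3ffffffffffffffffffffff) p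
noncomputable def gf (p : ℕ) : ℕ := rec2 gC (nat_lit 8) (nat_lit 255) (nat_lit 20) (nat_lit 0xfffff) p
noncomputable def gw (c : ℕ) : List ℕ := nth [] Wr c
noncomputable def wn (c : ℕ) : ℕ := pack (nat_lit 5) (nth [] Wn c) (nat_lit 0)
noncomputable def C : Cert :=
  { n := (nat_lit 21), na := (nat_lit 0), M := (nat_lit 12), nc := (nat_lit 8), W := (nat_lit 5), EB := (nat_lit 10),
    LB := (nat_lit 5), nreg := (nat_lit 63), ivT := (nat_lit 0x56d3a464f835cb62548394c418820), base := (nat_lit 0x2aaa00),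
    row := row, gf := gf, gw := gw, wn := wn }
theorem masks : Masks C (nat_lit 31) (nat_lit 1023) (nat_lit 31) (nat_lit 15) (nat_lit 32767) :=
  ⟨by decide +kernel, by decide +kernel, by decide +kernel, by decide +kernel, by decide +kernel⟩
noncomputable def rchk : ℕ → ℕ → ℕ → Bool :=
  rowChk row gf gw (nat_lit 21) (nat_lit 12) (nat_lit 8) (nat_lit 5) (nat_lit 31) (nat_lit 10) (nat_lit 1023) (nat_lit 5) (nat_lit 31) (nat_lit 15) (nat_lit 32767) (nat_lit 63) (nat_lit 0x56d3a464f835cb62548394c418820) (nat_lit 4) (nat_lit 15) (nat_lit 8) (nat_lit 255)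
noncomputable def fchk : ℕ → ℕ → ℕ → Bool :=
  auxRun row gf wn (nat_lit 21) (nat_lit 0) (nat_lit 12) (nat_lit 8) (nat_lit 5) (nat_lit 31) (nat_lit 10) (nat_lit 1023) (nat_lit 5) (nat_lit 31) (nat_lit 15) (nat_lit 0x56d3a464f835cb62548394c418820) (nat_lit 0x2aaa00) (nat_lit 6) (nat_lit 63)
theorem rows_of {lo hi : ℕ} {t : JL} (h : t.run rchk (nat_lit 64) hi lo = true) : C.RowsOK lo hi :=
  rowsOK_of_run masks h
theorem facts_of {lo hi : ℕ} {t : JL} (h : t.run fchk (nat_lit 20) hi lo = true) : C.FactsOK lo hi :=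
  factsOK_of_run masks h
theorem words_ok : wordsChk 21 8 5 5 63 28176883932974165028840477894477856 2796032 R S Wr Wn cr cn = true := by
  decide +kernel
noncomputable def j0 : JL :=
(.cons (nat_lit 16) (nat_lit 0x20819000c0b2c2b2a29010d002827090e00010d26252423161519000c220a0921120120000b0a1f02081e0d0c000a1d1c08010d0c0b001b021a19000c0b0a090208000d101817091615140d000b0a091312110d10000a090f08010d0c0b00090208010d0c0b0a000e00010d0c0b0a0900080107060504030245014443424140) (nat_lit 0xba9876)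
(.cons (nat_lit 5) (nat_lit 0xe003f30263e2e233d3c113b3a28001b2108390d38373600023500343332243102000130262f2e2d) (nat_lit 0)
.nil))
theorem t0 : C.RowsOK (nat_lit 0) (nat_lit 21) :=
  rows_of (t := j0) (by decide +kernel)
noncomputable def j1 : JL :=
(.cons (nat_lit 12) (nat_lit 0x12600108000ea000cc000ae00090000780006000048000300001800000) (nat_lit 0x48004019000100538004010c001003280040088001001000000000000000000000000000000000000)
.nil)
theorem t1 : C.FactsOK (nat_lit 0) (nat_lit 12) :=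
  facts_of (t := j1) (by decide +kernel)
theorem checked : Checked C R S :=
  ⟨⟨Wr, Wn, cr, cn, fun _ => rfl, fun _ => rfl, words_ok⟩, t0,
    t1⟩

/-- In any group whose elements `g 1, …, g 8` satisfy the relators `R`, a subgroup containing the words
of `S` has index at most 21 in the subgroup generated by these elements. -/
theorem idxLe {G : Type*} [Group G] {g : ℕ → G} (hg : Sat g R) {H : Subgroup G}
    (hS : ∀ s ∈ S, ev g s ∈ H) : IdxLe H (gen g 8) 21 :=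
  checked.idxLe hg hS

end Cfsg.Agent.H74.PresL34.L6

namespace Cfsg.Agent.H74.PresL34
open Cfsg.Agent.H44

def R : List (List ℕ) := [[1, 1], [2, 2], [3, 3], [4, 4], [5, 6], [7, 7], [8, 8], [1, 2, 1, 2], [1, 3, 1, 3], [2, 3, 2, 3], [1, 4, 1, 4], [2, 4, 2, 4], [3, 4, 3, 4], [5, 5, 5], [6, 1, 5, 2], [5, 1, 6, 2, 1], [6, 3, 5, 4, 2], [3, 5, 3, 5, 3, 5], [4, 7, 4, 7, 4, 7], [5, 7, 5, 7, 5, 7], [1, 7, 1, 7, 1, 7, 1, 7], [2, 7, 2, 7, 2, 7, 2, 7], [7, 5, 2, 3, 7, 5, 3, 2], [1, 5, 7, 1, 5, 7, 1, 5, 7], [3, 8, 3, 8], [4, 8, 4, 8], [8, 1, 8, 4, 1], [8, 2, 8, 3, 2], [2, 5, 8, 2, 5, 8], [7, 8, 7, 8, 7, 8]]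

theorem card0 {G : Type*} [Group G] {g : ℕ → G} (hg : Sat g R) :
    Finite (wgen g [[1]]) ∧ Nat.card (wgen g [[1]]) ≤ 2 :=
  (L0.checked.step hg [0, 1] (S₁ := []) (by decide +kernel) (by decide +kernel)
    (by decide +kernel)).wcard (n := 2) (m := 1) (by decide) (wcard_nil g)

theorem card1 {G : Type*} [Group G] {g : ℕ → G} (hg : Sat g R) :
    Finite (wgen g [[1], [2]]) ∧ Nat.card (wgen g [[1], [2]]) ≤ 4 :=
  (L1.checked.step hg [0, 1, 2] (S₁ := [[1]]) (by decide +kernel) (by decide +kernel)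
    (by decide +kernel)).wcard (n := 2) (m := 2) (by decide) (card0 hg)

theorem card2 {G : Type*} [Group G] {g : ℕ → G} (hg : Sat g R) :
    Finite (wgen g [[1], [2], [3]]) ∧ Nat.card (wgen g [[1], [2], [3]]) ≤ 8 :=
  (L2.checked.step hg [0, 1, 2, 3] (S₁ := [[1], [2]]) (by decide +kernel) (by decide +kernel)
    (by decide +kernel)).wcard (n := 2) (m := 4) (by decide) (card1 hg)

theorem card3 {G : Type*} [Group G] {g : ℕ → G} (hg : Sat g R) :
    Finite (wgen g [[1], [2], [3], [4]]) ∧ Nat.card (wgen g [[1], [2], [3], [4]]) ≤ 16 :=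
  (L3.checked.step hg [0, 1, 2, 3, 4] (S₁ := [[1], [2], [3]]) (by decide +kernel) (by decide +kernel)
    (by decide +kernel)).wcard (n := 2) (m := 8) (by decide) (card2 hg)

theorem card4 {G : Type*} [Group G] {g : ℕ → G} (hg : Sat g R) :
    Finite (wgen g [[1], [2], [3], [4], [5], [6]]) ∧ Nat.card (wgen g [[1], [2], [3], [4], [5], [6]]) ≤ 48 :=
  (L4.checked.step hg [0, 1, 2, 3, 4, 5, 6] (S₁ := [[1], [2], [3], [4]]) (by decide +kernel) (by decide +kernel)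
    (by decide +kernel)).wcard (n := 3) (m := 16) (by decide) (card3 hg)

theorem card5 {G : Type*} [Group G] {g : ℕ → G} (hg : Sat g R) :
    Finite (wgen g [[1], [2], [3], [4], [5], [6], [7]]) ∧ Nat.card (wgen g [[1], [2], [3], [4], [5], [6], [7]]) ≤ 960 :=
  (L5.checked.step hg [0, 1, 2, 3, 4, 5, 6, 7] (S₁ := [[1], [2], [3], [4], [5], [6]]) (by decide +kernel) (by decide +kernel)
    (by decide +kernel)).wcard (n := 20) (m := 48) (by decide) (card4 hg)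

theorem card6 {G : Type*} [Group G] {g : ℕ → G} (hg : Sat g R) :
    Finite (wgen g [[1], [2], [3], [4], [5], [6], [7], [8]]) ∧ Nat.card (wgen g [[1], [2], [3], [4], [5], [6], [7], [8]]) ≤ 20160 :=
  (L6.checked.step hg [0, 1, 2, 3, 4, 5, 6, 7, 8] (S₁ := [[1], [2], [3], [4], [5], [6], [7]]) (by decide +kernel) (by decide +kernel)
    (by decide +kernel)).wcard (n := 21) (m := 960) (by decide) (card5 hg)

theorem card_le {G : Type*} [Group G] {g : ℕ → G} (hg : Sat g R) :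
    Finite (wgen g [[1], [2], [3], [4], [5], [6], [7], [8]]) ∧ Nat.card (wgen g [[1], [2], [3], [4], [5], [6], [7], [8]]) ≤ 20160 := card6 hg

end Cfsg.Agent.H74.PresL34
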