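import Mathlib
import Cfsg.Agent.H43.Cent
import Cfsg.Agent.H74.NetProj
import Cfsg.Agent.H74.PresL34
import Cfsg.Agent.H61.L34Rec
import Cfsg.Agent.H28.Act
import Cfsg.Agent.H74.NetPc

set_option autoImplicit false
set_option maxRecDepth 1000000
set_option Elab.async false
set_option linter.style.longLine false

namespace Cfsg.Agent.H74.ML34

open Cfsg.Agent.H43 Cfsg.Agent.H46 

theorem m_hn : NOk 21 := by decide

theorem m_hk : 21 ≤ 2 ^ 5 := by decide

noncomputable def m_g1 : Net := (Net.cons (nat_lit 1) (nat_lit 278800) (Net.cons (nat_lit 2) (nat_lit 143648) (Net.cons (nat_lit 4) (nat_lit 65794) (Net.cons (nat_lit 8) (nat_lit 9) (Net.cons (nat_lit 16) (nat_lit 11) (Net.cons (nat_lit 8) (nat_lit 25) (Net.cons (nat_lit 4) (nat_lit 66314) (Net.cons (nat_lit 2) (nat_lit 143648) (Net.cons (nat_lit 1) (nat_lit 282897) Net.nil)))))))))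

theorem m_g1_ok : Net.ok 21 m_g1 = true := by decide +kernel

noncomputable def m_g2 : Net := (Net.cons (nat_lit 1) (nat_lit 263168) (Net.cons (nat_lit 2) (nat_lit 69648) (Net.cons (nat_lit 4) (nat_lit 2570) (Net.cons (nat_lit 8) (nat_lit 225) (Net.cons (nat_lit 16) (nat_lit 27) (Net.cons (nat_lit 8) (nat_lit 5) (Net.cons (nat_lit 4) (nat_lit 3598) (Net.cons (nat_lit 2) (nat_lit 69648) (Net.cons (nat_lit 1) (nat_lit 263168) Net.nil)))))))))

theorem m_g2_ok : Net.ok 21 m_g2 = true := by decide +kernel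

noncomputable def m_g3 : Net := (Net.cons (nat_lit 1) (nat_lit 4) (Net.cons (nat_lit 2) (nat_lit 65808) (Net.cons (nat_lit 4) (nat_lit 1034) (Net.cons (nat_lit 8) (nat_lit 31) (Net.cons (nat_lit 16) (nat_lit 31) (Net.cons (nat_lit 8) (nat_lit 5) (Net.cons (nat_lit 4) (nat_lit 66574) (Net.cons (nat_lit 2) (nat_lit 65552) (Net.cons (nat_lit 1) (nat_lit 279616) Net.nil)))))))))

theorem m_g3_ok : Net.ok 21 m_g3 = true := by decide +kernel

noncomputable def m_g4 : Net := (Net.cons (nat_lit 1) (nat_lit 65792) (Net.cons (nat_lit 4) (nat_lit 512) (Net.cons (nat_lit 8) (nat_lit 34) (Net.cons (nat_lit 16) (nat_lit 2) (Net.cons (nat_lit 8) (nat_lit 2) (Net.cons (nat_lit 4) (nat_lit 66304) (Net.cons (nat_lit 1) (nat_lit 345408) Net.nil)))))))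

theorem m_g4_ok : Net.ok 21 m_g4 = true := by decide +kernel

noncomputable def m_g5 : Net := (Net.cons (nat_lit 1) (nat_lit 279616) (Net.cons (nat_lit 2) (nat_lit 65792) (Net.cons (nat_lit 4) (nat_lit 1024) (Net.cons (nat_lit 8) (nat_lit 68) (Net.cons (nat_lit 16) (nat_lit 4) (Net.cons (nat_lit 8) (nat_lit 4) (Net.cons (nat_lit 4) (nat_lit 66816) (Net.cons (nat_lit 2) (nat_lit 205600) (Net.cons (nat_lit 1) (nat_lit 279616) Net.nil)))))))))

theorem m_g5_ok : Net.ok 21 m_g5 = true := by decide +kernel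

noncomputable def m_g6 : Net := (Net.cons (nat_lit 1) (nat_lit 279616) (Net.cons (nat_lit 2) (nat_lit 4096) (Net.cons (nat_lit 4) (nat_lit 2560) (Net.cons (nat_lit 8) (nat_lit 250) (Net.cons (nat_lit 16) (nat_lit 26) (Net.cons (nat_lit 8) (nat_lit 26) (Net.cons (nat_lit 4) (nat_lit 2560) (Net.cons (nat_lit 2) (nat_lit 209696) (Net.cons (nat_lit 1) (nat_lit 279616) Net.nil)))))))))

theorem m_g6_ok : Net.ok 21 m_g6 = true := by decide +kernel

noncomputable def m_g7 : Net := (Net.cons (nat_lit 1) (nat_lit 16) (Net.cons (nat_lit 4) (nat_lit 12) (Net.cons (nat_lit 8) (nat_lit 3) (Net.cons (nat_lit 16) (nat_lit 31) (Net.cons (nat_lit 8) (nat_lit 3) (Net.cons (nat_lit 4) (nat_lit 3084) (Net.cons (nat_lit 1) (nat_lit 349520) Net.nil)))))))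

theorem m_g7_ok : Net.ok 21 m_g7 = true := by decide +kernel

noncomputable def p_E : List Net := [m_g1, m_g2, m_g3, m_g4, m_g5, m_g6, m_g7]

theorem p_E_ok : okE 21 p_E = true := (okE_cons.2 ⟨m_g1_ok, (okE_cons.2 ⟨m_g2_ok, (okE_cons.2 ⟨m_g3_ok, (okE_cons.2 ⟨m_g4_ok, (okE_cons.2 ⟨m_g5_ok, (okE_cons.2 ⟨m_g6_ok, (okE_cons.2 ⟨m_g7_ok, (okE_nil 21)⟩)⟩)⟩)⟩)⟩)⟩)⟩)

def p_code : List ℕ := [0, 6, 8, 10, 12, 4, 5, 2, 0]

noncomputable def m_g8 : Net := (Net.cons (nat_lit 8) (nat_lit 255) (Net.cons (nat_lit 16) (nat_lit 31) (Net.cons (nat_lit 8) (nat_lit 31) Net.nil)))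

theorem m_g8_ok : Net.ok 21 m_g8 = true := by decide +kernel

noncomputable def m_g9 : Net := (Net.cons (nat_lit 1) (nat_lit 5392) (Net.cons (nat_lit 2) (nat_lit 139264) (Net.cons (nat_lit 4) (nat_lit 67328) (Net.cons (nat_lit 8) (nat_lit 199) (Net.cons (nat_lit 16) (nat_lit 7) (Net.cons (nat_lit 8) (nat_lit 23) (Net.cons (nat_lit 4) (nat_lit 1794) (Net.cons (nat_lit 2) (nat_lit 140048) (Net.cons (nat_lit 1) (nat_lit 86356) Net.nil)))))))))

theorem m_g9_ok : Net.ok 21 m_g9 = true := by decide +kernel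

noncomputable def m_g10 : Net := (Net.cons (nat_lit 1) (nat_lit 4369) (Net.cons (nat_lit 2) (nat_lit 8752) (Net.cons (nat_lit 4) (nat_lit 6) (Net.cons (nat_lit 8) (nat_lit 9) (Net.cons (nat_lit 16) (nat_lit 31) (Net.cons (nat_lit 8) (nat_lit 9) (Net.cons (nat_lit 4) (nat_lit 1806) (Net.cons (nat_lit 2) (nat_lit 8753) (Net.cons (nat_lit 1) (nat_lit 278865) Net.nil)))))))))

theorem m_g10_ok : Net.ok 21 m_g10 = true := by decide +kernel

noncomputable def m_g11 : Net := (Net.cons (nat_lit 2) (nat_lit 65792) (Net.cons (nat_lit 4) (nat_lit 1024) (Net.cons (nat_lit 8) (nat_lit 68) (Net.cons (nat_lit 16) (nat_lit 4) (Net.cons (nat_lit 8) (nat_lit 4) (Net.cons (nat_lit 4) (nat_lit 66816) (Net.cons (nat_lit 2) (nat_lit 205600) Net.nil)))))))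

theorem m_g11_ok : Net.ok 21 m_g11 = true := by decide +kernel

noncomputable def u_c2_X : List Net := [m_g8, m_g7, m_g9, m_g10, m_g5, m_g11]

theorem u_c2_X_ok : okE 21 u_c2_X = true := (okE_cons.2 ⟨m_g8_ok, (okE_cons.2 ⟨m_g7_ok, (okE_cons.2 ⟨m_g9_ok, (okE_cons.2 ⟨m_g10_ok, (okE_cons.2 ⟨m_g5_ok, (okE_cons.2 ⟨m_g11_ok, (okE_nil 21)⟩)⟩)⟩)⟩)⟩)⟩)

noncomputable def m_g12 : Net := (Net.cons (nat_lit 1) (nat_lit 69889) (Net.cons (nat_lit 4) (nat_lit 3586) (Net.cons (nat_lit 8) (nat_lit 192) (Net.cons (nat_lit 16) (nat_lit 31) (Net.cons (nat_lit 8) (nat_lit 3) (Net.cons (nat_lit 4) (nat_lit 65550) (Net.cons (nat_lit 2) (nat_lit 528) (Net.cons (nat_lit 1) (nat_lit 344081) Net.nil))))))))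

theorem m_g12_ok : Net.ok 21 m_g12 = true := by decide +kernel

noncomputable def m_g13 : Net := (Net.cons (nat_lit 1) (nat_lit 348164) (Net.cons (nat_lit 2) (nat_lit 131584) (Net.cons (nat_lit 4) (nat_lit 2) (Net.cons (nat_lit 8) (nat_lit 152) (Net.cons (nat_lit 16) (nat_lit 26) (Net.cons (nat_lit 8) (nat_lit 24) (Net.cons (nat_lit 4) (nat_lit 770) (Net.cons (nat_lit 2) (nat_lit 66305) (Net.cons (nat_lit 1) (nat_lit 1029) Net.nil)))))))))

theorem m_g13_ok : Net.ok 21 m_g13 = true := by decide +kernel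

noncomputable def u_c2_Y : List Net := [m_g12, m_g13]

theorem u_c2_Y_ok : okE 21 u_c2_Y = true := (okE_cons.2 ⟨m_g12_ok, (okE_cons.2 ⟨m_g13_ok, (okE_nil 21)⟩)⟩)

noncomputable def m_g16 : Net := (Net.cons (nat_lit 1) (nat_lit 4436) (Net.cons (nat_lit 2) (nat_lit 257) (Net.cons (nat_lit 4) (nat_lit 66052) (Net.cons (nat_lit 8) (nat_lit 47) (Net.cons (nat_lit 16) (nat_lit 15) (Net.cons (nat_lit 4) (nat_lit 65540) (Net.cons (nat_lit 2) (nat_lit 135953) (Net.cons (nat_lit 1) (nat_lit 282692) Net.nil))))))))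

theorem m_g16_ok : Net.ok 21 m_g16 = true := by decide +kernel

noncomputable def m_g17 : Net := (Net.cons (nat_lit 1) (nat_lit 20484) (Net.cons (nat_lit 2) (nat_lit 135937) (Net.cons (nat_lit 4) (nat_lit 66050) (Net.cons (nat_lit 8) (nat_lit 146) (Net.cons (nat_lit 16) (nat_lit 23) (Net.cons (nat_lit 8) (nat_lit 9) (Net.cons (nat_lit 4) (nat_lit 67086) (Net.cons (nat_lit 2) (nat_lit 197425) (Net.cons (nat_lit 1) (nat_lit 262404) Net.nil)))))))))

theorem m_g17_ok : Net.ok 21 m_g17 = true := by decide +kernel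

noncomputable def u_c3_X : List Net := [m_g16, m_g17]

theorem u_c3_X_ok : okE 21 u_c3_X = true := (okE_cons.2 ⟨m_g16_ok, (okE_cons.2 ⟨m_g17_ok, (okE_nil 21)⟩)⟩)

noncomputable def u_c3_Y : List Net := []

theorem u_c3_Y_ok : okE 21 u_c3_Y = true := (okE_nil 21)

theorem p_gen : H44.gen (H44.gp 21 p_E p_code) 8 = grp 21 p_E :=
  H44.gen_gp (by decide +kernel)

theorem p_satL : H44.Sat (H44.gp 21 p_E p_code) (PresL34.R) :=
  H44.sat_of_satB m_hn (det_lab m_hk ⊤) p_E_ok le_top (by decide +kernel)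

theorem p_sat : H44.Sat (H44.gp 21 p_E p_code) PresL34.R :=
  p_satL

noncomputable def p_ch : Ch := (Ch.cons (nat_lit 0) [nat_lit 1] (Ch.cons (nat_lit 1) [nat_lit 3] (Ch.cons (nat_lit 2) [nat_lit 5] (Ch.cons (nat_lit 5) [nat_lit 7, nat_lit 9, nat_lit 11, nat_lit 13] Ch.nil))))

theorem p_chk : Ch.chk 21 3 (nat_lit 0x800000c00005) p_E p_ch 20160 = true :=
  by decide +kernel

theorem p_card : Nat.card (grp 21 p_E) = 20160 :=
  card_net p_gen (Ch.le_card_grp m_hn p_E_ok p_chk) (by decide) (PresL34.card_le p_sat).2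

theorem p_exact : Ch.Exact 21 p_E p_ch (grp 21 p_E) :=
  Ch.exact m_hn p_E_ok p_chk (wgrp_le_grp _ _ _) p_card.le

theorem p_pres : Pres (netGen 21 p_E p_code) 8 PresL34.R :=
  pres_net p_gen p_sat p_card.ge (by decide) (by decide +kernel) fun _ _ _ h => PresL34.card_le h

theorem com1 : cmw (netGen 21 p_E p_code) [4, 7] [6] 3 = 1 :=
  cmw_netGen p_gen (by decide) (by decide) (com_pow_eq_one m_hn (det_lab m_hk ⊤) p_E_ok le_top (by decide +kernel))

theorem com2 : cmw (netGen 21 p_E p_code) [2, 6] [7, 4] 3 = 1 :=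
  cmw_netGen p_gen (by decide) (by decide) (com_pow_eq_one m_hn (det_lab m_hk ⊤) p_E_ok le_top (by decide +kernel))

theorem com3 : cmw (netGen 21 p_E p_code) [6] [4, 7, 8] 2 = 1 :=
  cmw_netGen p_gen (by decide) (by decide) (com_pow_eq_one m_hn (det_lab m_hk ⊤) p_E_ok le_top (by decide +kernel))

noncomputable def u_L : ℕ := (nat_lit 0x800000c00005)

theorem u_det : Det 21 3 u_L (grp 21 p_E) :=
  det_of_base p_exact.isBase (by decide +kernel)

/-- Rules. -/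
def u_c2_rule : List (List (List ℕ)) :=
  [[[], [1], [2, 4], [3, 5], [4], [5]],
   [[], [], [2, 5], [3, 4, 5], [4], [5]],
   [[], [], [4, 5], [3, 4, 5], [4], [5]],
   [[], [], [], [4, 5], [4], [5]],
   [[], [], [], [], [], [5]],
   [[], [], [], [], [], []]]

/-- Fused subgroups. -/
def u_c2_fq : List (List (List ℕ)) :=
  [[[4], [5], [0, 1, 2, 4], [0, 2, 3, 4]],
   [[1], [4], [0, 4, 5], [0, 1, 4]]]

/-- Their images. -/
def u_c2_fq' : List (List (List ℕ)) :=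
  [[[1, 3], [0, 2, 3, 4, 5], [1, 3, 4, 5], [1, 3, 5]],
   [[0, 1, 5], [1, 4, 5], [4, 5], [5]]]

/-- Rows. -/
def u_c2_sA : List Spec :=
  [⟨1, [0], [], 2, 1, 127⟩,
   ⟨1, [1], [], 3, 1, 127⟩,
   ⟨1, [2], [], 0, 1, 127⟩,
   ⟨1, [3], [], 7, 1, 127⟩,
   ⟨1, [4], [], 14, 1, 127⟩,
   ⟨1, [5], [], 21, 1, 127⟩,
   ⟨0, [5], [2, 0], 29, 1, 1⟩,
   ⟨0, [2], [0, 0], 28, 1, 127⟩,
   ⟨0, [3], [0, 0], 35, 1, 127⟩,
   ⟨0, [2], [2, 2], 17, 1, 127⟩,
   ⟨0, [3], [3, 3], 23, 1, 127⟩,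
   ⟨0, [2], [1, 0], 10, 1, 1⟩,
   ⟨4, [1, 1], [], 11, 1, 127⟩,
   ⟨4, [3, 0], [0, 3], 1, 1, 127⟩,
   ⟨0, [2], [1, 1], 5, 1, 1⟩,
   ⟨4, [1, 0], [0, 1], 4, 1, 127⟩,
   ⟨0, [3], [3, 0], 22, 1, 127⟩,
   ⟨0, [2], [2, 1], 16, 1, 127⟩,
   ⟨3, [1, 1], [], 15, 1, 127⟩,
   ⟨3, [0, 0], [], 9, 1, 127⟩,
   ⟨3, [2, 2], [], 8, 1, 127⟩]

/-- Rows. -/
def u_c2_sB : List Spec :=
  [⟨4, [0, 0], [], 42, 2, 127⟩,
   ⟨4, [2, 2], [], 44, 2, 127⟩,
   ⟨0, [3], [2, 2], 43, 2, 13⟩,
   ⟨3, [3, 1], [1, 3], 38, 2, 127⟩,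
   ⟨4, [3, 3], [], 45, 2, 127⟩,
   ⟨3, [3, 3], [], 39, 2, 127⟩,
   ⟨0, [1], [0, 0], 37, 8, 85⟩,
   ⟨0, [4], [0, 0], 36, 8, 17⟩]

/-- Rows. -/
def u_c2_sC : List Spec :=
  [⟨4, [0, 0], [], 42, 2, 127⟩,
   ⟨2, [0], [], 43, 2, 107⟩,
   ⟨0, [3], [2, 2], 37, 2, 67⟩,
   ⟨4, [2, 2], [], 44, 2, 127⟩,
   ⟨2, [1], [], 36, 2, 127⟩,
   ⟨4, [3, 3], [], 45, 2, 127⟩,
   ⟨3, [3, 1], [1, 3], 38, 2, 127⟩]

/-- The certificate. -/
noncomputable def u_c2 : Cert where
  q := 1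
  n := 6
  nf := 2
  b := 21
  M := 128
  D := 2
  fuel := 57
  rule := fun i j => getLL (getL3 u_c2_rule i) j
  fq := fun i j => getLL (getL3 u_c2_fq i) j
  fq' := fun i j => getLL (getL3 u_c2_fq' i) j
  nrm := nrmM 21 48 7
  nri := getL [0, 0, 0, 1, 2, 3]
  nrj := getL [2, 3, 0, 1, 2, 3]
  B := getL [0x40000000000, 0x8000000000000000, 0x100000000000000fe0007f, 0x20000000000000000000fe0007f, 0x7e, 0xfc00000]
  nU := 2
  U := getL [unitV 21 15 * 1, unitV 21 9 * 1]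
  ord := getL [4, 4]
  sA := u_c2_sA
  sB := u_c2_sB
  sC := u_c2_sC

theorem u_c2_nrm : Nrm u_c2.b u_c2.R u_c2.M u_c2.nrm := by
  dsimp only [u_c2, Cert.R]
  exact (nrm_nrmM (b := 21) (R := 48) (v := 7) (by norm_num) : Nrm 21 48 (2 ^ 7) _)

theorem u_c2_chk : u_c2.chk 16 = true := by decide +kernel

theorem m_le14 : grp 21 u_c2_X ≤ grp 21 p_E :=
  grp_le_of_memB m_hn m_hk p_E_ok u_c2_X_ok (ws := [nat_lit 0x7090b0d, nat_lit 13, nat_lit 0x70b0503070306, nat_lit 0x70d030703, nat_lit 9, nat_lit 1801]) (by decide +kernel)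

theorem m_le15 : grp 21 u_c2_Y ≤ grp 21 p_E :=
  grp_le_of_memB m_hn m_hk p_E_ok u_c2_Y_ok (ws := [nat_lit 0x7090b0d06030507, nat_lit 0x90b0d0501030903]) (by decide +kernel)

theorem u_c2_card : 2 ^ 6 ≤ Nat.card (grp 21 u_c2_X) :=
  Ch.le_card_grp m_hn u_c2_X_ok (k := 2) (L := (nat_lit 0x4000002)) (c := (Ch.cons (nat_lit 1) [nat_lit 7, nat_lit 5] (Ch.cons (nat_lit 5) [nat_lit 2825, nat_lit 3, nat_lit 2305, nat_lit 1] Ch.nil))) (by decide +kernel)

theorem u_c2_rows : allN (pcRowB u_c2 21 3 u_L u_c2_X) u_c2.n = true :=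
  by decide +kernel

theorem u_c2_fus : allN (pcFusB u_c2 21 3 u_L u_c2_X u_c2_Y) u_c2.nf = true :=
  by decide +kernel

theorem u_c2_bound : MBound (grp 21 p_E) (315 * 315) 16 :=
  mBound_net' (C := u_c2) m_hn u_det u_c2_X_ok u_c2_Y_ok (m_le14.trans le_rfl) (m_le15.trans le_rfl)
    (by show Nat.Prime 2; norm_num) p_card u_c2_nrm (by decide +kernel) u_c2_rows u_c2_fus u_c2_card u_c2_chk

/-- Rules. -/
def u_c3_rule : List (List (List ℕ)) :=
  [[[], [1]],
   [[], []]]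

/-- Fused subgroups. -/
def u_c3_fq : List (List (List ℕ)) :=
  []

/-- Their images. -/
def u_c3_fq' : List (List (List ℕ)) :=
  []

/-- Rows. -/
def u_c3_sA : List Spec :=
  [⟨1, [0], [], 0, 1, 26⟩,
   ⟨1, [1], [], 3, 1, 26⟩]

/-- Rows. -/
def u_c3_sB : List Spec :=
  [⟨0, [1], [0, 0, 0], 1, 3, 26⟩]

/-- Rows. -/
def u_c3_sC : List Spec :=
  [⟨2, [0], [], 1, 1, 26⟩]

/-- The certificate. -/
noncomputable def u_c3 : Cert where
  q := 2
  n := 2
  nf := 0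
  b := 15
  M := 27
  D := 3
  fuel := 16
  rule := fun i j => getLL (getL3 u_c3_rule i) j
  fq := fun i j => getLL (getL3 u_c3_fq i) j
  fq' := fun i j => getLL (getL3 u_c3_fq' i) j
  nrm := nrmL 15 4 27
  nri := getL [0, 1]
  nrj := getL [0, 1]
  B := getL [0x1, 0x8000]
  nU := 1
  U := getL [unitV 15 1 * 1]
  ord := getL [3]
  sA := u_c3_sA
  sB := u_c3_sB
  sC := u_c3_sC

theorem u_c3_nrm : Nrm u_c3.b u_c3.R u_c3.M u_c3.nrm := by
  dsimp only [u_c3, Cert.R]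
  exact nrm_nrmL 15 4 27

theorem u_c3_chk : u_c3.chk 3 = true := by decide +kernel

theorem m_le18 : grp 21 u_c3_X ≤ grp 21 p_E :=
  grp_le_of_memB m_hn m_hk p_E_ok u_c3_X_ok (ws := [nat_lit 0x6030709, nat_lit 0x9050301030d]) (by decide +kernel)

theorem m_le19 : grp 21 u_c3_Y ≤ grp 21 p_E :=
  grp_le_of_memB m_hn m_hk p_E_ok u_c3_Y_ok (ws := []) (by decide +kernel)

theorem u_c3_card : 3 ^ 2 ≤ Nat.card (grp 21 u_c3_X) :=
  Ch.le_card_grp m_hn u_c3_X_ok (k := 2) (L := (nat_lit 0x400001)) (c := (Ch.cons (nat_lit 0) [nat_lit 3] (Ch.cons (nat_lit 1) [nat_lit 1] Ch.nil))) (by decide +kernel)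

theorem u_c3_rows : allN (pcRowB u_c3 21 3 u_L u_c3_X) u_c3.n = true :=
  by decide +kernel

theorem u_c3_fus : allN (pcFusB u_c3 21 3 u_L u_c3_X u_c3_Y) u_c3.nf = true :=
  by decide +kernel

theorem u_c3_bound : MBound (grp 21 p_E) (2240 * 2240) 3 :=
  mBound_net' (C := u_c3) m_hn u_det u_c3_X_ok u_c3_Y_ok (m_le18.trans le_rfl) (m_le19.trans le_rfl)
    (by show Nat.Prime 3; norm_num) p_card u_c3_nrm (by decide +kernel) u_c3_rows u_c3_fus u_c3_card u_c3_chk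

theorem u_bound : MBound (grp 21 p_E) 1 48 :=
  (((u_c2_bound.mul
    u_c3_bound).mul
    (mBound_of_prime (p := 5) (k := 4032) (by norm_num) p_card)).mul
    (mBound_of_prime (p := 7) (k := 2880) (by norm_num) p_card)).congr (by norm_num) (by norm_num)

open Cfsg.Agent.H28 in
/-- The points of the projective plane. -/
def pts (i : ℕ) : Fin 3 → F4 :=
  ([![⟨0, 0⟩, ⟨0, 0⟩, ⟨1, 0⟩], ![⟨0, 0⟩, ⟨1, 0⟩, ⟨0, 0⟩], ![⟨0, 0⟩, ⟨1, 0⟩, ⟨1, 0⟩], ![⟨0, 0⟩, ⟨1, 0⟩, ⟨0, 1⟩], ![⟨0, 0⟩, ⟨1, 0⟩, ⟨1, 1⟩], ![⟨1, 0⟩, ⟨0, 0⟩, ⟨0, 0⟩], ![⟨1, 0⟩, ⟨0, 0⟩, ⟨1, 0⟩], ![⟨1, 0⟩, ⟨0, 0⟩, ⟨0, 1⟩], ![⟨1, 0⟩, ⟨0, 0⟩, ⟨1, 1⟩], ![⟨1, 0⟩, ⟨1, 0⟩, ⟨0, 0⟩], ![⟨1, 0⟩, ⟨1, 0⟩, ⟨1, 0⟩], ![⟨1, 0⟩, ⟨1, 0⟩, ⟨0, 1⟩], ![⟨1, 0⟩, ⟨1, 0⟩, ⟨1, 1⟩], ![⟨1, 0⟩, ⟨0, 1⟩, ⟨0, 0⟩], ![⟨1, 0⟩, ⟨0, 1⟩, ⟨1, 0⟩], ![⟨1, 0⟩, ⟨0, 1⟩, ⟨0, 1⟩], ![⟨1, 0⟩, ⟨0, 1⟩, ⟨1, 1⟩], ![⟨1, 0⟩, ⟨1, 1⟩, ⟨0, 0⟩], ![⟨1, 0⟩, ⟨1, 1⟩, ⟨1, 0⟩], ![⟨1, 0⟩, ⟨1, 1⟩, ⟨0, 1⟩], ![⟨1, 0⟩, ⟨1, 1⟩, ⟨1, 1⟩]]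 : List (Fin 3 → F4)).getD i 0

open Cfsg.Agent.H28 Matrix in
theorem act_m_g7 : ∃ g : Matrix (Fin 3) (Fin 3) F4, g.det = 1 ∧
    ∀ i < 21, ∃ c : F4, c ≠ 0 ∧ g *ᵥ pts i = c • pts (Net.pt m_g7 i) :=
  ⟨!![⟨1, 0⟩, ⟨0, 0⟩, ⟨0, 0⟩; ⟨1, 1⟩, ⟨1, 0⟩, ⟨0, 0⟩; ⟨1, 1⟩, ⟨0, 0⟩, ⟨1, 0⟩], by rw [det_fin_three]; decide +kernel, by decide +kernel⟩

open Cfsg.Agent.H28 Matrix in
theorem act_m_g6 : ∃ g : Matrix (Fin 3) (Fin 3) F4, g.det = 1 ∧
    ∀ i < 21, ∃ c : F4, c ≠ 0 ∧ g *ᵥ pts i = c • pts (Net.pt m_g6 i) :=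
  ⟨!![⟨1, 0⟩, ⟨0, 0⟩, ⟨0, 0⟩; ⟨1, 0⟩, ⟨1, 0⟩, ⟨0, 0⟩; ⟨1, 0⟩, ⟨0, 0⟩, ⟨1, 0⟩], by rw [det_fin_three]; decide +kernel, by decide +kernel⟩

open Cfsg.Agent.H28 Matrix in
theorem act_m_g5 : ∃ g : Matrix (Fin 3) (Fin 3) F4, g.det = 1 ∧
    ∀ i < 21, ∃ c : F4, c ≠ 0 ∧ g *ᵥ pts i = c • pts (Net.pt m_g5 i) :=
  ⟨!![⟨1, 0⟩, ⟨0, 0⟩, ⟨0, 0⟩; ⟨0, 0⟩, ⟨1, 0⟩, ⟨0, 0⟩; ⟨1, 0⟩, ⟨0, 0⟩, ⟨1, 0⟩], by rw [det_fin_three]; decide +kernel, by decide +kernel⟩

open Cfsg.Agent.H28 Matrix in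
theorem act_m_g4 : ∃ g : Matrix (Fin 3) (Fin 3) F4, g.det = 1 ∧
    ∀ i < 21, ∃ c : F4, c ≠ 0 ∧ g *ᵥ pts i = c • pts (Net.pt m_g4 i) :=
  ⟨!![⟨1, 0⟩, ⟨0, 0⟩, ⟨0, 0⟩; ⟨0, 0⟩, ⟨1, 0⟩, ⟨0, 0⟩; ⟨1, 1⟩, ⟨0, 0⟩, ⟨1, 0⟩], by rw [det_fin_three]; decide +kernel, by decide +kernel⟩

open Cfsg.Agent.H28 Matrix in
theorem act_m_g3 : ∃ g : Matrix (Fin 3) (Fin 3) F4, g.det = 1 ∧
    ∀ i < 21, ∃ c : F4, c ≠ 0 ∧ g *ᵥ pts i = c • pts (Net.pt m_g3 i) :=
  ⟨!![⟨1, 0⟩, ⟨0, 0⟩, ⟨0, 0⟩; ⟨1, 0⟩, ⟨0, 1⟩, ⟨0, 0⟩; ⟨0, 0⟩, ⟨0, 0⟩, ⟨1, 1⟩], by rw [det_fin_three]; decide +kernel, by decide +kernel⟩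

open Cfsg.Agent.H28 Matrix in
theorem act_m_g2 : ∃ g : Matrix (Fin 3) (Fin 3) F4, g.det = 1 ∧
    ∀ i < 21, ∃ c : F4, c ≠ 0 ∧ g *ᵥ pts i = c • pts (Net.pt m_g2 i) :=
  ⟨!![⟨1, 0⟩, ⟨1, 0⟩, ⟨0, 0⟩; ⟨1, 1⟩, ⟨1, 0⟩, ⟨0, 0⟩; ⟨0, 0⟩, ⟨0, 0⟩, ⟨1, 1⟩], by rw [det_fin_three]; decide +kernel, by decide +kernel⟩

open Cfsg.Agent.H28 Matrix in
theorem act_m_g1 : ∃ g : Matrix (Fin 3) (Fin 3) F4, g.det = 1 ∧
    ∀ i < 21, ∃ c : F4, c ≠ 0 ∧ g *ᵥ pts i = c • pts (Net.pt m_g1 i) :=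
  ⟨!![⟨1, 0⟩, ⟨0, 0⟩, ⟨0, 0⟩; ⟨1, 0⟩, ⟨0, 0⟩, ⟨1, 0⟩; ⟨1, 0⟩, ⟨1, 0⟩, ⟨0, 0⟩], by rw [det_fin_three]; decide +kernel, by decide +kernel⟩

open Cfsg.Agent.H28 in
theorem equiv : Nonempty (grp 21 p_E ≃* Matrix.ProjectiveSpecialLinearGroup (Fin 3) F4) :=
  equiv_psl (pts := pts) p_E_ok (by decide +kernel) (List.forall_mem_cons.2 ⟨act_m_g1, List.forall_mem_cons.2 ⟨act_m_g2, List.forall_mem_cons.2 ⟨act_m_g3, List.forall_mem_cons.2 ⟨act_m_g4, List.forall_mem_cons.2 ⟨act_m_g5, List.forall_mem_cons.2 ⟨act_m_g6, List.forall_mem_cons.2 ⟨act_m_g7, fun _ h => nomatch h⟩⟩⟩⟩⟩⟩⟩)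
    ((H61.card_PSL34 card_F4).trans p_card.symm).le

theorem c_hn : NOk 224 := by decide

theorem c_hk : 224 ≤ 2 ^ 8 := by decide

noncomputable def c_g1 : Net := (Net.cons (nat_lit 4) (nat_lit 0xf000f0f00000f000f0f0f000f0f000000000f0f000000000000) (Net.cons (nat_lit 8) (nat_lit 0xff000f0000000000f0000000f00000000f000f000000000000) (Net.cons (nat_lit 16) (nat_lit 0xff0000000000000000000000ff0000000f000000f0ff00000000) (Net.cons (nat_lit 32) (nat_lit 0xff00ffff00000000f0000ff0000000000000000f) (Net.cons (nat_lit 64) (nat_lit 0xff0f000000000000000000f00ff0ff00000000) (Net.cons (nat_lit 128) (nat_lit 0xff0f00f00ff0ff00000000) (Net.cons (nat_lit 64) (nat_lit 0xffff0fff0000000000000000ff0fffff0f00000f) (Net.cons (nat_lit 32) (nat_lit 0xff00ffff000000000000fff000000000f0ff000f) (Net.cons (nat_lit 16) (nat_lit 0xff000000ffff0000f00000000f000000ff000000f0ff00000000) (Net.cons (nat_lit 8) (nat_lit 0xff000000f000ff000000f0000f00f00000000f00ff000000000000)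 (Net.cons (nat_lit 4) (nat_lit 0xf0f0f0f0f0f000f0f000f0f0f000f0f000000000f0f000000000000) (Net.cons (nat_lit 2) (nat_lit 0x2101111022333220300031003330322000012301303300030000033) (Net.cons (nat_lit 1) (nat_lit 0x5505555055000550000005000000055000055005000000000000000) Net.nil)))))))))))))

theorem c_g1_ok : Net.ok 224 c_g1 = true := by decide +kernel

noncomputable def c_g2 : Net := (Net.cons (nat_lit 4) (nat_lit 0xf0f0f0f0f000f000f0f0f0f000f0f000f000000000000000000) (Net.cons (nat_lit 8) (nat_lit 0xf00f00000000f00ff0000000f000f00000000000000000000) (Net.cons (nat_lit 16) (nat_lit 0xf00000f0000000f0000000000000000000000ff0f00000000) (Net.cons (nat_lit 32) (nat_lit 0xf00ffff000000000000000000000000000000000) (Net.cons (nat_lit 64) (nat_lit 0xff000000000000000000000ff000ff000000000) (Net.cons (nat_lit 128) (nat_lit 0xff00000ff00fff000000000) (Net.cons (nat_lit 64) (nat_lit 0xfff00f00000000000000000ff000ff000000000)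 (Net.cons (nat_lit 32) (nat_lit 0xf00ffff0000000000000000000000000ff0f0000) (Net.cons (nat_lit 16) (nat_lit 0xf00000fff00000f0f0000000f0000f00f0000ff0f00000000) (Net.cons (nat_lit 8) (nat_lit 0xf0000f0000000f00ff0000000f000f00ff0000000000000000) (Net.cons (nat_lit 4) (nat_lit 0xf0f000000000f0f0f000f0f0f0f000f0000000f0000000000000f0f) (Net.cons (nat_lit 2) (nat_lit 0x21332002201120102332103013103210123322110030023001300000) (Net.cons (nat_lit 1) (nat_lit 0x55005005505550505005500050500550550055550000050005000000) Net.nil)))))))))))))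

theorem c_g2_ok : Net.ok 224 c_g2 = true := by decide +kernel

noncomputable def c_g3 : Net := (Net.cons (nat_lit 4) (nat_lit 0xf0000000f000f000f000f0f000f0f00000f00000f0f00000000) (Net.cons (nat_lit 8) (nat_lit 0xf000f00000000f000000f0000000f000ff00f000ff00000000) (Net.cons (nat_lit 16) (nat_lit 0xf000000f00000000ff000000fff00000f000000f00f00000000) (Net.cons (nat_lit 32) (nat_lit 0xff0f0ff000000000000f000000000000000f0f0) (Net.cons (nat_lit 64) (nat_lit 0xf00f0f000000000000000000ff00ffff00000000) (Net.cons (nat_lit 128) (nat_lit 0xf00f0f00fff0ffff00000000) (Net.cons (nat_lit 64) (nat_lit 0xff0fffff0000000000000000ff00ffff0f00f0f0) (Net.cons (nat_lit 32) (nat_lit 0xff0f0ff0000000000fff00f00000000f00ff0f0) (Net.cons (nat_lit 16) (nat_lit 0xf000000f00000000fff00000ff000000f0f0000f00f00000000) (Net.cons (nat_lit 8) (nat_lit 0xf000f0000000f000000f0000000f000ff00f000ff000000ff) (Net.cons (nat_lit 4) (nat_lit 0xf0f0f0f0f0f000f000f0f000f0f00000f00000f0f00000000)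 (Net.cons (nat_lit 2) (nat_lit 0x330003100222300000300310012331020303000013000000300000) (Net.cons (nat_lit 1) (nat_lit 0x500555000000000050055005050000000050000000000000) Net.nil)))))))))))))

theorem c_g3_ok : Net.ok 224 c_g3 = true := by decide +kernel

noncomputable def c_g4 : Net := (Net.cons (nat_lit 4) (nat_lit 0xf0f000f0000000f000f00000f000f0000000f0f000000000000) (Net.cons (nat_lit 8) (nat_lit 0xff00f000f000f00000000f000000f0000000ff00f000000000) (Net.cons (nat_lit 16) (nat_lit 0xf00f0000f0000000f0000000f0ff00000f00000000ff00000000) (Net.cons (nat_lit 32) (nat_lit 0xf00f0ff00000000000000f0f0000000000000000) (Net.cons (nat_lit 64) (nat_lit 0xf0ff000000000000000000f000f0f000000000) (Net.cons (nat_lit 128) (nat_lit 0xf0ff00f000f0f000000000) (Net.cons (nat_lit 64) (nat_lit 0xf0ffff000000000000000000ff00ffff0f000000) (Net.cons (nat_lit 32) (nat_lit 0xf00f0ff00000000000ff0fff00000000f0ff0000) (Net.cons (nat_lit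 16) (nat_lit 0xf00f0000f0f00000f0f00000f00f00000ff00000f00f00000000) (Net.cons (nat_lit 8) (nat_lit 0xff00f000f000f0000f000f000000f00000000f000000f000ff) (Net.cons (nat_lit 4) (nat_lit 0xf0f0f0f000f0000000f000f00000f000f0000000f0f000000000f0f) (Net.cons (nat_lit 2) (nat_lit 0x22302212012330221120122302103132001230022030033333300303) (Net.cons (nat_lit 1) (nat_lit 0x55005555055000555550555005500505005500055000000000000000) Net.nil)))))))))))))

theorem c_g4_ok : Net.ok 224 c_g4 = true := by decide +kernel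

noncomputable def c_g5 : Net := (Net.cons (nat_lit 4) (nat_lit 0xf000f00000f0f0f0f00000f0f000f00000f0f000f000f00000f0000) (Net.cons (nat_lit 8) (nat_lit 0xff000000f000ff00f000000000000f00000000000f0000) (Net.cons (nat_lit 16) (nat_lit 0xff0000f00000000ff0000000000000f00f00000f0000000000) (Net.cons (nat_lit 32) (nat_lit 0xff0ff0000000000000ff000000000000000000) (Net.cons (nat_lit 64) (nat_lit 0xf00000000000000000000f0f0ff000000000) (Net.cons (nat_lit 128) (nat_lit 0xf0000f0f0ff000000000) (Net.cons (nat_lit 64) (nat_lit 0xffff0000000000000000000ffffff0000f0000) (Net.cons (nat_lit 32) (nat_lit 0xf0ff0ff00000000000000f0f00000000f00f0ff0) (Net.cons (nat_lit 16) (nat_lit 0xff0000fff00000f0000000000f00000f0f000000000000ff0f) (Net.cons (nat_lit 8) (nat_lit 0xf00ff000f000f000f0000000000f0000f00ff000f00000000000f) (Net.cons (nat_lit 4) (nat_lit 0xf0f0f000f000f0000000f00000f0f0f0f0f0f000f0f00000000) (Net.cons (nat_lit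 2) (nat_lit 0x212233013131100021113321013230300201032201021033100000) (Net.cons (nat_lit 1) (nat_lit 0x555500050505500055550055050500000505005505055000500000) Net.nil)))))))))))))

theorem c_g5_ok : Net.ok 224 c_g5 = true := by decide +kernel

noncomputable def c_g6 : Net := (Net.cons (nat_lit 4) (nat_lit 0xf00000000000f0f0f0f0f0f000f0f0f000f0f000f0f0f00000f0000) (Net.cons (nat_lit 8) (nat_lit 0xff00ff000000f00000000f000000ff00f0000000f0000000000000) (Net.cons (nat_lit 16) (nat_lit 0xf0f00000f0000000000f00000ff00000f00f0000fff000000000) (Net.cons (nat_lit 32) (nat_lit 0xff0ff00000000000f00f00f000000000f000000) (Net.cons (nat_lit 64) (nat_lit 0xf00000000000000000000ff000f0000000000) (Net.cons (nat_lit 128) (nat_lit 0xf0000ff000f0000000000) (Net.cons (nat_lit 64) (nat_lit 0xfffff000000000000000000fff0ff0fff000000) (Net.cons (nat_lit 32) (nat_lit 0xff0fff0000000000ff000ff00000000ff0ffff0) (Net.cons (nat_lit 16)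 (nat_lit 0xf000000ff000000000f00000f0f000000ff0000ff000000ff0f) (Net.cons (nat_lit 8) (nat_lit 0xf000f00f000f000f0000f0000000f00f000f0000f00f0000f00ff) (Net.cons (nat_lit 4) (nat_lit 0xf00000000000f0f0f0f0f0f000f0f0f000f0f000f0f0f00000f0000) (Net.cons (nat_lit 2) (nat_lit 0x20002133203131232212013100202002320023230003300330323333) (Net.cons (nat_lit 1) (nat_lit 0x50005500500505505555050500505005050050500000000000050000) Net.nil)))))))))))))

theorem c_g6_ok : Net.ok 224 c_g6 = true := by decide +kernel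

noncomputable def c_g7 : Net := (Net.cons (nat_lit 4) (nat_lit 0xf00000f00000f000f00000f0f0f0f00000f0000000f0f0000) (Net.cons (nat_lit 8) (nat_lit 0xf00000000f00f00000000000ff00ff00f000f0000f000f0000) (Net.cons (nat_lit 16) (nat_lit 0xf0000000000000ff000000f000000f0000000000000000000) (Net.cons (nat_lit 32) (nat_lit 0xf00000000000000000000000000000000000000) (Net.cons (nat_lit 64) (nat_lit 0xff0000f000000000000000000ff0fff00000000) (Net.cons (nat_lit 128) (nat_lit 0xff0000f0fff0fff00000000) (Net.cons (nat_lit 64) (nat_lit 0xfffffff0000000000000000f0ff0ffff0000000) (Net.cons (nat_lit 32) (nat_lit 0xf000000000000000f00ff00000000000000ff00) (Net.cons (nat_lit 16) (nat_lit 0xf0000ff0000000ff0000000000000ff00000000f0000000ff) (Net.cons (nat_lit 8) (nat_lit 0xf00000000f00f00000000000ff00ff00f000f0000f000f0000) (Net.cons (nat_lit 4) (nat_lit 0xf000f00000f00000f000f00000f0f0f0f00000f0000000f0f0000) (Net.cons (nat_lit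 2) (nat_lit 0x12110000300000003332303103333320213312203131311002230303) (Net.cons (nat_lit 1) (nat_lit 0x55550000000000000005000500000050550055500505055005500000) Net.nil)))))))))))))

theorem c_g7_ok : Net.ok 224 c_g7 = true := by decide +kernel

noncomputable def c_g8 : Net := (Net.cons (nat_lit 2) (nat_lit 0x22222222222222222222222222222222222222222222222222222222) (Net.cons (nat_lit 1) (nat_lit 0x55555555555555555555555555555555555555555555555555555555) Net.nil))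

theorem c_g8_ok : Net.ok 224 c_g8 = true := by decide +kernel

noncomputable def cx_E : List Net := [c_g1, c_g2, c_g3, c_g4, c_g5, c_g6, c_g7, c_g8]

theorem cx_E_ok : okE 224 cx_E = true := (okE_cons.2 ⟨c_g1_ok, (okE_cons.2 ⟨c_g2_ok, (okE_cons.2 ⟨c_g3_ok, (okE_cons.2 ⟨c_g4_ok, (okE_cons.2 ⟨c_g5_ok, (okE_cons.2 ⟨c_g6_ok, (okE_cons.2 ⟨c_g7_ok, (okE_cons.2 ⟨c_g8_ok, (okE_nil 224)⟩)⟩)⟩)⟩)⟩)⟩)⟩)⟩)

def cx_code : List ℕ := [0, 0, 2, 4, 6, 8, 9, 10, 12, 14]

noncomputable def c_g9 : Net := (Net.cons (nat_lit 4) (nat_lit 0xf0000000000000f0f00000000000f0f0000000000000000) (Net.cons (nat_lit 8) (nat_lit 0xf00f00000000f000000f000ff000f000f0000) (Net.cons (nat_lit 16) (nat_lit 0xfff0000f0f0000000000000f000000000ff0000fff000000000) (Net.cons (nat_lit 32) (nat_lit 0xffff0ff0000000000000000000000000000f000) (Net.cons (nat_lit 64) (nat_lit 0xf00000f00000000000000000000ff00f00000000) (Net.cons (nat_lit 128) (nat_lit 0xf00000f0000ff00f00000000)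 (Net.cons (nat_lit 64) (nat_lit 0xfffff0f00000000000000000000fff0f00fff000) (Net.cons (nat_lit 32) (nat_lit 0xfffff00f00000000f000000f000000000ff00000) (Net.cons (nat_lit 16) (nat_lit 0xfff000000000000f00000000000000000ff00000f0f0000ff00) (Net.cons (nat_lit 8) (nat_lit 0xff00f000f000ff000f00000000000f00f00000000f00ff00000000) (Net.cons (nat_lit 4) (nat_lit 0xf000000000000000f000f00000f0f000000000f0f0f0f0f) (Net.cons (nat_lit 2) (nat_lit 0x330112110202320322310223202210313212100023330303130303) (Net.cons (nat_lit 1) (nat_lit 0x555550505050055050550505550050555500050000000500000) Net.nil)))))))))))))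

theorem c_g9_ok : Net.ok 224 c_g9 = true := by decide +kernel

noncomputable def c_g10 : Net := (Net.cons (nat_lit 4) (nat_lit 0xf0f0f000000000000000f00000f000000000f000f0f0f000f00) (Net.cons (nat_lit 8) (nat_lit 0xf0000000000000000000000000) (Net.cons (nat_lit 16) (nat_lit 0xff0f00000000000000ff0000f0ff0000ff0f0000000000000000) (Net.cons (nat_lit 32) (nat_lit 0xff0f00ff00000000f00f0000000000000f0000f0) (Net.cons (nat_lit 64) (nat_lit 0xf0ff0000000000000000000f0000ff00000000) (Net.cons (nat_lit 128) (nat_lit 0xf0ff000f0000ff00000000) (Net.cons (nat_lit 64) (nat_lit 0xfffffff000000000000000000f0f00ffff0000f0) (Net.cons (nat_lit 32) (nat_lit 0xff0f00ff000000000000000000000000ffff0ff0) (Net.cons (nat_lit 16) (nat_lit 0xff0f0000f0f0000000ff0000f0ff0000ff0f00000ff000000ff0) (Net.cons (nat_lit 8) (nat_lit 0xf000f000f0000f0000000f00f0000000ff00ff00ff00ff00ff) (Net.cons (nat_lit 4) (nat_lit 0xf0f0f0f0f000000000000000f00000000000f0f000f0000000f000f)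 (Net.cons (nat_lit 2) (nat_lit 0x12121311223230303222312013113002321302010331100102233000) (Net.cons (nat_lit 1) (nat_lit 0x55555055550500000555055050550005055005050005500505500000) Net.nil)))))))))))))

theorem c_g10_ok : Net.ok 224 c_g10 = true := by decide +kernel

noncomputable def c_g11 : Net := (Net.cons (nat_lit 4) (nat_lit 0xf000f0f0000000f0f0f0f000f0000000f000000000f000f0f00) (Net.cons (nat_lit 8) (nat_lit 0xf000000000000f00f0000000000000000000f0000000000000) (Net.cons (nat_lit 16) (nat_lit 0xf000000000f00000f00000000000000f0f00000f00f00000000) (Net.cons (nat_lit 32) (nat_lit 0xff00f0f000000000000000000000000000000000) (Net.cons (nat_lit 64) (nat_lit 0xf0f000000000000000000f00fff0000000000) (Net.cons (nat_lit 128) (nat_lit 0xf0f00f00fff0000000000) (Net.cons (nat_lit 64) (nat_lit 0xf0f0ff00000000000000000f00fff0ff0f00000) (Net.cons (nat_lit 32) (nat_lit 0xff0ff0f0000000000f0f000000000000000ff0f0) (Net.cons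 (nat_lit 16) (nat_lit 0xf000000000f0000fff00000f0f00000f0f00000f00f00000000) (Net.cons (nat_lit 8) (nat_lit 0xff00f000f00000000f00f0000000000000000000f000000000000f) (Net.cons (nat_lit 4) (nat_lit 0xf0f0f0f0000000f0f0f0f000f0000000f000f000f0f000f0f00) (Net.cons (nat_lit 2) (nat_lit 0x12121330132013001102221023210122122331010302302012230333) (Net.cons (nat_lit 1) (nat_lit 0x55555000505050005505555050550555555005050005005055500000) Net.nil)))))))))))))

theorem c_g11_ok : Net.ok 224 c_g11 = true := by decide +kernel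

noncomputable def c_g12 : Net := (Net.cons (nat_lit 4) (nat_lit 0xf000f0f0f000f0f0f000000000f0f000000000f0f000f0000) (Net.cons (nat_lit 8) (nat_lit 0xf000f00ff000000000000000f00f00000000000000000) (Net.cons (nat_lit 16) (nat_lit 0xf000000ffff0000f0000000f00f00000f000000f00f00000000) (Net.cons (nat_lit 32) (nat_lit 0xff0f0ff0000000000000f0f000000000000000f) (Net.cons (nat_lit 64) (nat_lit 0xf0ff00000000000000000000f00ff00f00000000) (Net.cons (nat_lit 128) (nat_lit 0xf0ff0000f00ff00f00000000) (Net.cons (nat_lit 64) (nat_lit 0xfffff0ff0000000000000000f00fff0f0f00f00f) (Net.cons (nat_lit 32) (nat_lit 0xfffffff00000000000f0f0f00000000ff0f0fff) (Net.cons (nat_lit 16) (nat_lit 0xf000000ffff0000f0f00000ff0f000000000000ff0f00000fff) (Net.cons (nat_lit 8) (nat_lit 0xf000f00ff000000000000000f00f000f0000000000000) (Net.cons (nat_lit 4) (nat_lit 0xf000f0f0f000f0f0f000000000f0f000000000f000000000f) (Net.cons (nat_lit 2)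 (nat_lit 0x3033100303001212300300103302333000201000000230130200000) (Net.cons (nat_lit 1) (nat_lit 0x500000005555000000500005000000505000000500500500000) Net.nil)))))))))))))

theorem c_g12_ok : Net.ok 224 c_g12 = true := by decide +kernel

noncomputable def c_g13 : Net := (Net.cons (nat_lit 4) (nat_lit 0xf0f0f000f000f0f00000f0f0f0f0f0f0f0f0f00000f000f0000) (Net.cons (nat_lit 8) (nat_lit 0xf000000f00000000f0000000f00f0000f000f00ff00ff0000) (Net.cons (nat_lit 16) (nat_lit 0xf000000f000000ff000000f000000000f0000ff0000000000) (Net.cons (nat_lit 32) (nat_lit 0xf0f0ff00000000000fff0000000000000000f00) (Net.cons (nat_lit 64) (nat_lit 0xf00000f0000000000000000000f0fff00000000) (Net.cons (nat_lit 128) (nat_lit 0xf00000f000f0fff00000000) (Net.cons (nat_lit 64) (nat_lit 0xf0fff0f000000000000000000ffffff000f0f00) (Net.cons (nat_lit 32) (nat_lit 0xfffffff0000000000f0fff00000000000fff0f0) (Net.cons (nat_lit 16) (nat_lit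 0xf000000f0000000000000f00f000000f00000f00000000f0f) (Net.cons (nat_lit 8) (nat_lit 0xf00ff0000000f000f000f00ff00f0000000f000f000ff00f0000f) (Net.cons (nat_lit 4) (nat_lit 0xf000f00000f000f000f000f0f0000000f000f000f000f0f0f000000) (Net.cons (nat_lit 2) (nat_lit 0x2320200300320313021021100312013031000002130302310030000) (Net.cons (nat_lit 1) (nat_lit 0x5050500000050050055055500055050005000005500005050000000) Net.nil)))))))))))))

theorem c_g13_ok : Net.ok 224 c_g13 = true := by decide +kernel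

noncomputable def c_g14 : Net := (Net.cons (nat_lit 4) (nat_lit 0xf000f0f00000f000000000f0f0f0f00000000000f000000000000) (Net.cons (nat_lit 8) (nat_lit 0xff00f00000000000f00000000000f0000f000f00000000000f0000) (Net.cons (nat_lit 16) (nat_lit 0xf0000f0f000000f0f0000f0f000000000000000f000000000) (Net.cons (nat_lit 32) (nat_lit 0xffff00f000000000f00000000000000000000000) (Net.cons (nat_lit 64) (nat_lit 0xf0000f0000000000000000000f000000000000) (Net.cons (nat_lit 128) (nat_lit 0xf0000f0f0f000000000000) (Net.cons (nat_lit 64) (nat_lit 0xffff00ff00000000000000000ff00f0fff00ff00) (Net.cons (nat_lit 32) (nat_lit 0xfffffff000000000f000000000000000000000f0) (Net.cons (nat_lit 16) (nat_lit 0xf000000f0f000000fff0000f0f0000000000000f0f00000000f) (Net.cons (nat_lit 8) (nat_lit 0xf000ff000f000000f0000f00ff00f0000f000f000f0000000f0000) (Net.cons (nat_lit 4) (nat_lit 0xf000f0f00000f000000000f0f0f0f00000000000f000000000000)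 (Net.cons (nat_lit 2) (nat_lit 0x30000023110002021130222000100000001000302000100000000000) (Net.cons (nat_lit 1) (nat_lit 0x50550005055500555000500000005000005000500000000000) Net.nil)))))))))))))

theorem c_g14_ok : Net.ok 224 c_g14 = true := by decide +kernel

noncomputable def c_g15 : Net := (Net.cons (nat_lit 4) (nat_lit 0xf0f000f0f0000000f0f0f00000f0f000000000f0000000f0000) (Net.cons (nat_lit 8) (nat_lit 0xf00ff00f0000f00ff00f000000000000f000000000000) (Net.cons (nat_lit 16) (nat_lit 0xf0f00000f0f000000000000f00f00000f000000f00f00000000) (Net.cons (nat_lit 32) (nat_lit 0xff000f000000000000fff000000000000000000) (Net.cons (nat_lit 64) (nat_lit 0xf0f0000f0000000000000000f00ff0ff00000000) (Net.cons (nat_lit 128) (nat_lit 0xf0f0000ff00ff0ff00000000) (Net.cons (nat_lit 64) (nat_lit 0xfffff0ff0000000000000000f0ffffff0f000000) (Net.cons (nat_lit 32) (nat_lit 0xfff0ff0000000000000fff0000000000ff0f0ff0) (Net.cons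 (nat_lit 16) (nat_lit 0xf0f00000fff0000f0000000ff0f0000f0000000ff0f00000f00) (Net.cons (nat_lit 8) (nat_lit 0xf00f000ff00f000f000ff00ff000000f00000000f000000000000) (Net.cons (nat_lit 4) (nat_lit 0xf000f000f0f000f0f0f00000f0f0f00000f0f0000000f0000) (Net.cons (nat_lit 2) (nat_lit 0x32013010113003000002003220332301000002300000013100203030) (Net.cons (nat_lit 1) (nat_lit 0x5050050550000000005000550005005000005000000050500500000) Net.nil)))))))))))))

theorem c_g15_ok : Net.ok 224 c_g15 = true := by decide +kernel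

noncomputable def cy_E : List Net := [c_g9, c_g10, c_g11, c_g12, c_g13, c_g14, c_g15, c_g8]

theorem cy_E_ok : okE 224 cy_E = true := (okE_cons.2 ⟨c_g9_ok, (okE_cons.2 ⟨c_g10_ok, (okE_cons.2 ⟨c_g11_ok, (okE_cons.2 ⟨c_g12_ok, (okE_cons.2 ⟨c_g13_ok, (okE_cons.2 ⟨c_g14_ok, (okE_cons.2 ⟨c_g15_ok, (okE_cons.2 ⟨c_g8_ok, (okE_nil 224)⟩)⟩)⟩)⟩)⟩)⟩)⟩)⟩)

def cy_code : List ℕ := [0, 0, 2, 4, 6, 8, 9, 10, 12, 14]

theorem cx_z : Cen (H44.gp 224 cx_E cx_code) 8 [[9]] :=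
  cen_of_cenN c_hn c_hk cx_E_ok (by decide +kernel)

theorem cx_cenL : Cen (H44.gp 224 cx_E cx_code) 8 (PresL34.R) :=
  cen_of_cenZ (m := 4) c_hn c_hk cx_E_ok cx_z (by decide +kernel)

theorem cx_cen : Cen (H44.gp 224 cx_E cx_code) 8 PresL34.R :=
  cx_cenL

theorem cy_z : Cen (H44.gp 224 cy_E cy_code) 8 [[9]] :=
  cen_of_cenN c_hn c_hk cy_E_ok (by decide +kernel)

theorem cy_cenL : Cen (H44.gp 224 cy_E cy_code) 8 (PresL34.R) :=
  cen_of_cenZ (m := 4) c_hn c_hk cy_E_ok cy_z (by decide +kernel)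

theorem cy_cen : Cen (H44.gp 224 cy_E cy_code) 8 PresL34.R :=
  cy_cenL

theorem x1 : orderOf (cmw (H44.gp 224 cx_E cx_code) [4, 7] [6] 3) = 4 :=
  ((congrArg orderOf (cmw_eq_of_beq c_hn c_hk cx_E_ok (w := [9, 9, 9]) (by decide +kernel))).trans
      (orderOf_gp (p := 2) (e := 1) c_hn c_hk cx_E_ok (by norm_num) (by decide +kernel) (by decide +kernel)))

theorem y1 : cmw (H44.gp 224 cy_E cy_code) [4, 7] [6] 3 = 1 :=
  com_pow_eq_one c_hn (det_lab c_hk ⊤) cy_E_ok le_top (by decide +kernel)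

theorem x2 : cmw (H44.gp 224 cx_E cx_code) [2, 6] [7, 4] 3 ^ 4 = 1 :=
  by
  rw [cmw_eq_of_beq c_hn c_hk cx_E_ok (w := [9]) (by decide +kernel)]
  exact (det_lab c_hk ⊤).eq trivial trivial (mov_iter (H44.mov_evL (rep_FK c_hn.1 _) cx_E_ok _ _) _ _)
    (Mov.refl _ _ _) (by decide +kernel : Nat.beq (iter (H44.evL (FK 224 8) cx_E cx_code [9]) 4 (lab 224 8)) (lab 224 8) = true)

theorem y2 : orderOf (cmw (H44.gp 224 cy_E cy_code) [2, 6] [7, 4] 3) = 4 :=
  ((congrArg orderOf (cmw_eq_of_beq c_hn c_hk cy_E_ok (w := [9]) (by decide +kernel))).trans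
      (orderOf_gp (p := 2) (e := 1) c_hn c_hk cy_E_ok (by norm_num) (by decide +kernel) (by decide +kernel)))

theorem d_hn : NOk 63 := by decide

theorem d_hk : 63 ≤ 2 ^ 6 := by decide

noncomputable def d_g1 : Net := (Net.cons (nat_lit 1) (nat_lit 0x15000015000000) (Net.cons (nat_lit 2) (nat_lit 0x1202201202200000) (Net.cons (nat_lit 4) (nat_lit 0x8000008000000) (Net.cons (nat_lit 8) (nat_lit 0x3007c00000000) (Net.cons (nat_lit 16) (nat_lit 0x7c0000000000) (Net.cons (nat_lit 32) (nat_lit 0x7c000000) (Net.cons (nat_lit 16) (nat_lit 0x7f8000008000) (Net.cons (nat_lit 8) (nat_lit 0x7f007c00030000) (Net.cons (nat_lit 4) (nat_lit 0x40c0c040c0c0000) (Net.cons (nat_lit 2) (nat_lit 0x1102101102100000) (Net.cons (nat_lit 1) (nat_lit 0x555540555540000) Net.nil)))))))))))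

theorem d_g1_ok : Net.ok 63 d_g1 = true := by decide +kernel

noncomputable def d_g2 : Net := (Net.cons (nat_lit 1) (nat_lit 0x540540540540000) (Net.cons (nat_lit 2) (nat_lit 0x222000222000000) (Net.cons (nat_lit 4) (nat_lit 0xd000805080000) (Net.cons (nat_lit 8) (nat_lit 0x50008000000080) (Net.cons (nat_lit 16) (nat_lit 32768) (Net.cons (nat_lit 32) (nat_lit 32768) (Net.cons (nat_lit 16) (nat_lit 0x508000008080) (Net.cons (nat_lit 8) (nat_lit 0x58008800580080) (Net.cons (nat_lit 4) (nat_lit 0x70f020f070a0000) (Net.cons (nat_lit 2) (nat_lit 0x232010232010000) (Net.cons (nat_lit 1) (nat_lit 0x540540540540000) Net.nil)))))))))))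

theorem d_g2_ok : Net.ok 63 d_g2 = true := by decide +kernel

noncomputable def d_g3 : Net := (Net.cons (nat_lit 1) (nat_lit 0x540540540540000) (Net.cons (nat_lit 2) (nat_lit 0x222202202000000) (Net.cons (nat_lit 4) (nat_lit 0x500000500000000) (Net.cons (nat_lit 8) (nat_lit 0x5f008d00800080) (Net.cons (nat_lit 16) (nat_lit 0xd5200008000) (Net.cons (nat_lit 32) (nat_lit 0xd528000) (Net.cons (nat_lit 16) (nat_lit 0x7fff00008080) (Net.cons (nat_lit 8) (nat_lit 0x8d00ff0080) (Net.cons (nat_lit 4) (nat_lit 0x5050005050000) (Net.cons (nat_lit 2) (nat_lit 0x30232010030000) (Net.cons (nat_lit 1) (nat_lit 0x540540540540000) Net.nil)))))))))))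

theorem d_g3_ok : Net.ok 63 d_g3 = true := by decide +kernel

noncomputable def d_g4 : Net := (Net.cons (nat_lit 1) (nat_lit 81920) (Net.cons (nat_lit 2) (nat_lit 0x1201201201200000) (Net.cons (nat_lit 16) (nat_lit 32768) (Net.cons (nat_lit 32) (nat_lit 0x7fffc000) (Net.cons (nat_lit 16) (nat_lit 0x40000000c000) (Net.cons (nat_lit 8) (nat_lit 0x3f003f003f0000) (Net.cons (nat_lit 4) (nat_lit 0x303030303030000) (Net.cons (nat_lit 2) (nat_lit 0x1102102102100000) (Net.cons (nat_lit 1) (nat_lit 0x555555555554000) Net.nil)))))))))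

theorem d_g4_ok : Net.ok 63 d_g4 = true := by decide +kernel

noncomputable def d_g5 : Net := (Net.cons (nat_lit 1) (nat_lit 4352) (Net.cons (nat_lit 2) (nat_lit 0x20020020020220) (Net.cons (nat_lit 4) (nat_lit 0x106070006080800) (Net.cons (nat_lit 8) (nat_lit 0x8000000800000) (Net.cons (nat_lit 32) (nat_lit 0x7f9e0000) (Net.cons (nat_lit 16) (nat_lit 0x617f00000800) (Net.cons (nat_lit 8) (nat_lit 0x79006100670060) (Net.cons (nat_lit 4) (nat_lit 0x706010601090f08) (Net.cons (nat_lit 2) (nat_lit 0x1221221221220221) (Net.cons (nat_lit 1) (nat_lit 0x540540540541011) Net.nil))))))))))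

theorem d_g5_ok : Net.ok 63 d_g5 = true := by decide +kernel

noncomputable def d_g6 : Net := (Net.cons (nat_lit 1) (nat_lit 0x110000540440000) (Net.cons (nat_lit 2) (nat_lit 0x220001220020020) (Net.cons (nat_lit 4) (nat_lit 0xf0008000e0e00) (Net.cons (nat_lit 8) (nat_lit 0x60001700100080) (Net.cons (nat_lit 16) (nat_lit 0x80000000000) (Net.cons (nat_lit 32) (nat_lit 0x17ef1fe0) (Net.cons (nat_lit 16) (nat_lit 0x8000000e818) (Net.cons (nat_lit 8) (nat_lit 0x68001700180088) (Net.cons (nat_lit 4) (nat_lit 0xf0009000e0f00) (Net.cons (nat_lit 2) (nat_lit 0x320001221020020) (Net.cons (nat_lit 1) (nat_lit 0x110000540440000) Net.nil)))))))))))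

theorem d_g6_ok : Net.ok 63 d_g6 = true := by decide +kernel

noncomputable def d_g7 : Net := (Net.cons (nat_lit 1) (nat_lit 0x140500004014400) (Net.cons (nat_lit 2) (nat_lit 0x232232030101010) (Net.cons (nat_lit 4) (nat_lit 0x60c0e0002080000) (Net.cons (nat_lit 8) (nat_lit 0x800000000) (Net.cons (nat_lit 16) (nat_lit 0x210900000000) (Net.cons (nat_lit 32) (nat_lit 0x29390000) (Net.cons (nat_lit 16) (nat_lit 0x3f0700001000) (Net.cons (nat_lit 8) (nat_lit 0x800c0000a0000) (Net.cons (nat_lit 4) (nat_lit 0x60c0e0002080e06) (Net.cons (nat_lit 2) (nat_lit 0x232231030101013) (Net.cons (nat_lit 1) (nat_lit 0x140515004014415) Net.nil)))))))))))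

theorem d_g7_ok : Net.ok 63 d_g7 = true := by decide +kernel

noncomputable def d_g8 : Net := (Net.cons (nat_lit 1) (nat_lit 0x1514514514514514) (Net.cons (nat_lit 2) (nat_lit 0x210210210210210) (Net.cons (nat_lit 4) (nat_lit 0x8040800040800) (Net.cons (nat_lit 8) (nat_lit 0x8000400000) (Net.cons (nat_lit 16) (nat_lit 32768) (Net.cons (nat_lit 32) (nat_lit 32768) (Net.cons (nat_lit 16) (nat_lit 49152) (Net.cons (nat_lit 8) (nat_lit 0x800c000400080) (Net.cons (nat_lit 4) (nat_lit 0xc0c08040c0804) (Net.cons (nat_lit 2) (nat_lit 0x1312312312312312) (Net.cons (nat_lit 1) (nat_lit 0x145145145145145) Net.nil)))))))))))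

theorem d_g8_ok : Net.ok 63 d_g8 = true := by decide +kernel

noncomputable def cz_E : List Net := [d_g1, d_g2, d_g3, d_g4, d_g5, d_g6, d_g7, d_g8]

theorem cz_E_ok : okE 63 cz_E = true := (okE_cons.2 ⟨d_g1_ok, (okE_cons.2 ⟨d_g2_ok, (okE_cons.2 ⟨d_g3_ok, (okE_cons.2 ⟨d_g4_ok, (okE_cons.2 ⟨d_g5_ok, (okE_cons.2 ⟨d_g6_ok, (okE_cons.2 ⟨d_g7_ok, (okE_cons.2 ⟨d_g8_ok, (okE_nil 63)⟩)⟩)⟩)⟩)⟩)⟩)⟩)⟩)

def cz_code : List ℕ := [0, 0, 2, 4, 6, 8, 9, 10, 12, 14]

theorem cz_z : Cen (H44.gp 63 cz_E cz_code) 8 [[9]] :=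
  cen_of_cenN d_hn d_hk cz_E_ok (by decide +kernel)

theorem cz_cenL : Cen (H44.gp 63 cz_E cz_code) 8 (PresL34.R) :=
  cen_of_cenZ (m := 3) d_hn d_hk cz_E_ok cz_z (by decide +kernel)

theorem cz_cen : Cen (H44.gp 63 cz_E cz_code) 8 PresL34.R :=
  cz_cenL

theorem z3 : orderOf (cmw (H44.gp 63 cz_E cz_code) [6] [4, 7, 8] 2) = 3 :=
  ((congrArg orderOf (cmw_eq_of_beq d_hn d_hk cz_E_ok (w := [9]) (by decide +kernel))).trans
      (orderOf_gp (p := 3) (e := 0) d_hn d_hk cz_E_ok (by norm_num) (by decide +kernel) (by decide +kernel)))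

theorem mult : Cfsg.HasSchurMultiplier (grp 21 p_E)
    (Multiplicative (ZMod 3 × ZMod 4 × ZMod 4)) :=
  u_bound.finish (((p_pres.mQuot cz_cen (by decide) (by decide) com3 z3).prod
    (p_pres.mQuot_two cx_cen cy_cen (by decide) (by decide) (by decide) (by decide) com1 com2 x1 y1 x2 y2)
    (by simp; norm_num)).congr (MulEquiv.prodMultiplicative _ _).symm) (by simp)

end Cfsg.Agent.H74.ML34
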