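import Mathlib
import Cfsg.Agent.H74.MultCo0p2
import Cfsg.Agent.H74.MultCo0p3
import Cfsg.Agent.H74.MultCo0p5
import Cfsg.Agent.H74.MultCo0p7
import Cfsg.Agent.H74.Spin

set_option autoImplicit false
set_option maxRecDepth 1000000
set_option Elab.async false
set_option linter.style.longLine false

namespace Cfsg.Agent.H74.MCo1

open Cfsg Cfsg.Agent.H42 Cfsg.Agent.H46 Cfsg.Agent.H48

theorem bound0 : MBound Co0 1 1 :=
  (((((((MCo0p2.c2_bound.mul
    MCo0p3.c3_bound).mul
    MCo0p5.c5_bound).mul
    MCo0p7.c7_bound).mul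
    (mBound_of_prime (p := 11) (k := 755959419371520000) (by norm_num) MCo0p2.card_top0)).mul
    (mBound_of_prime (p := 13) (k := 639657970237440000) (by norm_num) MCo0p2.card_top0)).mul
    (mBound_of_prime (p := 23) (k := 361545809264640000) (by norm_num) MCo0p2.card_top0)).congr (by norm_num) (by norm_num)).congr_left Subgroup.topEquiv

instance perfect0 : Group.IsPerfect Co0 := by
  rw [Group.isPerfect_def]
  refine (normal_Co0 (commutator Co0)).resolve_left fun h => ?_
  have := simple_Co1
  have h1 : Group.IsPerfect (Co0 ⧸ Subgroup.center Co0) :=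
    isPerfect_of_simple (by rw [card_Co1]; norm_num)
  have h2 : (commutator Co0).map (QuotientGroup.mk' (Subgroup.center Co0)) = ⊤ := by
    rw [map_commutator_eq, MonoidHom.range_eq_top_of_surjective _ (QuotientGroup.mk'_surjective _)]
    exact Group.isPerfect_def.1 h1
  rw [(Subgroup.map_eq_bot_iff _).2 (by rwa [QuotientGroup.ker_mk'])] at h2
  exact bot_ne_top h2

theorem mult : Cfsg.HasCyclicSchurMultiplier Cfsg.Spor.Co1 2 := by
  have hk := QuotientGroup.ker_mk' (Subgroup.center Co0)
  refine (mBound_of_cover (QuotientGroup.mk'_surjective _) bound0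
    (by rw [hk, card_center])).finish_cyclic ?_
  refine mElt_of_ext ⟨QuotientGroup.mk'_surjective _, hk.le⟩ (z := negEl)
    ⟨hk.ge ((mem_center_iff _).2 (Or.inr rfl)), Group.IsPerfect.mem_commutator⟩ ?_
  exact (orderOf_eq_prime (by rw [pow_two, negEl_mul_self]) negEl_ne_one).symm.dvd

end Cfsg.Agent.H74.MCo1
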