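/-
The Leech lattice modulo two: fixed classes and commutator classes of the involutions of `Co1`.
-/
import Cfsg.Agent.H74.MonInv
import Cfsg.Agent.H42.CoQ

set_option autoImplicit false
set_option maxRecDepth 200000

namespace Cfsg.Agent.H74.Ms

open Cfsg Subgroup Cfsg.Agent.H48 Cfsg.Agent.H42 Cfsg.Agent.H43 Cfsg.Agent.H49 Cfsg.Agent.H48.Rec
open Cfsg.Agent.H74.Mon

theorem card_ker_range {A B : Type*} [AddGroup A] [AddGroup B] (f : A →+ B) :
    Nat.card f.ker * Nat.card f.range = Nat.card A := by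
  rw [← AddSubgroup.index_ker, AddSubgroup.card_mul_index]

theorem card_map_le {A B : Type*} [AddGroup A] [AddGroup B] [Finite A] (f : A →+ B)
    {S K : AddSubgroup A} (h1 : K ≤ S) (h2 : K ≤ f.ker) :
    Nat.card K * Nat.card (S.map f) ≤ Nat.card S := by
  rw [← card_ker_range (f.comp S.subtype), AddMonoidHom.range_comp, AddSubgroup.range_subtype]
  refine Nat.mul_le_mul_right _ (Nat.card_le_card_of_injective
    (fun k : K => (⟨⟨k.1, h1 k.2⟩, h2 k.2⟩ : (f.comp S.subtype).ker)) fun a b e => ?_)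
  exact Subtype.ext (congrArg (fun x => x.1.1) e)

theorem card_le_map {A B : Type*} [AddGroup A] [AddGroup B] [Finite A] (f : A →+ B)
    {S K : AddSubgroup A} (h : S ⊓ f.ker ≤ K) :
    Nat.card S ≤ Nat.card K * Nat.card (S.map f) := by
  rw [← card_ker_range (f.comp S.subtype), AddMonoidHom.range_comp, AddSubgroup.range_subtype]
  refine Nat.mul_le_mul_right _ (Nat.card_le_card_of_injective
    (fun k : (f.comp S.subtype).ker => (⟨k.1.1, h ⟨k.1.2, k.2⟩⟩ : K)) fun a b e => ?_)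
  exact Subtype.ext (Subtype.ext (congrArg (fun x => x.1) e))

/-- twice the lattice -/
def T2L : AddSubgroup Lam where
  carrier := {v | cong 0 v}
  zero_mem' := cong.refl _
  add_mem' := fun ha hb => by simpa using cong.add ha hb
  neg_mem' := fun ha => cong.trans ha (cong_neg _)

/-- the lattice modulo two -/
abbrev VV : Type := Lam ⧸ T2L

/-- the class of a vector -/
abbrev mkV : Lam →+ VV := QuotientAddGroup.mk' T2L

theorem mk_eq {v w : Lam} : mkV v = mkV w ↔ cong v w := by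
  rw [QuotientAddGroup.mk'_apply, QuotientAddGroup.mk'_apply, QuotientAddGroup.eq, cong_iff_add]
  exact ⟨fun h => cong.trans h ((cong_neg v).symm.add (cong.refl w)),
    fun h => cong.trans h ((cong_neg v).add (cong.refl w))⟩

theorem mk_surj (x : VV) : ∃ v, mkV v = x := QuotientAddGroup.mk'_surjective _ x

theorem card_VV : Nat.card VV = 2 ^ 24 := by
  rw [← Nat.card_fin (2 ^ 24)]
  refine (Nat.card_eq_of_bijective (fun i : Fin (2 ^ 24) => mkV (sumB bas i 24))
    ⟨fun i j e => Fin.ext ?_, fun x => ?_⟩).symm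
  · rw [← kap_sumB_bas i.2, cong_iff_kap.1 (mk_eq.1 e), kap_sumB_bas j.2]
  · obtain ⟨v, rfl⟩ := mk_surj x
    exact ⟨⟨kap v, kap_lt v⟩, mk_eq.2 (cong_iff_kap.2 (kap_sumB_bas (kap_lt v)))⟩

instance : Finite VV := Nat.finite_of_card_ne_zero (by rw [card_VV]; norm_num)

/-- the map `1 + g` -/
noncomputable def nV (g : Co0) : VV →+ VV :=
  QuotientAddGroup.map T2L T2L (AddMonoidHom.id Lam + DistribSMul.toAddMonoidHom Lam g)
    fun v hv => by
      have := cong.add hv (cong.smul hv g)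
      rwa [co_zero, add_zero] at this

theorem nV_mk (g : Co0) (v : Lam) : nV g (mkV v) = mkV (v + g • v) := rfl

theorem mem_ker {g : Co0} {v : Lam} : mkV v ∈ (nV g).ker ↔ H49.Fix g v := by
  rw [AddMonoidHom.mem_ker, nV_mk, ← map_zero mkV, eq_comm, mk_eq, H49.Fix, cong_iff_add (v := v)]

theorem mem_range {g : Co0} {v : Lam} : mkV v ∈ (nV g).range ↔ ∃ w, cong v (w + g • w) :=
  ⟨fun ⟨x, e⟩ => by
    obtain ⟨w, rfl⟩ := mk_surj x
    exact ⟨w, (mk_eq.1 e).symm⟩, fun ⟨w, e⟩ => ⟨mkV w, mk_eq.2 e.symm⟩⟩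

theorem card_kr (g : Co0) : Nat.card (nV g).ker * Nat.card (nV g).range = 2 ^ 24 :=
  (card_ker_range _).trans card_VV

theorem nV_nV {g k : Co0} (h : g * g = k ∨ g * g = negEl * k) (x : VV) :
    nV g (nV g x) = nV k x := by
  obtain ⟨v, rfl⟩ := mk_surj x
  rw [nV_mk, nV_mk, nV_mk, mk_eq, co_add, ← mul_smul]
  rcases h with e | e <;> rw [e]
  · exact ⟨-(g • v), by abel⟩
  · rw [mul_smul, negEl_smul]
    exact ⟨k • v - g • v, by abel⟩

theorem nV_one (x : VV) : nV 1 x = 0 := by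
  obtain ⟨v, rfl⟩ := mk_surj x
  exact mem_ker.2 (by rw [H49.Fix, one_smul]; exact cong.refl _)

theorem range_le_ker {g : Co0} (h : g * g = 1 ∨ g * g = negEl) : (nV g).range ≤ (nV g).ker := by
  rintro _ ⟨x, rfl⟩
  exact (nV_nV (k := 1) (by rwa [mul_one]) x).trans (nV_one x)

theorem ker_ge {g : Co0} (h : g * g = 1 ∨ g * g = negEl) : 2 ^ 12 ≤ Nat.card (nV g).ker := by
  have h1 := AddSubgroup.card_le_of_le (range_le_ker h)
  have h2 := card_kr g
  by_contra hn
  have := Nat.mul_lt_mul_of_lt_of_le (not_le.1 hn) (h1.trans (not_le.1 hn).le) (by norm_num)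
  omega

theorem ker_le_of {g : Co0} (h : ∀ v, H49.Fix g v → ∃ w, cong v (w + g • w)) :
    Nat.card (nV g).ker ≤ 2 ^ 12 := by
  have h1 : (nV g).ker ≤ (nV g).range := fun x hx => by
    obtain ⟨v, rfl⟩ := mk_surj x
    exact mem_range.2 (h v (mem_ker.1 hx))
  have h2 := card_kr g
  have h3 := AddSubgroup.card_le_of_le h1
  by_contra hn
  have := Nat.mul_le_mul (not_le.1 hn) ((not_le.1 hn).le.trans h3)
  omega

theorem range_zt_le : Nat.card (nV zt).range ≤ 256 := by
  let BT := 3193720894602113059608272921143343296308611949107755323344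
  let FT := 20000569254890422292922976141922419065478582079118901761
  have key : ∀ v : Lam, kap (v + zt • v) = phi 8 BT (code 8 FT (kap v)) := fun v => by
    rw [kap_add, mat_zt.kap_smul cols_zt]
    change nN iT (kap v) = _
    conv_lhs => rw [← xorC_pow (kap_lt v)]
    conv_rhs => rw [← xorC_pow (kap_lt v)]
    rw [xor_map_xorC (nN_xor iT), xor_map_xorC (φ := fun x => phi 8 BT (code 8 FT x))
      fun a b => by rw [code_xor, phi_xor]]
    exact xorC_congr _ fun i hi => beq_iff.1 (of_allB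
      (p := fun i => Nat.beq (nN iT (2 ^ i)) (phi 8 BT (code 8 FT (2 ^ i)))) (by decide +kernel) hi)
  rw [← Nat.card_fin 256]
  have ex : ∀ x : (nV zt).range, ∃ i : Fin 256, ∃ v, mkV v = x ∧ kap v = phi 8 BT i := by
    rintro ⟨_, x, rfl⟩
    obtain ⟨v, rfl⟩ := mk_surj x
    exact ⟨⟨_, code_lt 8 FT (kap v)⟩, _, rfl, key v⟩
  choose f v h1 h2 using ex
  refine Nat.card_le_card_of_injective f fun a b e => Subtype.ext ?_
  rw [← h1, ← h1, mk_eq, cong_iff_kap, h2, h2, e]

theorem ker_zt_le : Nat.card (nV zt).ker ≤ 256 * Nat.card (nV zt).range := by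
  rw [← Nat.card_fin 256, ← Nat.card_prod]
  have ex : ∀ x : (nV zt).ker, ∃ p : Fin 256 × (nV zt).range, x.1 = mkV (rp p.1) + p.2.1 := by
    rintro ⟨x, hx⟩
    obtain ⟨v, rfl⟩ := mk_surj x
    obtain ⟨w, hw⟩ := dec_zt (mem_ker.1 hx)
    exact ⟨(⟨_, code_lt 8 iPhi (kap v)⟩, ⟨_, mkV w, rfl⟩), mk_eq.2 hw⟩
  choose f hf using ex
  exact Nat.card_le_card_of_injective f fun a b e => Subtype.ext (by rw [hf, hf, e])

theorem card_zt : Nat.card (nV zt).range = 256 ∧ Nat.card (nV zt).ker = 2 ^ 16 := by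
  have h1 := range_zt_le
  have h2 := ker_zt_le
  have h3 := card_kr zt
  have h4 : Nat.card (nV zt).range = 256 := by
    by_contra hn
    have h5 : Nat.card (nV zt).range ≤ 255 := by omega
    have := Nat.mul_le_mul (h2.trans (Nat.mul_le_mul_left _ h5)) h5
    omega
  rw [h4] at h3
  exact ⟨h4, by omega⟩

/-- a square root of the sign change that fixes its commutator classes fixes no further class -/
theorem root_fix {g : Co0} (h : g * g = zt ∨ g * g = negEl * zt)
    (hf : ∀ w, H49.Fix g (w + zt • w)) {v : Lam} (hv : H49.Fix g v) :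
    ∃ w, cong v (w + zt • w) := by
  have h1 : (nV zt).range ≤ (nV g).ker := by
    rintro _ ⟨x, rfl⟩
    obtain ⟨w, rfl⟩ := mk_surj x
    exact mem_ker.2 (hf w)
  have h2 : (nV g).range.map (nV g) = (nV zt).range := le_antisymm (by
    rintro _ ⟨_, ⟨x, rfl⟩, rfl⟩
    exact ⟨x, (nV_nV h x).symm⟩) (by
    rintro _ ⟨x, rfl⟩
    exact ⟨_, ⟨x, rfl⟩, nV_nV h x⟩)
  have h3 := card_map_le (nV g) (S := (nV g).range) (K := (nV zt).range) (by
    rintro _ ⟨x, rfl⟩
    exact ⟨_, nV_nV h x⟩) h1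
  have h4 := card_kr g
  rw [h2, card_zt.1] at h3
  have h5 : Nat.card (nV g).ker ≤ Nat.card (nV zt).range := by
    rw [card_zt.1]
    by_contra hn
    have := Nat.mul_le_mul (not_le.1 hn) h3
    omega
  exact mem_range.1 ((AddSubgroup.eq_of_le_of_card_ge h1 h5).ge (mem_ker.2 hv))

theorem Qt_fix {g : Co0} (hg : g ∈ Qt) (w : Lam) : H49.Fix g (w + zt • w) := by
  have h2 : g • ((8 : ℤ) • (w - zt • w)) = (8 : ℤ) • (w - zt • w) := by
    rw [eight_smul_eq_sum, co_sum]
    refine Finset.sum_congr rfl fun j _ => ?_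
    by_cases hj : j ∈ toSet oct0
    · rw [co_zsmul, hg j hj]
    · rw [show (w - zt • w).1 j = 0 by
        simp only [zt, signEl_apply, if_neg hj, AddSubgroup.coe_sub, Pi.sub_apply, sub_self],
        zero_smul, co_zero]
  rw [co_zsmul] at h2
  have h3 : g • (w - zt • w) = w - zt • w := Subtype.ext (funext fun j => by
    have := congrArg (fun v : Lam => v.1 j) h2
    simp only [AddSubgroupClass.coe_zsmul, Pi.smul_apply, smul_eq_mul] at this
    omega)
  exact H49.Fix.of_cong (by rw [H49.Fix, h3]; exact cong.refl _) (cong_add_sub _ _).symm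

theorem fix_short {g : Co0} (h : g * g = 1) : ∃ v : Lam, sqNorm v.1 = 32 ∧ H49.Fix g v := by
  obtain ⟨k, c, hc, e⟩ := H10.Co.exists_conj_mem_Sg h
  obtain ⟨i, j, ij, hij⟩ : ∃ i j : GolayPt, i ≠ j ∧ (i ∈ c ↔ j ∈ c) := by
    by_cases h1 : none ∈ c ↔ some 0 ∈ c
    · exact ⟨_, _, by decide, h1⟩
    by_cases h2 : none ∈ c ↔ some 1 ∈ c
    · exact ⟨_, _, by decide, h2⟩
    exact ⟨some 0, some 1, by decide, by tauto⟩
  refine ⟨k⁻¹ • e44 i j 4 (.inl rfl), by rw [co_sqNorm, sqNorm_e44 ij], ?_⟩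
  rw [H49.Fix, ← cong_smul_iff k, ← mul_smul, ← mul_smul, ← mul_smul, e, mul_inv_cancel, one_smul]
  by_cases hi : i ∈ c
  · have : signEl c hc • e44 i j 4 (.inl rfl) = -e44 i j 4 (.inl rfl) :=
      Subtype.ext (funext fun l => by
        rw [signEl_apply, AddSubgroup.coe_neg, Pi.neg_apply, e44_val, Pi.add_apply,
          Pi.single_apply, Pi.single_apply]
        split_ifs <;> simp_all)
    rw [this]; exact cong_neg _
  · have : signEl c hc • e44 i j 4 (.inl rfl) = e44 i j 4 (.inl rfl) :=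
      Subtype.ext (funext fun l => by
        rw [signEl_apply, e44_val, Pi.add_apply, Pi.single_apply, Pi.single_apply]
        split_ifs <;> simp_all)
    rw [this]; exact cong.refl _

theorem exists_odd_ut : ∃ w : Lam, ¬ 32 ∣ sqNorm (w + ut • w).1 := by
  have : anyB (fun i => !dvdB 16 (ldot (basL.getD i []) (lact (sM dod0) (basL.getD i [])))) 24 =
    true := by decide +kernel
  obtain ⟨i, hi, e⟩ := anyB_iff.1 this
  refine ⟨H49.bas i, ?_⟩
  rw [Bool.not_eq_true', ← Bool.not_eq_true, dvdB_iff] at e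
  have h1 : ¬ 16 ∣ dotInt (H49.bas i).1 (ut • H49.bas i).1 := by
    rwa [mat_ut.smul (H49.bas i) _ (memL_length (memL_bas hi)) (lamD_val (memL_bas hi)), H49.bas,
      lamD_val (memL_bas hi), dot_vec _ _ (memL_length (memL_bas hi))]
  have h2 := sixteen_dvd_sqNorm (H49.bas i).2
  rw [AddSubgroup.coe_add, sqNorm_add, co_sqNorm]
  omega

theorem exists_four_zt : ∃ w v : Lam, sqNorm v.1 = 64 ∧ cong v (w + zt • w) := by
  obtain ⟨i, hi⟩ : ∃ i, i ∈ toSet oct0 := 
    ⟨H42.pt 0, (H42.pt_mem_toSet (by norm_num)).2 (by decide)⟩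
  obtain ⟨j, hj⟩ : ∃ i, i ∉ toSet oct0 :=
    ⟨H42.pt 4, fun h => absurd ((H42.pt_mem_toSet (by norm_num)).1 h) (by decide)⟩
  refine ⟨e44 j i 4 (.inl rfl), e8 j, sqNorm_e8 j, (congrArg (cong _) (Subtype.ext (funext fun l => ?_))).mp
    (cong.refl (e8 j))⟩
  rw [AddSubgroup.coe_add, Pi.add_apply, zt, signEl_apply, e44_val, e8_apply, Pi.add_apply,
    Pi.single_apply, Pi.single_apply]
  split_ifs <;> simp_all

theorem exists_odd_fix_zt : ∃ v : Lam, H49.Fix zt v ∧ ¬ 32 ∣ sqNorm v.1 := by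
  have : anyB (fun m => !dvdB 32 (H49.forceL (repL m) fun l => ldot l l)) 256 = true := by
    decide +kernel
  obtain ⟨m, hm, e⟩ := anyB_iff.1 this
  refine ⟨rp m, (rep_spec hm).2.2, ?_⟩
  rwa [Bool.not_eq_true', ← Bool.not_eq_true, dvdB_iff, H49.forceL_eq, ← dot_rp hm hm,
    ← sqNorm_eq_dot] at e

/-- normal 2-subgroups of the centralizer of the 2-central involution of `Co1` -/
theorem le_Q0 {N : Subgroup Spor.Co1} (h2 : IsPGroup 2 N) (hle : N ≤ centralizer {z0})
    (hn : ∀ c ∈ centralizer ({z0} : Set Spor.Co1), ∀ x ∈ N, c * x * c⁻¹ ∈ N) : N ≤ Q0 := by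
  obtain ⟨hn0, -, -, -, ⟨e⟩⟩ := ch0.hyp
  have := simple_Omega8
  let π := e.toMonoidHom.comp (QuotientGroup.mk' (Q0.subgroupOf (centralizer {z0})))
  have hs : Function.Surjective π := e.surjective.comp (QuotientGroup.mk'_surjective _)
  have h1 : (N.subgroupOf (centralizer {z0})).Normal := ⟨fun x hx c => hn c c.2 x hx⟩
  have : Fact (Nat.Prime 2) := ⟨Nat.prime_two⟩
  rcases (h1.map π hs).eq_bot_or_eq_top with h | h
  · intro x hx
    have h3 : π ⟨x, hle hx⟩ = 1 := h.le (mem_map_of_mem π hx)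
    exact (QuotientGroup.eq_one_iff (N := Q0.subgroupOf (centralizer {z0})) _).1
      (e.map_eq_one_iff.1 h3)
  · obtain ⟨n, h3⟩ := IsPGroup.iff_card.1 (h2.comap_subtype.map π)
    change Nat.card ((N.subgroupOf _).map π) = _ at h3
    rw [h, card_top, card_Omega8] at h3
    have h4 : 3 ∣ 2 ^ n := h3 ▸ by norm_num
    exact absurd (Nat.prime_three.dvd_of_dvd_pow h4) (by norm_num)

end Cfsg.Agent.H74.Ms
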