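/-
Groups of Monster type: preimages of subspaces, uniqueness of the data, elements that centralize a
large part of the extraspecial group.
-/
import Cfsg.Agent.H74.MsLat
import Cfsg.Agent.H34.MidAut4
import Cfsg.Agent.H59.MidCo1
import Cfsg.Agent.H48.MidLat

set_option autoImplicit false

namespace Cfsg.Agent.H74.Ms

open Cfsg Subgroup Cfsg.Agent.H48 Cfsg.Agent.H42 Cfsg.Agent.H43 Cfsg.Agent.H49 Cfsg.Agent.H48.Rec
open Cfsg.Agent.H74.Mon

variable {G : Type*} [Group G] {Q : Subgroup G} {z : G}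
  {θ : centralizer ({z} : Set G) →* Spor.Co1} {R : Lam → G → Prop}

/-- the class of an element of the extraspecial group -/
noncomputable def rho (h : MD Q z θ R) : Q →* Multiplicative VV :=
  MonoidHom.mk' (fun q => Multiplicative.ofAdd (mkV (h.ex1 q q.2).choose)) fun a b => by
    rw [← ofAdd_add, ← map_add, mk_eq.2 ((h.uniq (h.ex1 _ (a * b).2).choose_spec
      (h.mul (h.ex1 _ a.2).choose_spec (h.ex1 _ b.2).choose_spec)).2 (Or.inl rfl))]

theorem rho_eq (h : MD Q z θ R) {v : Lam} {q : G} (r : R v q) :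
    rho h ⟨q, h.mem r⟩ = Multiplicative.ofAdd (mkV v) :=
  congrArg Multiplicative.ofAdd (mk_eq.2 ((h.uniq (h.ex1 _ (h.mem r)).choose_spec r).2 (Or.inl rfl)))

/-- the preimage of a subspace -/
noncomputable def pre (h : MD Q z θ R) (S : AddSubgroup VV) : Subgroup G :=
  (S.toSubgroup.comap (rho h)).map Q.subtype

theorem pre_le (h : MD Q z θ R) (S : AddSubgroup VV) : pre h S ≤ Q := map_subtype_le _

theorem mem_pre (h : MD Q z θ R) {S : AddSubgroup VV} {v : Lam} {q : G} (r : R v q) :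
    q ∈ pre h S ↔ mkV v ∈ S :=
  (mem_map_iff_mem (f := Q.subtype) (x := ⟨q, h.mem r⟩) Q.subtype_injective).trans
    (by rw [mem_comap, rho_eq h r]; rfl)

theorem card_pre (h : MD Q z θ R) (S : AddSubgroup VV) :
    Nat.card (pre h S) = 2 * Nat.card S := by
  have hs : Function.Surjective (rho h) := fun x => by
    obtain ⟨v, e⟩ := mk_surj x.toAdd
    obtain ⟨q, r⟩ := h.ex2 v
    exact ⟨_, (rho_eq h r).trans (congrArg _ e)⟩
  have h1 := (S.toSubgroup.comap (rho h)).card_mul_index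
  have h2 := S.card_mul_index
  rw [index_comap_of_surjective _ hs, h.card, AddSubgroup.index_toSubgroup] at h1
  rw [card_VV] at h2
  rw [pre, card_map_of_injective Q.subtype_injective]
  refine Nat.eq_of_mul_eq_mul_right (Nat.pos_of_ne_zero S.index_ne_zero_of_finite) ?_
  rw [h1, mul_assoc, h2]; norm_num

theorem card_le_fix [Finite G] (h : MD Q z θ R) {g : Co0} {k : G} (a : Ass θ g k) :
    Nat.card ↥(Q ⊓ centralizer {k}) ≤ 2 * Nat.card (nV g).ker := by
  rw [← card_pre h]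
  refine card_le_of_le fun q hq => ?_
  obtain ⟨v, r⟩ := h.ex1 q hq.1
  exact (mem_pre h r).2 (mem_ker.2 (h.cong_of_comm r a (mem_centralizer_singleton_iff.1 hq.2).symm))

theorem le_card_fix [Finite G] (h : MD Q z θ R) {g : Co0} {k : G}
    (c : ∀ v q, R v q → H49.Fix g v → q * k = k * q) :
    2 * Nat.card (nV g).ker ≤ Nat.card ↥(Q ⊓ centralizer {k}) := by
  rw [← card_pre h]
  refine card_le_of_le fun q hq => ?_
  obtain ⟨v, r⟩ := h.ex1 q (pre_le h _ hq)
  exact ⟨h.mem r, mem_centralizer_singleton_iff.2 (c v q r (mem_ker.1 ((mem_pre h r).1 hq)))⟩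

/-- the image of a subgroup in `Co1` -/
def img (θ : centralizer ({z} : Set G) →* Spor.Co1) (H : Subgroup G) : Subgroup Spor.Co1 :=
  (H.subgroupOf _).map θ

theorem mem_img {H : Subgroup G} {g : Co0} : mk1 g ∈ img θ H ↔ ∃ k ∈ H, Ass θ g k := mem_pull

theorem card_img [Finite G] (h : MD Q z θ R) {H : Subgroup G} (hH : H ≤ centralizer {z}) :
    Nat.card ↥(Q ⊓ H) * Nat.card (img θ H) = Nat.card H := by
  have e : θ.ker = Q.subgroupOf _ := Subgroup.ext fun c => h.ker c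
  rw [img, ← relIndex_ker, e, relIndex_subgroupOf hH, inf_comm Q, XS.card_mul_relIndex']

theorem le_or_all (h : MD Q z θ R) {N : Subgroup G} (hle : N ≤ centralizer {z})
    (hn : ∀ c, c * z = z * c → ∀ x ∈ N, c * x * c⁻¹ ∈ N) : N ≤ Q ∨ ∀ g, ∃ k ∈ N, Ass θ g k := by
  have h1 : (N.subgroupOf (centralizer {z})).Normal :=
    ⟨fun x hx c => hn c (mem_centralizer_singleton_iff.1 c.2) x hx⟩
  have : IsSimpleGroup Spor.Co1 := simple_Co1
  refine (h1.map θ h.surj).eq_bot_or_eq_top.imp (fun e x hx => ?_) fun e g =>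
    mem_img.1 (e.ge (mem_top _))
  exact (h.ker ⟨x, hle hx⟩).1 (e.le (mem_map_of_mem θ hx))

theorem md_le (h : MD Q z θ R) {Q' : Subgroup G} {θ' : centralizer ({z} : Set G) →* Spor.Co1}
    {R' : Lam → G → Prop} (h' : MD Q' z θ' R') : Q' ≤ Q := by
  refine (le_or_all h h'.hQ.le_centralizer fun c hc x hx => h'.hQ.conj_mem hc hx).resolve_right
    fun e => ?_
  have : Fact (Nat.Prime 2) := ⟨Nat.prime_two⟩
  obtain ⟨n, h3⟩ := IsPGroup.iff_card.1 (isPGroup_pull' (θ := θ) h'.hQ.isPGroup)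
  rw [(eq_top_iff (a := pull θ Q')).2 fun g _ => mem_pull.2 (e g), card_top, card_Co0] at h3
  have h4 : 3 ∣ 2 ^ n := h3 ▸ by norm_num
  exact absurd (Nat.prime_three.dvd_of_dvd_pow h4) (by norm_num)

theorem pair_of [Finite G] (h : MD Q z θ R) {Q' : Subgroup G} {y : G}
    {θ' : centralizer ({y} : Set G) →* Spor.Co1} {R' : Lam → G → Prop} (h' : MD Q' y θ' R')
    (hy : y ∈ Q) (c : IsConj z y) (ne : y ≠ z) : Pair Q Q' z y := by
  obtain ⟨S, p⟩ := h.pair hy c ne
  obtain ⟨g, rfl, rfl⟩ := p.conj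
  obtain ⟨θ1, h1⟩ := H34.MidA.md_map h (MulAut.conj g)
  exact le_antisymm (md_le h' h1) (md_le h1 h') ▸ p

theorem twist_cases (h : MD Q z θ R) {g : Co0} {y : G} (a : Ass θ g y) (hg : g * g = 1) :
    y ∈ Q ∨ ∃ θ' R', MD Q z θ' R' ∧ (Ass θ' zt y ∨ Ass θ' ut y) := by
  have key : ∀ {x : Co0}, IsConj (mk1 x) (mk1 g) → ∃ g₀, mk1 x = mk1 (g₀ * g * g₀⁻¹) := fun e => by
    obtain ⟨c, hc⟩ := isConj_iff.1 e.symm
    obtain ⟨c, rfl⟩ := mk1_surj c
    exact ⟨c, by rw [map_mul, map_mul, map_inv, hc]⟩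
  rcases H10.CoI.cases_of_sq hg with e | e | e
  · exact .inl ((h.ass_mem_iff a).2 ((QuotientGroup.eq_one_iff g).1 e))
  · obtain ⟨g₀, e⟩ := key e
    exact .inr ⟨_, _, h.twist g₀, .inl (ass_of_eq (a.twist g₀) e)⟩
  · obtain ⟨g₀, e⟩ := key e
    exact .inr ⟨_, _, h.twist g₀, .inr (ass_of_eq (a.twist g₀) e)⟩

theorem sq_cases' (h : MD Q z θ R) {g : Co0} {y : G} (a : Ass θ g y) (yy : y * y ∈ Q) :
    g * g = 1 ∨ g * g = negEl := mem_center_Co0.1 ((h.ass_mem_iff (a.mul a)).1 yy)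

theorem mem_of_fix [Finite G] (h : MD Q z θ R) (n : ℕ) : ∀ {c : G}, c * z = z * c →
    c ^ 2 ^ n = 1 → 2 ^ 17 < Nat.card ↥(Q ⊓ centralizer {c}) → c ∈ Q := by
  induction n with
  | zero => exact fun _ e _ => by rw [pow_zero, pow_one] at e; exact e ▸ one_mem _
  | succ n ih =>
    intro c hc e hW
    have h2 : c * c ∈ Q := ih (Commute.mul_left hc hc) (by rw [← sq, ← pow_mul, ← pow_succ', e])
      (hW.trans_le (card_le_of_le (inf_le_inf_left _ fun x hx => mem_centralizer_singleton_iff.2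
        (Commute.mul_right (mem_centralizer_singleton_iff.1 hx)
          (mem_centralizer_singleton_iff.1 hx)))))
    obtain ⟨g, a⟩ := exists_ass (θ := θ) hc
    rcases sq_cases' h a h2 with hg | hg
    · rcases twist_cases h a hg with e | ⟨θ', R', h', a' | a'⟩
      · exact e
      · have := card_le_fix h' a'
        rw [card_zt.2] at this
        omega
      · have := card_le_fix h' a'
        have := ker_le_of (g := ut) fun v => dec_ut
        omega
    · have := card_le_fix h a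
      have := ker_le_of (g := g) fun v hv => (dec_neg hg hv).imp fun _ => And.left
      omega

theorem img_le [Finite G] (h : MD Q z θ R) {E : Subgroup G} (hE : ∀ e ∈ E, e * e ∈ Q) :
    Nat.card (img θ E) ≤ 2 ^ 11 := by
  by_contra hn
  obtain ⟨g, hg⟩ := H59.MidCo1.e11 (img θ E) (by
    rintro _ ⟨x, hx, rfl⟩
    rw [← map_mul]
    exact (h.ker _).2 (hE x hx)) (by omega)
  refine hn (card_A0 ▸ Nat.card_le_card_of_injective
    (fun x : img θ E => (⟨g * x * g⁻¹, hg x x.2⟩ : A0)) fun a b e => Subtype.ext ?_)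
  exact mul_left_cancel (mul_right_cancel (congrArg Subtype.val e))

theorem exists_inf [Finite G] (h : MD Q z θ R) {E : Subgroup G} (hle : E ≤ centralizer {z})
    (hE : ∀ e ∈ E, e * e ∈ Q) (hc : 2 ^ 12 ≤ Nat.card E) : ∃ e ∈ E, e ∈ Q ∧ e ≠ 1 := by
  by_contra! hn
  have h1 := card_img h hle
  have h2 := img_le h hE
  rw [(eq_bot_iff (a := Q ⊓ E)).2 fun x hx => hn x hx.2 hx.1, card_bot] at h1
  omega

theorem neg_spec (h : MD Q z θ R) {g : Co0} (hg : g * g = negEl) :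
    2 ^ 13 ≤ Nat.card (pre h (nV g).ker) ∧
      ∀ e ∈ pre h (nV g).ker, e * e = 1 ∧ ¬ H48.Mid.T2 R e := by
  refine ⟨by rw [card_pre]; have := ker_ge (.inr hg); omega, fun e he => ⟨?_, ?_⟩⟩
  · obtain ⟨v, r⟩ := h.ex1 e (pre_le h _ he)
    obtain ⟨w, c, h32⟩ := dec_neg hg (mem_ker.1 ((mem_pre h r).1 he))
    exact (h.sq_iff (h.cg r c)).2 h32
  · rintro ⟨v, hv, r⟩
    have e1 : -v = v := by
      rw [← negEl_smul, ← hg, mul_smul]
      rcases H48.Mid.eq_or_neg hv (by rw [co_sqNorm, hv]) (mem_ker.1 ((mem_pre h r).1 he))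
        with e | e
      · rw [e, e]
      · rw [e, co_neg, e, neg_neg]
    have e2 := sqNorm_add v.1 v.1
    nth_rw 1 [← e1] at e2
    rw [← sqNorm_eq_dot, hv, AddSubgroup.coe_neg, neg_add_cancel] at e2
    simp [sqNorm] at e2

end Cfsg.Agent.H74.Ms
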