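import Cfsg.Agent.H48.BeDefs
import Cfsg.Agent.S0028

/-! The Baby Monster times an odd group: a subgroup containing two centralizers is everything. -/

set_option autoImplicit false
set_option maxHeartbeats 2000000

namespace Cfsg.Agent.H74.Be

open Cfsg Subgroup Cfsg.Agent.H48 Cfsg.Agent.H49 Cfsg.Agent.H97.Gr Cfsg.Agent.H97.Gr.B6b
  Cfsg.Agent.H97.Mj Cfsg.Agent.H97.Yt Cfsg.Agent.H98 Cfsg.Agent.H47.Bu Cfsg.Agent.H47.B6

universe u

section ti

variable {B G : Type*} [Group B] [Group G] [Finite G]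

omit [Finite G] in
theorem mem_of_pow {H : Subgroup G} {x : G} {m : ℕ} (hx : x ^ m ∈ H)
    (c : m.Coprime (orderOf x)) : x ∈ H :=
  zpowers_le.2 hx (mem_zpowers_pow_iff.2 c)

/-- the normalizer of an odd group is the product with an image -/
structure Pr (ι : B →* G) (W : Subgroup G) : Prop where
  inj : Function.Injective ι
  odd : Odd (Nat.card W)
  cw : ∀ w ∈ W, ∀ b, w * ι b = ι b * w
  dec : ∀ x ∈ normalizer (W : Set G), ∃ b, (ι b)⁻¹ * x ∈ W

namespace Pr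

variable {ι : B →* G} {W : Subgroup G} (h : Pr ι W)
include h

theorem le (b : B) : ι b ∈ normalizer (W : Set G) :=
  mem_normalizer_of_conj_mem fun w hw => by rwa [← h.cw w hw, mul_inv_cancel_right]

omit [Finite G] in
theorem pow {x : G} {b : B} (e : (ι b)⁻¹ * x ∈ W) (m : ℕ) :
    x ^ m = ι (b ^ m) * ((ι b)⁻¹ * x) ^ m := by
  have c : Commute (ι b) ((ι b)⁻¹ * x) := (h.cw _ e b).symm
  rw [map_pow, ← c.mul_pow, mul_inv_cancel_left]

omit [Finite G] in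
theorem two {x : G} (hx : x ∈ normalizer (W : Set G)) {n : ℕ} (e : x ^ 2 ^ n = 1) :
    x ∈ ι.range := by
  obtain ⟨b, hb⟩ := h.dec x hx
  refine mem_of_pow (m := Nat.card W) ⟨b ^ Nat.card W, ?_⟩ ?_
  · have : ((ι b)⁻¹ * x) ^ Nat.card W = 1 :=
      congrArg Subtype.val (pow_card_eq_one' (x := (⟨_, hb⟩ : W)))
    rw [h.pow hb, this, mul_one]
  · exact Nat.Coprime.coprime_dvd_right (orderOf_dvd_of_pow_eq_one e)
      (Nat.Coprime.pow_right _ (Nat.coprime_two_right.2 h.odd))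

omit [Finite G] in
theorem inn {g : G} (hg : g ∈ normalizer (W : Set G)) :
    ∃ b, ∀ a, g * ι a * g⁻¹ = ι b * ι a * (ι b)⁻¹ := by
  obtain ⟨b, hb⟩ := h.dec g hg
  refine ⟨b, fun a => ?_⟩
  calc _ = ι b * ((ι b)⁻¹ * g * ι a) * g⁻¹ := by group
    _ = _ := by rw [h.cw _ hb]; group

theorem ti0 {Q : Subgroup B} {z : B} (hQ : LX Q z)
    (cz : ∀ k, k * ι z = ι z * k → k ∈ normalizer (W : Set G)) {x : G}
    (cx : ∀ k, k * x = x * k → k ∈ normalizer (W : Set G)) {g : G} {u : B} (uu : u * u = 1)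
    (uz : u * z = z * u) (e : g * x * g⁻¹ = ι u) : g ∈ normalizer (W : Set G) := by
  have : Fact (Nat.Prime 2) := ⟨Nat.prime_two⟩
  have c2 : ∀ a : B, a * u = u * a → a ^ 4 = 1 → ∀ w ∈ cj W g, w * ι a = ι a * w := by
    intro a c a4 w hw
    obtain ⟨b, hb⟩ := h.two (cx (g⁻¹ * ι a * g) (by
      calc _ = g⁻¹ * (ι a * (g * x * g⁻¹)) * g := by group
        _ = _ := by rw [e, ← map_mul, c, map_mul, ← e]; group)) (n := 2) (by
      rw [show g⁻¹ * ι a * g = g⁻¹ * ι a * g⁻¹⁻¹ by rw [inv_inv], conj_pow, ← map_pow,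
        show 2 ^ 2 = 4 from rfl, a4]; simp)
    have := h.cw _ (mem_cj.1 hw) b
    rw [hb] at this
    calc _ = g * (g⁻¹ * w * g * (g⁻¹ * ι a * g)) * g⁻¹ := by group
      _ = _ := by rw [this]; group
  have wz : ∀ w ∈ cj W g, w * ι z = ι z * w := c2 z uz.symm (hQ.pow_four hQ.mem)
  have nU : ∀ c, c * ι z = ι z * c → c ∈ normalizer (Q.map ι : Set G) := fun c hc => by
    obtain ⟨b, hb⟩ := h.inn (cz c hc)
    have bz : b * z = z * b := mul_inv_eq_iff_eq_mul.1 (h.inj (by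
      rw [map_mul, map_mul, map_inv, ← hb, hc, mul_inv_cancel_right]))
    refine mem_normalizer_of_conj_mem ?_
    rintro _ ⟨q, hq, rfl⟩
    exact ⟨_, hQ.conj_mem bz hq, by rw [hb]; simp⟩
  have od : Odd (Nat.card (cj W g)) := by rw [card_cj]; exact h.odd
  have key := S0028.result 2 (zpowers (ι u)) (cj W g) (Q.map ι)
    (IsPGroup.of_card_dvd_pow (n := 1) (by
      rw [Nat.card_zpowers, pow_one]
      exact orderOf_dvd_of_pow_eq_one (by rw [sq, ← map_mul, uu, map_one])))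
    (Nat.coprime_two_right.2 od) (hQ.isPGroup.map ι)
    (zpowers_le.2 fun w hw => c2 u rfl (by rw [show u ^ 4 = u * u * (u * u) by simp [pow_succ, mul_assoc], uu, one_mul]) w hw)
    (zpowers_le.2 (nU _ (by rw [← map_mul, uz, map_mul]))) (fun w hw => nU w (wz w hw)) (by
      rintro _ ⟨⟨q, hq, rfl⟩, c⟩ w hw
      exact c2 q (h.inj (by rw [map_mul, map_mul]; exact (c _ (mem_zpowers _)).symm))
        (hQ.pow_four hq) w hw)
  refine mem_normalizer_of_conj_mem fun w hw => ?_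
  have m := conj_mem_cj g hw
  generalize g * w * g⁻¹ = w at m
  obtain ⟨b, hb⟩ := h.dec w (cz w (wz w m))
  have bQ : b ∈ Q := hQ.cQ fun q hq => h.inj (by
    have e1 := key m _ ⟨q, hq, rfl⟩
    have e2 := h.cw _ hb q
    rw [map_mul, map_mul]
    calc _ = ι b * ((ι b)⁻¹ * (ι q * w) * ((ι b)⁻¹ * w)⁻¹) := by group
      _ = _ := by rw [e1, ← mul_assoc (ι b)⁻¹, e2]; group)
  refine mem_of_pow (m := 4) (by rw [h.pow hb, hQ.pow_four bQ, map_one, one_mul]; exact pow_mem hb _) ?_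
  exact Nat.Coprime.pow_left 2 (Nat.coprime_two_left.2 (odd_orderOf_of_mem od m))

/-- control of fusion for an involution whose centralizer normalizes the odd group -/
theorem ti {Q : Subgroup B} {z : B} (hQ : LX Q z)
    (cz : ∀ k, k * ι z = ι z * k → k ∈ normalizer (W : Set G)) {x : G} (xx : x * x = 1)
    (cx : ∀ k, k * x = x * k → k ∈ normalizer (W : Set G)) {g : G}
    (hg : g * x * g⁻¹ ∈ normalizer (W : Set G)) : g ∈ normalizer (W : Set G) := by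
  have : Fact (Nat.Prime 2) := ⟨Nat.prime_two⟩
  have : Finite B := Finite.of_injective ι h.inj
  have e : g * x * g⁻¹ * (g * x * g⁻¹) = 1 := by rw [conj_mul, xx, mul_one, mul_inv_cancel]
  obtain ⟨u, hu⟩ := h.two hg (n := 1) (by rw [pow_one, sq, e])
  have uu : u * u = 1 := h.inj (by rw [map_mul, hu, e, map_one])
  obtain ⟨T, hT⟩ := exists_sylIn 2 (centralizer ({z} : Set B))
  obtain ⟨k, -, e⟩ := (hQ.sylIn_top hT).exists_conj_le (U := zpowers u) le_top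
    (IsPGroup.of_card_dvd_pow (n := 1) (by
      rw [Nat.card_zpowers, pow_one]; exact orderOf_dvd_of_pow_eq_one (by rw [sq, uu])))
  refine (mul_mem_cancel_left (h.le k)).1 (h.ti0 hQ cz cx (u := k * u * k⁻¹)
    (by rw [conj_mul, uu, mul_one, mul_inv_cancel])
    (mem_centralizer_singleton_iff.1 (hT.le (e ⟨u, mem_zpowers u, rfl⟩))) ?_)
  rw [map_mul, map_mul, map_inv, hu]; group

end Pr

end ti

/-- An image of the double cover of the Baby Monster in a subgroup that controls fusion. -/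
structure Eb {G : Type*} [Group G] (z t : G) (φ : KK →* G) (H : Subgroup G) : Prop where
  ker : ∀ k, φ k = 1 ↔ k = 1 ∨ k = s0
  hz : φ z0 = z
  ht : ∃ y : KK, y.1 ∈ DD ∧ y.1 * tU ∈ DD ∧ φ y = t
  le : ∀ k, φ k ∈ H
  inn : ∀ g ∈ H, ∃ k, ∀ a, g * φ a * g⁻¹ = φ (k * a * k⁻¹)
  ti_z : ∀ {g}, g * z * g⁻¹ ∈ H → g ∈ H
  ti_t : ∀ {g}, g * t * g⁻¹ ∈ H → g ∈ H

namespace Eb

variable {G : Type*} [Group G] {z t : G} {φ : KK →* G} {H : Subgroup G} (h : Eb z t φ H)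
include h

theorem eq_iff {a b : KK} : φ a = φ b ↔ b = a ∨ b = a * s0 := by
  rw [← inv_mul_eq_one, ← map_inv, ← map_mul, h.ker, inv_mul_eq_one, inv_mul_eq_iff_eq_mul, eq_comm]

theorem mul_s (a : KK) : φ (a * s0) = φ a := (h.eq_iff.2 (Or.inr rfl)).symm

theorem comm_z {k : KK} (c : φ k * z = z * φ k) : k * z0 = z0 * k := by
  rcases (h.eq_iff (a := z0) (b := k * z0 * k⁻¹)).1 (by
    rw [map_mul, map_mul, map_inv, h.hz, c, mul_inv_cancel_right]) with e | e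
  · exact mul_inv_eq_iff_eq_mul.1 e
  · have e' : k.1 * zA * k.1⁻¹ = zA * tU := congrArg Subtype.val e
    exact absurd (e' ▸ ZZ_conj k.1 zA_mem) (disj_DD_ZZ zA_tU_mem)

theorem zh_of {w : KK} (h1 : w.1 ∈ ZZ) (h2 : w.1 * tU ∈ DD) : ∃ k, φ k * z * (φ k)⁻¹ = φ w := by
  obtain ⟨k, hk⟩ := trans_ZD h1 h2
  refine ⟨k⁻¹, ?_⟩
  rw [← h.hz, ← show k * w * k⁻¹ = z0 from Subtype.ext hk, ← map_inv, ← map_mul, ← map_mul]
  congr 1; group

theorem th_of {w : KK} (h1 : w.1 ∈ DD) (h2 : w.1 * tU ∈ DD) : ∃ k, φ k * t * (φ k)⁻¹ = φ w := by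
  obtain ⟨y, y1, y2, rfl⟩ := h.ht
  obtain ⟨g, g1, g2⟩ := trans_nb tU_mem y1 h1 ((mem_centralizer_singleton_iff.1 y.2) ▸ y2)
    ((mem_centralizer_singleton_iff.1 w.2) ▸ h2)
  exact ⟨⟨g, mem_centralizer_singleton_iff.2 g1⟩, by
    rw [← map_inv, ← map_mul, ← map_mul]; exact congrArg φ (Subtype.ext g2)⟩

theorem classes {w : KK} (ww : w * w = 1) (h1 : φ w ≠ 1) : (w.1 ∈ DD ∧ w.1 * tU ∈ DD) ∨
    (∃ k, φ k * z * (φ k)⁻¹ = φ w) ∨ (w.1 ∈ ZZ ∧ w.1 * tU ∈ ZZ) := by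
  have e : w * s0 * (w * s0) = 1 := by
    rw [mul_assoc, ← mul_assoc s0, ← comm_s0, mul_assoc, s0_sq, mul_one, ww]
  rcases H74.Mon.two_real w.1 (congrArg Subtype.val ww) with a | a | a
  · exact absurd (by rw [show w = 1 from Subtype.ext a, map_one]) h1
  all_goals rcases H74.Mon.two_real (w * s0).1 (congrArg Subtype.val e) with b | b | b
  · exact absurd (by rw [← h.mul_s, show w * s0 = 1 from Subtype.ext b, map_one]) h1
  · exact Or.inl ⟨a, b⟩
  · exact Or.inr (Or.inl (h.mul_s w ▸ h.zh_of b (by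
      rwa [Subgroup.coe_mul, mul_assoc, show s0.1 * tU = 1 from mrep.sq tU_mem, mul_one])))
  · exact absurd (by rw [← h.mul_s, show w * s0 = 1 from Subtype.ext b, map_one]) h1
  · exact Or.inr (Or.inl (h.zh_of a b))
  · exact Or.inr (Or.inr ⟨a, b⟩)

theorem zz : z * z = 1 := by
  rw [← h.hz, ← map_mul, show z0 * z0 = 1 from Subtype.ext lx.zz, map_one]

theorem key {w y : KK} (h1 : w.1 ∈ ZZ ∧ w.1 * tU ∈ ZZ ∨ y.1 * tU ∈ DD ∧ w.1 ∈ ZZ) (hy : y.1 ∈ DD)
    (ti : ∀ g, g * φ y * g⁻¹ ∈ H → g ∈ H) : ¬ IsConj (φ y) (φ w) := fun c => by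
  obtain ⟨g, hg⟩ := isConj_iff.1 c
  obtain ⟨k, hk⟩ := h.inn g (ti g (hg ▸ h.le w))
  have := mrep.conj k.1 _ hy
  rcases (h.eq_iff (a := w) (b := k * y * k⁻¹)).1 (by rw [← hg, hk]) with e | e
  · exact disj_DD_ZZ this (Set.mem_of_eq_of_mem (congrArg Subtype.val e) (h1.elim And.left And.right))
  · rcases h1 with h1 | h1
    · exact disj_DD_ZZ this (Set.mem_of_eq_of_mem (congrArg Subtype.val e) h1.2)
    · have e' : k * (y * s0) * k⁻¹ = w := by
        rw [conj_mul_of_comm (comm_s0 k), e, mul_assoc, s0_sq, mul_one]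
      exact disj_DD_ZZ (mrep.conj k.1 _ h1.1) (Set.mem_of_eq_of_mem (congrArg Subtype.val e') h1.2)

theorem nc : ¬ IsConj z t := by
  obtain ⟨y, y1, y2, e⟩ := h.ht
  have := h.key (w := z0) (Or.inr ⟨y2, zA_mem⟩) y1 (e.symm ▸ fun _ => h.ti_t)
  rw [e, h.hz] at this
  exact fun c => this c.symm

theorem of_comm_z {k : KK} {v : G} (c : v * (φ k * z * (φ k)⁻¹) * v⁻¹ ∈ H) : v ∈ H :=
  (mul_mem_cancel_right (h.le k)).1 (h.ti_z (by convert c using 1; group))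

theorem ti_D {w : KK} (hw : w.1 ∈ DD) (n : φ w ≠ 1) {g : G} (hg : g * φ w * g⁻¹ ∈ H) : g ∈ H := by
  rcases h.classes (Subtype.ext (mrep.sq hw)) n with a | ⟨k, a⟩ | a
  · obtain ⟨k, hk⟩ := h.th_of a.1 a.2
    exact (mul_mem_cancel_right (h.le k)).1 (h.ti_t (by convert hg using 1; rw [← hk]; group))
  · exact h.of_comm_z (a ▸ hg)
  · exact absurd a.1 (disj_DD_ZZ hw)

theorem not_conj {w : KK} (h1 : w.1 ∈ ZZ) (h2 : w.1 * tU ∈ ZZ) :
    ¬ IsConj z (φ w) ∧ ¬ IsConj t (φ w) := by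
  obtain ⟨y, y1, -, e⟩ := h.ht
  have e' : φ (z0 * s0) = z := (h.mul_s _).trans h.hz
  exact ⟨e' ▸ h.key (Or.inl ⟨h1, h2⟩) zA_tU_mem (e'.symm ▸ fun _ => h.ti_z),
    e ▸ h.key (Or.inl ⟨h1, h2⟩) y1 (e.symm ▸ fun _ => h.ti_t)⟩

variable [Finite G]

/-- The centralizer of an involution of class 2D lies in the image. -/
theorem cent_2D (hW : WStmt) {w : KK} (h1 : w.1 ∈ ZZ) (h2 : w.1 * tU ∈ ZZ) {c : G}
    (hc : c * φ w = φ w * c) : c ∈ H := by
  by_contra hn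
  obtain ⟨A, A1, A2, -, ⟨a, ha, a1, a2, a3, a4⟩, b, hb, b1, b2, b3, b4, -⟩ := hW tU tU_mem w.1 h1 h2
  have AK : A ≤ KK := fun a ha => mem_centralizer_singleton_iff.2 (A2 a ha).1
  lift a to KK using AK ha
  lift b to KK using AK hb
  have ww : w * w = 1 := Subtype.ext (mloc.zsq _ h1)
  have uu : φ w * φ w = 1 := by rw [← map_mul, ww, map_one]
  have cw : ∀ a : KK, a.1 ∈ A → φ a * φ w = φ w * φ a := fun a ha => by
    rw [← map_mul, ← map_mul]; exact congrArg φ (Subtype.ext (A2 _ ha).2.1)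
  obtain ⟨ka, za⟩ := h.zh_of (w := a * s0) a2 (by
    rwa [Subgroup.coe_mul, mul_assoc, show s0.1 * tU = 1 from mrep.sq tU_mem, mul_one])
  rw [h.mul_s] at za
  obtain ⟨kb, zb⟩ := h.zh_of b1 b2
  obtain ⟨ta, ea⟩ := h.th_of (w := a * w) a3 a4
  obtain ⟨n1, n2⟩ := h.not_conj (w := b * w) b3 b4
  rw [map_mul] at ea n1 n2
  have i1 : IsConj z (φ a) := isConj_iff.2 ⟨_, za⟩
  have i2 : IsConj t (φ a * φ w) := isConj_iff.2 ⟨_, ea⟩
  have i3 : IsConj (c * φ b * c⁻¹ * φ w) (φ b * φ w) := isConj_iff.2 ⟨c⁻¹, by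
    rw [inv_inv, mul_assoc, mul_assoc _ (φ w), ← hc]; group⟩
  have i4 : IsConj z (c * φ b * c⁻¹) := (isConj_iff.2 ⟨_, zb⟩).trans (isConj_iff.2 ⟨c, rfl⟩)
  have hc' : Commute c (φ w) := hc
  obtain ⟨v, d, v1, d1, v2, v3, v4, v5, x, hx, v6⟩ := exists_central_mod (x := φ a)
    (y := c * φ b * c⁻¹) uu (by rw [← za, conj_mul, h.zz]; simp)
    (by rw [conj_mul, ← zb, conj_mul, h.zz]; simp) (cw a ha)
    ((hc'.mul_left (cw b hb)).mul_left hc'.inv_left).eq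
    fun e he => ⟨fun e1 => n2 ((i2.trans (isConj_iff.2 ⟨e, (conj_mul_of_comm he _).trans
      (congrArg (· * φ w) e1)⟩)).trans i3),
      fun e1 => n1 ((i1.trans (isConj_iff.2 ⟨e, e1⟩)).trans i3)⟩
  have vH : v ∈ H := h.of_comm_z (k := ka) (by
    rw [za, v4.resolve_right fun e => h.nc ((i1.trans (isConj_iff.2 ⟨v, e⟩)).trans i2.symm)]
    exact h.le a)
  have vH' : c⁻¹ * v * c ∈ H := h.of_comm_z (k := kb) (by
    rw [zb, show c⁻¹ * v * c * φ b * (c⁻¹ * v * c)⁻¹ = c⁻¹ * (v * (c * φ b * c⁻¹) * v⁻¹) * c by group,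
      v5.resolve_right fun e => n1 ((i4.trans (isConj_iff.2 ⟨v, e⟩)).trans i3)]
    convert h.le b using 1; group)
  have mx : d * x * d⁻¹ ∈ H := by
    rcases v6 with e | e <;> rw [e]
    exacts [mul_mem vH (h.le a), mul_mem (mul_mem vH (h.le a)) (h.le w)]
  obtain ⟨p, hp, e⟩ : ∃ p : KK, p.1 ∈ A ∧ φ p = d * x * d⁻¹ := by
    have key : ∀ g ∈ H, g * φ w = φ w * g → ∀ p : KK, p.1 ∈ A →
        ∃ p' : KK, p'.1 ∈ A ∧ φ p' = g * φ p * g⁻¹ := fun g hg e p hp => by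
      obtain ⟨k, hk⟩ := h.inn g hg
      exact ⟨_, A1 k (mem_centralizer_singleton_iff.1 k.2)
        (((h.eq_iff (a := w) (b := k * w * k⁻¹)).1
          ((mul_inv_eq_iff_eq_mul.2 e).symm.trans (hk w))).imp (congrArg Subtype.val)
        (congrArg Subtype.val)) _ hp, (hk p).symm⟩
    rcases hx with rfl | rfl
    · exact key d (h.of_comm_z (k := ka) (za ▸ mx)) d1 a ha
    · obtain ⟨p, p1, p2⟩ := key (d * c) (h.of_comm_z (k := kb) (by
        rw [zb]; convert mx using 1; group)) (by rw [mul_assoc, hc, ← mul_assoc, d1, mul_assoc]) b hb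
      exact ⟨p, p1, by rw [p2]; group⟩
  have hq : (p * a⁻¹).1 ∈ A := mul_mem hp (inv_mem ha)
  have e1 : φ (p * a⁻¹) = v ∨ φ (p * a⁻¹) = v * φ w := by
    rw [map_mul, map_inv, e]
    refine v6.imp (fun e => by rw [e]; group) fun e => ?_
    rw [e, mul_assoc v, cw a ha]; group
  generalize p * a⁻¹ = q at hq e1
  have key : ∀ r : KK, r.1 ∈ DD → φ r = v ∨ φ r = v * φ w → False := fun r hr e =>
    hn ((inv_mem_iff).1 (h.ti_D hr (by
      rcases e with e | e <;> rw [e]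
      exacts [v2, fun e => v3 ((eq_inv_of_mul_eq_one_left e).trans (inv_eq_of_mul_eq_one_right uu))])
      (by
      rcases e with e | e <;> rw [e, inv_inv]
      · exact vH'
      · rw [← mul_assoc, mul_assoc _ (φ w), ← hc, ← mul_assoc]; exact mul_mem vH' (h.le w))))
  have e2 : φ (q * w) = v ∨ φ (q * w) = v * φ w := by
    rw [map_mul]
    rcases e1 with e | e <;> rw [e]
    exacts [Or.inr rfl, Or.inl (by rw [mul_assoc, uu, mul_one])]
  rcases (A2 _ hq).2.2 with m | m | m | m | m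
  · have : φ q ∈ zpowers (φ w) := by
      have : closure ({tU, w.1} : Set M) ≤ ((zpowers (φ w)).comap φ).map KK.subtype :=
        (closure_le _).2 (by
          rintro _ (rfl | rfl)
          exacts [⟨s0, show φ s0 ∈ zpowers (φ w) from (h.ker _).2 (Or.inr rfl) ▸ one_mem _, rfl⟩,
            ⟨w, mem_zpowers _, rfl⟩])
      obtain ⟨r, hr, e⟩ := this m
      exact (Subtype.ext e : r = q) ▸ hr
    have hv : v ∈ zpowers (φ w) := by
      rcases e1 with e | e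
      · exact e ▸ this
      · exact (mul_mem_cancel_right (mem_zpowers _)).1 (e ▸ this)
    exact ((mem_zpowers_invol uu).1 hv).elim v2 v3
  · exact key q m e1
  · exact key (q * s0) m (by rwa [h.mul_s])
  · exact key (q * w) m e2
  · exact key (q * w * s0) m (by rwa [h.mul_s])

/-- The image is everything. -/
theorem surj (hW : WStmt) (g : G) : g ∈ H := by
  by_contra hn
  obtain ⟨y, y1, -, e⟩ := h.ht
  have yy : y * y = 1 := Subtype.ext (mrep.sq y1)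
  obtain ⟨u, u1, u2, u3, u4, -, d, -, u5⟩ := exists_central_invol (a := z) (b := g⁻¹ * t * g) h.zz
    (by rw [show g⁻¹ * t * g * (g⁻¹ * t * g) = g⁻¹ * (t * t) * g by group, ← e, ← map_mul, yy]; simp)
    fun c => h.nc (c.trans (isConj_iff.2 ⟨g, by group⟩))
  have uH : u ∈ H := h.ti_z (by rw [u3, mul_inv_cancel_right, ← h.hz]; exact h.le _)
  have m : u * z ∈ H := mul_mem uH (h.hz ▸ h.le z0)
  obtain ⟨k, kk, ek⟩ : ∃ k, k * k = 1 ∧ φ k = u * z := by
    rcases u5 with c | c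
    · obtain ⟨a, ha⟩ := h.inn _ (h.ti_z (c ▸ m))
      exact ⟨a * z0 * a⁻¹, by rw [conj_mul, show z0 * z0 = 1 from Subtype.ext lx.zz]; simp,
        by rw [c, ← ha, h.hz]⟩
    · obtain ⟨a, ha⟩ := h.inn _ (h.ti_t (g := d * g⁻¹) (by convert m using 1; rw [c]; group))
      exact ⟨a * y * a⁻¹, by rw [conj_mul, yy]; simp, by rw [c, ← ha, e]; group⟩
  have c := h.comm_z (k := k) (by rw [ek, ← mul_assoc, ← u3])
  have e1 : φ (k * z0) = u := by rw [map_mul, ek, h.hz, mul_assoc, h.zz, mul_one]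
  have m' : g * u * g⁻¹ ∈ H := h.ti_t (by
    rw [show g * u * g⁻¹ * t * (g * u * g⁻¹)⁻¹ = g * (u * (g⁻¹ * t * g)) * u⁻¹ * g⁻¹ by group, u4,
      show g * (g⁻¹ * t * g * u) * u⁻¹ * g⁻¹ = t by group, ← e]
    exact h.le y)
  rcases h.classes (w := k * z0) (by
    rw [mul_assoc, ← mul_assoc z0, ← c, mul_assoc, show z0 * z0 = 1 from Subtype.ext lx.zz, mul_one,
      kk]) (e1 ▸ u1) with a | ⟨a, ha⟩ | a
  · exact hn (h.ti_D a.1 (e1 ▸ u1) (e1 ▸ m'))
  · exact hn (h.of_comm_z (k := a) (by rwa [ha, e1]))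
  · exact hn ((inv_mem_iff).1 (h.ti_t (g := g⁻¹) (by
      rw [inv_inv]; exact h.cent_2D hW a.1 a.2 (e1 ▸ u4.symm))))

end Eb

theorem lx_BB : ∃ Q : Subgroup BB, LX Q (H97.Gr.pB z0) := by
  obtain ⟨_, _, _, h, hR⟩ := real_md
  obtain ⟨Q, z, θ, R, b⟩ := bd BB (h.baby (t := tU) (hR _))
  obtain ⟨t, rt⟩ := b.ex2 vX PW_X.1
  have fu := H48.Mid.fusB BB Q z θ R b t rt
  obtain ⟨N, l⟩ := H17.BuL.loc BB Q z θ R b t rt fu
  obtain ⟨φ, e⟩ := exists_emb bEquiv b rt fu l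
  obtain ⟨ψ, hψ⟩ := exists_equiv_of_ker_eq φ H97.Gr.pB (e.surj H70.BuC.wStmt)
    (QuotientGroup.mk'_surjective _) fun k => by
      rw [e.ker, ← map_one H97.Gr.pB, eq_comm (a := H97.Gr.pB k), pB_eq_iff, coe_one, mul_one]
      exact or_congr Subtype.ext_iff Subtype.ext_iff
  exact ⟨_, by rw [← hψ, e.hz]; exact b.hQ.map_equiv ψ⟩

/-- The end of the proof. -/
theorem fin : H48.Be.EndStmt.{u} := by
  intro G _ _ ι inj W od cw dec y h1 h2 c
  have p : Pr ι W := ⟨inj, od, cw, dec⟩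
  obtain ⟨T, Q, θ, R, -, -, -, hM, rx, ry, d1, d2, l⟩ := exists_data
  obtain ⟨k, k1, k2⟩ := trans_nb tU_mem h1 d1 h2 d2
  have cy : Commute y tU := (mrep.comm tU_mem h1 h2).symm
  have k3 : Commute k tU := k1
  have e : ext ι (T 6) = ext ι k * ext ι y * (ext ι k)⁻¹ := by
    rw [← k2, ext_eq ι ((k3.mul_left cy).mul_left k3.inv_left), ext_eq ι k3, ext_eq ι cy, ← map_inv,
      ← map_inv, ← map_mul, ← map_mul, ← map_mul, ← map_mul]; rfl
  have m : ext ι k ∈ normalizer (W : Set G) := ext_eq ι k3 ▸ p.le _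
  have h := em_of hM rx ry d1 d2 l ι inj (H := normalizer (W : Set G))
    (by rintro _ ⟨b, rfl⟩; exact p.le b) (fun _ hk e => p.two hk (n := 3) e)
    (fun g hg => (p.inn hg).imp fun _ e a => by rw [e]; simp) fun x hx => by
      have := c ((ext ι k)⁻¹ * x * ext ι k) ((conj_comm_iff (ext ι k) _ _).1 (by
        rw [← e]; simpa [mul_assoc] using hx.eq))
      exact (mul_mem_cancel_left (inv_mem m)).1 ((mul_mem_cancel_right m).1 this)
  have cz : ∀ x, x * ι (H97.Gr.pB z0) = ι (H97.Gr.pB z0) * x → x ∈ normalizer (W : Set G) :=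
    fun x hx => h.cent_z H70.B6H.hy (by rwa [ext_eq ι h.cz])
  obtain ⟨Q, hQ⟩ := lx_BB
  have b : Eb (ι (H97.Gr.pB z0)) (ext ι y) (ι.comp H97.Gr.pB) (normalizer (W : Set G)) :=
    ⟨fun k => by
      rw [MonoidHom.comp_apply, map_eq_one_iff ι inj, ← map_one H97.Gr.pB,
        eq_comm (a := H97.Gr.pB k), pB_eq_iff, coe_one, mul_one]
      exact or_congr (Subtype.ext_iff (a1 := k) (a2 := 1)).symm
        (Subtype.ext_iff (a1 := k) (a2 := s0)).symm, rfl,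
    ⟨⟨y, mem_centralizer_singleton_iff.2 cy⟩, h1, Set.mem_of_eq_of_mem cy.eq h2,
      (ext_eq ι cy).symm⟩, fun _ => p.le _,
    fun g hg => by
      obtain ⟨a, ha⟩ := p.inn hg
      obtain ⟨a, rfl⟩ := QuotientGroup.mk'_surjective _ a
      exact ⟨a, fun b => (ha _).trans (by simp)⟩,
    p.ti hQ cz (by rw [← map_mul, hQ.zz, map_one]) cz,
    p.ti hQ cz (by
      rw [ext_eq ι cy, ← map_mul, ← map_mul]
      exact (congrArg (fun a => ι (H97.Gr.pB a)) (Subtype.ext (mrep.sq h1) : _ = (1 : KK))).trans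
        (by simp)) c⟩
  exact normalizer_eq_top_iff.1 (eq_top_iff.2 fun g _ => b.surj H70.BuC.wStmt g)

end Cfsg.Agent.H74.Be
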