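import Cfsg.Agent.H48.BeDefs
import Cfsg.Agent.S2058
import Cfsg.Agent.H37.Autos

/-! The Baby Monster splits off an odd kernel; change of the field for `²E₆(2)`. -/

set_option autoImplicit false

namespace Cfsg.Agent.H74.Be

open Cfsg Subgroup Cfsg.Agent.H49 Cfsg.Agent.H80 Cfsg.Agent.H97.Gr Cfsg.Agent.H97.Yt Cfsg.Lie

universe u v

theorem perfect_BB : Group.IsPerfect BB := by
  have := isB_BB.1
  refine ⟨(IsSimpleGroup.eq_bot_or_eq_top_of_normal (commutator BB) inferInstance).resolve_left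
    fun h => ?_⟩
  rw [commutator_eq_bot_iff_center_eq_top, center_BB] at h
  exact bot_ne_top h

theorem split0 {B G H : Type*} [Group B] [Group G] [Group H] [IsSimpleGroup B] [Group.IsPerfect B]
    (hM : HasCyclicSchurMultiplier B 2) (π : G →* H) (hπ : Function.Surjective π)
    (od : Odd (Nat.card π.ker)) {x : G} (hx : x ∈ centralizer (π.ker : Set G)) (x1 : π x ≠ 1)
    (e : B ≃* H) : ∃ κ : B →* G, (∀ b, π (κ b) = e b) ∧ ∀ w, π w = 1 → ∀ b, w * κ b = κ b * w := by
  let ρ : G →* B := e.symm.toMonoidHom.comp π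
  have hρ : Function.Surjective ρ := e.symm.surjective.comp hπ
  have k1 : ∀ g, ρ g = 1 → π g = 1 := fun g hg => e.symm.map_eq_one_iff.1 hg
  let σ := ρ.comp (centralizer (π.ker : Set G)).subtype
  have hσ : IsCentralExt σ := by
    refine ⟨fun b => ?_, fun c hc => mem_center_iff.2 fun g => Subtype.ext (g.2 c (k1 _ hc)).symm⟩
    have := (IsSimpleGroup.eq_bot_or_eq_top_of_normal ((centralizer (π.ker : Set G)).map ρ)
      (Normal.map inferInstance ρ hρ)).resolve_left fun h => x1 (k1 x (mem_bot.1 (h ▸ ⟨x, hx, rfl⟩)))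
    obtain ⟨c, hc, rfl⟩ := this.ge (mem_top b)
    exact ⟨⟨c, hc⟩, rfl⟩
  have hc := hσ.commutator_restrict
  have := hσ.isPerfect_commutator
  obtain ⟨f, hf⟩ := exists_surjective_ker_of_stem hM (isStemExtension_of_perfect hc)
  have inj : Function.Injective (σ.comp (commutator _).subtype) :=
    (injective_iff_map_eq_one _).2 fun a ha => by
      obtain ⟨b, hb⟩ := hf ⟨a, ha⟩
      have e1 : ∀ b : Multiplicative (ZMod 2), b * b = 1 := by decide
      have e2 : a.1.1 ^ 2 = 1 := by
        have := congrArg f (e1 b)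
        rw [map_mul, hb, map_one] at this
        rw [sq]; exact congrArg (fun c => c.1.1.1) this
      have o := odd_orderOf_of_mem od (k := a.1.1) (k1 _ ha)
      refine Subtype.ext (Subtype.ext (orderOf_eq_one_iff.1 ?_))
      rcases (Nat.dvd_prime Nat.prime_two).1 (orderOf_dvd_of_pow_eq_one e2) with h | h
      · exact h
      · rw [h] at o; exact absurd o (by decide)
  let j := MulEquiv.ofBijective _ ⟨inj, hc.surj⟩
  refine ⟨(Subgroup.subtype _).comp ((Subgroup.subtype _).comp j.symm.toMonoidHom), fun b => ?_,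
    fun w hw b => (j.symm b).1.2 w hw⟩
  exact e.symm.injective ((j.apply_symm_apply b).trans (e.symm_apply_apply b).symm)

theorem split : H48.Be.SplitStmt.{u} := by
  intro G _ _ H _ π hπ od ⟨x, hx, x1⟩ ι hι
  have := isB_BB.1
  have := perfect_BB
  exact split0 (hasSchurMultiplier_congr_left S2058.result bEquiv.some) π hπ od hx x1
    (MulEquiv.ofBijective ι hι)

theorem map_twisted {K F : Type*} [Field K] [Field F] (σ : K →+* F) (q : ℕ) {g : GL chevE6.Idx K}
    (hg : g ∈ twistedE6 K q) : Matrix.GeneralLinearGroup.map σ g ∈ twistedE6 F q := by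
  refine (closure_le ((twistedE6 F q).comap (Matrix.GeneralLinearGroup.map σ))).2 ?_ hg
  rintro g ⟨w, hw, e⟩
  refine subset_closure ⟨w.map fun p => (p.1, σ p.2), ?_, ?_⟩
  · rcases hw with ⟨t, ht, r, hr, rfl⟩ | ⟨t, r, hr, rfl⟩
    · exact Or.inl ⟨σ t, by rw [← map_pow, ht], r, hr, rfl⟩
    · exact Or.inr ⟨σ t, r, hr, by simp⟩
  · change σ.mapMatrix (g : Matrix chevE6.Idx chevE6.Idx K) = _
    rw [e, ChevalleyDatum.wordMat, ChevalleyDatum.wordMat, map_list_prod, List.map_map, List.map_map]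
    exact congrArg List.prod (List.map_congr_left fun p _ => H37.x_map σ p.1 p.2)

theorem equiv_of_map {n K F : Type*} [Fintype n] [DecidableEq n] [Field K] [Field F] (σ : K ≃+* F)
    {A : Subgroup (GL n K)} {B : Subgroup (GL n F)}
    (h1 : ∀ g ∈ A, Matrix.GeneralLinearGroup.map σ.toRingHom g ∈ B)
    (h2 : ∀ g ∈ B, Matrix.GeneralLinearGroup.map σ.symm.toRingHom g ∈ A) : Nonempty (A ≃* B) :=
  ⟨MonoidHom.toMulEquiv
    (((Matrix.GeneralLinearGroup.map σ.toRingHom).comp A.subtype).codRestrict _ fun g => h1 _ g.2)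
    (((Matrix.GeneralLinearGroup.map σ.symm.toRingHom).comp B.subtype).codRestrict _
      fun g => h2 _ g.2)
    (MonoidHom.ext fun _ => Subtype.ext (Units.ext (Matrix.ext fun _ _ => σ.symm_apply_apply _)))
    (MonoidHom.ext fun _ => Subtype.ext (Units.ext (Matrix.ext fun _ _ => σ.apply_symm_apply _)))⟩

theorem field : H48.Be.FieldStmt.{v} := fun _ _ _ _ _ _ hK hF =>
  equiv_of_map (FiniteField.ringEquivOfCardEq (hK.trans hF.symm)) (fun _ => map_twisted _ 2)
    fun _ => map_twisted _ 2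

end Cfsg.Agent.H74.Be
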