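import Cfsg.Agent.H44.Coset
import Cfsg.Agent.H44.Perm3

set_option autoImplicit false
set_option maxRecDepth 1000000
set_option linter.all false
set_option Elab.async false

namespace Cfsg.Agent.H74.PresO8.L0
open Cfsg.Agent.H44

noncomputable def rT0 : Tr :=
 (.leaf (nat_lit 0x9020e1650))
noncomputable def gT0 : Tr :=
 (.leaf (nat_lit 0))
/-- The relators. -/
def R : List (List ℕ) := [[1, 2],
  [1, 1, 1]]
/-- The subgroup generators. -/
def S : List (List ℕ) := []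
def Wr : List (List ℕ) := [[1, 2],
  [2, 1],
  [2, 2, 2]]
def Wn : List (List ℕ) := []
def cr : List (ℕ × ℕ × ℕ) := [(0, 0, 0), (0, 0, 0), (2, 1, 0)]
def cn : List (ℕ × ℕ × ℕ) := []
noncomputable def rT : Tr := rT0
noncomputable def gT : Tr := gT0
noncomputable def rC (i : ℕ) : ℕ := rT.get (nat_lit 0) i
noncomputable def gC (i : ℕ) : ℕ := gT.get (nat_lit 0) i
noncomputable def row (p : ℕ) : ℕ := rec2 rC (nat_lit 8) (nat_lit 255) (nat_lit 12) (nat_lit 4095) p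
noncomputable def gf (p : ℕ) : ℕ := rec2 gC (nat_lit 9) (nat_lit 511) (nat_lit 8) (nat_lit 255) p
noncomputable def gw (c : ℕ) : List ℕ := nth [] Wr c
noncomputable def wn (c : ℕ) : ℕ := pack (nat_lit 2) (nth [] Wn c) (nat_lit 0)
noncomputable def C : Cert :=
  { n := (nat_lit 3), na := (nat_lit 0), M := (nat_lit 0), nc := (nat_lit 2), W := (nat_lit 2), EB := (nat_lit 4),
    LB := (nat_lit 2), nreg := (nat_lit 3), ivT := (nat_lit 24), base := (nat_lit 0),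
    row := row, gf := gf, gw := gw, wn := wn }
theorem masks : Masks C (nat_lit 3) (nat_lit 15) (nat_lit 3) (nat_lit 6) (nat_lit 63) :=
  ⟨by decide +kernel, by decide +kernel, by decide +kernel, by decide +kernel, by decide +kernel⟩
noncomputable def rchk : ℕ → ℕ → ℕ → Bool :=
  rowChk row gf gw (nat_lit 3) (nat_lit 0) (nat_lit 2) (nat_lit 2) (nat_lit 3) (nat_lit 4) (nat_lit 15) (nat_lit 2) (nat_lit 3) (nat_lit 6) (nat_lit 63) (nat_lit 3) (nat_lit 24) (nat_lit 1) (nat_lit 1) (nat_lit 6) (nat_lit 63)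
noncomputable def fchk : ℕ → ℕ → ℕ → Bool :=
  auxRun row gf wn (nat_lit 3) (nat_lit 0) (nat_lit 0) (nat_lit 2) (nat_lit 2) (nat_lit 3) (nat_lit 4) (nat_lit 15) (nat_lit 2) (nat_lit 3) (nat_lit 6) (nat_lit 24) (nat_lit 0) (nat_lit 2) (nat_lit 3)
theorem rows_of {lo hi : ℕ} {t : JL} (h : t.run rchk (nat_lit 12) hi lo = true) : C.RowsOK lo hi :=
  rowsOK_of_run masks h
theorem facts_of {lo hi : ℕ} {t : JL} (h : t.run fchk (nat_lit 20) hi lo = true) : C.FactsOK lo hi :=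
  factsOK_of_run masks h
theorem words_ok : wordsChk 3 2 2 2 3 24 0 R S Wr Wn cr cn = true := by
  decide +kernel
noncomputable def j0 : JL :=
(.cons (nat_lit 3) (nat_lit 0xc0001081) (nat_lit 0)
.nil)
theorem t0 : C.RowsOK (nat_lit 0) (nat_lit 3) :=
  rows_of (t := j0) (by decide +kernel)
theorem checked : Checked C R S :=
  ⟨⟨Wr, Wn, cr, cn, fun _ => rfl, fun _ => rfl, words_ok⟩, t0,
    fun _ _ h => absurd h (Nat.not_lt_zero _)⟩

/-- In any group whose elements `g 1, …, g 2` satisfy the relators `R`, a subgroup containing the words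
of `S` has index at most 3 in the subgroup generated by these elements. -/
theorem idxLe {G : Type*} [Group G] {g : ℕ → G} (hg : Sat g R) {H : Subgroup G}
    (hS : ∀ s ∈ S, ev g s ∈ H) : IdxLe H (gen g 2) 3 :=
  checked.idxLe hg hS

end Cfsg.Agent.H74.PresO8.L0

namespace Cfsg.Agent.H74.PresO8.L1
open Cfsg.Agent.H44

noncomputable def rT0 : Tr :=
 (.leaf (nat_lit 0x9282ab85e901cc32b100))
noncomputable def gT0 : Tr :=
 (.leaf (nat_lit 147520))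
/-- The relators. -/
def R : List (List ℕ) := [[1, 2],
  [3, 3],
  [1, 1, 1],
  [1, 3, 1, 3, 1, 3]]
/-- The subgroup generators. -/
def S : List (List ℕ) := [[1],
  [2]]
def Wr : List (List ℕ) := [[2, 1],
  [3, 3],
  [1, 2],
  [2, 2, 2],
  [3, 2, 3, 2, 3, 2]]
def Wn : List (List ℕ) := [[1, 4]]
def cr : List (ℕ × ℕ × ℕ) := [(0, 0, 0), (0, 0, 0), (0, 0, 0), (2, 2, 0), (2, 3, 0)]
def cn : List (ℕ × ℕ × ℕ) := [(1, 4, 0)]
noncomputable def rT : Tr := rT0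
noncomputable def gT : Tr := gT0
noncomputable def rC (i : ℕ) : ℕ := rT.get (nat_lit 0) i
noncomputable def gC (i : ℕ) : ℕ := gT.get (nat_lit 0) i
noncomputable def row (p : ℕ) : ℕ := rec2 rC (nat_lit 8) (nat_lit 255) (nat_lit 20) (nat_lit 0xfffff) p
noncomputable def gf (p : ℕ) : ℕ := rec2 gC (nat_lit 9) (nat_lit 511) (nat_lit 10) (nat_lit 1023) p
noncomputable def gw (c : ℕ) : List ℕ := nth [] Wr c
noncomputable def wn (c : ℕ) : ℕ := pack (nat_lit 3) (nth [] Wn c) (nat_lit 0)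
noncomputable def C : Cert :=
  { n := (nat_lit 4), na := (nat_lit 0), M := (nat_lit 2), nc := (nat_lit 3), W := (nat_lit 2), EB := (nat_lit 5),
    LB := (nat_lit 3), nreg := (nat_lit 5), ivT := (nat_lit 0xde5650), base := (nat_lit 80),
    row := row, gf := gf, gw := gw, wn := wn }
theorem masks : Masks C (nat_lit 3) (nat_lit 31) (nat_lit 7) (nat_lit 7) (nat_lit 127) :=
  ⟨by decide +kernel, by decide +kernel, by decide +kernel, by decide +kernel, by decide +kernel⟩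
noncomputable def rchk : ℕ → ℕ → ℕ → Bool :=
  rowChk row gf gw (nat_lit 4) (nat_lit 2) (nat_lit 3) (nat_lit 2) (nat_lit 3) (nat_lit 5) (nat_lit 31) (nat_lit 3) (nat_lit 7) (nat_lit 7) (nat_lit 127) (nat_lit 5) (nat_lit 0xde5650) (nat_lit 1) (nat_lit 1) (nat_lit 6) (nat_lit 63)
noncomputable def fchk : ℕ → ℕ → ℕ → Bool :=
  auxRun row gf wn (nat_lit 4) (nat_lit 0) (nat_lit 2) (nat_lit 3) (nat_lit 2) (nat_lit 3) (nat_lit 5) (nat_lit 31) (nat_lit 3) (nat_lit 7) (nat_lit 7) (nat_lit 0xde5650) (nat_lit 80) (nat_lit 3) (nat_lit 7)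
theorem rows_of {lo hi : ℕ} {t : JL} (h : t.run rchk (nat_lit 18) hi lo = true) : C.RowsOK lo hi :=
  rowsOK_of_run masks h
theorem facts_of {lo hi : ℕ} {t : JL} (h : t.run fchk (nat_lit 20) hi lo = true) : C.FactsOK lo hi :=
  factsOK_of_run masks h
theorem words_ok : wordsChk 4 3 2 3 5 14571088 80 R S Wr Wn cr cn = true := by
  decide +kernel
noncomputable def j0 : JL :=
(.cons (nat_lit 4) (nat_lit 0x1440020030010c2046) (nat_lit 1)
.nil)
theorem t0 : C.RowsOK (nat_lit 0) (nat_lit 4) :=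
  rows_of (t := j0) (by decide +kernel)
noncomputable def j1 : JL :=
(.cons (nat_lit 2) (nat_lit 0x1800000) (nat_lit 0x3001001000000)
.nil)
theorem t1 : C.FactsOK (nat_lit 0) (nat_lit 2) :=
  facts_of (t := j1) (by decide +kernel)
theorem checked : Checked C R S :=
  ⟨⟨Wr, Wn, cr, cn, fun _ => rfl, fun _ => rfl, words_ok⟩, t0,
    t1⟩

/-- In any group whose elements `g 1, …, g 3` satisfy the relators `R`, a subgroup containing the words
of `S` has index at most 4 in the subgroup generated by these elements. -/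
theorem idxLe {G : Type*} [Group G] {g : ℕ → G} (hg : Sat g R) {H : Subgroup G}
    (hS : ∀ s ∈ S, ev g s ∈ H) : IdxLe H (gen g 3) 4 :=
  checked.idxLe hg hS

end Cfsg.Agent.H74.PresO8.L1

namespace Cfsg.Agent.H74.PresO8.L2
open Cfsg.Agent.H44

noncomputable def rT0 : Tr :=
 (.leaf (nat_lit 0xcfe7c7c83db2d0909a0348d99bd04396a3443490124ac601364401916282092060800))
noncomputable def gT0 : Tr :=
 (.leaf (nat_lit 0x13004400900140))
/-- The relators. -/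
def R : List (List ℕ) := [[1, 2],
  [3, 3],
  [4, 4],
  [1, 1, 1],
  [1, 3, 1, 3, 1, 3],
  [3, 4, 3, 4],
  [1, 4, 1, 4, 1, 4]]
/-- The subgroup generators. -/
def S : List (List ℕ) := [[1],
  [2],
  [3]]
def Wr : List (List ℕ) := [[2, 1],
  [4, 4],
  [1, 2],
  [3, 4, 3, 4],
  [3, 3],
  [2, 2, 2],
  [4, 2, 4, 2, 4, 2],
  [2, 3, 2, 3, 2, 3],
  [4, 3, 4, 3],
  [3, 2, 3, 2, 3, 2],
  [1, 4, 1, 4, 1, 4]]
def Wn : List (List ℕ) := [[1, 5],
  [3, 9]]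
def cr : List (ℕ × ℕ × ℕ) := [(0, 0, 0), (0, 0, 0), (0, 0, 0), (1, 5, 0), (0, 0, 0), (2, 3, 0), (2, 6, 0), (2, 4, 1), (1, 5, 1), (2, 4, 0), (1, 6, 0)]
def cn : List (ℕ × ℕ × ℕ) := [(1, 7, 0), (1, 9, 0)]
noncomputable def rT : Tr := rT0
noncomputable def gT : Tr := gT0
noncomputable def rC (i : ℕ) : ℕ := rT.get (nat_lit 0) i
noncomputable def gC (i : ℕ) : ℕ := gT.get (nat_lit 0) i
noncomputable def row (p : ℕ) : ℕ := rec2 rC (nat_lit 7) (nat_lit 127) (nat_lit 35) (nat_lit 0x7ffffffff) p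
noncomputable def gf (p : ℕ) : ℕ := rec2 gC (nat_lit 8) (nat_lit 255) (nat_lit 14) (nat_lit 16383) p
noncomputable def gw (c : ℕ) : List ℕ := nth [] Wr c
noncomputable def wn (c : ℕ) : ℕ := pack (nat_lit 4) (nth [] Wn c) (nat_lit 0)
noncomputable def C : Cert :=
  { n := (nat_lit 8), na := (nat_lit 0), M := (nat_lit 4), nc := (nat_lit 4), W := (nat_lit 3), EB := (nat_lit 7),
    LB := (nat_lit 4), nreg := (nat_lit 11), ivT := (nat_lit 0x9a785643120), base := (nat_lit 672),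
    row := row, gf := gf, gw := gw, wn := wn }
theorem masks : Masks C (nat_lit 7) (nat_lit 127) (nat_lit 15) (nat_lit 10) (nat_lit 1023) :=
  ⟨by decide +kernel, by decide +kernel, by decide +kernel, by decide +kernel, by decide +kernel⟩
noncomputable def rchk : ℕ → ℕ → ℕ → Bool :=
  rowChk row gf gw (nat_lit 8) (nat_lit 4) (nat_lit 4) (nat_lit 3) (nat_lit 7) (nat_lit 7) (nat_lit 127) (nat_lit 4) (nat_lit 15) (nat_lit 10) (nat_lit 1023) (nat_lit 11) (nat_lit 0x9a785643120) (nat_lit 2) (nat_lit 3) (nat_lit 7) (nat_lit 127)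
noncomputable def fchk : ℕ → ℕ → ℕ → Bool :=
  auxRun row gf wn (nat_lit 8) (nat_lit 0) (nat_lit 4) (nat_lit 4) (nat_lit 3) (nat_lit 7) (nat_lit 7) (nat_lit 127) (nat_lit 4) (nat_lit 15) (nat_lit 10) (nat_lit 0x9a785643120) (nat_lit 672) (nat_lit 4) (nat_lit 15)
theorem rows_of {lo hi : ℕ} {t : JL} (h : t.run rchk (nat_lit 28) hi lo = true) : C.RowsOK lo hi :=
  rowsOK_of_run masks h
theorem facts_of {lo hi : ℕ} {t : JL} (h : t.run fchk (nat_lit 20) hi lo = true) : C.FactsOK lo hi :=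
  factsOK_of_run masks h
theorem words_ok : wordsChk 8 4 3 4 11 10615102124320 672 R S Wr Wn cr cn = true := by
  decide +kernel
noncomputable def j0 : JL :=
(.cons (nat_lit 8) (nat_lit 0x1008b0428300120040304000830e1430004140030010083043408c) (nat_lit 14)
.nil)
theorem t0 : C.RowsOK (nat_lit 0) (nat_lit 8) :=
  rows_of (t := j0) (by decide +kernel)
noncomputable def j1 : JL :=
(.cons (nat_lit 4) (nat_lit 0x4c000300001800000) (nat_lit 0x60010024001001000000000000)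
.nil)
theorem t1 : C.FactsOK (nat_lit 0) (nat_lit 4) :=
  facts_of (t := j1) (by decide +kernel)
theorem checked : Checked C R S :=
  ⟨⟨Wr, Wn, cr, cn, fun _ => rfl, fun _ => rfl, words_ok⟩, t0,
    t1⟩

/-- In any group whose elements `g 1, …, g 4` satisfy the relators `R`, a subgroup containing the words
of `S` has index at most 8 in the subgroup generated by these elements. -/
theorem idxLe {G : Type*} [Group G] {g : ℕ → G} (hg : Sat g R) {H : Subgroup G}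
    (hS : ∀ s ∈ S, ev g s ∈ H) : IdxLe H (gen g 4) 8 :=
  checked.idxLe hg hS

end Cfsg.Agent.H74.PresO8.L2

namespace Cfsg.Agent.H74.PresO8.L3
open Cfsg.Agent.H44

noncomputable def rT0 : Tr :=
 (.leaf (nat_lit 0x64949c9b965977777270662a88888063861190425181744350136655514341601645413423232220112534343013311001514131205112020302000))
noncomputable def gT0 : Tr :=
 (.leaf (nat_lit 0x1400130011000c000a000600))
/-- The relators. -/
def R : List (List ℕ) := [[1, 2],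
  [3, 3],
  [4, 4],
  [5, 5],
  [1, 1, 1],
  [1, 3, 1, 3, 1, 3],
  [3, 4, 3, 4],
  [1, 4, 1, 4, 1, 4],
  [1, 5, 1, 5, 1, 5],
  [3, 5, 3, 5, 3, 5],
  [4, 5, 4, 5, 4, 5],
  [5, 3, 1, 3, 5, 2, 3, 2],
  [5, 4, 1, 4, 5, 2, 4, 2]]
/-- The subgroup generators. -/
def S : List (List ℕ) := [[1],
  [2],
  [3],
  [4]]
def Wr : List (List ℕ) := [[2, 1],
  [5, 5],
  [1, 2],
  [3, 3],
  [4, 4],
  [2, 2, 2],
  [3, 2, 5, 3, 1, 3, 5, 2],
  [4, 2, 5, 4, 1, 4, 5, 2],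
  [5, 2, 5, 2, 5, 2],
  [1, 3, 1, 3, 1, 3],
  [5, 3, 5, 3, 5, 3],
  [1, 4, 1, 4, 1, 4],
  [5, 4, 5, 4, 5, 4],
  [3, 4, 3, 4],
  [3, 2, 3, 2, 3, 2],
  [4, 2, 4, 2, 4, 2],
  [5, 3, 1, 3, 5, 2, 3, 2],
  [1, 5, 1, 5, 1, 5],
  [3, 5, 3, 5, 3, 5],
  [4, 5, 4, 5, 4, 5]]
def Wn : List (List ℕ) := [[1, 6],
  [3, 10],
  [4, 12]]
def cr : List (ℕ × ℕ × ℕ) := [(0, 0, 0), (0, 0, 0), (0, 0, 0), (0, 0, 0), (0, 0, 0), (2, 4, 0), (1, 11, 6), (1, 12, 6), (2, 8, 0), (1, 5, 0), (1, 9, 1), (1, 7, 0), (1, 10, 1), (1, 6, 0), (2, 5, 0), (2, 7, 0), (1, 11, 0), (1, 8, 0), (1, 9, 0), (1, 10, 0)]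
def cn : List (ℕ × ℕ × ℕ) := [(1, 13, 0), (1, 15, 0), (1, 16, 0)]
noncomputable def rT : Tr := rT0
noncomputable def gT : Tr := gT0
noncomputable def rC (i : ℕ) : ℕ := rT.get (nat_lit 0) i
noncomputable def gC (i : ℕ) : ℕ := gT.get (nat_lit 0) i
noncomputable def row (p : ℕ) : ℕ := rec2 rC (nat_lit 6) (nat_lit 63) (nat_lit 48) (nat_lit 0xffffffffffff) p
noncomputable def gf (p : ℕ) : ℕ := rec2 gC (nat_lit 8) (nat_lit 255) (nat_lit 16) (nat_lit 65535) p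
noncomputable def gw (c : ℕ) : List ℕ := nth [] Wr c
noncomputable def wn (c : ℕ) : ℕ := pack (nat_lit 4) (nth [] Wn c) (nat_lit 0)
noncomputable def C : Cert :=
  { n := (nat_lit 10), na := (nat_lit 0), M := (nat_lit 6), nc := (nat_lit 5), W := (nat_lit 4), EB := (nat_lit 8),
    LB := (nat_lit 4), nreg := (nat_lit 20), ivT := (nat_lit 0xcdab8967543120), base := (nat_lit 5440),
    row := row, gf := gf, gw := gw, wn := wn }
theorem masks : Masks C (nat_lit 15) (nat_lit 255) (nat_lit 15) (nat_lit 12) (nat_lit 4095) :=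
  ⟨by decide +kernel, by decide +kernel, by decide +kernel, by decide +kernel, by decide +kernel⟩
noncomputable def rchk : ℕ → ℕ → ℕ → Bool :=
  rowChk row gf gw (nat_lit 10) (nat_lit 6) (nat_lit 5) (nat_lit 4) (nat_lit 15) (nat_lit 8) (nat_lit 255) (nat_lit 4) (nat_lit 15) (nat_lit 12) (nat_lit 4095) (nat_lit 20) (nat_lit 0xcdab8967543120) (nat_lit 3) (nat_lit 7) (nat_lit 7) (nat_lit 127)
noncomputable def fchk : ℕ → ℕ → ℕ → Bool :=
  auxRun row gf wn (nat_lit 10) (nat_lit 0) (nat_lit 6) (nat_lit 5) (nat_lit 4) (nat_lit 15) (nat_lit 8) (nat_lit 255) (nat_lit 4) (nat_lit 15) (nat_lit 12) (nat_lit 0xcdab8967543120) (nat_lit 5440) (nat_lit 5) (nat_lit 31)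
theorem rows_of {lo hi : ℕ} {t : JL} (h : t.run rchk (nat_lit 35) hi lo = true) : C.RowsOK lo hi :=
  rowsOK_of_run masks h
theorem facts_of {lo hi : ℕ} {t : JL} (h : t.run fchk (nat_lit 20) hi lo = true) : C.FactsOK lo hi :=
  factsOK_of_run masks h
theorem words_ok : wordsChk 10 5 4 4 20 57890976858124576 5440 R S Wr Wn cr cn = true := by
  decide +kernel
noncomputable def j0 : JL :=
(.cons (nat_lit 10) (nat_lit 0x142604911203c3000414200060800e020c680080460b0a0008a12203860008284000c00508041822e58095) (nat_lit 355)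
.nil)
theorem t0 : C.RowsOK (nat_lit 0) (nat_lit 10) :=
  rows_of (t := j0) (by decide +kernel)
noncomputable def j1 : JL :=
(.cons (nat_lit 6) (nat_lit 0x820006500048000300001800000) (nat_lit 0x2400400ce0020045001001000000000000000000)
.nil)
theorem t1 : C.FactsOK (nat_lit 0) (nat_lit 6) :=
  facts_of (t := j1) (by decide +kernel)
theorem checked : Checked C R S :=
  ⟨⟨Wr, Wn, cr, cn, fun _ => rfl, fun _ => rfl, words_ok⟩, t0,
    t1⟩

/-- In any group whose elements `g 1, …, g 5` satisfy the relators `R`, a subgroup containing the words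
of `S` has index at most 10 in the subgroup generated by these elements. -/
theorem idxLe {G : Type*} [Group G] {g : ℕ → G} (hg : Sat g R) {H : Subgroup G}
    (hS : ∀ s ∈ S, ev g s ∈ H) : IdxLe H (gen g 5) 10 :=
  checked.idxLe hg hS

end Cfsg.Agent.H74.PresO8.L3

namespace Cfsg.Agent.H74.PresO8.L4
open Cfsg.Agent.H44

noncomputable def rT0 : Tr :=
 (.leaf (nat_lit 0x23705d9a86bbae6ae5de758c631816017b8b98de739ce4171e6e19683a054560e438a92167d8101def6b5a0464d750dc10bd6d580c0f141d4551945d1e66d55364c0f9ce5378c0e8c6719c671ac1c603652a4a92942526980c1d0360d6929c5860d00c5bc338398d614327b40b7b60d8bd640c60e02a0e6be2e510300bc094b16c53124019a70b9ea7a9c8319670182d72d8872cc56a5490b10939c06308e8320a8015eb6a8a3629cb418043190920c2b0a92700c2939c632080221428595451152440cc309c430084250d243902600864104a5094012882408c2400061088812848101821100401006010000))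
noncomputable def gT0 : Tr :=
 (.leaf (nat_lit 0x94000900008c000840003c000340002c0001c00))
/-- The relators. -/
def R : List (List ℕ) := [[1, 2],
  [3, 3],
  [4, 4],
  [5, 5],
  [6, 6],
  [1, 1, 1],
  [1, 3, 1, 3, 1, 3],
  [3, 4, 3, 4],
  [1, 4, 1, 4, 1, 4],
  [1, 5, 1, 5, 1, 5],
  [3, 5, 3, 5, 3, 5],
  [4, 5, 4, 5, 4, 5],
  [5, 3, 1, 3, 5, 2, 3, 2],
  [5, 4, 1, 4, 5, 2, 4, 2],
  [5, 6, 5, 6],
  [1, 5, 6, 1, 5, 6],
  [3, 5, 6, 3, 5, 6],
  [4, 5, 6, 4, 5, 6, 4, 5, 6]]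
/-- The subgroup generators. -/
def S : List (List ℕ) := [[1],
  [2],
  [3],
  [4],
  [5]]
def Wr : List (List ℕ) := [[2, 1],
  [6, 6],
  [1, 5, 6, 1, 5, 6],
  [3, 5, 6, 3, 5, 6],
  [4, 4],
  [5, 6, 5, 6],
  [1, 2],
  [3, 4, 3, 4],
  [5, 5],
  [3, 3],
  [6, 5, 6, 5],
  [2, 2, 2],
  [4, 2, 4, 2, 4, 2],
  [5, 4, 1, 4, 5, 2, 4, 2],
  [6, 5, 2, 6, 5, 2],
  [1, 5, 1, 5, 1, 5],
  [4, 5, 4, 5, 4, 5],
  [6, 4, 5, 6, 4, 5, 6, 4, 5],
  [2, 3, 2, 3, 2, 3],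
  [4, 3, 4, 3],
  [5, 3, 5, 3, 5, 3],
  [6, 3, 5, 6, 3, 5],
  [3, 2, 3, 2, 3, 2],
  [5, 3, 1, 3, 5, 2, 3, 2],
  [2, 3, 2, 5, 3, 1, 3, 5],
  [3, 5, 3, 5, 3, 5],
  [1, 4, 1, 4, 1, 4],
  [2, 4, 2, 4, 2, 4],
  [5, 4, 5, 4, 5, 4],
  [1, 4, 5, 2, 4, 2, 5, 4],
  [2, 4, 2, 5, 4, 1, 4, 5],
  [2, 6, 5, 2, 6, 5],
  [4, 5, 6, 4, 5, 6, 4, 5, 6],
  [1, 3, 1, 3, 1, 3]]
def Wn : List (List ℕ) := [[1, 7],
  [3, 11],
  [4, 13],
  [5, 15]]
def cr : List (ℕ × ℕ × ℕ) := [(0, 0, 0), (0, 0, 0), (1, 15, 0), (1, 16, 0), (0, 0, 0), (1, 14, 0), (0, 0, 0), (1, 7, 0), (0, 0, 0), (0, 0, 0), (1, 14, 1), (2, 5, 0), (2, 8, 0), (1, 13, 0), (2, 15, 0), (1, 9, 0), (1, 11, 0), (1, 17, 2), (2, 6, 1), (1, 7, 1), (1, 10, 1), (1, 16, 2), (2, 6, 0), (1, 12, 0), (1, 12, 5), (1, 10, 0), (1, 8, 0), (2, 8, 1), (1, 11, 1), (1, 13, 2), (1, 13, 5), (2, 15, 2), (1, 17, 0), (1, 6, 0)]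
def cn : List (ℕ × ℕ × ℕ) := [(1, 18, 0), (1, 20, 0), (1, 21, 0), (1, 22, 0)]
noncomputable def rT : Tr := rT0
noncomputable def gT : Tr := gT0
noncomputable def rC (i : ℕ) : ℕ := rT.get (nat_lit 0) i
noncomputable def gC (i : ℕ) : ℕ := gT.get (nat_lit 0) i
noncomputable def row (p : ℕ) : ℕ := rec2 rC (nat_lit 6) (nat_lit 63) (nat_lit 70) (nat_lit 0x3fffffffffffffffff) p
noncomputable def gf (p : ℕ) : ℕ := rec2 gC (nat_lit 8) (nat_lit 255) (nat_lit 20) (nat_lit 0xfffff) p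
noncomputable def gw (c : ℕ) : List ℕ := nth [] Wr c
noncomputable def wn (c : ℕ) : ℕ := pack (nat_lit 5) (nth [] Wn c) (nat_lit 0)
noncomputable def C : Cert :=
  { n := (nat_lit 27), na := (nat_lit 0), M := (nat_lit 8), nc := (nat_lit 6), W := (nat_lit 5), EB := (nat_lit 10),
    LB := (nat_lit 5), nreg := (nat_lit 34), ivT := (nat_lit 0xf835cb62547418a418440), base := (nat_lit 43648),
    row := row, gf := gf, gw := gw, wn := wn }
theorem masks : Masks C (nat_lit 31) (nat_lit 1023) (nat_lit 31) (nat_lit 15) (nat_lit 32767) :=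
  ⟨by decide +kernel, by decide +kernel, by decide +kernel, by decide +kernel, by decide +kernel⟩
noncomputable def rchk : ℕ → ℕ → ℕ → Bool :=
  rowChk row gf gw (nat_lit 27) (nat_lit 8) (nat_lit 6) (nat_lit 5) (nat_lit 31) (nat_lit 10) (nat_lit 1023) (nat_lit 5) (nat_lit 31) (nat_lit 15) (nat_lit 32767) (nat_lit 34) (nat_lit 0xf835cb62547418a418440) (nat_lit 3) (nat_lit 7) (nat_lit 8) (nat_lit 255)
noncomputable def fchk : ℕ → ℕ → ℕ → Bool :=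
  auxRun row gf wn (nat_lit 27) (nat_lit 0) (nat_lit 8) (nat_lit 6) (nat_lit 5) (nat_lit 31) (nat_lit 10) (nat_lit 1023) (nat_lit 5) (nat_lit 31) (nat_lit 15) (nat_lit 0xf835cb62547418a418440) (nat_lit 43648) (nat_lit 5) (nat_lit 31)
theorem rows_of {lo hi : ℕ} {t : JL} (h : t.run rchk (nat_lit 48) hi lo = true) : C.RowsOK lo hi :=
  rowsOK_of_run masks h
theorem facts_of {lo hi : ℕ} {t : JL} (h : t.run fchk (nat_lit 20) hi lo = true) : C.FactsOK lo hi :=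
  factsOK_of_run masks h
theorem words_ok : wordsChk 27 6 5 5 34 18754227528905178281509952 43648 R S Wr Wn cr cn = true := by
  decide +kernel
noncomputable def j0 : JL :=
(.cons (nat_lit 16) (nat_lit 0x200110a1f1e021d00081c070209000a010702090008011b0006050a01031600051a19100f1805170c001615140001070209140013070209050001071200110a01100f0e0d0a0c000b09050a0007020900080107000605040103022625240123) (nat_lit 4012)
(.cons (nat_lit 11) (nat_lit 0x1600111a01100f180d170c000b09050a0007020900080107121d000a011b1615050001220006210401030215140001220006210401070009050a20030009050a0c07) (nat_lit 0)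
.nil))
theorem t0 : C.RowsOK (nat_lit 0) (nat_lit 27) :=
  rows_of (t := j0) (by decide +kernel)
noncomputable def j1 : JL :=
(.cons (nat_lit 8) (nat_lit 0xb70009a0007d0006000048000300001800000) (nat_lit 0x60008022800400d00020046001001000000000000000000000000)
.nil)
theorem t1 : C.FactsOK (nat_lit 0) (nat_lit 8) :=
  facts_of (t := j1) (by decide +kernel)
theorem checked : Checked C R S :=
  ⟨⟨Wr, Wn, cr, cn, fun _ => rfl, fun _ => rfl, words_ok⟩, t0,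
    t1⟩

/-- In any group whose elements `g 1, …, g 6` satisfy the relators `R`, a subgroup containing the words
of `S` has index at most 27 in the subgroup generated by these elements. -/
theorem idxLe {G : Type*} [Group G] {g : ℕ → G} (hg : Sat g R) {H : Subgroup G}
    (hS : ∀ s ∈ S, ev g s ∈ H) : IdxLe H (gen g 6) 27 :=
  checked.idxLe hg hS

end Cfsg.Agent.H74.PresO8.L4

namespace Cfsg.Agent.H74.PresO8.L5
open Cfsg.Agent.H44

noncomputable def rT0 : Tr :=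
 (.leaf (nat_lit 0x6b7dadbb77cefadf3bea70638defb0b29ed3da5b6270ef5c418b358eb5d69ae258e94d259bb38662cc18e228e74ce7a3f48e80c47a62104c29d938f6a652aa364c70ed6d43a8267501d039cc4c618c2f7bef7de2bc12ca2bdf9bf18430860094784a1048294f2a2ea5d6bab74876db4b6768216cadb596c24a58bb1552aa0412ca7540303f1ae35beb8570adf5be7a54ba9762ec03d4b2793c39533a654b6295207a303c17511a21401d7e2ca1743a40343c9b92274beb9d53b470e40697307163ad99933460303b91709975a1c037b070dc060d21e43c8e91b230682a055d0ca37c708df1aa65c4c840aba9544a89312a5642d89f186d5b20496a2413ac95c07a1e0d92a60f1e50d707defb9f54ed5c079e201c23ceba600d5180349c76ba76d6e0686cc958071c269a0354ebdc839071ee1a663687406a905b686ced9a50ce1994d1da01a9690d1a3016630ac8e5642e65ac9670ca190ac00b2b0d618c164012a810f08a49ec3dcf927440024c720e41c8394e9268c618c312954185280410200e22109292524c85490e762694d08a9100eb45658e300c6292a2d45a8b50308c762294529ad300c92d898c35a0b41482db52091c030c200a3783008842e17d6b8a70bc014eb2564ac174eb0a67381702d98d0b4524028a2008764c614c4aaa31660870b241002058216c4d48885006748e40d7390420ca8670ae158c280330a414c6864004351050cf314154a50470a8008c1a060a6819480460a440c012470a2140e384509e138a4802392134a484409852c25904002710c2023094518e38492042080082209011c2304528600461821000304608c108810c210070822004008010030040000))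
noncomputable def gT0 : Tr :=
 (.leaf (nat_lit 0x980002500009000023000084000120000400000e00003000008000))
/-- The relators. -/
def R : List (List ℕ) := [[1, 2],
  [3, 3],
  [4, 4],
  [5, 5],
  [6, 6],
  [7, 7],
  [1, 1, 1],
  [1, 3, 1, 3, 1, 3],
  [3, 4, 3, 4],
  [1, 4, 1, 4, 1, 4],
  [1, 5, 1, 5, 1, 5],
  [3, 5, 3, 5, 3, 5],
  [4, 5, 4, 5, 4, 5],
  [5, 3, 1, 3, 5, 2, 3, 2],
  [5, 4, 1, 4, 5, 2, 4, 2],
  [5, 6, 5, 6],
  [1, 5, 6, 1, 5, 6],
  [3, 5, 6, 3, 5, 6],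
  [4, 5, 6, 4, 5, 6, 4, 5, 6],
  [4, 7, 4, 7],
  [6, 7, 6, 7],
  [7, 5, 7, 6, 5],
  [1, 7, 1, 7, 1, 7, 1, 7],
  [7, 3, 1, 3, 7, 1, 3, 1],
  [7, 2, 5, 1, 7, 2, 5, 1, 7, 2, 5, 1]]
/-- The subgroup generators. -/
def S : List (List ℕ) := [[1],
  [2],
  [3],
  [4],
  [5],
  [6]]
def Wr : List (List ℕ) := [[2, 1],
  [7, 7],
  [1, 2],
  [3, 3],
  [4, 7, 4, 7],
  [5, 7, 6, 5, 7],
  [6, 7, 6, 7],
  [4, 4],
  [5, 5],
  [6, 6],
  [2, 2, 2],
  [3, 2, 7, 3, 2, 3, 7, 2],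
  [1, 3, 1, 3, 1, 3],
  [4, 3, 4, 3],
  [5, 4, 1, 4, 5, 2, 4, 2],
  [1, 5, 1, 5, 1, 5],
  [6, 1, 5, 6, 1, 5],
  [4, 1, 5, 4, 2, 4, 5, 1],
  [5, 6, 5, 6],
  [2, 4, 2, 4, 2, 4],
  [3, 4, 3, 4],
  [2, 7, 2, 7, 2, 7, 2, 7],
  [3, 5, 3, 5, 3, 5],
  [6, 3, 5, 6, 3, 5],
  [2, 3, 2, 3, 2, 3],
  [4, 2, 4, 2, 4, 2],
  [1, 5, 6, 1, 5, 6],
  [1, 4, 1, 4, 1, 4],
  [3, 2, 5, 3, 1, 3, 5, 2],
  [5, 2, 5, 2, 5, 2],
  [6, 5, 2, 6, 5, 2],
  [7, 2, 5, 1, 7, 2, 5, 1, 7, 2, 5, 1],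
  [2, 5, 3, 1, 3, 5, 2, 3],
  [7, 3, 2, 3, 7, 2, 3, 2],
  [5, 3, 5, 3, 5, 3],
  [6, 5, 3, 6, 5, 3],
  [7, 2, 3, 2, 7, 3, 2, 3],
  [3, 5, 6, 3, 5, 6],
  [3, 7, 2, 3, 2, 7, 3, 2],
  [4, 5, 6, 4, 5, 6, 4, 5, 6],
  [5, 4, 5, 4, 5, 4],
  [1, 7, 1, 7, 1, 7, 1, 7],
  [5, 2, 3, 2, 5, 3, 1, 3],
  [4, 1, 4, 5, 2, 4, 2, 5],
  [7, 4, 7, 4],
  [3, 1, 7, 3, 1, 3, 7, 1],
  [5, 2, 6, 5, 2, 6],
  [7, 5, 7, 5, 6],
  [7, 6, 7, 6],
  [4, 5, 4, 5, 4, 5],
  [6, 5, 6, 5],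
  [7, 6, 5, 7, 5],
  [1, 1, 1],
  [3, 7, 1, 3, 1, 7, 3, 1],
  [7, 1, 7, 1, 7, 1, 7, 1],
  [1, 3, 1, 7, 3, 1, 3, 7],
  [3, 1, 3, 7, 1, 3, 1, 7],
  [6, 4, 5, 6, 4, 5, 6, 4, 5],
  [3, 1, 5, 3, 2, 3, 5, 1],
  [4, 5, 2, 4, 2, 5, 4, 1],
  [5, 1, 5, 1, 5, 1],
  [7, 3, 1, 3, 7, 1, 3, 1],
  [7, 1, 3, 1, 7, 3, 1, 3],
  [1, 3, 7, 1, 3, 1, 7, 3],
  [3, 2, 3, 2, 3, 2],
  [7, 2, 7, 2, 7, 2, 7, 2],
  [2, 3, 2, 7, 3, 2, 3, 7],
  [6, 5, 7, 5, 7],
  [5, 3, 1, 3, 5, 2, 3, 2]]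
def Wn : List (List ℕ) := [[1, 8],
  [3, 12],
  [4, 14],
  [5, 16],
  [6, 18]]
def cr : List (ℕ × ℕ × ℕ) := [(0, 0, 0), (0, 0, 0), (0, 0, 0), (0, 0, 0), (1, 19, 0), (1, 21, 1), (1, 20, 0), (0, 0, 0), (0, 0, 0), (0, 0, 0), (2, 6, 0), (2, 23, 1), (1, 7, 0), (1, 8, 1), (1, 14, 0), (1, 10, 0), (1, 16, 2), (2, 14, 1), (1, 15, 0), (2, 9, 1), (1, 8, 0), (2, 22, 1), (1, 11, 0), (1, 17, 2), (2, 7, 1), (2, 9, 0), (1, 16, 0), (1, 9, 0), (1, 13, 6), (2, 10, 0), (2, 16, 0), (1, 24, 0), (1, 13, 7), (2, 23, 3), (1, 11, 1), (2, 17, 0), (2, 23, 7), (1, 17, 0), (2, 23, 6), (1, 18, 0), (1, 12, 1), (1, 22, 0), (1, 13, 4), (1, 14, 1), (1, 19, 1), (1, 23, 6), (2, 16, 1), (2, 21, 2), (1, 20, 1), (1, 12, 0), (1, 15, 1), (1, 21, 2), (1, 6, 0), (1, 23, 3), (1, 22, 1), (1, 23, 5), (1, 23, 1), (1, 18, 2), (2, 13, 1), (1, 14, 3), (1, 10, 1), (1, 23, 0), (1, 23, 4), (1, 23, 2), (2, 7, 0), (2, 22, 0), (2, 23, 0),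 (1, 21, 3), (1, 13, 0)]
def cn : List (ℕ × ℕ × ℕ) := [(1, 25, 0), (1, 27, 0), (1, 28, 0), (1, 29, 0), (1, 30, 0)]
noncomputable def rT : Tr := rT0
noncomputable def gT : Tr := gT0
noncomputable def rC (i : ℕ) : ℕ := rT.get (nat_lit 0) i
noncomputable def gC (i : ℕ) : ℕ := gT.get (nat_lit 0) i
noncomputable def row (p : ℕ) : ℕ := rec2 rC (nat_lit 6) (nat_lit 63) (nat_lit 88) (nat_lit 0xffffffffffffffffffffff) p
noncomputable def gf (p : ℕ) : ℕ := rec2 gC (nat_lit 8) (nat_lit 255) (nat_lit 22) (nat_lit 0x3fffff) p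
noncomputable def gw (c : ℕ) : List ℕ := nth [] Wr c
noncomputable def wn (c : ℕ) : ℕ := pack (nat_lit 5) (nth [] Wn c) (nat_lit 0)
noncomputable def C : Cert :=
  { n := (nat_lit 56), na := (nat_lit 0), M := (nat_lit 10), nc := (nat_lit 7), W := (nat_lit 6), EB := (nat_lit 11),
    LB := (nat_lit 5), nreg := (nat_lit 69), ivT := (nat_lit 0x94e1173d8d52d09398a418440), base := (nat_lit 349440),
    row := row, gf := gf, gw := gw, wn := wn }
theorem masks : Masks C (nat_lit 63) (nat_lit 2047) (nat_lit 31) (nat_lit 17) (nat_lit 131071) :=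
  ⟨by decide +kernel, by decide +kernel, by decide +kernel, by decide +kernel, by decide +kernel⟩
noncomputable def rchk : ℕ → ℕ → ℕ → Bool :=
  rowChk row gf gw (nat_lit 56) (nat_lit 10) (nat_lit 7) (nat_lit 6) (nat_lit 63) (nat_lit 11) (nat_lit 2047) (nat_lit 5) (nat_lit 31) (nat_lit 17) (nat_lit 131071) (nat_lit 69) (nat_lit 0x94e1173d8d52d09398a418440) (nat_lit 4) (nat_lit 15) (nat_lit 8) (nat_lit 255)
noncomputable def fchk : ℕ → ℕ → ℕ → Bool :=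
  auxRun row gf wn (nat_lit 56) (nat_lit 0) (nat_lit 10) (nat_lit 7) (nat_lit 6) (nat_lit 63) (nat_lit 11) (nat_lit 2047) (nat_lit 5) (nat_lit 31) (nat_lit 17) (nat_lit 0x94e1173d8d52d09398a418440) (nat_lit 349440) (nat_lit 5) (nat_lit 31)
theorem rows_of {lo hi : ℕ} {t : JL} (h : t.run rchk (nat_lit 56) hi lo = true) : C.RowsOK lo hi :=
  rowsOK_of_run masks h
theorem facts_of {lo hi : ℕ} {t : JL} (h : t.run fchk (nat_lit 20) hi lo = true) : C.FactsOK lo hi :=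
  factsOK_of_run masks h
theorem words_ok : wordsChk 56 7 6 5 69 737214392205380596375629169728 349440 R S Wr Wn cr cn = true := by
  decide +kernel
noncomputable def j0 : JL :=
(.cons (nat_lit 16) (nat_lit 0xa090515011c0200090804011b020a091a040b00000a060504190302180008170103000a0608041603020a0900151403000a09080c01030200131204010302110008040110020a0f00040103020a090e00010d020a09080c0b00020a090804000300070605040103024a4948470146) (nat_lit 624485)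
(.cons (nat_lit 16) (nat_lit 0x2110f1a040b0000070608040103311f0908040b0030002f052e012a2d0a002c170110020a2b0e00010d0007060804012a020a290015011c000a090504010302001328260103020a090e270b000007060526011b2524230e00190d0007090804010322180908002103201f1e081d0b00) (nat_lit 0)
(.cons (nat_lit 16) (nat_lit 0x20330908040003000706051701402d3a290015011c3f24230e00010d000706052e012a3e18090800010337113d3c3b00352d3a290004011c000a09053901380200130826011b000a09050401030200132826011b3400130526011b20110008170110370a090836003534330032040110) (nat_lit 0)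
(.cons (nat_lit 8) (nat_lit 0x7060526011b000a06052e012a021100321701102244451a410b002544090804000300070608364338020a0900150103421f1e1a410b00) (nat_lit 0)
.nil))))
theorem t0 : C.RowsOK (nat_lit 0) (nat_lit 56) :=
  rows_of (t := j0) (by decide +kernel)
noncomputable def j1 : JL :=
(.cons (nat_lit 10) (nat_lit 0xec000cf000b200095000780006000048000300001800000) (nat_lit 0xf00100568008022c00400d20020047001001000000000000000000000000000000)
.nil)
theorem t1 : C.FactsOK (nat_lit 0) (nat_lit 10) :=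
  facts_of (t := j1) (by decide +kernel)
theorem checked : Checked C R S :=
  ⟨⟨Wr, Wn, cr, cn, fun _ => rfl, fun _ => rfl, words_ok⟩, t0,
    t1⟩

/-- In any group whose elements `g 1, …, g 7` satisfy the relators `R`, a subgroup containing the words
of `S` has index at most 56 in the subgroup generated by these elements. -/
theorem idxLe {G : Type*} [Group G] {g : ℕ → G} (hg : Sat g R) {H : Subgroup G}
    (hS : ∀ s ∈ S, ev g s ∈ H) : IdxLe H (gen g 7) 56 :=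
  checked.idxLe hg hS

end Cfsg.Agent.H74.PresO8.L5

namespace Cfsg.Agent.H74.PresO8.L6
open Cfsg.Agent.H44

noncomputable def rT0 : Tr :=
 (.node (.node (.leaf (nat_lit 0x4cd02d986a0b5007043c1680b30e20034d4e92f5182870838b2e50e06a016400d24c9660c360b1515a46c34e00c3d482c015ea9e24f2a7815c1880568030b3049934e82b133a0ab0c3a87c0144a0250166912e99a48d051cf3200928e946cf504981cc1a5c24e818004186cc3a6a620c9e5c832107087801c62e31710ba468e328180739c2400c62630a1050e2882a38a031c52a3153ca9c448220061488e9018660800286a0d2c4963cb1a581540a705482a000a5863049c48d247a5053029c14c4860029420d260a530982949223113c89e5492a0050520c5414600430828407209900d0828c1440880cb8a3cb1e50f002067cd1e60f042028414030a147027c00848e207020c13c09d1c48e30a1830c086001010409c04d922081a58d1c6801031a0814858a0c006104245882c61628b033242813438e105142800640a1c5018cf2c0992068c20d26288084000c0c469404c1430712592184800c312061001025c50e1870c38a1c40e187024081812c5123098c1412a105001010880a094049824870c0910010618082090102000431608f04702341180264418c2c1160012418228112088012821c40418220100044040860428090000181042020c104181140880401008108004002001000800600200000))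
 (.leaf (nat_lit 0x70838104802441f9c9517e83f242837c1bc0dd3df009087c5be29f1211a7ac304d4b6e8046cba51d2d6c8c8cb05e60089746cbb6ecb2edbb84465d7af5154602269e31601b8c3c222aae975eaa771e8089a7a0db55e911186a02162d2ee5672d396a5394c84ec3806d2a84042bb721c03641b0425010035c1acd3759c28dd76eb372042ad803ed5565b048116c8b641b0f9d9720d55cf807c66a5b54daa4d47caa343da2cd106653339984cc03e3e25599ecd5668b42da1ed003e1b41f080752460d4516acc03a684b3968ea01a6b313989ab0e5801d5902ab0746c3c65e807133cbb2069374195e38661db0e913c01c59683458600d01c2af1019ec2e5d7033819a01c54f0e04036a220662ac955e1ca3d9032c6d00ca5961cb0e627b100dacc5440363064a8ad556a2b6a428ac03699d1b0aaa90540c806383191800143cb0a0402671c51e9e9cf4e7273d3a3144d0a220098450d4c719413249948826700918796748294149ea418a829124248c0245963941860f500c4454091c1860c24129e94f4a7bf38980484840c106022fc17e0be1d20c5402222245326c9676c3c05eae8824401010126a155a0bc05d82e98460100d1880401c0b959c02e1542110590aa843900b700710688341b64d02ab17621c7)))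
 (.node (.leaf (nat_lit 0x1f27860e80f42ef937d6beadf3e4318c07c8c13e0850128c0f30791f1d2ba8c101f21751ba8dd4aea374f8d05c8723971bb8fc972e34f0076762627396dfcaec95ad83c557a03a3a13b58070bb95ad2f5ddb4fe88769c1d9a40f062caf618b0d3c0ac00e0e04cd1077b7618b2cd95dd80e03b27016aa80dc3dceee62d395ddaee57373bd681dc0376eb3959caced672b1b99bae03565b31547aabd556aad54d4edd459d80c9698c4c076b589898646018a14c1d80eb62904c9b72bca3143565da4b52568af4c060d6a728980dab0c51628ad4969402f76935a8bc6e506a83941ba0dd06e800bda605e15e380b999eccf5f12f3d79eb4f2e3b36ddc4de266580b83d2bce5a717117c0c636b503a81d202e5e6ad34b86d4c59e00b57a8cd407433517c45a64a12d2d386d4e6a5b12c05a7b22d080b10940e70732f4425ac5365c9620056d45462bd6e0b8ac9724b724ad0c4846400a9188cab5242721290546627ad10f8802a4e3a71d18e8472a2ad1518cb464a300a91bc8c6423151178cdc94a483941c80e3414809c9c4b2e5e3a11d290a444b026a004c4c2012a30d4960e2461a385586a43254272c04a8c246121093849c24a1129c04895d4af2178a824414e0a904910b4001227812801de4151300880487))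
 (.leaf (nat_lit 0x7fbd1ddfeef777bb81ba8ef3f76e1b5c12ed0f697a81b23eb0759b73611ade97597acdd80cf27693743d99c8ff4774bf7c0befe38324bbe3e0be57f62dcd5e6a722b927c82e405e5e1479d5e50f257997cd4e605e0f9af05ad2dea831bfc57e205b738b7c56c6df602cb3c1cded6f7b7c9d1edeb276fa8161cdeef06f83fc1de1274583bdb80ac15772bbbb81ef3f697aab1dcdaf66633479dad005482d39a1507073476014e1d00f68f3c79dec2a66775c3a1fd00536332d99cd2ee6532b7a9ce2ccd026b9a98d4cd16692695be2f74670b7a409a14e6f33bad348de88b5c1ae2d8ded0263bb5eb4983939239c09526d07ac5b16c316c4a33999fdaced02533ad7d6f6b6b4a5158c4fe57ad81155caae54f2a59514b0e482e31914c804587a27912c88a45ef2f361e2a637ba01153c6963451b395c9cd4e021ad3dbc4b4c6ea219407e95f6b4b984bc28437f62f9cfd0c4d01fa5011c08e046227812c07e7))))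
noncomputable def gT0 : Tr :=
 (.leaf (nat_lit 0x4100c19e007e4728204300178147e3c086f1e013800009800004a000024000011800008400002a000013000008800003c00001a0000090000047906017c02))
/-- The relators. -/
def R : List (List ℕ) := [[1, 2],
  [3, 3],
  [4, 4],
  [5, 5],
  [6, 6],
  [7, 7],
  [8, 8],
  [1, 1, 1],
  [1, 3, 1, 3, 1, 3],
  [3, 4, 3, 4],
  [1, 4, 1, 4, 1, 4],
  [1, 5, 1, 5, 1, 5],
  [3, 5, 3, 5, 3, 5],
  [4, 5, 4, 5, 4, 5],
  [5, 3, 1, 3, 5, 2, 3, 2],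
  [5, 4, 1, 4, 5, 2, 4, 2],
  [5, 6, 5, 6],
  [1, 5, 6, 1, 5, 6],
  [3, 5, 6, 3, 5, 6],
  [4, 5, 6, 4, 5, 6, 4, 5, 6],
  [4, 7, 4, 7],
  [6, 7, 6, 7],
  [7, 5, 7, 6, 5],
  [1, 7, 1, 7, 1, 7, 1, 7],
  [7, 3, 1, 3, 7, 1, 3, 1],
  [7, 2, 5, 1, 7, 2, 5, 1, 7, 2, 5, 1],
  [3, 8, 3, 8],
  [8, 7, 8, 4, 6, 4],
  [4, 8, 4, 8, 4, 8, 4, 8],
  [8, 4, 8, 1, 8, 4, 8, 1],
  [8, 1, 8, 5, 7, 4, 2, 7, 4, 5],
  [8, 4, 8, 5, 8, 4, 8, 5],
  [8, 4, 2, 8, 1, 4, 8, 7, 5, 2, 7, 1, 5, 7],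
  [8, 6, 2, 8, 2, 5, 1, 8, 1, 6, 8, 1, 3, 1, 4, 2, 3, 5, 4, 6, 4, 2, 3, 1, 4, 6, 3, 4, 5, 7, 2, 5, 1]]
/-- The subgroup generators. -/
def S : List (List ℕ) := [[1],
  [2],
  [3],
  [4],
  [5],
  [6],
  [7]]
def Wr : List (List ℕ) := [[2, 1],
  [8, 8],
  [1, 8, 5, 7, 4, 2, 7, 4, 5, 8],
  [3, 8, 3, 8],
  [4, 4],
  [5, 5],
  [6, 6],
  [7, 8, 4, 6, 4, 8],
  [1, 2],
  [3, 4, 3, 4],
  [6, 4, 8, 7, 8, 4],
  [7, 4, 7, 4],
  [3, 3],
  [4, 5, 4, 5, 4, 5],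
  [7, 7],
  [7, 6, 7, 6],
  [8, 4, 8, 1, 8, 4, 8, 1],
  [2, 2, 2],
  [4, 2, 4, 2, 4, 2],
  [8, 1, 4, 8, 7, 5, 2, 7, 1, 5, 7, 8, 4, 2],
  [1, 8, 4, 8, 1, 8, 4, 8],
  [4, 8, 4, 8, 4, 8, 4, 8],
  [5, 8, 4, 8, 5, 8, 4, 8],
  [3, 2, 5, 3, 1, 3, 5, 2],
  [5, 2, 5, 2, 5, 2],
  [1, 3, 1, 3, 1, 3],
  [4, 3, 4, 3],
  [5, 3, 5, 3, 5, 3],
  [8, 3, 8, 3],
  [1, 5, 6, 1, 5, 6],
  [3, 5, 6, 3, 5, 6],
  [4, 5, 6, 4, 5, 6, 4, 5, 6],
  [5, 6, 5, 6],
  [7, 6, 5, 7, 5],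
  [8, 4, 6, 4, 8, 7],
  [6, 5, 6, 5],
  [4, 2, 5, 4, 1, 4, 5, 2],
  [6, 5, 2, 6, 5, 2],
  [6, 3, 5, 6, 3, 5],
  [1, 4, 1, 4, 1, 4],
  [5, 4, 5, 4, 5, 4],
  [6, 4, 5, 6, 4, 5, 6, 4, 5],
  [4, 8, 5, 8, 4, 8, 5, 8],
  [7, 3, 2, 3, 7, 2, 3, 2],
  [1, 5, 1, 5, 1, 5],
  [4, 2, 4, 5, 1, 4, 1, 5],
  [6, 1, 5, 6, 1, 5],
  [2, 7, 1, 5, 7, 8, 4, 2, 8, 1, 4, 8, 7, 5],
  [2, 3, 2, 3, 2, 3],
  [6, 5, 3, 6, 5, 3],
  [7, 2, 3, 2, 7, 3, 2, 3],
  [3, 2, 7, 3, 2, 3, 7, 2],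
  [4, 7, 4, 7],
  [5, 7, 6, 5, 7],
  [6, 7, 6, 7],
  [2, 7, 2, 7, 2, 7, 2, 7],
  [1, 4, 7, 5, 8, 2, 8, 5, 4, 7],
  [1, 3, 1, 7, 3, 1, 3, 7],
  [3, 1, 3, 7, 1, 3, 1, 7],
  [1, 5, 7, 8, 4, 2, 8, 1, 4, 8, 7, 5, 2, 7],
  [4, 8, 2, 8, 4, 8, 2, 8],
  [8, 7, 8, 4, 6, 4],
  [3, 5, 3, 5, 3, 5],
  [8, 5, 4, 7, 1, 4, 7, 5, 8, 2],
  [3, 2, 3, 2, 3, 2],
  [8, 4, 8, 2, 8, 4, 8, 2],
  [2, 8, 4, 8, 2, 8, 4, 8],
  [1, 1, 1],
  [7, 1, 7, 1, 7, 1, 7, 1],
  [3, 1, 5, 3, 2, 3, 5, 1],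
  [5, 1, 5, 1, 5, 1],
  [1, 3, 5, 2, 3, 2, 5, 3],
  [7, 1, 5, 7, 8, 4, 2, 8, 1, 4, 8, 7, 5, 2],
  [4, 6, 4, 8, 7, 8],
  [5, 1, 8, 1, 6, 8, 1, 3, 1, 4, 2, 3, 5, 4, 6, 4, 2, 3, 1, 4, 6, 3, 4, 5, 7, 2, 5, 1, 8, 6, 2, 8, 2],
  [2, 5, 2, 5, 2, 5],
  [6, 7, 5, 7, 5],
  [8, 5, 8, 4, 8, 5, 8, 4],
  [7, 1, 3, 1, 7, 3, 1, 3],
  [5, 2, 7, 1, 5, 7, 8, 4, 2, 8, 1, 4, 8, 7],
  [8, 1, 8, 5, 7, 4, 2, 7, 4, 5],
  [5, 3, 1, 3, 5, 2, 3, 2],
  [1, 7, 1, 7, 1, 7, 1, 7],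
  [3, 1, 7, 3, 1, 3, 7, 1],
  [8, 4, 8, 4, 8, 4, 8, 4],
  [8, 4, 8, 5, 8, 4, 8, 5],
  [4, 8, 7, 8, 4, 6],
  [2, 4, 2, 4, 2, 4],
  [5, 2, 4, 2, 5, 4, 1, 4],
  [3, 1, 3, 5, 2, 3, 2, 5],
  [2, 8, 1, 4, 8, 7, 5, 2, 7, 1, 5, 7, 8, 4],
  [4, 8, 1, 8, 4, 8, 1, 8],
  [8, 1, 8, 4, 8, 1, 8, 4],
  [7, 4, 2, 7, 4, 5, 8, 1, 8, 5],
  [4, 2, 3, 5, 4, 6, 4, 2, 3, 1, 4, 6, 3, 4, 5, 7, 2, 5, 1, 8, 6, 2, 8, 2, 5, 1, 8, 1, 6, 8, 1, 3, 1],
  [8, 2, 5, 1, 8, 1, 6, 8, 1, 3, 1, 4, 2, 3, 5, 4, 6, 4, 2, 3, 1, 4, 6, 3, 4, 5, 7, 2, 5, 1, 8, 6, 2],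
  [6, 2, 8, 2, 5, 1, 8, 1, 6, 8, 1, 3, 1, 4, 2, 3, 5, 4, 6, 4, 2, 3, 1, 4, 6, 3, 4, 5, 7, 2, 5, 1, 8],
  [4, 1, 4, 1, 4, 1],
  [6, 8, 1, 3, 1, 4, 2, 3, 5, 4, 6, 4, 2, 3, 1, 4, 6, 3, 4, 5, 7, 2, 5, 1, 8, 6, 2, 8, 2, 5, 1, 8, 1],
  [8, 5, 7, 4, 2, 7, 4, 5, 8, 1],
  [7, 2, 5, 1, 7, 2, 5, 1, 7, 2, 5, 1],
  [8, 7, 5, 2, 7, 1, 5, 7, 8, 4, 2, 8, 1, 4],
  [2, 5, 4, 1, 4, 5, 2, 4],
  [2, 7, 4, 5, 8, 1, 8, 5, 7, 4],
  [3, 5, 2, 3, 2, 5, 3, 1],
  [5, 8, 1, 8, 5, 7, 4, 2, 7, 4],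
  [7, 2, 7, 2, 7, 2, 7, 2],
  [7, 5, 7, 6, 5],
  [5, 8, 2, 8, 5, 4, 7, 1, 4, 7],
  [6, 5, 7, 5, 7],
  [2, 6, 5, 2, 6, 5],
  [3, 6, 5, 3, 6, 5],
  [4, 7, 1, 4, 7, 5, 8, 2, 8, 5],
  [4, 5, 8, 1, 8, 5, 7, 4, 2, 7],
  [5, 2, 3, 2, 5, 3, 1, 3],
  [1, 3, 1, 5, 3, 2, 3, 5],
  [2, 8, 2, 5, 1, 8, 1, 6, 8, 1, 3, 1, 4, 2, 3, 5, 4, 6, 4, 2, 3, 1, 4, 6, 3, 4, 5, 7, 2, 5, 1, 8, 6],
  [1, 3, 7, 1, 3, 1, 7, 3],
  [2, 3, 2, 5, 3, 1, 3, 5],
  [6, 4, 2, 3, 1, 4, 6, 3, 4, 5, 7, 2, 5, 1, 8, 6, 2, 8, 2, 5, 1, 8, 1, 6, 8, 1, 3, 1, 4, 2, 3, 5, 4],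
  [8, 1, 6, 8, 1, 3, 1, 4, 2, 3, 5, 4, 6, 4, 2, 3, 1, 4, 6, 3, 4, 5, 7, 2, 5, 1, 8, 6, 2, 8, 2, 5, 1],
  [1, 7, 2, 5, 1, 7, 2, 5, 1, 7, 2, 5],
  [3, 1, 4, 2, 3, 2, 8, 6, 2, 8, 2, 5, 1, 8, 1, 6, 8, 2, 5, 1, 7, 5, 4, 3, 6, 4, 2, 3, 1, 4, 6, 4, 5]]
def Wn : List (List ℕ) := [[1, 9],
  [3, 13],
  [4, 15],
  [5, 17],
  [6, 19],
  [7, 21],
  [6, 5, 6, 5],
  [3, 5, 6, 3, 5, 6],
  [3, 5, 3, 5, 3, 5],
  [5, 5],
  [5, 7, 4, 2, 7, 4, 5, 8, 1, 8],
  [8, 8]]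
def cr : List (ℕ × ℕ × ℕ) := [(0, 0, 0), (0, 0, 0), (1, 30, 1), (1, 26, 0), (0, 0, 0), (0, 0, 0), (0, 0, 0), (1, 27, 1), (0, 0, 0), (1, 9, 0), (1, 27, 4), (1, 20, 1), (0, 0, 0), (1, 13, 0), (0, 0, 0), (1, 21, 1), (1, 29, 0), (2, 7, 0), (2, 10, 0), (1, 32, 3), (1, 29, 3), (1, 28, 0), (1, 31, 3), (1, 14, 6), (2, 11, 0), (1, 8, 0), (1, 9, 1), (1, 12, 1), (1, 26, 1), (1, 17, 0), (1, 18, 0), (1, 19, 0), (1, 16, 0), (1, 22, 2), (1, 27, 2), (1, 16, 1), (1, 15, 6), (2, 17, 0), (1, 18, 2), (1, 10, 0), (1, 13, 1), (1, 19, 2), (1, 31, 1), (2, 24, 3), (1, 11, 0), (2, 15, 4), (1, 17, 2), (1, 32, 9), (2, 8, 1), (2, 18, 0), (2, 24, 7), (2, 24, 1), (1, 20, 0), (1, 22, 1), (1, 21, 0), (2, 23, 1), (2, 30, 3), (1, 24, 5), (1, 24, 1), (1, 32, 11), (2, 29, 2), (1, 27, 0), (1, 12, 0), (2, 30, 9), (2, 8, 0), (2, 29, 1), (2, 29, 0), (1, 7, 0), (1, 23, 1), (2, 14, 1), (1, 11, 1), (1, 14, 2), (1, 32, 10),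 (1, 27, 3), (1, 33, 5), (2, 11, 1), (2, 22, 1), (1, 31, 2), (1, 24, 4), (1, 32, 8), (1, 30, 0), (1, 14, 0), (1, 23, 0), (1, 24, 6), (1, 28, 1), (1, 31, 0), (1, 27, 5), (2, 10, 1), (1, 15, 4), (1, 14, 1), (1, 32, 2), (1, 29, 1), (1, 29, 2), (1, 30, 4), (1, 33, 14), (1, 33, 3), (1, 33, 1), (1, 10, 1), (1, 33, 9), (1, 30, 2), (1, 25, 0), (1, 32, 6), (1, 15, 7), (1, 30, 6), (1, 14, 3), (1, 30, 9), (2, 23, 0), (1, 22, 0), (2, 30, 6), (1, 22, 3), (2, 17, 2), (2, 18, 2), (2, 30, 1), (1, 30, 8), (1, 14, 4), (2, 14, 0), (1, 33, 2), (1, 24, 2), (1, 14, 5), (1, 33, 19), (1, 33, 7), (1, 25, 3), (2, 33, 16)]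
def cn : List (ℕ × ℕ × ℕ) := [(1, 34, 0), (1, 36, 0), (1, 37, 0), (1, 38, 0), (1, 39, 0), (1, 40, 0), (1, 16, 1), (1, 18, 0), (1, 12, 0), (0, 0, 0), (1, 30, 3), (0, 0, 0)]
noncomputable def rT : Tr := rT0
noncomputable def gT : Tr := gT0
noncomputable def rC (i : ℕ) : ℕ := rT.get (nat_lit 2) i
noncomputable def gC (i : ℕ) : ℕ := gT.get (nat_lit 0) i
noncomputable def row (p : ℕ) : ℕ := rec2 rC (nat_lit 5) (nat_lit 31) (nat_lit 117) (nat_lit 0x1fffffffffffffffffffffffffffff) p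
noncomputable def gf (p : ℕ) : ℕ := rec2 gC (nat_lit 7) (nat_lit 127) (nat_lit 25) (nat_lit 0x1ffffff) p
noncomputable def gw (c : ℕ) : List ℕ := nth [] Wr c
noncomputable def wn (c : ℕ) : ℕ := pack (nat_lit 5) (nth [] Wn c) (nat_lit 0)
noncomputable def C : Cert :=
  { n := (nat_lit 120), na := (nat_lit 2), M := (nat_lit 20), nc := (nat_lit 8), W := (nat_lit 7), EB := (nat_lit 13),
    LB := (nat_lit 5), nreg := (nat_lit 123), ivT := (nat_lit 0x56d3a464f835cb62548398a418440), base := (nat_lit 0x2aaa00),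
    row := row, gf := gf, gw := gw, wn := wn }
theorem masks : Masks C (nat_lit 127) (nat_lit 8191) (nat_lit 31) (nat_lit 19) (nat_lit 524287) :=
  ⟨by decide +kernel, by decide +kernel, by decide +kernel, by decide +kernel, by decide +kernel⟩
noncomputable def rchk : ℕ → ℕ → ℕ → Bool :=
  rowChk row gf gw (nat_lit 120) (nat_lit 20) (nat_lit 8) (nat_lit 7) (nat_lit 127) (nat_lit 13) (nat_lit 8191) (nat_lit 5) (nat_lit 31) (nat_lit 19) (nat_lit 524287) (nat_lit 123) (nat_lit 0x56d3a464f835cb62548398a418440) (nat_lit 5) (nat_lit 31) (nat_lit 8) (nat_lit 255)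
noncomputable def fchk : ℕ → ℕ → ℕ → Bool :=
  auxRun row gf wn (nat_lit 120) (nat_lit 2) (nat_lit 20) (nat_lit 8) (nat_lit 7) (nat_lit 127) (nat_lit 13) (nat_lit 8191) (nat_lit 5) (nat_lit 31) (nat_lit 19) (nat_lit 0x56d3a464f835cb62548398a418440) (nat_lit 0x2aaa00) (nat_lit 6) (nat_lit 63)
theorem rows_of {lo hi : ℕ} {t : JL} (h : t.run rchk (nat_lit 64) hi lo = true) : C.RowsOK lo hi :=
  rowsOK_of_run masks h
theorem facts_of {lo hi : ℕ} {t : JL} (h : t.run fchk (nat_lit 20) hi lo = true) : C.FactsOK lo hi :=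
  factsOK_of_run masks h
theorem words_ok : wordsChk 120 8 7 5 123 28176883932974165028840478934664256 2796032 R S Wr Wn cr cn = true := by
  decide +kernel
noncomputable def j0 : JL :=
(.cons (nat_lit 16) (nat_lit 0x20c2a29000d0128020f271c0500011a020f261925181200020f2406050d000923220021201f011e1d0f071c1b00011a020f071905181200020f0706050d0009000f0b1716040115140f0706130d1200110f0706050d000902100006050d0109830f07000e0d0109020c0b82000a010900080706050401030281807f7e7d017c) (nat_lit 0x9c5ac5a928)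
(.cons (nat_lit 16) (nat_lit 0x3e0f0706000a0109000f07063d04010302003736350d013c000f0706050d010902003736050d010902000706353b013a14000706050d38391d0007060534380923003736350d010923000736353401091d33321c1b00310923000706050d3009020f0021200d0109020f2f002e0a012d1d2c27060500010900080b172b0d0109) (nat_lit 0)
(.cons (nat_lit 16) (nat_lit 0x20f4d00050d4c09020f264b050d0044000807064a0d0109024927060500014802452f470546004414450706050d0044000807171604430902003736350d010900080706050d010902003706350a0128020f2619130d1200020f070605411200420f070605411200400f0706050d0009000f07061604011502003736053f0109) (nat_lit 0)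
(.cons (nat_lit 16) (nat_lit 0x20f2f000e5a012d020f0759000a01283e0c0b29000a5809020f0021570d0109560f4d00050d012d550c0b06000d01092300073635040109550f2700053f0109000f07174a0401152300073635540153020f2f000e3f012d512c0b521341120051330b06050d0009000807504a0d0103024f321c1b00311a4e0f0021050d0109) (nat_lit 0)
(.cons (nat_lit 16) (nat_lit 0x2300373605540153020f0759000d01281d0f07060500011a23100006050d0109644563066254004400080706050401030008610605040115601000215f1f011e025e2f000e3f012d5d0c0b59000a0128020f0706050d1200140f0706130d1200000807065c0d01030200373635540153000f07065c045b091d000736053b0153) (nat_lit 0)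
(.cons (nat_lit 16) (nat_lit 0xf07061604011502006e6d350d01093e6c0021201f011e420f261925411200426b076a130d120023003736350a0109420f261913411200110f3206056900092300070605040103020f0021201f011e020037363554680940100021200d671e0008070605044303024f321c1b00011a020c0b061b00010966652f4762460044) (nat_lit 0)
(.cons (nat_lit 16) (nat_lit 0x2003706050d682d23003736350d01091d4f321c1b00311a02100021050d011e56222f000e3f4c2d140f4d000e3f7748020f0b1c000a01091d0f07060500017602100006051f751e140f0700050d0174562224000e3f012d3e0c0b59000d01281d4f07737200011a0222240071706f090008071c2b04010902003736353b013a) (nat_lit 0)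
(.cons (nat_lit 8) (nat_lit 0x1d4f271c1b00011a3e0c0b29000a58283e0c0b06000d67094e226e00057b017a516b26191341120079657806050d00091d4f271c1b00011a0200373635340109) (nat_lit 0)
.nil))))))))
theorem t0 : C.RowsOK (nat_lit 0) (nat_lit 120) :=
  rows_of (t := j0) (by decide +kernel)
noncomputable def j1 : JL :=
(.cons (nat_lit 2) (nat_lit 0) (nat_lit 0)
(.cons (nat_lit 16) (nat_lit 0x1e0001a40016e001440012600108000ea000cc000ae00090000780006000048000300001800000) (nat_lit 0xa0800200a20226720200600990808524014020814900300758004019400100548004011000100338004008c001001000000000000000000000000000000000000)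
(.cons (nat_lit 2) (nat_lit 0x5400000) (nat_lit 0xb0a00200c2801c40c604318400a00b)
.nil)))
theorem t1 : C.FactsOK (nat_lit 0) (nat_lit 20) :=
  facts_of (t := j1) (by decide +kernel)
theorem checked : Checked C R S :=
  ⟨⟨Wr, Wn, cr, cn, fun _ => rfl, fun _ => rfl, words_ok⟩, t0,
    t1⟩

/-- In any group whose elements `g 1, …, g 8` satisfy the relators `R`, a subgroup containing the words
of `S` has index at most 120 in the subgroup generated by these elements. -/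
theorem idxLe {G : Type*} [Group G] {g : ℕ → G} (hg : Sat g R) {H : Subgroup G}
    (hS : ∀ s ∈ S, ev g s ∈ H) : IdxLe H (gen g 8) 120 :=
  checked.idxLe hg hS

end Cfsg.Agent.H74.PresO8.L6

namespace Cfsg.Agent.H74.PresO8
open Cfsg.Agent.H44

def R : List (List ℕ) := [[1, 2], [3, 3], [4, 4], [5, 5], [6, 6], [7, 7], [8, 8], [1, 1, 1], [1, 3, 1, 3, 1, 3], [3, 4, 3, 4], [1, 4, 1, 4, 1, 4], [1, 5, 1, 5, 1, 5], [3, 5, 3, 5, 3, 5], [4, 5, 4, 5, 4, 5], [5, 3, 1, 3, 5, 2, 3, 2], [5, 4, 1, 4, 5, 2, 4, 2], [5, 6, 5, 6], [1, 5, 6, 1, 5, 6], [3, 5, 6, 3, 5, 6], [4, 5, 6, 4, 5, 6, 4, 5, 6], [4, 7, 4, 7], [6, 7, 6, 7], [7, 5, 7, 6, 5], [1, 7, 1, 7, 1, 7, 1, 7], [7, 3, 1, 3, 7, 1, 3, 1], [7, 2, 5, 1, 7, 2, 5, 1, 7, 2, 5, 1], [3, 8, 3, 8], [8, 7, 8, 4, 6, 4], [4, 8, 4, 8, 4, 8, 4, 8], [8, 4, 8, 1, 8, 4, 8, 1], [8, 1, 8, 5, 7, 4, 2, 7, 4, 5], [8, 4, 8, 5, 8, 4, 8, 5], [8, 4, 2, 8, 1, 4, 8, 7, 5,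 2, 7, 1, 5, 7], [8, 6, 2, 8, 2, 5, 1, 8, 1, 6, 8, 1, 3, 1, 4, 2, 3, 5, 4, 6, 4, 2, 3, 1, 4, 6, 3, 4, 5, 7, 2, 5, 1]]

theorem card0 {G : Type*} [Group G] {g : ℕ → G} (hg : Sat g R) :
    Finite (wgen g [[1], [2]]) ∧ Nat.card (wgen g [[1], [2]]) ≤ 3 :=
  (L0.checked.step hg [0, 1, 2] (S₁ := []) (by decide +kernel) (by decide +kernel)
    (by decide +kernel)).wcard (n := 3) (m := 1) (by decide) (wcard_nil g)

theorem card1 {G : Type*} [Group G] {g : ℕ → G} (hg : Sat g R) :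
    Finite (wgen g [[1], [2], [3]]) ∧ Nat.card (wgen g [[1], [2], [3]]) ≤ 12 :=
  (L1.checked.step hg [0, 1, 2, 3] (S₁ := [[1], [2]]) (by decide +kernel) (by decide +kernel)
    (by decide +kernel)).wcard (n := 4) (m := 3) (by decide) (card0 hg)

theorem card2 {G : Type*} [Group G] {g : ℕ → G} (hg : Sat g R) :
    Finite (wgen g [[1], [2], [3], [4]]) ∧ Nat.card (wgen g [[1], [2], [3], [4]]) ≤ 96 :=
  (L2.checked.step hg [0, 1, 2, 3, 4] (S₁ := [[1], [2], [3]]) (by decide +kernel) (by decide +kernel)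
    (by decide +kernel)).wcard (n := 8) (m := 12) (by decide) (card1 hg)

theorem card3 {G : Type*} [Group G] {g : ℕ → G} (hg : Sat g R) :
    Finite (wgen g [[1], [2], [3], [4], [5]]) ∧ Nat.card (wgen g [[1], [2], [3], [4], [5]]) ≤ 960 :=
  (L3.checked.step hg [0, 1, 2, 3, 4, 5] (S₁ := [[1], [2], [3], [4]]) (by decide +kernel) (by decide +kernel)
    (by decide +kernel)).wcard (n := 10) (m := 96) (by decide) (card2 hg)

theorem card4 {G : Type*} [Group G] {g : ℕ → G} (hg : Sat g R) :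
    Finite (wgen g [[1], [2], [3], [4], [5], [6]]) ∧ Nat.card (wgen g [[1], [2], [3], [4], [5], [6]]) ≤ 25920 :=
  (L4.checked.step hg [0, 1, 2, 3, 4, 5, 6] (S₁ := [[1], [2], [3], [4], [5]]) (by decide +kernel) (by decide +kernel)
    (by decide +kernel)).wcard (n := 27) (m := 960) (by decide) (card3 hg)

theorem card5 {G : Type*} [Group G] {g : ℕ → G} (hg : Sat g R) :
    Finite (wgen g [[1], [2], [3], [4], [5], [6], [7]]) ∧ Nat.card (wgen g [[1], [2], [3], [4], [5], [6], [7]]) ≤ 1451520 :=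
  (L5.checked.step hg [0, 1, 2, 3, 4, 5, 6, 7] (S₁ := [[1], [2], [3], [4], [5], [6]]) (by decide +kernel) (by decide +kernel)
    (by decide +kernel)).wcard (n := 56) (m := 25920) (by decide) (card4 hg)

theorem card6 {G : Type*} [Group G] {g : ℕ → G} (hg : Sat g R) :
    Finite (wgen g [[1], [2], [3], [4], [5], [6], [7], [8]]) ∧ Nat.card (wgen g [[1], [2], [3], [4], [5], [6], [7], [8]]) ≤ 174182400 :=
  (L6.checked.step hg [0, 1, 2, 3, 4, 5, 6, 7, 8] (S₁ := [[1], [2], [3], [4], [5], [6], [7]]) (by decide +kernel) (by decide +kernel)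
    (by decide +kernel)).wcard (n := 120) (m := 1451520) (by decide) (card5 hg)

theorem card_le {G : Type*} [Group G] {g : ℕ → G} (hg : Sat g R) :
    Finite (wgen g [[1], [2], [3], [4], [5], [6], [7], [8]]) ∧ Nat.card (wgen g [[1], [2], [3], [4], [5], [6], [7], [8]]) ≤ 174182400 := card6 hg

end Cfsg.Agent.H74.PresO8
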