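import Mathlib
import Cfsg.Agent.H43.Cent
import Cfsg.Agent.H74.NetF2
import Cfsg.Agent.H74.PresO8
import Cfsg.Agent.H74.NetPc

set_option autoImplicit false
set_option maxRecDepth 1000000
set_option Elab.async false
set_option linter.style.longLine false

namespace Cfsg.Agent.H74.MO8

open Cfsg.Agent.H43 Cfsg.Agent.H46 

theorem m_hn : NOk 120 := by decide

theorem m_hk : 120 ≤ 2 ^ 7 := by decide

noncomputable def m_g1 : Net := (Net.cons (nat_lit 1) (nat_lit 0x10444001100040000111100440000) (Net.cons (nat_lit 2) (nat_lit 0x300000331100000033000033220000) (Net.cons (nat_lit 4) (nat_lit 0x60c0f000f00070000000000000000) (Net.cons (nat_lit 8) (nat_lit 0xa800400000006900bd008a0060) (Net.cons (nat_lit 16) (nat_lit 0x12000001680000dc0400000400) (Net.cons (nat_lit 32) (nat_lit 0x2800000000000000000000) (Net.cons (nat_lit 64) (nat_lit 0x69140000000000) (Net.cons (nat_lit 32) (nat_lit 0x3c29c700000000ac0260df) (Net.cons (nat_lit 16) (nat_lit 0x3e0000c26d0000fc0600003722)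 (Net.cons (nat_lit 8) (nat_lit 0xa900690001006900bd00ce0060) (Net.cons (nat_lit 4) (nat_lit 0x60c0f000f00070000090606060609) (Net.cons (nat_lit 2) (nat_lit 0x322000331100000033000033220000) (Net.cons (nat_lit 1) (nat_lit 0x10444001100040000111100440000) Net.nil)))))))))))))

theorem m_g1_ok : Net.ok 120 m_g1 = true := by decide +kernel

noncomputable def m_g2 : Net := (Net.cons (nat_lit 1) (nat_lit 0x1400110005444144000044000000) (Net.cons (nat_lit 2) (nat_lit 0x3322302230000000002200220000) (Net.cons (nat_lit 4) (nat_lit 0xf00000f000f0a0305000f000f0000) (Net.cons (nat_lit 8) (nat_lit 0xff000000e60040001200690000) (Net.cons (nat_lit 16) (nat_lit 0x96000034420000940a00004100) (Net.cons (nat_lit 32) (nat_lit 0x405d0000000024000000) (Net.cons (nat_lit 64) (nat_lit 0x83cbe7c3c396) (Net.cons (nat_lit 32) (nat_lit 0xd7df0000000034088382) (Net.cons (nat_lit 16) (nat_lit 0xff000036640000de1800006900) (Net.cons (nat_lit 8) (nat_lit 0xff008200e50047001100eb0000)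 (Net.cons (nat_lit 4) (nat_lit 0xf00000f000f0a0905000f000f0000) (Net.cons (nat_lit 2) (nat_lit 0x3322302230032201132200220000) (Net.cons (nat_lit 1) (nat_lit 0x1400110005444144000044000000) Net.nil)))))))))))))

theorem m_g2_ok : Net.ok 120 m_g2 = true := by decide +kernel

noncomputable def m_g3 : Net := (Net.cons (nat_lit 1) (nat_lit 0x40505050005050000000000000000) (Net.cons (nat_lit 2) (nat_lit 0x123333122100001233333300000000) (Net.cons (nat_lit 4) (nat_lit 0x30000000303000000000000) (Net.cons (nat_lit 8) (nat_lit 0xff001000ff0024000000d60000) (Net.cons (nat_lit 32) (nat_lit 0x8600000000000023000000) (Net.cons (nat_lit 64) (nat_lit 0x109669e396a55a) (Net.cons (nat_lit 32) (nat_lit 0xffcccc000000003738cccc) (Net.cons (nat_lit 8) (nat_lit 0xff001000ff00e4000000d60000) (Net.cons (nat_lit 4) (nat_lit 0x30000000303000000000000) (Net.cons (nat_lit 2) (nat_lit 0x123333122100001233333300000000) (Net.cons (nat_lit 1) (nat_lit 0x40505050005050000000000000000)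 Net.nil)))))))))))

theorem m_g3_ok : Net.ok 120 m_g3 = true := by decide +kernel

noncomputable def m_g4 : Net := (Net.cons (nat_lit 1) (nat_lit 0x505050005050500000000000000000) (Net.cons (nat_lit 2) (nat_lit 0x300000003000003000000000000000) (Net.cons (nat_lit 4) (nat_lit 0xf00000900000000000000) (Net.cons (nat_lit 8) (nat_lit 0xfd00000002000000940000) (Net.cons (nat_lit 32) (nat_lit 0x20000000000000d000000) (Net.cons (nat_lit 64) (nat_lit 0x3e69960f94a55a) (Net.cons (nat_lit 32) (nat_lit 0xf2000000000000fdf00000) (Net.cons (nat_lit 8) (nat_lit 0xf000fd00f0006200f000f400f0) (Net.cons (nat_lit 4) (nat_lit 0xf00000300000000000000) (Net.cons (nat_lit 2) (nat_lit 0x100000201000001220000010200000) (Net.cons (nat_lit 1) (nat_lit 0x100000005000000040505050005050) Net.nil)))))))))))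

theorem m_g4_ok : Net.ok 120 m_g4 = true := by decide +kernel

noncomputable def m_g5 : Net := (Net.cons (nat_lit 1) (nat_lit 0x5050500050505000000000) (Net.cons (nat_lit 2) (nat_lit 0x303030000000003000303000000000) (Net.cons (nat_lit 8) (nat_lit 0xff000000000000) (Net.cons (nat_lit 32) (nat_lit 0xff00000000000000000000) (Net.cons (nat_lit 64) (nat_lit 0xff000000000000) (Net.cons (nat_lit 32) (nat_lit 0xff000000000000ff000000) (Net.cons (nat_lit 8) (nat_lit 0xff00ff00ff00000000) (Net.cons (nat_lit 4) (nat_lit 0xc09060606050a030909060300050a) (Net.cons (nat_lit 2) (nat_lit 0x303030001111222122303021001122) (Net.cons (nat_lit 1) (nat_lit 0x5005050044050505000000) Net.nil))))))))))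

theorem m_g5_ok : Net.ok 120 m_g5 = true := by decide +kernel

noncomputable def m_g6 : Net := (Net.cons (nat_lit 1) (nat_lit 0x505050005050500000000000000000) (Net.cons (nat_lit 2) (nat_lit 0x300000003000003000000000000000) (Net.cons (nat_lit 8) (nat_lit 0xff00000000000000000000) (Net.cons (nat_lit 32) (nat_lit 0xff000000) (Net.cons (nat_lit 64) (nat_lit 0xff000000) (Net.cons (nat_lit 32) (nat_lit 0xff000000000000ff000000) (Net.cons (nat_lit 8) (nat_lit 0xff00ff00ff0000000000000000) (Net.cons (nat_lit 4) (nat_lit 0x909060306050a0c0c09060600050a) (Net.cons (nat_lit 2) (nat_lit 0x120000211200001200000000000000) (Net.cons (nat_lit 1) (nat_lit 0x140505055005050000000000000000) Net.nil))))))))))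

theorem m_g6_ok : Net.ok 120 m_g6 = true := by decide +kernel

noncomputable def m_g7 : Net := (Net.cons (nat_lit 1) (nat_lit 0x554100445505004455110044555500) (Net.cons (nat_lit 2) (nat_lit 0x303012001020003000002200000000) (Net.cons (nat_lit 4) (nat_lit 0xc0c060000000000000000) (Net.cons (nat_lit 8) (nat_lit 0x440076002200e000a400860082) (Net.cons (nat_lit 16) (nat_lit 0x200008a200000208200000800) (Net.cons (nat_lit 32) (nat_lit 0x200080000000001e000000) (Net.cons (nat_lit 64) (nat_lit 0x2000801e000000) (Net.cons (nat_lit 32) (nat_lit 0x6688a0000000007e860800) (Net.cons (nat_lit 16) (nat_lit 0xec0000bca80000c08c00008a28) (Net.cons (nat_lit 8) (nat_lit 0x22007600b400e000c200860028) (Net.cons (nat_lit 4) (nat_lit 0x60c0c0000000000000000) (Net.cons (nat_lit 2) (nat_lit 0x123030000020103022000000000000) (Net.cons (nat_lit 1) (nat_lit 0x555500005555000055550000555500) Net.nil)))))))))))))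

theorem m_g7_ok : Net.ok 120 m_g7 = true := by decide +kernel

noncomputable def p_E : List Net := [m_g1, m_g2, m_g3, m_g4, m_g5, m_g6, m_g7]

theorem p_E_ok : okE 120 p_E = true := (okE_cons.2 ⟨m_g1_ok, (okE_cons.2 ⟨m_g2_ok, (okE_cons.2 ⟨m_g3_ok, (okE_cons.2 ⟨m_g4_ok, (okE_cons.2 ⟨m_g5_ok, (okE_cons.2 ⟨m_g6_ok, (okE_cons.2 ⟨m_g7_ok, (okE_nil 120)⟩)⟩)⟩)⟩)⟩)⟩)⟩)

def p_code : List ℕ := [0, 12, 13, 10, 8, 6, 4, 2, 0]

noncomputable def m_g8 : Net := (Net.cons (nat_lit 1) (nat_lit 0x500050405000504400000040000000) (Net.cons (nat_lit 2) (nat_lit 0x30000000303000000000000000) (Net.cons (nat_lit 4) (nat_lit 0xf0900000000000000) (Net.cons (nat_lit 8) (nat_lit 0xb0000000f70008007000000032) (Net.cons (nat_lit 16) (nat_lit 0x80000f7000000800800009200) (Net.cons (nat_lit 32) (nat_lit 0x40480000000007000000) (Net.cons (nat_lit 64) (nat_lit 0x9e3a5c0f5ada12) (Net.cons (nat_lit 32) (nat_lit 0xb008000000007700f0c0) (Net.cons (nat_lit 16) (nat_lit 0xf80000f7f0000060f8000072f0)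 (Net.cons (nat_lit 8) (nat_lit 0xf0004000f700c800f0008000f2) (Net.cons (nat_lit 4) (nat_lit 0xf0300000000000000) (Net.cons (nat_lit 2) (nat_lit 0x10200000101200002010000020) (Net.cons (nat_lit 1) (nat_lit 0x104010405000504440404010000000) Net.nil)))))))))))))

theorem m_g8_ok : Net.ok 120 m_g8 = true := by decide +kernel

noncomputable def m_g9 : Net := (Net.cons (nat_lit 2) (nat_lit 0x300000003300000003000000) (Net.cons (nat_lit 4) (nat_lit 0xf000f000f000c00000000000000) (Net.cons (nat_lit 16) (nat_lit 0xc00000000f0000000f00) (Net.cons (nat_lit 32) (nat_lit 0xff000000) (Net.cons (nat_lit 64) (nat_lit 0x66f066ff663c66) (Net.cons (nat_lit 32) (nat_lit 0xf0fff000000000ccf000f0) (Net.cons (nat_lit 16) (nat_lit 0xf0000000f000000f00000cff0) (Net.cons (nat_lit 4) (nat_lit 0xa030a030a030a000a0c0a0f0a0c0a) (Net.cons (nat_lit 2) (nat_lit 0x330000000300000030000000) Net.nil)))))))))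

theorem m_g9_ok : Net.ok 120 m_g9 = true := by decide +kernel

noncomputable def m_g10 : Net := (Net.cons (nat_lit 1) (nat_lit 0x504050505000500000400000000000) (Net.cons (nat_lit 2) (nat_lit 0x330030120003301233030021000000) (Net.cons (nat_lit 4) (nat_lit 0xb0e0500040a0e090a0804070a0400) (Net.cons (nat_lit 8) (nat_lit 0xbb009700750059001e0001001a) (Net.cons (nat_lit 16) (nat_lit 0xe2000080810000d18c0000b000) (Net.cons (nat_lit 32) (nat_lit 0xfa202200000000a2000000) (Net.cons (nat_lit 64) (nat_lit 0xac9f8bef124d2) (Net.cons (nat_lit 32) (nat_lit 0x2b39b7000000002131163c) (Net.cons (nat_lit 16) (nat_lit 0x580000cabc0000ecbe0000d836) (Net.cons (nat_lit 8) (nat_lit 0x8f006f0077002b00e600aa0002) (Net.cons (nat_lit 4) (nat_lit 0x209000c0a0c030b0c0a0c01080a04) (Net.cons (nat_lit 2) (nat_lit 0x13120200202102202311013010220) (Net.cons (nat_lit 1) (nat_lit 0x540450415000400444005404400444) Net.nil)))))))))))))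

theorem m_g10_ok : Net.ok 120 m_g10 = true := by decide +kernel

noncomputable def m_g11 : Net := (Net.cons (nat_lit 1) (nat_lit 0x551155011100440011044400000000) (Net.cons (nat_lit 2) (nat_lit 0x130012112300121200300211002000) (Net.cons (nat_lit 4) (nat_lit 0xc070c0a0f080a0202090700010200) (Net.cons (nat_lit 8) (nat_lit 0x74001400bb00d400c100c900d0) (Net.cons (nat_lit 16) (nat_lit 0xb800006684000014a100005300) (Net.cons (nat_lit 32) (nat_lit 0x308e410000000041000000) (Net.cons (nat_lit 64) (nat_lit 0xa6cfb6cd5131e3) (Net.cons (nat_lit 32) (nat_lit 0x665dd900000000944aa683) (Net.cons (nat_lit 16) (nat_lit 0x53000017b700006daa000078a2) (Net.cons (nat_lit 8) (nat_lit 0xde004a00e70069005b00460017) (Net.cons (nat_lit 4) (nat_lit 0xc09030b0b0309070b0f090908010e) (Net.cons (nat_lit 2) (nat_lit 0x211220013003003012222022200) (Net.cons (nat_lit 1) (nat_lit 0x5101555401044501015140555154) Net.nil)))))))))))))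

theorem m_g11_ok : Net.ok 120 m_g11 = true := by decide +kernel

noncomputable def m_g12 : Net := (Net.cons (nat_lit 1) (nat_lit 0x500105045005050055000000550000) (Net.cons (nat_lit 2) (nat_lit 0x120200320010001212000000000000) (Net.cons (nat_lit 4) (nat_lit 0x600000000050000) (Net.cons (nat_lit 8) (nat_lit 0x5c0079007300f3008600d6) (Net.cons (nat_lit 16) (nat_lit 0xb4000056030000712a0000da00) (Net.cons (nat_lit 32) (nat_lit 0xc11a000000000024000000) (Net.cons (nat_lit 64) (nat_lit 0x2fd3112ed469de) (Net.cons (nat_lit 32) (nat_lit 0x8d480000000000a0571870) (Net.cons (nat_lit 16) (nat_lit 0x78000056530000437e00000a70) (Net.cons (nat_lit 8) (nat_lit 0x48000c0079007300eb00d60086) (Net.cons (nat_lit 4) (nat_lit 0x5000600000000000000) (Net.cons (nat_lit 2) (nat_lit 0x1000200000000302120212000010) (Net.cons (nat_lit 1) (nat_lit 0x140141405005054441001444050050) Net.nil)))))))))))))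

theorem m_g12_ok : Net.ok 120 m_g12 = true := by decide +kernel

noncomputable def m_g13 : Net := (Net.cons (nat_lit 1) (nat_lit 0x140141411400411055005500000000) (Net.cons (nat_lit 2) (nat_lit 0x213020210312002203000013001000) (Net.cons (nat_lit 4) (nat_lit 0x90209060c01080007090309020800) (Net.cons (nat_lit 8) (nat_lit 0x9c00a6000d001200e900c00053) (Net.cons (nat_lit 16) (nat_lit 0xe5000013330000810000001300) (Net.cons (nat_lit 32) (nat_lit 0x62c040000000011000000) (Net.cons (nat_lit 64) (nat_lit 0x54d3359b2a2fdb) (Net.cons (nat_lit 32) (nat_lit 0x64a6aa0000000071829e75) (Net.cons (nat_lit 16) (nat_lit 0xa70000425c0000d7a20000c978) (Net.cons (nat_lit 8) (nat_lit 0xf000b200c00021003600940025) (Net.cons (nat_lit 4) (nat_lit 0xd070d0308040806060c070f060d06) (Net.cons (nat_lit 2) (nat_lit 0x212000311101001312201033020200) (Net.cons (nat_lit 1) (nat_lit 0x500005015001051455005500000000) Net.nil)))))))))))))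

theorem m_g13_ok : Net.ok 120 m_g13 = true := by decide +kernel

noncomputable def m_g14 : Net := (Net.cons (nat_lit 1) (nat_lit 0x450115014000100055115511000000) (Net.cons (nat_lit 2) (nat_lit 0x200000310222021322202233000000) (Net.cons (nat_lit 4) (nat_lit 0x60b0f0f040a0e0d00000200000000) (Net.cons (nat_lit 8) (nat_lit 0x8c000f004d00b700ea0004000c) (Net.cons (nat_lit 16) (nat_lit 0xc2000028100000354200008200) (Net.cons (nat_lit 32) (nat_lit 0x1ca8a00000000006000000) (Net.cons (nat_lit 64) (nat_lit 0xd0666efecccec4) (Net.cons (nat_lit 32) (nat_lit 0x1d82e50000000009a958cb) (Net.cons (nat_lit 16) (nat_lit 0xa300002b1900009aed00008d9a) (Net.cons (nat_lit 8) (nat_lit 0xd4006d0089009800ba004b0027) (Net.cons (nat_lit 4) (nat_lit 0xe070f0d0e0e0e0d04080000020400) (Net.cons (nat_lit 2) (nat_lit 0x2200310022021120002031220002) (Net.cons (nat_lit 1) (nat_lit 0x10555010040541010545010050145) Net.nil)))))))))))))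

theorem m_g14_ok : Net.ok 120 m_g14 = true := by decide +kernel

noncomputable def m_g15 : Net := (Net.cons (nat_lit 1) (nat_lit 0x440044040000004044004444000000) (Net.cons (nat_lit 2) (nat_lit 0x12010000212000003300000000) (Net.cons (nat_lit 4) (nat_lit 0x40000000400000500000000) (Net.cons (nat_lit 8) (nat_lit 0x1a008100b70061005e00000086) (Net.cons (nat_lit 16) (nat_lit 0x80000033800000c46000009600) (Net.cons (nat_lit 32) (nat_lit 0x184c00000000080000000) (Net.cons (nat_lit 64) (nat_lit 0xcd524cedccde8c) (Net.cons (nat_lit 32) (nat_lit 0xa796d60000000014d612f6) (Net.cons (nat_lit 16) (nat_lit 0x8c00007bcc0000504d0000de4c) (Net.cons (nat_lit 8) (nat_lit 0x9e00c900ff006100ce00cc005e) (Net.cons (nat_lit 4) (nat_lit 0x10000000100000400000004) (Net.cons (nat_lit 2) (nat_lit 0x12010000211000000330000030) (Net.cons (nat_lit 1) (nat_lit 0x40004044000404044404414004000) Net.nil)))))))))))))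

theorem m_g15_ok : Net.ok 120 m_g15 = true := by decide +kernel

noncomputable def m_g16 : Net := (Net.cons (nat_lit 1) (nat_lit 0x444044050040000044004400000000) (Net.cons (nat_lit 2) (nat_lit 0x103033322030033010003031200000) (Net.cons (nat_lit 4) (nat_lit 0x6080004040004030d000802020000) (Net.cons (nat_lit 8) (nat_lit 0x9e0025008c007c001400030094) (Net.cons (nat_lit 16) (nat_lit 0x7300009c8000000ae000001800) (Net.cons (nat_lit 32) (nat_lit 0x81ac0000000000e2000000) (Net.cons (nat_lit 64) (nat_lit 0x12157aeaabfbae) (Net.cons (nat_lit 32) (nat_lit 0xf6ce140000000040865a74) (Net.cons (nat_lit 16) (nat_lit 0xdd0000763d0000643c00008e3e) (Net.cons (nat_lit 8) (nat_lit 0x6c00990038009900ec00d3006e) (Net.cons (nat_lit 4) (nat_lit 0xa0400000004040701080608020400) (Net.cons (nat_lit 2) (nat_lit 0x201021301020113310201233201022) (Net.cons (nat_lit 1) (nat_lit 0x44040044040041044004444000000) Net.nil)))))))))))))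

theorem m_g16_ok : Net.ok 120 m_g16 = true := by decide +kernel

noncomputable def m_g17 : Net := (Net.cons (nat_lit 2) (nat_lit 0x3300000033000300000003000000) (Net.cons (nat_lit 4) (nat_lit 0xc00000003000000) (Net.cons (nat_lit 16) (nat_lit 0x33000000f00000000c00) (Net.cons (nat_lit 32) (nat_lit 0xf0000000) (Net.cons (nat_lit 64) (nat_lit 0x66cf66f0660f66) (Net.cons (nat_lit 32) (nat_lit 0xa50fa500000000f3a53fa5) (Net.cons (nat_lit 16) (nat_lit 0x3c0000cc3c0000f03c0000333c) (Net.cons (nat_lit 4) (nat_lit 0xf00000000000300) (Net.cons (nat_lit 2) (nat_lit 0x3000330000000300330000000300) (Net.cons (nat_lit 1) (nat_lit 0x4400050044005000440055004400) Net.nil))))))))))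

theorem m_g17_ok : Net.ok 120 m_g17 = true := by decide +kernel

noncomputable def m_g18 : Net := (Net.cons (nat_lit 2) (nat_lit 0x3000030003000000330000000000) (Net.cons (nat_lit 4) (nat_lit 0x30000000000) (Net.cons (nat_lit 16) (nat_lit 0x3c000000f300) (Net.cons (nat_lit 32) (nat_lit 0x3c000000000033000000) (Net.cons (nat_lit 64) (nat_lit 0xcc00cc3fccffcc) (Net.cons (nat_lit 32) (nat_lit 0x5ac35a00000000fc5a005a) (Net.cons (nat_lit 16) (nat_lit 0xcc00000ccc00000fcc0000ffcc) (Net.cons (nat_lit 4) (nat_lit 0x30000000300000000000000) (Net.cons (nat_lit 2) (nat_lit 0x300000030000000300033000300) Net.nil)))))))))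

theorem m_g18_ok : Net.ok 120 m_g18 = true := by decide +kernel

noncomputable def m_g19 : Net := (Net.cons (nat_lit 2) (nat_lit 0x300030030000000330033000000) (Net.cons (nat_lit 4) (nat_lit 0xc0000000c000000000000000000) (Net.cons (nat_lit 16) (nat_lit 0xfc000000cc0000000000) (Net.cons (nat_lit 32) (nat_lit 0xc0000000000030000000) (Net.cons (nat_lit 64) (nat_lit 0xcc0030000000) (Net.cons (nat_lit 32) (nat_lit 0xaa0faa00000000fcaa33aa) (Net.cons (nat_lit 16) (nat_lit 0xcc00003fcc0000cccc0000ffcc) (Net.cons (nat_lit 4) (nat_lit 0xc000c000c00000000000000) (Net.cons (nat_lit 2) (nat_lit 0x33000000000000003300) Net.nil)))))))))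

theorem m_g19_ok : Net.ok 120 m_g19 = true := by decide +kernel

noncomputable def u_c2_X : List Net := [m_g8, m_g9, m_g10, m_g11, m_g12, m_g13, m_g14, m_g15, m_g16, m_g17, m_g18, m_g19]

theorem u_c2_X_ok : okE 120 u_c2_X = true := (okE_cons.2 ⟨m_g8_ok, (okE_cons.2 ⟨m_g9_ok, (okE_cons.2 ⟨m_g10_ok, (okE_cons.2 ⟨m_g11_ok, (okE_cons.2 ⟨m_g12_ok, (okE_cons.2 ⟨m_g13_ok, (okE_cons.2 ⟨m_g14_ok, (okE_cons.2 ⟨m_g15_ok, (okE_cons.2 ⟨m_g16_ok, (okE_cons.2 ⟨m_g17_ok, (okE_cons.2 ⟨m_g18_ok, (okE_cons.2 ⟨m_g19_ok, (okE_nil 120)⟩)⟩)⟩)⟩)⟩)⟩)⟩)⟩)⟩)⟩)⟩)⟩)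

noncomputable def m_g20 : Net := (Net.cons (nat_lit 1) (nat_lit 0x50505050505050000000000000000) (Net.cons (nat_lit 2) (nat_lit 0x30000300300003000000000000000) (Net.cons (nat_lit 4) (nat_lit 0xf0f00050f0f00090a0f0000000f00) (Net.cons (nat_lit 8) (nat_lit 0x50000000f0000000a0000) (Net.cons (nat_lit 32) (nat_lit 0xc00000000000003000000) (Net.cons (nat_lit 64) (nat_lit 0x3f999967f25555) (Net.cons (nat_lit 32) (nat_lit 0xf00ff0000000000df70ff0) (Net.cons (nat_lit 8) (nat_lit 0xf00e2000f00f5000f00b8000f) (Net.cons (nat_lit 4) (nat_lit 0xf0f0f01010f0f0c000f0f04040f0f) (Net.cons (nat_lit 2) (nat_lit 0x100000202000001220000010100000) (Net.cons (nat_lit 1) (nat_lit 0x501450555014500500440055004400) Net.nil)))))))))))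

theorem m_g20_ok : Net.ok 120 m_g20 = true := by decide +kernel

noncomputable def m_g21 : Net := (Net.cons (nat_lit 1) (nat_lit 0x415500110005004141500014000000) (Net.cons (nat_lit 2) (nat_lit 0x200000120331323323333011000000) (Net.cons (nat_lit 4) (nat_lit 0x40b0f0109000c09060701040b0400) (Net.cons (nat_lit 8) (nat_lit 0x6e0058003000650071003e0083) (Net.cons (nat_lit 16) (nat_lit 0xaa000033820000bece00001400) (Net.cons (nat_lit 32) (nat_lit 0xb3c99f000000001c000000) (Net.cons (nat_lit 64) (nat_lit 0xb2f4619d451ffe) (Net.cons (nat_lit 32) (nat_lit 0xe4a1aa000000001f6ba1d7) (Net.cons (nat_lit 16) (nat_lit 0x4a000050c40000e23c0000707f) (Net.cons (nat_lit 8) (nat_lit 0x4200ca0024000b00e500e800fb) (Net.cons (nat_lit 4) (nat_lit 0x10d0406060007060e010a0203090d) (Net.cons (nat_lit 2) (nat_lit 0x11030220220303201200211312) (Net.cons (nat_lit 1) (nat_lit 0x5100140051001404141041405001) Net.nil)))))))))))))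

theorem m_g21_ok : Net.ok 120 m_g21 = true := by decide +kernel

noncomputable def m_g22 : Net := (Net.cons (nat_lit 1) (nat_lit 0x410414004141140455005500000000) (Net.cons (nat_lit 2) (nat_lit 0x320303201031210022222210100000) (Net.cons (nat_lit 4) (nat_lit 0xa090e08060c0a09040c0005000700) (Net.cons (nat_lit 8) (nat_lit 0xfa00d0005200a2008e00550021) (Net.cons (nat_lit 16) (nat_lit 0x610000b9280000020000000400) (Net.cons (nat_lit 32) (nat_lit 0x2888600000000011000000) (Net.cons (nat_lit 64) (nat_lit 0x7515c995cbbaab) (Net.cons (nat_lit 32) (nat_lit 0x89f555000000002be05085) (Net.cons (nat_lit 16) (nat_lit 0xf30000cf960000f1d100008d66) (Net.cons (nat_lit 8) (nat_lit 0x130067001300b600ac00490063) (Net.cons (nat_lit 4) (nat_lit 0xb0c0b080e080e040707030e000608) (Net.cons (nat_lit 2) (nat_lit 0x313213033323333022232211123320) (Net.cons (nat_lit 1) (nat_lit 0x410514401405415455115500001100) Net.nil)))))))))))))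

theorem m_g22_ok : Net.ok 120 m_g22 = true := by decide +kernel

noncomputable def m_g23 : Net := (Net.cons (nat_lit 1) (nat_lit 0x554155111501510104004000000000) (Net.cons (nat_lit 2) (nat_lit 0x22211220000002202300000000) (Net.cons (nat_lit 4) (nat_lit 0xa060302030a0008000a0000) (Net.cons (nat_lit 8) (nat_lit 0x8a00ff00cc007a008c00b600e2) (Net.cons (nat_lit 16) (nat_lit 0x8000080080000a0000000e200) (Net.cons (nat_lit 32) (nat_lit 0x406000000007f000000) (Net.cons (nat_lit 64) (nat_lit 0xfff38c7f49b7c2) (Net.cons (nat_lit 32) (nat_lit 0x7583cf0000000003610c6b) (Net.cons (nat_lit 16) (nat_lit 0x9e0000429a0000eb200000d2e3) (Net.cons (nat_lit 8) (nat_lit 0x8b008200cb00610074005d007d) (Net.cons (nat_lit 4) (nat_lit 0xc0c06060c060e0f0c0e0c0d070c0b) (Net.cons (nat_lit 2) (nat_lit 0x202202300000002100020030320021) (Net.cons (nat_lit 1) (nat_lit 0x4455010444515005455011454110) Net.nil)))))))))))))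

theorem m_g23_ok : Net.ok 120 m_g23 = true := by decide +kernel

noncomputable def u_c2_Y : List Net := [m_g20, m_g21, m_g22, m_g23]

theorem u_c2_Y_ok : okE 120 u_c2_Y = true := (okE_cons.2 ⟨m_g20_ok, (okE_cons.2 ⟨m_g21_ok, (okE_cons.2 ⟨m_g22_ok, (okE_cons.2 ⟨m_g23_ok, (okE_nil 120)⟩)⟩)⟩)⟩)

noncomputable def m_g26 : Net := (Net.cons (nat_lit 1) (nat_lit 0x140000445000054444001144000000) (Net.cons (nat_lit 2) (nat_lit 0x32020000013000003311000000) (Net.cons (nat_lit 4) (nat_lit 0xe000000060000000000000000) (Net.cons (nat_lit 8) (nat_lit 0x5d002200dd002600c8003700c8) (Net.cons (nat_lit 16) (nat_lit 0x20000040000000490000004800) (Net.cons (nat_lit 32) (nat_lit 0x9000000000090000000) (Net.cons (nat_lit 64) (nat_lit 0x20490090000000) (Net.cons (nat_lit 32) (nat_lit 0xb9c49900000000fe40a644) (Net.cons (nat_lit 16) (nat_lit 0xec00002e3100004dc80000b304) (Net.cons (nat_lit 8) (nat_lit 0xdd0022005d002600c8003700c8) (Net.cons (nat_lit 4) (nat_lit 0xc0c060003030e000c0c000c03030c)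 (Net.cons (nat_lit 2) (nat_lit 0x111132022222013022223311111100) (Net.cons (nat_lit 1) (nat_lit 0x140010145000451444001144000000) Net.nil)))))))))))))

theorem m_g26_ok : Net.ok 120 m_g26 = true := by decide +kernel

noncomputable def m_g27 : Net := (Net.cons (nat_lit 1) (nat_lit 0x401404000014005040000400000000) (Net.cons (nat_lit 2) (nat_lit 0x13003030230303301003333020000) (Net.cons (nat_lit 4) (nat_lit 0x60c0300010a04010c010602000000) (Net.cons (nat_lit 8) (nat_lit 0x9200bd002500b400dd00130042) (Net.cons (nat_lit 16) (nat_lit 0x1d00004a470000c48d0000dd00) (Net.cons (nat_lit 32) (nat_lit 0xc0012c0000000088000000) (Net.cons (nat_lit 64) (nat_lit 0x345e69edee5555) (Net.cons (nat_lit 32) (nat_lit 0x41df950000000057f9166a) (Net.cons (nat_lit 16) (nat_lit 0x2e0000b62b0000a95f000075fe) (Net.cons (nat_lit 8) (nat_lit 0x2f000f00b20001009400d3000e) (Net.cons (nat_lit 4) (nat_lit 0x406060f080405080d090d0d0a0c0f) (Net.cons (nat_lit 2) (nat_lit 0x103212001032122020312120203121)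 (Net.cons (nat_lit 1) (nat_lit 0x144141441415015400150154004141) Net.nil)))))))))))))

theorem m_g27_ok : Net.ok 120 m_g27 = true := by decide +kernel

noncomputable def m_g28 : Net := (Net.cons (nat_lit 1) (nat_lit 0x550000005500000050105040505050) (Net.cons (nat_lit 2) (nat_lit 0x303030003030303033300030333000) (Net.cons (nat_lit 4) (nat_lit 0xf030f00000c00000f0f0f0f000000) (Net.cons (nat_lit 8) (nat_lit 0x1700000065004e003e00e200a0) (Net.cons (nat_lit 16) (nat_lit 0xe00000ec5c0000745700008300) (Net.cons (nat_lit 32) (nat_lit 0xab03500000000007000000) (Net.cons (nat_lit 64) (nat_lit 0x680897a7d31f6c) (Net.cons (nat_lit 32) (nat_lit 0xe2ddb300000000b8e14ec4) (Net.cons (nat_lit 16) (nat_lit 0xca0000e2cb0000835400001c76) (Net.cons (nat_lit 8) (nat_lit 0x1d00f900aa00220043009b00fa) (Net.cons (nat_lit 4) (nat_lit 0x30f03050f030a090c000c05000c0a) (Net.cons (nat_lit 2) (nat_lit 0x1121221111033030212212212100) (Net.cons (nat_lit 1) (nat_lit 0x50050415011550055000514001150)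 Net.nil)))))))))))))

theorem m_g28_ok : Net.ok 120 m_g28 = true := by decide +kernel

noncomputable def m_g29 : Net := (Net.cons (nat_lit 1) (nat_lit 0x110055001100) (Net.cons (nat_lit 2) (nat_lit 0x122112302133000033003322003300) (Net.cons (nat_lit 4) (nat_lit 0x6030300060f000000000000000000) (Net.cons (nat_lit 8) (nat_lit 0x85009600ec00df00cc00000002) (Net.cons (nat_lit 16) (nat_lit 0x6000020df00000000) (Net.cons (nat_lit 32) (nat_lit 0x20490000000000000000) (Net.cons (nat_lit 64) (nat_lit 0x20df00000000) (Net.cons (nat_lit 32) (nat_lit 0xf669f90000000033ff4620) (Net.cons (nat_lit 16) (nat_lit 0x60000ff660000ffff0000208a) (Net.cons (nat_lit 8) (nat_lit 0xdf00df00f000df003300df00ee) (Net.cons (nat_lit 4) (nat_lit 0x30a050a090a0c0f050a060c0a0500) (Net.cons (nat_lit 2) (nat_lit 0x122112121121333011111111222200) (Net.cons (nat_lit 1) (nat_lit 0x145005005041140011005544550044) Net.nil)))))))))))))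

theorem m_g29_ok : Net.ok 120 m_g29 = true := by decide +kernel

noncomputable def m_g30 : Net := (Net.cons (nat_lit 1) (nat_lit 0x501150145000504400110044000000) (Net.cons (nat_lit 2) (nat_lit 0x33322031333033300001130200000) (Net.cons (nat_lit 4) (nat_lit 0xd0b070e050a050609090606000a00) (Net.cons (nat_lit 8) (nat_lit 0x9900a1002b0010000100200003) (Net.cons (nat_lit 16) (nat_lit 0xab00006f7f0000c9000000e200) (Net.cons (nat_lit 32) (nat_lit 0x284000000000029000000) (Net.cons (nat_lit 64) (nat_lit 0xd3f428edc1423e) (Net.cons (nat_lit 32) (nat_lit 0x594655000000000eab4e8f) (Net.cons (nat_lit 16) (nat_lit 0xcc0000fba70000d0430000fccc) (Net.cons (nat_lit 8) (nat_lit 0xa30085008700eb004b000c000b) (Net.cons (nat_lit 4) (nat_lit 0x9090403080d0106010f010b090d0c) (Net.cons (nat_lit 2) (nat_lit 0x221131302113201131223130112300) (Net.cons (nat_lit 1) (nat_lit 0x145555000014410041005550001414) Net.nil)))))))))))))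

theorem m_g30_ok : Net.ok 120 m_g30 = true := by decide +kernel

noncomputable def u_c3_X : List Net := [m_g26, m_g27, m_g28, m_g29, m_g30]

theorem u_c3_X_ok : okE 120 u_c3_X = true := (okE_cons.2 ⟨m_g26_ok, (okE_cons.2 ⟨m_g27_ok, (okE_cons.2 ⟨m_g28_ok, (okE_cons.2 ⟨m_g29_ok, (okE_cons.2 ⟨m_g30_ok, (okE_nil 120)⟩)⟩)⟩)⟩)⟩)

noncomputable def m_g31 : Net := (Net.cons (nat_lit 1) (nat_lit 0x140014441400140400000004000000) (Net.cons (nat_lit 2) (nat_lit 0x330033113333330133000001000000) (Net.cons (nat_lit 4) (nat_lit 0xf000f0300000a0c000005000000) (Net.cons (nat_lit 8) (nat_lit 0xe2000800e7000900a500080060) (Net.cons (nat_lit 16) (nat_lit 0xf60000f40900003f0900003200) (Net.cons (nat_lit 32) (nat_lit 0x3a13100000000027000000) (Net.cons (nat_lit 64) (nat_lit 0xaae8773f91db80) (Net.cons (nat_lit 32) (nat_lit 0xe9d3d200000000bf24ef2c) (Net.cons (nat_lit 16) (nat_lit 0x7600000b110000372d0000c2bc) (Net.cons (nat_lit 8) (nat_lit 0x72001800b5000d00e7001800e4)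 (Net.cons (nat_lit 4) (nat_lit 0x606020f090900000606000f090908) (Net.cons (nat_lit 2) (nat_lit 0x120003213321000233123301210030) (Net.cons (nat_lit 1) (nat_lit 0x141000411000040104001001001014) Net.nil)))))))))))))

theorem m_g31_ok : Net.ok 120 m_g31 = true := by decide +kernel

noncomputable def m_g32 : Net := (Net.cons (nat_lit 1) (nat_lit 0x504455445000504400445544000000) (Net.cons (nat_lit 2) (nat_lit 0x30311031203332100002200110000) (Net.cons (nat_lit 4) (nat_lit 0x306000000000000) (Net.cons (nat_lit 8) (nat_lit 0xa900eb0012006c000c008400b2) (Net.cons (nat_lit 16) (nat_lit 0x140000ad680000991300001a00) (Net.cons (nat_lit 32) (nat_lit 0xfaca00000000063000000) (Net.cons (nat_lit 64) (nat_lit 0xe4fa1def7b45b2) (Net.cons (nat_lit 32) (nat_lit 0xed069e000000002b727a49) (Net.cons (nat_lit 16) (nat_lit 0xaa000090ea0000038200001782) (Net.cons (nat_lit 8) (nat_lit 0xfa008c0002006a002000e900d2) (Net.cons (nat_lit 4) (nat_lit 0xf000f060f000f060f000f000f000f)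 (Net.cons (nat_lit 2) (nat_lit 0x303012330303213303032130303012) (Net.cons (nat_lit 1) (nat_lit 0x50040115011151401454544545410) Net.nil)))))))))))))

theorem m_g32_ok : Net.ok 120 m_g32 = true := by decide +kernel

noncomputable def u_c3_Y : List Net := [m_g31, m_g32]

theorem u_c3_Y_ok : okE 120 u_c3_Y = true := (okE_cons.2 ⟨m_g31_ok, (okE_cons.2 ⟨m_g32_ok, (okE_nil 120)⟩)⟩)

noncomputable def m_g35 : Net := (Net.cons (nat_lit 1) (nat_lit 0x1400444414114144001144000000) (Net.cons (nat_lit 2) (nat_lit 0x3333120033123033002100330000) (Net.cons (nat_lit 4) (nat_lit 0xf00000f0f000f0f0f0009000f0000) (Net.cons (nat_lit 8) (nat_lit 0x5500d700be00e9002000820041) (Net.cons (nat_lit 16) (nat_lit 0xc3000038820000140000002000) (Net.cons (nat_lit 32) (nat_lit 0x3edb7c00000000c3000000) (Net.cons (nat_lit 64) (nat_lit 0x2e740f3bc1c3c) (Net.cons (nat_lit 32) (nat_lit 0x6bf7fe00000000be022400) (Net.cons (nat_lit 16) (nat_lit 0xbe00009aaa0000a69600000055) (Net.cons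 (nat_lit 8) (nat_lit 0x9600d7003e000f00cb00820055) (Net.cons (nat_lit 4) (nat_lit 0xf0f000f00090a0f000f000f0000) (Net.cons (nat_lit 2) (nat_lit 0x222222032103302100001200220022) (Net.cons (nat_lit 1) (nat_lit 0x551455445000054405145041000000) Net.nil)))))))))))))

theorem m_g35_ok : Net.ok 120 m_g35 = true := by decide +kernel

noncomputable def m_g36 : Net := (Net.cons (nat_lit 1) (nat_lit 0x551455114541554004000040000000) (Net.cons (nat_lit 2) (nat_lit 0x333311031313012312020000110000) (Net.cons (nat_lit 4) (nat_lit 0x10e0c0000010d0000010102000200) (Net.cons (nat_lit 8) (nat_lit 0x7600cb000400e1003200b40002) (Net.cons (nat_lit 16) (nat_lit 0xe9000014dd0000485300008300) (Net.cons (nat_lit 32) (nat_lit 0x447e6100000000c8000000) (Net.cons (nat_lit 64) (nat_lit 0x35cde8cd58b39b) (Net.cons (nat_lit 32) (nat_lit 0x6403b200000000cab9aa07) (Net.cons (nat_lit 16) (nat_lit 0xcb00000867000058410000c34f) (Net.cons (nat_lit 8) (nat_lit 0xd2006e00d8002a00d70011007d)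 (Net.cons (nat_lit 4) (nat_lit 0x70d0c040d03020c0b0a0f0f080e06) (Net.cons (nat_lit 2) (nat_lit 0x132123303230132122121323031322) (Net.cons (nat_lit 1) (nat_lit 0x544414044151514455111001405455) Net.nil)))))))))))))

theorem m_g36_ok : Net.ok 120 m_g36 = true := by decide +kernel

noncomputable def u_c5_X : List Net := [m_g35, m_g36]

theorem u_c5_X_ok : okE 120 u_c5_X = true := (okE_cons.2 ⟨m_g35_ok, (okE_cons.2 ⟨m_g36_ok, (okE_nil 120)⟩)⟩)

noncomputable def m_g37 : Net := (Net.cons (nat_lit 1) (nat_lit 0x4050000005050005400000500000) (Net.cons (nat_lit 2) (nat_lit 0x333321302322003012000000010000) (Net.cons (nat_lit 4) (nat_lit 0x80f030104030a04030b080000) (Net.cons (nat_lit 8) (nat_lit 0x2600ac0004005e003900230082) (Net.cons (nat_lit 16) (nat_lit 0x400006ae00000086600001f00) (Net.cons (nat_lit 32) (nat_lit 0xb08c090000000039000000) (Net.cons (nat_lit 64) (nat_lit 0xce25f1bd38eb4e) (Net.cons (nat_lit 32) (nat_lit 0x675a2b00000000a7a2c444) (Net.cons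 (nat_lit 16) (nat_lit 0xfe00004b480000b4c800006a1a) (Net.cons (nat_lit 8) (nat_lit 0x1500e4001300ae00c0009500b8) (Net.cons (nat_lit 4) (nat_lit 0xb0d0a060c0f0f0f0a0b070b030a0d) (Net.cons (nat_lit 2) (nat_lit 0x203022212302013213031202103131) (Net.cons (nat_lit 1) (nat_lit 0x511505504401405550400155455444) Net.nil)))))))))))))

theorem m_g37_ok : Net.ok 120 m_g37 = true := by decide +kernel

noncomputable def u_c5_Y : List Net := [m_g37]

theorem u_c5_Y_ok : okE 120 u_c5_Y = true := (okE_cons.2 ⟨m_g37_ok, (okE_nil 120)⟩)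

theorem p_gen : H44.gen (H44.gp 120 p_E p_code) 8 = grp 120 p_E :=
  H44.gen_gp (by decide +kernel)

theorem p_satL : H44.Sat (H44.gp 120 p_E p_code) (PresO8.R) :=
  H44.sat_of_satB m_hn (det_lab m_hk ⊤) p_E_ok le_top (by decide +kernel)

theorem p_sat : H44.Sat (H44.gp 120 p_E p_code) PresO8.R :=
  p_satL

noncomputable def p_ch : Ch := (Ch.cons (nat_lit 0) [nat_lit 1] (Ch.cons (nat_lit 9) [nat_lit 3] (Ch.cons (nat_lit 2) [nat_lit 5] (Ch.cons (nat_lit 4) [nat_lit 7] (Ch.cons (nat_lit 24) [nat_lit 9] (Ch.cons (nat_lit 56) [nat_lit 11] (Ch.cons (nat_lit 1) [nat_lit 13] Ch.nil)))))))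

theorem p_chk : Ch.chk 120 3 (nat_lit 0x100000001000012000000000000000100000000000206000000000000000000000001000007) p_E p_ch 174182400 = true :=
  by decide +kernel

theorem p_card : Nat.card (grp 120 p_E) = 174182400 :=
  card_net p_gen (Ch.le_card_grp m_hn p_E_ok p_chk) (by decide) (PresO8.card_le p_sat).2

theorem p_exact : Ch.Exact 120 p_E p_ch (grp 120 p_E) :=
  Ch.exact m_hn p_E_ok p_chk (wgrp_le_grp _ _ _) p_card.le

theorem p_pres : Pres (netGen 120 p_E p_code) 8 PresO8.R :=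
  pres_net p_gen p_sat p_card.ge (by decide) (by decide +kernel) fun _ _ _ h => PresO8.card_le h

/-- The table of the vectors. -/
def pts : ℕ := 0xfefdfbf8f7f4f2f1efeee9e8e5e4e3e2dfdddad8d6d4d3d1cbcac9c8c7c6c5c4bfbcbbb8b6b5b2b1adaca9a8a7a6a3a29e9c9a98979593918f8e8d8c8b8a89887f7c7a79777472716d6c6b6a656463625e5c5b59565453514f4e4d4c474645443e3d3a39363532312f2e2b2a272623221f1d1b1917151311

theorem pts_inj : ∀ i < 120, ∀ j < 120, tab2 4 pts i = tab2 4 pts j → i = j :=
  by decide +kernel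

open Matrix in
theorem act_m_g7 : ∃ c x x' y y', Iso8 x x' ∧ Iso8 y y' ∧
    mat2 4 x * mat2 4 y * mat2 4 x' * mat2 4 y' = mat2 4 c ∧
    ∀ i < 120, mat2 4 c *ᵥ tab2 4 pts i = tab2 4 pts (Net.pt m_g7 i) :=
  ⟨0x8040332108042030, 0x5a1866811e3b1a08, 0xfc82ea41010a42ec, 0x5a29575f1e0af5e7, 0xcdb3db37303b34ab, by decide +kernel, by decide +kernel,
    by decide +kernel, by decide +kernel⟩

open Matrix in
theorem act_m_g6 : ∃ c x x' y y', Iso8 x x' ∧ Iso8 y y' ∧
    mat2 4 x * mat2 4 y * mat2 4 x' * mat2 4 y' = mat2 4 c ∧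
    ∀ i < 120, mat2 4 c *ᵥ tab2 4 pts i = tab2 4 pts (Net.pt m_g6 i) :=
  ⟨0xb940201808040a09, 0xfc926768a5a4ec42, 0x29ea1682ec3beb0c, 0x8005202108417675, 0x8034205508703330, by decide +kernel, by decide +kernel,
    by decide +kernel, by decide +kernel⟩

open Matrix in
theorem act_m_g5 : ∃ c x x' y y', Iso8 x x' ∧ Iso8 y y' ∧
    mat2 4 x * mat2 4 y * mat2 4 x' * mat2 4 y' = mat2 4 c ∧
    ∀ i < 120, mat2 4 c *ᵥ tab2 4 pts i = tab2 4 pts (Net.pt m_g5 i) :=
  ⟨0xbd7d201c08040e0d, 0xd794163babdb0bd5, 0xe11eebf9dc58815f, 0xd0d7eb3024a0b06e, 0x129416066e1ef32d, by decide +kernel, by decide +kernel,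
    by decide +kernel, by decide +kernel⟩

open Matrix in
theorem act_m_g4 : ∃ c x x' y y', Iso8 x x' ∧ Iso8 y y' ∧
    mat2 4 x * mat2 4 y * mat2 4 x' * mat2 4 y' = mat2 4 c ∧
    ∀ i < 120, mat2 4 c *ᵥ tab2 4 pts i = tab2 4 pts (Net.pt m_g4 i) :=
  ⟨0x80402090b9048281, 0x40f34a45280a133, 0x40f943461803392, 0x8055a0141e041625, 0x80f5a0140a0412a5, by decide +kernel, by decide +kernel,
    by decide +kernel, by decide +kernel⟩

open Matrix in
theorem act_m_g3 : ∃ c x x' y y', Iso8 x x' ∧ Iso8 y y' ∧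
    mat2 4 x * mat2 4 y * mat2 4 x' * mat2 4 y' = mat2 4 c ∧
    ∀ i < 120, mat2 4 c *ᵥ tab2 4 pts i = tab2 4 pts (Net.pt m_g3 i) :=
  ⟨0x800420a1b940b3b0, 0x6906f0fa00e0b7b, 0x734b7b3384129214, 0x6fc1d58202d242db, 0x180af91e577e0852, by decide +kernel, by decide +kernel,
    by decide +kernel, by decide +kernel⟩

open Matrix in
theorem act_m_g2 : ∃ c x x' y y', Iso8 x x' ∧ Iso8 y y' ∧
    mat2 4 x * mat2 4 y * mat2 4 x' * mat2 4 y' = mat2 4 c ∧
    ∀ i < 120, mat2 4 c *ᵥ tab2 4 pts i = tab2 4 pts (Net.pt m_g2 i) :=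
  ⟨0x755d200de0ecea1c, 0xed5721d25212505a, 0x180cd50e09bd0af5, 0x4b4aea0d5ab3487, 0x42be52d0d78067a4, by decide +kernel, by decide +kernel,
    by decide +kernel, by decide +kernel⟩

open Matrix in
theorem act_m_g1 : ∃ c x x' y y', Iso8 x x' ∧ Iso8 y y' ∧
    mat2 4 x * mat2 4 y * mat2 4 x' * mat2 4 y' = mat2 4 c ∧
    ∀ i < 120, mat2 4 c *ᵥ tab2 4 pts i = tab2 4 pts (Net.pt m_g1 i) :=
  ⟨0xfa245a10081a1c7b, 0x2d293b2152f605ab, 0x1e68d23f50c05fc2, 0x346e4aeaa1415d3c, 0x373c07e081679d38, by decide +kernel, by decide +kernel,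
    by decide +kernel, by decide +kernel⟩

theorem equiv {F : Type*} [Field F] [Fintype F] (hF : Fintype.card F = 2) :
    Nonempty (grp 120 p_E ≃* Cfsg.POmega F (Cfsg.quadFormPlus 4 F)) :=
  equiv_pomega82 p_E_ok pts_inj (List.forall_mem_cons.2 ⟨act_m_g1, List.forall_mem_cons.2 ⟨act_m_g2, List.forall_mem_cons.2 ⟨act_m_g3, List.forall_mem_cons.2 ⟨act_m_g4, List.forall_mem_cons.2 ⟨act_m_g5, List.forall_mem_cons.2 ⟨act_m_g6, List.forall_mem_cons.2 ⟨act_m_g7, fun _ h => nomatch h⟩⟩⟩⟩⟩⟩⟩) p_card hF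

noncomputable def u_L : ℕ := (nat_lit 0x100000001000012000000000000000100000000000206000000000000000000000001000007)

theorem u_det : Det 120 3 u_L (grp 120 p_E) :=
  det_of_base p_exact.isBase (by decide +kernel)

/-- Rules. -/
def u_c2_rule : List (List (List ℕ)) :=
  [[[], [1, 4], [2, 7], [3, 4, 7, 8, 10, 11], [4], [5, 7], [6, 8, 11], [7], [8], [9, 10, 11], [10], [11]],
   [[], [11], [2, 5, 11], [3, 6], [4], [5, 11], [6], [7, 11], [8], [9, 11], [10, 11], [11]],
   [[], [], [7], [3, 5, 8], [4, 7], [5], [6, 9], [7], [8, 10], [9, 11], [10], [11]],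
   [[], [], [], [6, 9, 10], [4, 8], [5, 9], [6], [7, 10], [8, 11], [9, 11], [10, 11], [11]],
   [[], [], [], [], [], [5, 11], [6], [7], [8], [9, 11], [10], [11]],
   [[], [], [], [], [], [11], [6, 11], [7], [8, 11], [9], [10], [11]],
   [[], [], [], [], [], [], [], [7, 11], [8], [9], [10], [11]],
   [[], [], [], [], [], [], [], [], [8], [9], [10], [11]],
   [[], [], [], [], [], [], [], [], [], [9], [10], [11]],
   [[], [], [], [], [], [], [], [], [], [], [10], [11]],
   [[], [], [], [], [], [], [], [], [], [], [], [11]],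
   [[], [], [], [], [], [], [], [], [], [], [], []]]

/-- Fused subgroups. -/
def u_c2_fq : List (List (List ℕ)) :=
  [[[4, 8, 11], [1, 5, 7], [0, 2, 4, 7, 8, 10], [0, 1, 3, 4, 5, 9, 11], [7, 10], [8, 11], [4, 5], [4, 6, 7, 8, 9, 11], [10, 11], [7, 8, 9, 10], [11]],
   [[4, 8, 11], [1, 4, 7], [0, 2, 5, 10, 11], [0, 2, 3, 5, 6, 8, 9], [7, 10], [7, 8, 11], [4, 5], [4, 5, 6, 9, 10], [10], [8, 9], [11]],
   [[0], [1, 10], [0, 1, 4, 5, 8, 10], [0, 2, 3, 6, 7], [4], [4, 7, 11], [4, 5, 6, 7, 8, 9, 10], [5, 6, 7, 11], [7, 8, 10, 11], [7, 8], [11]],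
   [[0], [4, 7, 11], [4, 6, 7, 8, 9, 10], [4, 5, 8, 10, 11], [2, 8, 10, 11], [1, 3, 4, 8, 9, 11], [8, 10], [7], [7, 9, 10], [11], [10]]]

/-- Their images. -/
def u_c2_fq' : List (List (List ℕ)) :=
  [[[1, 6, 10, 11], [1, 8, 9, 11], [0, 1, 2, 4, 6, 8, 9, 10], [0, 3, 6, 8], [4, 5, 7, 8, 9, 10, 11], [4, 6, 11], [4, 5, 7, 11], [4, 6, 8, 10, 11], [7, 8, 9, 10], [7, 8, 9, 11], [11]],
   [[1, 4, 6, 8, 10], [5, 8, 9], [0, 1, 2, 7, 8, 9, 10], [0, 2, 3, 5, 7, 9, 11], [4, 5, 8, 9, 11], [4, 5, 6, 8, 11], [7, 11], [7, 9, 10, 11], [8, 9, 11], [10], [11]],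
   [[0, 8, 10], [1, 10, 11], [0, 4, 5, 7, 8, 11], [0, 2, 3, 4, 6, 9, 10], [4, 11], [7, 11], [4, 5, 6, 7, 8, 9, 10, 11], [4, 8, 9, 10, 11], [7, 8, 10], [10, 11], [11]],
   [[0, 7, 10, 11], [0, 4, 7, 8, 10, 11], [0, 1, 3, 4, 5, 6, 8], [0, 2, 8], [0, 4, 5, 8, 11], [0, 1, 2, 3, 10], [8], [7], [7, 9, 11], [10], [11]]]

/-- Rows. -/
def u_c2_sA : List Spec :=
  [⟨1, [0], [], 1, 1, 8191⟩,
   ⟨1, [1], [], 2, 1, 8191⟩,
   ⟨1, [2], [], 3, 1, 8191⟩,
   ⟨1, [3], [], 6, 1, 8191⟩,
   ⟨1, [4], [], 9, 1, 8191⟩,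
   ⟨1, [5], [], 14, 1, 8191⟩,
   ⟨1, [6], [], 15, 1, 8191⟩,
   ⟨1, [7], [], 30, 1, 8191⟩,
   ⟨1, [8], [], 0, 1, 8191⟩,
   ⟨1, [9], [], 13, 1, 8191⟩,
   ⟨1, [10], [], 26, 1, 8191⟩,
   ⟨1, [11], [], 39, 1, 8191⟩,
   ⟨0, [1], [1, 1], 23, 1, 8191⟩,
   ⟨0, [2], [2, 2], 31, 1, 8191⟩,
   ⟨0, [5], [5, 5], 71, 1, 8191⟩,
   ⟨6, [7, 6], [6, 7], 94, 1, 8191⟩,
   ⟨6, [9, 7], [7, 9], 95, 1, 1⟩,
   ⟨4, [10, 6], [6, 10], 59, 1, 1⟩,
   ⟨0, [9], [6, 1], 83, 1, 1⟩,
   ⟨3, [10, 5], [5, 10], 107, 1, 1⟩,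
   ⟨6, [10, 6], [6, 10], 106, 1, 1⟩,
   ⟨6, [9, 6], [6, 9], 131, 1, 1⟩,
   ⟨4, [10, 9], [9, 10], 119, 1, 1⟩,
   ⟨6, [10, 8], [8, 10], 118, 1, 1⟩,
   ⟨0, [8], [1, 0], 56, 1, 1⟩,
   ⟨0, [6], [4, 3], 80, 1, 8191⟩,
   ⟨0, [5], [2, 0], 67, 1, 8191⟩,
   ⟨0, [5], [4, 2], 35, 1, 8191⟩,
   ⟨0, [6], [5, 2], 69, 1, 1⟩,
   ⟨0, [8], [5, 2], 70, 1, 1⟩,
   ⟨0, [7], [6, 2], 93, 1, 8191⟩,
   ⟨5, [4, 4], [], 143, 1, 8191⟩,
   ⟨6, [6, 6], [], 130, 1, 1⟩,
   ⟨0, [1], [0, 0], 52, 1, 8191⟩,
   ⟨0, [2], [0, 0], 91, 1, 8191⟩,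
   ⟨0, [6], [6, 2], 117, 1, 1⟩,
   ⟨0, [4], [4, 3], 104, 1, 1⟩,
   ⟨6, [9, 0], [0, 9], 11, 1, 1⟩,
   ⟨5, [9, 4], [4, 9], 58, 1, 8191⟩,
   ⟨5, [4, 0], [0, 4], 55, 1, 1⟩,
   ⟨6, [6, 0], [0, 6], 92, 1, 8191⟩,
   ⟨0, [4], [2, 0], 10, 1, 8191⟩,
   ⟨0, [7], [6, 3], 82, 1, 1⟩,
   ⟨5, [9, 0], [0, 9], 8, 1, 1⟩,
   ⟨0, [4], [3, 1], 54, 1, 8191⟩,
   ⟨0, [8], [6, 2], 105, 1, 8191⟩,
   ⟨0, [6], [5, 3], 81, 1, 8191⟩,
   ⟨6, [9, 3], [3, 9], 34, 1, 8191⟩,
   ⟨5, [5, 0], [0, 5], 7, 1, 8191⟩,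
   ⟨0, [1], [1, 0], 16, 1, 1⟩,
   ⟨0, [6], [4, 2], 79, 1, 8191⟩,
   ⟨0, [5], [4, 3], 68, 1, 8191⟩,
   ⟨0, [6], [2, 1], 66, 1, 1⟩,
   ⟨0, [8], [2, 1], 57, 1, 1⟩,
   ⟨5, [5, 1], [1, 5, 10], 178, 1, 1⟩,
   ⟨4, [8, 1], [1, 8, 10], 166, 1, 1⟩,
   ⟨4, [6, 6], [], 65, 1, 1⟩,
   ⟨0, [3], [1, 1], 78, 1, 8191⟩,
   ⟨6, [8, 0], [0, 8, 9, 10], 190, 1, 1⟩,
   ⟨0, [4], [2, 1], 53, 1, 8191⟩,
   ⟨4, [6, 1], [1, 6], 19, 1, 8191⟩,
   ⟨0, [2], [2, 1], 29, 1, 1⟩,
   ⟨6, [3, 0], [0, 3, 7], 187, 1, 1⟩,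
   ⟨0, [8], [3, 2], 46, 1, 1⟩,
   ⟨0, [3], [3, 3], 45, 1, 8191⟩,
   ⟨0, [2], [1, 0], 28, 1, 8191⟩,
   ⟨0, [6], [2, 2], 47, 1, 8191⟩,
   ⟨0, [6], [3, 2], 42, 1, 8191⟩,
   ⟨5, [9, 1], [1, 9, 10], 22, 1, 8191⟩,
   ⟨0, [6], [3, 0], 44, 1, 1⟩,
   ⟨5, [1, 0], [0, 1, 4], 172, 1, 8191⟩,
   ⟨4, [9, 1], [1, 9], 21, 1, 1⟩,
   ⟨3, [6, 0], [0, 6], 20, 1, 3511⟩,
   ⟨3, [6, 5], [5, 6, 10], 154, 1, 1⟩,
   ⟨0, [4], [3, 2], 43, 1, 1⟩,
   ⟨5, [2, 0], [0, 2, 5], 173, 1, 1⟩,
   ⟨6, [6, 4], [4, 6, 10], 189, 1, 8191⟩,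
   ⟨3, [5, 0], [0, 5], 33, 1, 8191⟩,
   ⟨0, [3], [2, 1], 41, 1, 8191⟩,
   ⟨4, [0, 0], [], 17, 1, 8191⟩,
   ⟨6, [1, 1], [], 4, 1, 3277⟩,
   ⟨0, [6], [2, 0], 32, 1, 1⟩,
   ⟨3, [5, 3], [3, 5], 40, 1, 2731⟩,
   ⟨3, [3, 0], [0, 3, 5], 149, 1, 1⟩,
   ⟨6, [3, 1], [1, 3, 9], 5, 1, 8191⟩,
   ⟨5, [7, 0], [0, 7, 9], 177, 1, 1⟩,
   ⟨5, [4, 3], [3, 4, 8], 176, 1, 1⟩,
   ⟨6, [2, 0], [0, 2, 6], 186, 1, 5919⟩,
   ⟨3, [4, 3], [3, 4, 8], 152, 1, 1⟩,
   ⟨4, [2, 1], [1, 2, 6], 162, 1, 8191⟩,
   ⟨4, [6, 3], [3, 6, 9], 165, 1, 1⟩,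
   ⟨4, [4, 3], [3, 4, 8], 164, 1, 1⟩,
   ⟨6, [2, 1], [1, 2], 18, 1, 5635⟩,
   ⟨3, [2, 2], [4], 148, 1, 1⟩,
   ⟨3, [6, 3], [3, 6, 9], 153, 1, 1⟩,
   ⟨4, [2, 2], [4, 8, 10], 160, 1, 1⟩,
   ⟨3, [3, 1], [1, 3, 7], 151, 1, 1⟩,
   ⟨3, [2, 1], [1, 2, 6], 150, 1, 1⟩,
   ⟨4, [3, 0], [0, 3, 5], 161, 1, 1⟩,
   ⟨6, [5, 3], [3, 5, 6, 7, 8, 9], 188, 1, 1⟩,
   ⟨5, [3, 1], [1, 3, 6], 174, 1, 1⟩,
   ⟨4, [3, 1], [1, 3, 7], 163, 1, 1⟩,
   ⟨6, [3, 2], [2, 3], 27, 1, 1⟩,
   ⟨5, [3, 2], [2, 3, 7, 10], 175, 1, 1⟩]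

/-- Rows. -/
def u_c2_sB : List Spec :=
  [⟨5, [0, 0], [], 168, 2, 8191⟩,
   ⟨6, [0, 0], [], 180, 2, 8191⟩,
   ⟨5, [1, 1], [], 169, 2, 8191⟩,
   ⟨4, [1, 1], [], 157, 2, 8191⟩,
   ⟨3, [0, 0], [], 156, 2, 6419⟩,
   ⟨3, [1, 1], [], 145, 2, 8191⟩,
   ⟨6, [3, 3], [9], 183, 2, 8191⟩,
   ⟨6, [4, 4], [7, 10], 184, 2, 8191⟩,
   ⟨5, [2, 2], [5], 170, 2, 8191⟩,
   ⟨6, [2, 2], [], 182, 2, 8191⟩,
   ⟨4, [2, 0], [0, 2, 4], 158, 2, 4097⟩,
   ⟨3, [2, 0], [0, 2, 4], 146, 2, 4097⟩,
   ⟨6, [5, 5], [6, 7, 8, 9, 10], 185, 2, 8191⟩,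
   ⟨3, [3, 3], [5, 8], 147, 2, 8191⟩,
   ⟨5, [3, 3], [6, 9], 171, 2, 8191⟩,
   ⟨4, [3, 3], [5, 7, 9], 159, 2, 8191⟩,
   ⟨4, [10, 10], [], 181, 4, 1953⟩,
   ⟨6, [9, 9], [], 144, 4, 4103⟩]

/-- Rows. -/
def u_c2_sC : List Spec :=
  [⟨2, [0], [], 181, 2, 25⟩,
   ⟨2, [1], [], 156, 2, 2925⟩]

/-- The certificate. -/
noncomputable def u_c2 : Cert where
  q := 1
  n := 12
  nf := 4
  b := 36
  M := 8192
  D := 2
  fuel := 254
  rule := fun i j => getLL (getL3 u_c2_rule i) j
  fq := fun i j => getLL (getL3 u_c2_fq i) j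
  fq' := fun i j => getLL (getL3 u_c2_fq' i) j
  nrm := nrmM 36 192 13
  nri := getL [0, 0, 0, 0, 0, 1, 1, 2, 0, 1, 2, 3]
  nrj := getL [1, 2, 3, 6, 9, 2, 3, 6, 0, 1, 2, 3]
  B := getL [0x1000000000000000000000000000000000000000000000000000000000000000000000000, 0x1000000000000000000000000000000000000000001fff000001fff000000001000001fff000001fff, 0x1000000000000000000000000000000000000000000000000000000000000000000000000000001fff000000000, 0x1000000000000000000000000000000001fff000001fff000000000000000000000000001000001fff000000001000000001, 0x1ffe, 0x1ffe000000002000000002000001ffe000000002000000002, 0x1ffe000000000000000000000000000000000000000000000000000000, 0x1ffe000000000, 0x2000000000000001ffe000000002000000002, 0x1ffe000000000000000000000000000000000000000000000000000000000000000, 0x2000001ffe000000002000000002, 0x1ffe000001ffe000000002000001ffe000001ffe]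
  nU := 2
  U := getL [unitV 36 117 * 1, unitV 36 92 * 1]
  ord := getL [2, 2]
  sA := u_c2_sA
  sB := u_c2_sB
  sC := u_c2_sC

theorem u_c2_nrm : Nrm u_c2.b u_c2.R u_c2.M u_c2.nrm := by
  dsimp only [u_c2, Cert.R]
  exact (nrm_nrmM (b := 36) (R := 192) (v := 13) (by norm_num) : Nrm 36 192 (2 ^ 13) _)

theorem u_c2_chk : u_c2.chk 4 = true := by decide +kernel

theorem m_le24 : grp 120 u_c2_X ≤ grp 120 p_E :=
  grp_le_of_memB m_hn m_hk p_E_ok u_c2_X_ok (ws := [nat_lit 0xb0e090d0b0e070905090d0b0e0905090b0d030d09050e09, nat_lit 0xe0b0e090d0b070e0509050b0d090e030b030509, nat_lit 0xd090d0b0e0907090b05090d0b0e090509030d090e0b, nat_lit 0xd0b0d090e0b07090b0e0509050b0d090e0b030b030b0701070d090e010b, nat_lit 0x7090b05030b0305090b, nat_lit 0x7090b070509030b03, nat_lit 0xe0b0e090e070b0509050b0d0905030d0309050105010b0305, nat_lit 0xb09070b030b0509, nat_lit 0xd0b090d0b0e0907090b0d05090e0b030d090e0b, nat_lit 0xe090e0b07090b0705090d0b0e0905030d09050e0901050b0301,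 nat_lit 0xd0b0d090e0b070d0509050b0d090e0b030b0509, nat_lit 0xb0907090b0509030b0509]) (by decide +kernel)

theorem m_le25 : grp 120 u_c2_Y ≤ grp 120 p_E :=
  grp_le_of_memB m_hn m_hk p_E_ok u_c2_Y_ok (ws := [nat_lit 0xe0b0e090e07090b0705090d0b0e030b030509050105010b030d0501, nat_lit 0xd0b0e090e0b0705090d0b0e09050b030b03050105010d01, nat_lit 0xd0907090b0e05090e030b0305090501050d01050e, nat_lit 0xd0b090d070d0509030b030b070901050b0301]) (by decide +kernel)

theorem u_c2_card : 2 ^ 12 ≤ Nat.card (grp 120 u_c2_X) :=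
  Ch.le_card_grp m_hn u_c2_X_ok (k := 3) (L := (nat_lit 0x16000000000000010000000000010010000000000000010000000000000005)) (c := (Ch.cons (nat_lit 0) [nat_lit 7, nat_lit 0x17150f0d0b090503, nat_lit 4875] (Ch.cons (nat_lit 16) [nat_lit 5] (Ch.cons (nat_lit 64) [nat_lit 11, nat_lit 3] (Ch.cons (nat_lit 1) [nat_lit 0x170f0901, nat_lit 0x15110f01, nat_lit 0x17110f0901] (Ch.cons (nat_lit 2) [nat_lit 15, nat_lit 5909] (Ch.cons (nat_lit 4) [nat_lit 1] Ch.nil))))))) (by decide +kernel)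

theorem u_c2_rows : allN (pcRowB u_c2 120 3 u_L u_c2_X) u_c2.n = true :=
  by decide +kernel

theorem u_c2_fus : allN (pcFusB u_c2 120 3 u_L u_c2_X u_c2_Y) u_c2.nf = true :=
  by decide +kernel

theorem u_c2_bound : MBound (grp 120 p_E) (42525 * 42525) 4 :=
  mBound_net' (C := u_c2) m_hn u_det u_c2_X_ok u_c2_Y_ok (m_le24.trans le_rfl) (m_le25.trans le_rfl)
    (by show Nat.Prime 2; norm_num) p_card u_c2_nrm (by decide +kernel) u_c2_rows u_c2_fus u_c2_card u_c2_chk

/-- Rules. -/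
def u_c3_rule : List (List (List ℕ)) :=
  [[[], [1], [2, 3, 3], [3], [4]],
   [[], [], [2, 3, 4, 4], [3], [4]],
   [[], [], [4], [3, 4], [4]],
   [[], [], [], [], [4]],
   [[], [], [], [], []]]

/-- Fused subgroups. -/
def u_c3_fq : List (List (List ℕ)) :=
  [[[0], [0, 0, 1, 2, 2, 3, 4], [0, 0, 2, 2, 3, 3, 4, 4], [3, 3, 4], [4]],
   [[0, 0], [0, 3, 4, 4], [0, 0, 3, 3, 4, 4], [1, 1, 3, 3]]]

/-- Their images. -/
def u_c3_fq' : List (List (List ℕ)) :=
  [[[0, 3, 3, 4], [1, 2, 3, 4], [2, 3, 4], [3, 4, 4], [4]],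
   [[0, 1, 3, 3, 4, 4], [1, 3, 4, 4], [0, 1, 3, 4, 4], [0, 1]]]

/-- Rows. -/
def u_c3_sA : List Spec :=
  [⟨1, [0], [], 2, 1, 728⟩,
   ⟨1, [1], [], 7, 1, 728⟩,
   ⟨1, [2], [], 0, 1, 728⟩,
   ⟨1, [3], [], 6, 1, 728⟩,
   ⟨1, [4], [], 12, 1, 728⟩,
   ⟨0, [2], [2, 2, 2], 14, 1, 728⟩,
   ⟨3, [4, 0], [0, 4], 19, 1, 364⟩,
   ⟨0, [3], [2, 0], 4, 1, 728⟩,
   ⟨0, [3], [2, 1], 9, 1, 728⟩,
   ⟨3, [3, 0], [0, 3], 3, 1, 1⟩,
   ⟨0, [2], [0, 0, 0], 18, 1, 364⟩,
   ⟨0, [2], [1, 0], 8, 1, 365⟩,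
   ⟨0, [2], [1, 1, 1], 24, 1, 364⟩,
   ⟨4, [3, 0], [0, 3], 1, 1, 547⟩,
   ⟨3, [3, 2], [2, 3, 4], 29, 1, 1⟩,
   ⟨3, [2, 0], [0, 2, 3, 3], 28, 1, 365⟩,
   ⟨3, [2, 2, 2], [4], 13, 1, 365⟩]

/-- Rows. -/
def u_c3_sB : List Spec :=
  []

/-- Rows. -/
def u_c3_sC : List Spec :=
  [⟨4, [3, 3, 3], [], 33, 3, 728⟩,
   ⟨3, [0, 0, 0], [], 25, 3, 728⟩,
   ⟨4, [1, 1, 1], [], 31, 3, 728⟩,
   ⟨4, [0, 0, 0], [], 30, 3, 728⟩,
   ⟨4, [2, 2, 2], [], 32, 3, 728⟩,
   ⟨3, [2, 1], [1, 2, 3, 4], 27, 3, 194⟩]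

/-- The certificate. -/
noncomputable def u_c3 : Cert where
  q := 2
  n := 5
  nf := 2
  b := 28
  M := 729
  D := 3
  fuel := 211
  rule := fun i j => getLL (getL3 u_c3_rule i) j
  fq := fun i j => getLL (getL3 u_c3_fq i) j
  fq' := fun i j => getLL (getL3 u_c3_fq' i) j
  nrm := nrmL 28 35 729
  nri := getL [0, 1, 0, 1, 2]
  nrj := getL [2, 2, 0, 1, 2]
  B := getL [0x100000000000000, 0x1000000000000000000000, 0x100000000000000000016c0000223, 0x16b, 0x16b00000b7]
  nU := 0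
  U := getL []
  ord := getL []
  sA := u_c3_sA
  sB := u_c3_sB
  sC := u_c3_sC

theorem u_c3_nrm : Nrm u_c3.b u_c3.R u_c3.M u_c3.nrm := by
  dsimp only [u_c3, Cert.R]
  exact nrm_nrmL 28 35 729

theorem u_c3_chk : u_c3.chk 1 = true := by decide +kernel

theorem m_le33 : grp 120 u_c3_X ≤ grp 120 p_E :=
  grp_le_of_memB m_hn m_hk p_E_ok u_c3_X_ok (ws := [nat_lit 0xd090d0509030d030905, nat_lit 0xe070e05030d0309050b0d0901070b, nat_lit 0xd09070b0509050b030d030907, nat_lit 0xd0b090d070509050b0d030b030b07, nat_lit 0xe0b090e0b07090b0e05090d0b0e0905090b0e030b050e]) (by decide +kernel)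

theorem m_le34 : grp 120 u_c3_Y ≤ grp 120 p_E :=
  grp_le_of_memB m_hn m_hk p_E_ok u_c3_Y_ok (ws := [nat_lit 0xd0b090d0b0e070d05090d0b0e0905090b0e, nat_lit 0xb090e070b0509050b0e030d09050e090b0d01050d030d01]) (by decide +kernel)

theorem u_c3_card : 3 ^ 5 ≤ Nat.card (grp 120 u_c3_X) :=
  Ch.le_card_grp m_hn u_c3_X_ok (k := 3) (L := (nat_lit 0x4000000000000000000000000000012000000000000000000000000000011)) (c := (Ch.cons (nat_lit 0) [nat_lit 3] (Ch.cons (nat_lit 1) [nat_lit 5, nat_lit 2305] (Ch.cons (nat_lit 4) [nat_lit 0x9090701] (Ch.cons (nat_lit 2) [nat_lit 1] Ch.nil))))) (by decide +kernel)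

theorem u_c3_rows : allN (pcRowB u_c3 120 3 u_L u_c3_X) u_c3.n = true :=
  by decide +kernel

theorem u_c3_fus : allN (pcFusB u_c3 120 3 u_L u_c3_X u_c3_Y) u_c3.nf = true :=
  by decide +kernel

theorem u_c3_bound : MBound (grp 120 p_E) (716800 * 716800) 1 :=
  mBound_net' (C := u_c3) m_hn u_det u_c3_X_ok u_c3_Y_ok (m_le33.trans le_rfl) (m_le34.trans le_rfl)
    (by show Nat.Prime 3; norm_num) p_card u_c3_nrm (by decide +kernel) u_c3_rows u_c3_fus u_c3_card u_c3_chk

/-- Rules. -/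
def u_c5_rule : List (List (List ℕ)) :=
  [[[], [1]],
   [[], []]]

/-- Fused subgroups. -/
def u_c5_fq : List (List (List ℕ)) :=
  [[[0, 0, 0], [1, 1, 1]]]

/-- Their images. -/
def u_c5_fq' : List (List (List ℕ)) :=
  [[[0, 1, 1], [0, 0, 0, 0, 1, 1, 1, 1]]]

/-- Rows. -/
def u_c5_sA : List Spec :=
  [⟨1, [0], [], 0, 1, 124⟩,
   ⟨1, [1], [], 3, 1, 124⟩,
   ⟨3, [1, 0], [0, 1], 1, 1, 77⟩]

/-- Rows. -/
def u_c5_sB : List Spec :=
  []

/-- Rows. -/
def u_c5_sC : List Spec :=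
  []

/-- The certificate. -/
noncomputable def u_c5 : Cert where
  q := 4
  n := 2
  nf := 1
  b := 22
  M := 125
  D := 5
  fuel := 126
  rule := fun i j => getLL (getL3 u_c5_rule i) j
  fq := fun i j => getLL (getL3 u_c5_fq i) j
  fq' := fun i j => getLL (getL3 u_c5_fq' i) j
  nrm := nrmL 22 6 125
  nri := getL [0, 1]
  nrj := getL [0, 1]
  B := getL [0x1, 0x400000]
  nU := 0
  U := getL []
  ord := getL []
  sA := u_c5_sA
  sB := u_c5_sB
  sC := u_c5_sC

theorem u_c5_nrm : Nrm u_c5.b u_c5.R u_c5.M u_c5.nrm := by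
  dsimp only [u_c5, Cert.R]
  exact nrm_nrmL 22 6 125

theorem u_c5_chk : u_c5.chk 1 = true := by decide +kernel

theorem m_le38 : grp 120 u_c5_X ≤ grp 120 p_E :=
  grp_le_of_memB m_hn m_hk p_E_ok u_c5_X_ok (ws := [nat_lit 0xb0e090d0b0509050b0d, nat_lit 0xb090e0b070d05090d0b0e030d0701050e0103]) (by decide +kernel)

theorem m_le39 : grp 120 u_c5_Y ≤ grp 120 p_E :=
  grp_le_of_memB m_hn m_hk p_E_ok u_c5_Y_ok (ws := [nat_lit 0xe0b090d0b0e07090b05090d0b0e09030d09050e090b050105010d03]) (by decide +kernel)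

theorem u_c5_card : 5 ^ 2 ≤ Nat.card (grp 120 u_c5_X) :=
  Ch.le_card_grp m_hn u_c5_X_ok (k := 2) (L := (nat_lit 0x2000000000000000000000000000001)) (c := (Ch.cons (nat_lit 0) [nat_lit 3] (Ch.cons (nat_lit 1) [nat_lit 1] Ch.nil))) (by decide +kernel)

theorem u_c5_rows : allN (pcRowB u_c5 120 3 u_L u_c5_X) u_c5.n = true :=
  by decide +kernel

theorem u_c5_fus : allN (pcFusB u_c5 120 3 u_L u_c5_X u_c5_Y) u_c5.nf = true :=
  by decide +kernel

theorem u_c5_bound : MBound (grp 120 p_E) (6967296 * 6967296) 1 :=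
  mBound_net' (C := u_c5) m_hn u_det u_c5_X_ok u_c5_Y_ok (m_le38.trans le_rfl) (m_le39.trans le_rfl)
    (by show Nat.Prime 5; norm_num) p_card u_c5_nrm (by decide +kernel) u_c5_rows u_c5_fus u_c5_card u_c5_chk

theorem u_bound : MBound (grp 120 p_E) 1 4 :=
  (((u_c2_bound.mul
    u_c3_bound).mul
    u_c5_bound).mul
    (mBound_of_prime (p := 7) (k := 24883200) (by norm_num) p_card)).congr (by norm_num) (by norm_num)

theorem com1 : cmw (netGen 120 p_E p_code) [7, 5] [3, 1, 8] 15 = 1 :=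
  cmw_netGen p_gen (by decide) (by decide) (com_pow_eq_one m_hn (det_lab m_hk ⊤) p_E_ok le_top (by decide +kernel))

theorem com2 : cmw (netGen 120 p_E p_code) [3] [4] 1 = 1 :=
  cmw_netGen p_gen (by decide) (by decide) (com_pow_eq_one m_hn (det_lab m_hk ⊤) p_E_ok le_top (by decide +kernel))

theorem c_hn : NOk 240 := by decide

theorem c_hk : 240 ≤ 2 ^ 8 := by decide

noncomputable def c_g1 : Net := (Net.cons (nat_lit 2) (nat_lit 0x333330030000303033330033000030303333030300003030333333330000) (Net.cons (nat_lit 4) (nat_lit 0xf000f00030c000003000c0000000f00000000000c0c0000000000000000) (Net.cons (nat_lit 8) (nat_lit 0xf000f0003c00000000000000000000000000000000) (Net.cons (nat_lit 16) (nat_lit 0x303000003f3c00000c0c0000fc000000cc300000c03c0000c00c) (Net.cons (nat_lit 32) (nat_lit 0xc00000000c0cc0c00000000000c00c00c0000000000c00000) (Net.cons (nat_lit 64) (nat_lit 0xc000000c000000000000000000003fc000000000000) (Net.cons (nat_lit 128) (nat_lit 0xc000000c00003fc000000000000)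 (Net.cons (nat_lit 64) (nat_lit 0x3c3cc0c0cc0000000000000000003ffcc03c00c00000) (Net.cons (nat_lit 32) (nat_lit 0xfcf000000000cff0ccc000000000f000c0f000000000c0cc0cc0) (Net.cons (nat_lit 16) (nat_lit 0xc0c00003f3c0000cf300000fc000000f00c0000c03c00000cc0) (Net.cons (nat_lit 8) (nat_lit 0x3c00f000f000000000000000000000000000000000) (Net.cons (nat_lit 4) (nat_lit 0x30c0f000f00000000000c0003000f000c0c000000000000000000000000) (Net.cons (nat_lit 2) (nat_lit 0x333333330000000033333333000000003333333300000000333333330000) (Net.cons (nat_lit 1) (nat_lit 0x411544455005111115544554005511111514454405051111454445455551) Net.nil))))))))))))))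

theorem c_g1_ok : Net.ok 240 c_g1 = true := by decide +kernel

noncomputable def c_g2 : Net := (Net.cons (nat_lit 2) (nat_lit 0x330033003300000033003300330000000000000000000000000000000000) (Net.cons (nat_lit 4) (nat_lit 0xf000000000000000f00000000000f000000000000000000000000000000) (Net.cons (nat_lit 16) (nat_lit 0xffff0000000000000000000000000000000000000000) (Net.cons (nat_lit 64) (nat_lit 0xffff000000000000) (Net.cons (nat_lit 128) (nat_lit 0xffff000000000000) (Net.cons (nat_lit 64) (nat_lit 0xffff000000000000000000000000ffff000000000000) (Net.cons (nat_lit 16) (nat_lit 0xffff0000ffff0000ffff00000000000000000000000000000000) (Net.cons (nat_lit 8) (nat_lit 0xc300c3003c000f003c003300cc00f000f000c3003c003c0000003300cc) (Net.cons (nat_lit 4) (nat_lit 0x30c000000000c03030c00000000030c0000000000000000000000000000) (Net.cons (nat_lit 2) (nat_lit 0x33000330033003333000033003300000000000000000000000000000000) (Net.cons (nat_lit 1) (nat_lit 0x55014414114141455004411114414140505141441414141545444441111)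 Net.nil)))))))))))

theorem c_g2_ok : Net.ok 240 c_g2 = true := by decide +kernel

noncomputable def c_g3 : Net := (Net.cons (nat_lit 2) (nat_lit 0x33003300330000003300330033000000000000000000) (Net.cons (nat_lit 4) (nat_lit 0xf000f000f0000000000000000000f0000000f000f000000000000000000) (Net.cons (nat_lit 16) (nat_lit 0xffff000000000000000000000000) (Net.cons (nat_lit 64) (nat_lit 0xffff0000000000000000000000000000000000000000) (Net.cons (nat_lit 128) (nat_lit 0xffff000000000000000000000000) (Net.cons (nat_lit 64) (nat_lit 0xffff000000000000000000000000ffff000000000000) (Net.cons (nat_lit 16) (nat_lit 0xffff0000ffff0000ffff0000000000000000) (Net.cons (nat_lit 8) (nat_lit 0xf000c3003c003c003c003300cc000f00c300c3003c000f0000003300cc) (Net.cons (nat_lit 4) (nat_lit 0xf000f000f000000030303030c0c0c030c0c0f000f000c03000003030c0c) (Net.cons (nat_lit 2) (nat_lit 0x33000033003300003030003300330033000000000000) (Net.cons (nat_lit 1) (nat_lit 0x1001000000100100000000)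 Net.nil)))))))))))

theorem c_g3_ok : Net.ok 240 c_g3 = true := by decide +kernel

noncomputable def c_g4 : Net := (Net.cons (nat_lit 2) (nat_lit 0x330033003300000033003300330000000000000000000000000000000000) (Net.cons (nat_lit 4) (nat_lit 0xf000000000000000f00000000000f000000000000000000000000000000) (Net.cons (nat_lit 8) (nat_lit 0xff0000000000c30000000000000000000000000000) (Net.cons (nat_lit 16) (nat_lit 0xfff3000000000000000c000000000000c33000000000) (Net.cons (nat_lit 64) (nat_lit 0xc00000000000000000000000000f3000000000000) (Net.cons (nat_lit 128) (nat_lit 0xffc3cc3c33c00ffc330cc3333cc) (Net.cons (nat_lit 64) (nat_lit 0xff0c000000000000000000000000fff3ff0000000000) (Net.cons (nat_lit 16) (nat_lit 0xff000000fff30000ff0000003c0c0000ff000000ff300000ff00) (Net.cons (nat_lit 8) (nat_lit 0xff00000000000f0000000000000000000000000000) (Net.cons (nat_lit 4) (nat_lit 0x300000000000c00030000000000030c0c000000000003000c0000000000) (Net.cons (nat_lit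 2) (nat_lit 0x30000000000000033000000000000003000330033003300000033003300) (Net.cons (nat_lit 1) (nat_lit 0x1000000000000010000000001000000000001000000100100000000) Net.nil))))))))))))

theorem c_g4_ok : Net.ok 240 c_g4 = true := by decide +kernel

noncomputable def c_g5 : Net := (Net.cons (nat_lit 2) (nat_lit 0x3000330033003300000033003300000000000000000000000000000000) (Net.cons (nat_lit 4) (nat_lit 0x30c0f0f0f0f030c0c0300000000030c0f0f0f0f0f0f0000000000000000) (Net.cons (nat_lit 8) (nat_lit 0xf000000000000000f000f000000000000000000000000) (Net.cons (nat_lit 16) (nat_lit 0xffff000003000000ffff00000c30000000000000f33c00000000) (Net.cons (nat_lit 64) (nat_lit 0xc03c0000000000000000000000000c0f000000000000) (Net.cons (nat_lit 128) (nat_lit 0x300c33c3cc3fc0fc33ccc3333cc) (Net.cons (nat_lit 64) (nat_lit 0xfffff0f0f0f000000000000000000f3f0fc0f0f0f0f0) (Net.cons (nat_lit 16) (nat_lit 0xffff000003000000ffff0000fc30000000000000f33c00000000) (Net.cons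 (nat_lit 8) (nat_lit 0xf000000000000000f000f000000000000000000000000) (Net.cons (nat_lit 4) (nat_lit 0x30c0f0f0f0f030c0c0300000000030c0f0f0f0f0f0f0000000000000000) (Net.cons (nat_lit 2) (nat_lit 0x3000330033003300000033003300000000000000000000000000000000) (Net.cons (nat_lit 1) (nat_lit 0x10000011000000000000000000001000001100000000000) Net.nil))))))))))))

theorem c_g5_ok : Net.ok 240 c_g5 = true := by decide +kernel

noncomputable def c_g6 : Net := (Net.cons (nat_lit 2) (nat_lit 0x3300000030300000033303030033030000000003030000000000000) (Net.cons (nat_lit 4) (nat_lit 0xf0f0c0c0f000c0c0f0000000000000000000c0c00000c0c00000000) (Net.cons (nat_lit 8) (nat_lit 0xff0000000000ff000000ff00cc000f0033000000ff000000ff00000000) (Net.cons (nat_lit 16) (nat_lit 0xffff000000000000fc3c000030000000030c00003cc300000000) (Net.cons (nat_lit 32) (nat_lit 0xc33c000000000f30300c00000000c33000cc0000000030030000) (Net.cons (nat_lit 64) (nat_lit 0x300033f300000000000000000c30000000000000)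 (Net.cons (nat_lit 128) (nat_lit 0xc00ff0cffc3ff00ff00fc33c) (Net.cons (nat_lit 64) (nat_lit 0xf33ff3ff00000000000000000f3000c0c00fc00c) (Net.cons (nat_lit 32) (nat_lit 0xffff000000000f3c3c3000000000f3fc03c0000000003cc30000) (Net.cons (nat_lit 16) (nat_lit 0xffff0000c00c0000fc330000303f000003030000fccf00000000) (Net.cons (nat_lit 8) (nat_lit 0xff0000000000ff000000ff00cc00c30033000000ff000000ff00000000) (Net.cons (nat_lit 4) (nat_lit 0xf0f0c0c0f000c0c0f00000f0c0c0003030f0c0c00000c0c00000000) (Net.cons (nat_lit 2) (nat_lit 0x3300000030300000033303030033030000000003030000000000000) (Net.cons (nat_lit 1) (nat_lit 0x1000000000000000000000100000000001000000000000000001000) Net.nil))))))))))))))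

theorem c_g6_ok : Net.ok 240 c_g6 = true := by decide +kernel

noncomputable def c_g7 : Net := (Net.cons (nat_lit 2) (nat_lit 0x300303030000003030000003000000000030303030000303000000000) (Net.cons (nat_lit 4) (nat_lit 0xf00000000000f0f03030000000000000f0f000000000f0f0c0c00000000) (Net.cons (nat_lit 8) (nat_lit 0x3c00f000ff000000ff0000003f00000000000000000000000000000000) (Net.cons (nat_lit 16) (nat_lit 0xccc0000030000000000000003cc30000cff30000c0cc00003c00) (Net.cons (nat_lit 32) (nat_lit 0x30c0000000000033cc000000000f3f000300000000000300000) (Net.cons (nat_lit 64) (nat_lit 0xcc00000000000000000000000000000000000000000) (Net.cons (nat_lit 128) (nat_lit 0x3cc3033000000000000000000000) (Net.cons (nat_lit 64) (nat_lit 0xff00cc3f03f0000000000000000ccf0000c3c00f3ff) (Net.cons (nat_lit 32) (nat_lit 0xffc00000000f00c3cf300000000fff0003c000000000f3f0c0c) (Net.cons (nat_lit 16) (nat_lit 0xccc300003cc30000000300003cc30000cff30000f0fc00003c00) (Net.cons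 (nat_lit 8) (nat_lit 0x3c00f000ff000000ff0000003f0000000000c3003c003c003c003c00c3) (Net.cons (nat_lit 4) (nat_lit 0xf0c0c0000000f0f03030000000000000f0f000000000f0f0c0c00000000) (Net.cons (nat_lit 2) (nat_lit 0x300303030000003030000003000000000030303030000303000000000) (Net.cons (nat_lit 1) (nat_lit 0x10004000000000400010000000400001000000000000000000000) Net.nil))))))))))))))

theorem c_g7_ok : Net.ok 240 c_g7 = true := by decide +kernel

noncomputable def c_g8 : Net := (Net.cons (nat_lit 1) (nat_lit 0x555555555555555555555555555555555555555555555555555555555555) Net.nil)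

theorem c_g8_ok : Net.ok 240 c_g8 = true := by decide +kernel

noncomputable def cx_E : List Net := [c_g1, c_g2, c_g3, c_g4, c_g5, c_g6, c_g7, c_g8]

theorem cx_E_ok : okE 240 cx_E = true := (okE_cons.2 ⟨c_g1_ok, (okE_cons.2 ⟨c_g2_ok, (okE_cons.2 ⟨c_g3_ok, (okE_cons.2 ⟨c_g4_ok, (okE_cons.2 ⟨c_g5_ok, (okE_cons.2 ⟨c_g6_ok, (okE_cons.2 ⟨c_g7_ok, (okE_cons.2 ⟨c_g8_ok, (okE_nil 240)⟩)⟩)⟩)⟩)⟩)⟩)⟩)⟩)

def cx_code : List ℕ := [0, 0, 1, 2, 4, 6, 8, 10, 12, 14]

noncomputable def c_g9 : Net := (Net.cons (nat_lit 2) (nat_lit 0x303030030303003003000030030003003300033303303000003300000030) (Net.cons (nat_lit 4) (nat_lit 0x30f0c0c000f0300000c03030f0c03030c000c0f0c00000300000f0c0300) (Net.cons (nat_lit 8) (nat_lit 0x3f0000003000fc00fc003000ff000f00cf00f0003c00f0003000300000) (Net.cons (nat_lit 16) (nat_lit 0xcc030000cfc300000f0300000f3f0000c3cc0000c3cf00000c03) (Net.cons (nat_lit 32) (nat_lit 0x33300000000330cfc0300000000c00f030c000000003f300000) (Net.cons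 (nat_lit 64) (nat_lit 0x3f0c30003c000000000000000000c0f0000000000000) (Net.cons (nat_lit 128) (nat_lit 0xff3cf00030c0c3ff00030c000c00) (Net.cons (nat_lit 64) (nat_lit 0x33300f33f3c300000000000000003fc3300f03cccf00) (Net.cons (nat_lit 32) (nat_lit 0xf03f00000000fffff00000000000cf3f00c00000000003c03333) (Net.cons (nat_lit 16) (nat_lit 0xcc3f0000300f000003000000ff030000cc000000f30c00003003) (Net.cons (nat_lit 8) (nat_lit 0xcc00cc00f300c300c0003000c30033000f00f0003c003000f000c30000) (Net.cons (nat_lit 4) (nat_lit 0xf0f03030003030f0c0f0f030300000f0300000303000f0c0f030c0c000c) (Net.cons (nat_lit 2) (nat_lit 0x303000000303333303333033003303300303000333333330330300333033) (Net.cons (nat_lit 1) (nat_lit 0x440410405055151450004114405001411151001504145115100405000010) Net.nil))))))))))))))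

theorem c_g9_ok : Net.ok 240 c_g9 = true := by decide +kernel

noncomputable def c_g10 : Net := (Net.cons (nat_lit 2) (nat_lit 0x3303333300003303003003003330300330000000000000000003030000) (Net.cons (nat_lit 4) (nat_lit 0xc000f03030c0f0c0c0c0c0f03000f0c000c0f0303030c03000f0c030000) (Net.cons (nat_lit 8) (nat_lit 0xff003c000c000300cf0030000f00ff0003003c00c300c00030003c0000) (Net.cons (nat_lit 16) (nat_lit 0x30cf0000f030000000cf0000f3f3000003330000c0c00000cc30) (Net.cons (nat_lit 32) (nat_lit 0x30c300000000fcc03cf300000000300c00c00000000003000000) (Net.cons (nat_lit 64) (nat_lit 0x3cf3303f33000000000000000000cf00000000000000) (Net.cons (nat_lit 128) (nat_lit 0xc3f030fff30ccffcfc0303000000) (Net.cons (nat_lit 64) (nat_lit 0xccff30f0fc0000000000000000f0fc3cffcfc33030) (Net.cons (nat_lit 32) (nat_lit 0xf0c00000000cfc03f3f0000000003ff0c3f0000000000c33c00) (Net.cons (nat_lit 16) (nat_lit 0x3330000f0000000033f0000f30f00003cff0000fc0f00003f0c) (Net.cons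 (nat_lit 8) (nat_lit 0xcf0000003f00fc00f0000300cc000300300030000f00ff003c00300030) (Net.cons (nat_lit 4) (nat_lit 0xf0c0f030f00030c030f0f0c0c0c0c0003000c03000f0f0f0f0c0c000c0f) (Net.cons (nat_lit 2) (nat_lit 0x30033000333300030300003030003030003333333333330333030303333) (Net.cons (nat_lit 1) (nat_lit 0x45404150101501041454551144404010454144150054145501010415515) Net.nil))))))))))))))

theorem c_g10_ok : Net.ok 240 c_g10 = true := by decide +kernel

noncomputable def c_g11 : Net := (Net.cons (nat_lit 2) (nat_lit 0x30000030303030300333300033033000030000000000000033300033300) (Net.cons (nat_lit 4) (nat_lit 0xf0c000300030c0f0c0c0f030c0c00000c0c030c00000c000c000c000c00) (Net.cons (nat_lit 8) (nat_lit 0xff000c000f00fc00ff0000003c000f00c0003c000f00c0003f00000000) (Net.cons (nat_lit 16) (nat_lit 0x3ccf0000fc0c00000cc30000f0cc00003cc0000030c300003f03) (Net.cons (nat_lit 32) (nat_lit 0x33cf0000000000c00c3f000000000030c30000000000c00f0000) (Net.cons (nat_lit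 64) (nat_lit 0xf03333c0f0f00000000000000003c00000000000000) (Net.cons (nat_lit 128) (nat_lit 0xccfcf33fc33f3cc0c3ffc0030c00) (Net.cons (nat_lit 64) (nat_lit 0xc00330f3f00000000000000000cff003030fcf3c03) (Net.cons (nat_lit 32) (nat_lit 0xc0f0000000003fc003c00000000030f303c300000000c30f0c33) (Net.cons (nat_lit 16) (nat_lit 0xc330000000030000030f00000ff0000003cc0000f300000000ff) (Net.cons (nat_lit 8) (nat_lit 0xff00fc00c300f000ff00f000c300ff0030003c003300c300cf00f000cf) (Net.cons (nat_lit 4) (nat_lit 0x3030f030f03030c0303000f0f0f0f0f000c0f0c0f030c0c030f0c0f0c0f) (Net.cons (nat_lit 2) (nat_lit 0x303003303030303030000030300300330303303333333303000033300033) (Net.cons (nat_lit 1) (nat_lit 0x415105040000504141110445405141504000440555104514415455445415) Net.nil))))))))))))))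

theorem c_g11_ok : Net.ok 240 c_g11 = true := by decide +kernel

noncomputable def c_g12 : Net := (Net.cons (nat_lit 2) (nat_lit 0x3300333030330033003033003030033333000330300033300033333000) (Net.cons (nat_lit 4) (nat_lit 0xc0c0f00000f0f03030c0c0f0c030f030f03000f030f0c00030c0f0c0300) (Net.cons (nat_lit 8) (nat_lit 0xf3000c000c003f0003000000c000c000cc003f000c00cc00fc000c0000) (Net.cons (nat_lit 16) (nat_lit 0xff0f00000c3c00003f030000ccfc0000c00000003cfc00000030) (Net.cons (nat_lit 32) (nat_lit 0xfcf000000000ffffc30300000000c0c0ff0000000000cf300000) (Net.cons (nat_lit 64) (nat_lit 0xcc0030cc33000000000000000000cc30000000000000) (Net.cons (nat_lit 128) (nat_lit 0xc03f3cc03303fcff0c3fc30c0000) (Net.cons (nat_lit 64) (nat_lit 0xf300f3f3fffc00000000000000003cf03c30fcffc300) (Net.cons (nat_lit 32) (nat_lit 0xf000000000fc3000cf00000000000300f0000000003fc3f3c0) (Net.cons (nat_lit 16) (nat_lit 0xf3300000cf3c00000c0f00003ff30000033f0000f03f0000000c) (Net.cons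 (nat_lit 8) (nat_lit 0xcc00cf00f3000f00f3000000f0003c003000f00000000300c000c300cf) (Net.cons (nat_lit 4) (nat_lit 0x3030303000f0f0c0c00030f0f0c0f000f0f000f0c0c030000030f0f0c03) (Net.cons (nat_lit 2) (nat_lit 0x330033000303003300330300330303300000333003033300033300000333) (Net.cons (nat_lit 1) (nat_lit 0x405101100004451415151400440415551505015111504154100110154155) Net.nil))))))))))))))

theorem c_g12_ok : Net.ok 240 c_g12 = true := by decide +kernel

noncomputable def c_g13 : Net := (Net.cons (nat_lit 2) (nat_lit 0x300030300333333000030333000300030303033000030303300003300) (Net.cons (nat_lit 4) (nat_lit 0xc0303030f00000f0c0f0c0f000f000003030300030c030c0f0c000000) (Net.cons (nat_lit 8) (nat_lit 0xc00cf00c0000f000f000c0033000f00c30003000f000300cc00300000) (Net.cons (nat_lit 16) (nat_lit 0xff0f00000c0c000000f0000000c30000c0c30000330c0000cc0f) (Net.cons (nat_lit 32) (nat_lit 0xc30c0000000000cc3fc300000000033c3ff300000000c0000000) (Net.cons (nat_lit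 64) (nat_lit 0xc3fff3f0fc3000000000000000000f03000000000000) (Net.cons (nat_lit 128) (nat_lit 0xc30ff3ccf0303fcf00f000300c00) (Net.cons (nat_lit 64) (nat_lit 0x30c3ccfc33c00000000000000003ccf00f3f0f0ff0c) (Net.cons (nat_lit 32) (nat_lit 0x3fff0000000003c0003c00000000f3cc000c00000000fcf03cf3) (Net.cons (nat_lit 16) (nat_lit 0xfff000003030000f03c00003f0000003c300000c3cf0000c333) (Net.cons (nat_lit 8) (nat_lit 0xfc00c000cf00f000f000fc003300f000c300f300f0003300cc003f00cf) (Net.cons (nat_lit 4) (nat_lit 0x30c0c0c0f00000f030f030f000f00000c0c0c000c0f0c030c0300030c) (Net.cons (nat_lit 2) (nat_lit 0x333033303033000000333303000333033303030300333303030033330033) (Net.cons (nat_lit 1) (nat_lit 0x404545005140110040514110044444140015551010444540554454540555) Net.nil))))))))))))))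

theorem c_g13_ok : Net.ok 240 c_g13 = true := by decide +kernel

noncomputable def c_g14 : Net := (Net.cons (nat_lit 2) (nat_lit 0x330030030333033330030333333000300303333303000000033333330030) (Net.cons (nat_lit 4) (nat_lit 0x30f000000030c000f0c03000c0f000f000c030f0300000c0c00030300) (Net.cons (nat_lit 8) (nat_lit 0xf00f00030003c0030003f000f000c00ff0000000f0000000c000c0000) (Net.cons (nat_lit 16) (nat_lit 0xccfc00003c0f0000003c000000f00000cc3300000c0c00003c0c) (Net.cons (nat_lit 32) (nat_lit 0xcc000000000fc30fc000000000c00f000f0000000000000000) (Net.cons (nat_lit 64) (nat_lit 0x3c00000f30c000000000000000000c3000000000000) (Net.cons (nat_lit 128) (nat_lit 0xc0300cc3cf03cfff0300003000) (Net.cons (nat_lit 64) (nat_lit 0xc30c30000000000000000000cf303c3ccf3330c) (Net.cons (nat_lit 32) (nat_lit 0xff3300000000f3330cc300000000f0c33cf000000000000003fc) (Net.cons (nat_lit 16) (nat_lit 0x3f3300000c330000cc000000cf0000000ff00000003c000003c0) (Net.cons (nat_lit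 8) (nat_lit 0xc003000300033003c003c003c000f00c3003f00c0000c000c00fc00c3) (Net.cons (nat_lit 4) (nat_lit 0xf03000f0f0f0f0f0f000f0f0f0f000f000f0c030003000f0c000303030c) (Net.cons (nat_lit 2) (nat_lit 0x3303303000300003303000000333033030000030333333300000003303) (Net.cons (nat_lit 1) (nat_lit 0x400101404511451504455000501550545400010551411401450110541555) Net.nil))))))))))))))

theorem c_g14_ok : Net.ok 240 c_g14 = true := by decide +kernel

noncomputable def c_g15 : Net := (Net.cons (nat_lit 2) (nat_lit 0x33300000333000330300333303003300300003303300303333030000030) (Net.cons (nat_lit 4) (nat_lit 0xf000f0000030003030300000f000f000c000f0f000c00030000000000) (Net.cons (nat_lit 8) (nat_lit 0xc003f00fc00fc00cf00cc00cf000f00f3000f0000000c00c000cc0000) (Net.cons (nat_lit 16) (nat_lit 0xcc3c000033ff0000c03000000ccc00000cf00000333000000300) (Net.cons (nat_lit 32) (nat_lit 0xf0c0000000000fcc0000000000000300300000000000cc3c0000) (Net.cons (nat_lit 64) (nat_lit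 0xfc300c00300000000000000000030000000000000) (Net.cons (nat_lit 128) (nat_lit 0xfc3f3ffcc00330ffc000c0300000) (Net.cons (nat_lit 64) (nat_lit 0xfc3fc000f330000000000000000fc0c33ccc0000f00) (Net.cons (nat_lit 32) (nat_lit 0x3cf3000000000ffc03f00000000000c0330000000000ff000cf0) (Net.cons (nat_lit 16) (nat_lit 0xc0fc00003cfc0000cc0c00003f030000f33c00003c3f000000cf) (Net.cons (nat_lit 8) (nat_lit 0xf000ff00f000ff00cf00f300330000000000300000000000cf003c000c) (Net.cons (nat_lit 4) (nat_lit 0xf000c03000c000c0c030000030303030303000f0c0f000c000f00000c) (Net.cons (nat_lit 2) (nat_lit 0x303033333003333030030003000333033303300330003000330333303330) (Net.cons (nat_lit 1) (nat_lit 0x555004444000444510041111500000005454050145511541445405544555) Net.nil))))))))))))))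

theorem c_g15_ok : Net.ok 240 c_g15 = true := by decide +kernel

noncomputable def cy_E : List Net := [c_g9, c_g10, c_g11, c_g12, c_g13, c_g14, c_g15, c_g8]

theorem cy_E_ok : okE 240 cy_E = true := (okE_cons.2 ⟨c_g9_ok, (okE_cons.2 ⟨c_g10_ok, (okE_cons.2 ⟨c_g11_ok, (okE_cons.2 ⟨c_g12_ok, (okE_cons.2 ⟨c_g13_ok, (okE_cons.2 ⟨c_g14_ok, (okE_cons.2 ⟨c_g15_ok, (okE_cons.2 ⟨c_g8_ok, (okE_nil 240)⟩)⟩)⟩)⟩)⟩)⟩)⟩)⟩)

def cy_code : List ℕ := [0, 0, 1, 2, 4, 6, 8, 10, 12, 14]

theorem cx_z : Cen (H44.gp 240 cx_E cx_code) 8 [[9]] :=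
  cen_of_cenN c_hn c_hk cx_E_ok (by decide +kernel)

theorem cx_cenL : Cen (H44.gp 240 cx_E cx_code) 8 (PresO8.R) :=
  cen_of_cenZ (m := 2) c_hn c_hk cx_E_ok cx_z (by decide +kernel)

theorem cx_cen : Cen (H44.gp 240 cx_E cx_code) 8 PresO8.R :=
  cx_cenL

theorem cy_z : Cen (H44.gp 240 cy_E cy_code) 8 [[9]] :=
  cen_of_cenN c_hn c_hk cy_E_ok (by decide +kernel)

theorem cy_cenL : Cen (H44.gp 240 cy_E cy_code) 8 (PresO8.R) :=
  cen_of_cenZ (m := 2) c_hn c_hk cy_E_ok cy_z (by decide +kernel)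

theorem cy_cen : Cen (H44.gp 240 cy_E cy_code) 8 PresO8.R :=
  cy_cenL

theorem x1 : orderOf (cmw (H44.gp 240 cx_E cx_code) [7, 5] [3, 1, 8] 15) = 2 :=
  ((congrArg orderOf (cmw_eq_of_beq c_hn c_hk cx_E_ok (w := [9]) (by decide +kernel))).trans
      (orderOf_gp (p := 2) (e := 0) c_hn c_hk cx_E_ok (by norm_num) (by decide +kernel) (by decide +kernel)))

theorem y1 : cmw (H44.gp 240 cy_E cy_code) [7, 5] [3, 1, 8] 15 = 1 :=
  com_pow_eq_one c_hn (det_lab c_hk ⊤) cy_E_ok le_top (by decide +kernel)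

theorem x2 : cmw (H44.gp 240 cx_E cx_code) [3] [4] 1 ^ 2 = 1 :=
  by
  rw [cmw_eq_of_beq c_hn c_hk cx_E_ok (w := []) (by decide +kernel)]
  exact (det_lab c_hk ⊤).eq trivial trivial (mov_iter (H44.mov_evL (rep_FK c_hn.1 _) cx_E_ok _ _) _ _)
    (Mov.refl _ _ _) (by decide +kernel : Nat.beq (iter (H44.evL (FK 240 8) cx_E cx_code []) 2 (lab 240 8)) (lab 240 8) = true)

theorem y2 : orderOf (cmw (H44.gp 240 cy_E cy_code) [3] [4] 1) = 2 :=
  ((congrArg orderOf (cmw_eq_of_beq c_hn c_hk cy_E_ok (w := [9]) (by decide +kernel))).trans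
      (orderOf_gp (p := 2) (e := 0) c_hn c_hk cy_E_ok (by norm_num) (by decide +kernel) (by decide +kernel)))

theorem mult : Cfsg.HasSchurMultiplier (grp 120 p_E) (Multiplicative (ZMod 2 × ZMod 2)) :=
  u_bound.finish (p_pres.mQuot_two cx_cen cy_cen (by decide) (by decide) (by decide) (by decide)
    com1 com2 x1 y1 x2 y2) (by simp)

end Cfsg.Agent.H74.MO8
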