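import Cfsg.Agent.H74.AffD

/-! The local data in the affine symplectic group. -/

set_option autoImplicit false

namespace Cfsg.Agent.H74.Aff

open Cfsg Subgroup Matrix H42 H46 H68.F6 H28
open H84.U6 hiding sg gen tab Hyp
open H55.Sp6 (dec bf mv g)
open H2.L3E hiding pack

theorem sF_add (y : V) (p q : JB) : sF y (p + q) = sF y p + sF y q := by
  have k : ∀ a b : K4, trK (a + b) = trK a + trK b := by decide +kernel
  refine Prod.ext ?_ ?_ <;> simp only [sF, Prod.fst_add, Prod.snd_add, hm_add_left, add_smul, k]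
  · abel
  · ring

theorem sF_sF {y : V} (h : hm y y = 0) (p : JB) : sF y (sF y p) = p := by
  refine Prod.ext ?_ ?_ <;> simp only [sF, hm_add_left, hm_smul_left, h, mul_zero, add_zero]
  · rw [add_assoc, V_two, add_zero]
  · rw [add_assoc, CharTwo.add_self_eq_zero, add_zero]

/-- the vector of a transvection -/
def yV (w : ℕ) : V := dV (kV (w + oneA))

theorem gw_facts : ∀ w < 64, bf 1 w = 0 → wd [w] 1 = 1 ∧
    mulA (wC 0 [w]) (nat_lit 2216355176512) = mulA (nat_lit 2216355176512) (wC 0 [w]) := by decide +kernel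

theorem gw_y : ∀ w < 64, bf 1 w = 0 → d0 • yV w = yV w ∧ hm (yV w) (yV w) = 0 := by decide +kernel

theorem gw_a1 : ∀ w < 64, bf 1 w = 0 → ∀ k < 10,
    dV (kV (cjA (wC 0 [w]) (invA (wC 0 [w])) (jg k))) = (sF (yV w) (dB (kV (jg k)))).1 := by
  decide +kernel

theorem gw_a2 : ∀ w < 64, bf 1 w = 0 → ∀ k < 10,
    dL (kV (cjA (wC 0 [w]) (invA (wC 0 [w])) (jg k))) = (sF (yV w) (dB (kV (jg k)))).2 := by
  decide +kernel

theorem cd_gw {w : ℕ} (hw : w < 64) : cd (W 0 [w]) = wC 0 [w] := cd_W (by decide) (by simpa)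

theorem gw_M {w : ℕ} (hw : w < 64) (h : bf 1 w = 0) : W 0 [w] ∈ normalizer (J : Set Aff) :=
  mem_M ((act_ev (by simpa) (by decide)).trans (gw_facts w hw h).1)

theorem act_gw {w : ℕ} (hw : w < 64) (h : bf 1 w = 0) : D0.Act (W 0 [w]) (sF (yV w)) :=
  hom_of dB_xor (sF_add _) (gw_M hw h) fun k hk => by
    rw [cd_gw hw]; exact Prod.ext (gw_a1 w hw h k hk) (gw_a2 w hw h k hk)

theorem act_a : D0.Act (tr 8) dJ :=
  hom_of dB_xor (α := dJ) (fun p q => Prod.ext (smul_add d0 p.1 q.1) rfl) (T_le_M (A_le_T rfl))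
    (by rw [cd_a]; decide +kernel)

/-- a word in three transvections -/
def l3 (C u : ℕ) : List ℕ := [fld 6 (fld 18 C u) 0, fld 6 (fld 18 C u) 1, fld 6 (fld 18 C u) 2]

theorem stab_step {K : Subgroup Sp} (hK : ∀ w < 64, bf 1 w = 0 → g w ∈ K) (base : List ℕ) (b C : ℕ)
    (hb : b < 64 ∧ b ≠ 0 ∧ ∀ a ∈ base, a < 64)
    (chk : ∀ u < 64, u ≠ 0 → (∀ a ∈ base, bf a u = bf a b) → (∀ w ∈ l3 C u, bf 1 w = 0) ∧
      (∀ a ∈ base, wd (l3 C u) a = a) ∧ wd (l3 C u) u = b)
    (ih : ∀ s, (∀ a ∈ b :: base, act s a = a) → s ∈ K) (s : Sp) (h : ∀ a ∈ base, act s a = a) :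
    s ∈ K := by
  obtain ⟨h1, h2, h3⟩ := chk _ (act_lt s b) (act_ne_zero s hb.1 hb.2.1) fun a ha => by
    rw [← bf_act s (hb.2.2 a ha) hb.1, h a ha]
  have lt : ∀ w ∈ l3 C (act s b), w < 64 := by
    simp only [l3, List.forall_mem_cons]; simp; exact ⟨fld_lt 6 _ _, fld_lt 6 _ _, fld_lt 6 _ _⟩
  have m : H44.ev g (l3 C (act s b)) ∈ K := K.list_prod_mem fun x hx => by
    obtain ⟨w, hw, rfl⟩ := List.mem_map.1 hx
    exact hK w (lt w hw) (h1 w hw)
  refine (mul_mem_cancel_left m).1 (ih _ fun a ha => ?_)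
  rw [act_mul, act_ev lt (act_lt _ _)]
  rcases List.mem_cons.1 ha with rfl | ha
  · exact h3
  · rw [h a ha]; exact h2 a ha

theorem stab_one {K : Subgroup Sp} (hK : ∀ w < 64, bf 1 w = 0 → g w ∈ K) {s : Sp}
    (h : act s 1 = 1) : s ∈ K :=
  stab_step hK [1] 8 0xdc0dc1000d40d41000cc0cc1000c40c410000000000000000000000000000000000000009c09c10009409410008c08c10008408410000000000000000000000000000000000000005c05c10005405410004c04c10004404410000000000000000000000000000000000000001c01c10001401410000c00c1000040000000000000000000000000000000000000000 (by decide) (by decide +kernel)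
    (stab_step hK _ 2 0x34000000036000000030000000032000000000000000000000000000000000000000000d10000000c94000000c10000000d94000000000000000000000000000000000000000000014000000016000000010000000012000000000000000000000000000000000000000000510000000db0000000000000000000 (by decide) (by decide +kernel)
    (stab_step hK _ 16 0x26000000982000000022000000882000000000000000000000000000000000000000000000000000000000000000000000000000000000000000000000000000000000000000000006000000182000000002000000000000000000000000000000000000000000000000000000000000000000000000000000000 (by decide) (by decide +kernel)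
    (stab_step hK _ 4 0x20000000000000000024000000000000000000000000000000000000000000000000000000000000000000000000000000000000000000000000000000000000000000000000000000000000000000000000 (by decide) (by decide +kernel)
    (stab_step hK _ 32 0x4000000000000000000000000000000000000000000000000000000000000000000000000000000000000000000000000000000000000000000000000000000000000000000000000000000000000000000 (by decide) (by decide +kernel)
    fun s h => (ext6 (s := s) (t := 1) (by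
      simp only [List.forall_mem_cons] at h
      rw [cols_congr fun _ => act_one, cols, h.1, h.2.1, h.2.2.1, h.2.2.2.1, h.2.2.2.2.1,
        h.2.2.2.2.2.1]; rfl)) ▸ K.one_mem)))) s (by simpa)

/-- the linear elements -/
def lnH : Sp →* Aff := MonoidHom.mk' (fun s => ⟨0, s⟩) fun _ _ => Aff.ext (by simp [Aff.mul_v]) rfl

theorem bf8 : ∀ u < 64, bf 1 u ≠ 0 → bf 1 (8 ^^^ u) = 0 := by decide +kernel

theorem tr_split {u : ℕ} (hu : u < 64) : tr u = tr 8 * tr (8 ^^^ u) := by
  rw [tr_mul (by decide) (xor_lt (by decide) hu), Nat.xor_xor_cancel_left]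

theorem gen2' {n : Aff} (hn : n ∈ normalizer (J : Set Aff)) : ∃ α ∈ C1J, D0.Act n α := by
  let K : Subgroup Aff := mkF (fun n => n ∈ normalizer (J : Set Aff) ∧ ∃ α ∈ C1J, D0.Act n α)
    ⟨one_mem _, 1, one_mem _, fun j _ => by simp⟩
    fun {a b} ⟨ha, α, h1, h2⟩ ⟨hb, β, h3, h4⟩ => ⟨mul_mem ha hb, α * β, mul_mem h1 h3, fun j hj => by
      rw [show a * b * j * (a * b)⁻¹ = a * (b * j * b⁻¹) * a⁻¹ by group, h2 _ (conjJ hb hj), h4 j hj]
      rfl⟩
  have hJ : J ≤ K := fun i hi => ⟨le_normalizer hi, 1, one_mem _, fun j hj =>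
    congrArg dB (kV_conj hi hj)⟩
  have ha : tr 8 ∈ K := ⟨T_le_M (A_le_T rfl), dJ, subset_closure (Or.inl rfl), act_a⟩
  have h1 : act n.s 1 = 1 := by
    have k : ∀ y < 64, y ≠ 0 → (∀ u ∈ [1, 2, 4, 16, 32], bf y u = 0) → y = 1 := by decide +kernel
    refine k _ (act_lt _ _) (act_ne_zero _ (by decide) (by decide)) fun u hu => ?_
    have b : u < 64 ∧ bf 1 u = 0 := by revert u; decide
    have := conjJ (inv_mem hn) ((tr_mem_J b.1).2 b.2)
    rw [conj_tr _ b.1, tr_mem_J (act_lt _ _), ← bf_act n.s (by decide) (act_lt _ _)] at this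
    rwa [← act_act_inv n.s b.1]
  have h2 : lnH n.s ∈ K := stab_one (K := K.comap lnH) (fun w hw h => by
    have : lnH (g w) = W 0 [w] := ext' (enc_one.trans (enc_dec 0 (by decide)).symm) (mul_one _).symm
    rw [mem_comap, this]
    exact ⟨gw_M hw h, Function.Involutive.toPerm _ (sF_sF (gw_y w hw h).2),
      subset_closure (Or.inr ⟨_, (gw_y w hw h).1, fun _ => rfl⟩), act_gw hw h⟩) h1
  have h3 : ∀ u < 64, tr u ∈ K := fun u hu => by
    by_cases c : bf 1 u = 0
    · exact hJ ((tr_mem_J hu).2 c)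
    · rw [tr_split hu]; exact mul_mem ha (hJ ((tr_mem_J (xor_lt (by decide) hu)).2 (bf8 u hu c)))
  have : n * (lnH n.s)⁻¹ ∈ A0 := mul_inv_cancel n.s
  exact ((mul_mem_cancel_right (inv_mem h2)).1 (eq_tr this ▸ h3 _ (enc_lt _))).2

/-- a linear map fixing the standard line pointwise -/
def LL (p q v : V) : V := (v 0 + v 1) • p + v 1 • v0 + ((v 2 + v 3) • q + v 3 • v1)

theorem rE'' (y : Gam) (h : ∀ v ∈ l0, y • v = v) (c : y * d0 = d0 * y) : ∃ x ∈ E, r x = y := by
  have hs := fix_l0_s h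
  have k0 : ∀ v : V, v = LL ![1, 0, 0, 0] ![0, 0, 1, 0] v := forall_V (by decide +kernel)
  have k1 : ∀ v, y • v = LL (y • ![1, 0, 0, 0]) (y • ![0, 0, 1, 0]) v := fun v => by
    nth_rewrite 1 [k0 v]
    simp only [LL, smul_add, smul_lin hs, h _ v0_mem, h _ v1_mem]
  have k2 : ∀ e : V, ∃ a b : K4, y • e = e + (a • v0 + b • v1) := fun e => ⟨_, _, by
    rw [← (l0_aux _).2.1.1 (fix_l0_add h e), ← add_assoc, V_two, zero_add]⟩
  have k3 : ∀ e w : V, w ∈ l0 → d0 • e = e + w → d0 • y • e = y • e + w := fun e w hw he => by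
    rw [← mul_smul, ← c, mul_smul, he, smul_add, h w hw]
  have key : ∀ a b : K4, d0 • (![1, 0, 0, 0] + (a • v0 + b • v1) : V) =
      ![1, 0, 0, 0] + (a • v0 + b • v1) + v0 → ∀ c d : K4,
      d0 • (![0, 0, 1, 0] + (c • v0 + d • v1) : V) = ![0, 0, 1, 0] + (c • v0 + d • v1) + v1 →
      hm (![1, 0, 0, 0] + (a • v0 + b • v1)) (![0, 0, 1, 0] + (c • v0 + d • v1)) = 0 →
      ∃ k < 8, ∀ i < 10, dV (kV (cjA (pcC eg (8 * k) 9) (invA (pcC eg (8 * k) 9)) (jg i))) =
        LL (![1, 0, 0, 0] + (a • v0 + b • v1)) (![0, 0, 1, 0] + (c • v0 + d • v1))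
          (dV (kV (jg i))) := by decide +kernel
  obtain ⟨a, b, e1⟩ := k2 ![1, 0, 0, 0]
  obtain ⟨c, d, e2⟩ := k2 ![0, 0, 1, 0]
  obtain ⟨k, -, hk⟩ := key a b (e1 ▸ k3 _ _ v0_mem (by decide +kernel)) c d
    (e2 ▸ k3 _ _ v1_mem (by decide +kernel)) (by rw [← e1, ← e2, hm_lin hs]; decide +kernel)
  refine ⟨_, pcE'.pc_mem (8 * k), (rel_of (E_le_T (pcE'.pc_mem _)) (pcE'.cd_pc _) fun i hi => ?_).eq⟩
  rw [hk i hi, k1, e1, e2]

/-- elements of the normalizer of `E` -/
def nl : ℕ → ℕ := fld 48 0x2880800000006d80c0000000000000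
/-- certificates -/
def cq : ℕ → ℕ := fld 14 0x2c400000000a1024400000000810000000000000000000000000000000000001c40610000000014404100000318000021800001180000018000031000002100000110000001000003080000208000010800000082c003001c0020024001001400000
/-- certificates -/
def cw : ℕ → ℕ := fld 6 0x1c61050830401c61050830401c61050830401c61050830401c61050830401c61050830401c61050830401c61050830404906982880804906982880804906982880804906982880804906982880804906982880804906982880804906982880801871050c20401871050c20401871050c20401871050c20401871050c20401871050c20401871050c20401871050c2040d30920510100d30920510100d30920510100d30920510100d30920510100d30920510100d30920510100d309205101001871440830401871440830401871440830401871440830401871440830401871440830401871440830401871440830406984902880806984902880806984902880806984902880806984902880806984902880806984902880806984902880801c61440c20401c61440c20401c61440c20401c61440c20401c61440c20401c61440c20401c61440c20401c61440c2040000000000000000000000000000000000000000000000000000000000000000000000000000000000000000000000000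

theorem Iq' {x : Aff} (hx : x ∈ T) (h : x * x ∈ E) : ∃ n ∈ D0.N, n ∈ normalizer (E : Set Aff) ∧
    ∃ y ∈ J, ∀ e ∈ E, n * x * n⁻¹ * e * (n * x * n⁻¹)⁻¹ = y * e * y⁻¹ := by
  obtain ⟨k, hk, f, hf, rfl⟩ := decE hx
  have key : ∀ k < 64, eB (mulA (pcC sg k 6) (pcC sg k 6)) = true →
    neB (elC (nl (cq k / 1024))) = true ∧ eB (mulA (invA (pcC jg (cq k % 1024) 10))
      (cjA (elC (nl (cq k / 1024))) (invA (elC (nl (cq k / 1024)))) (pcC sg k 6))) = true := by
    decide +kernel
  have m := s_mem_NE k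
  have := key k hk
  rw [← cd_pcE _ cd_sγ, ← cd_el, ← pcJ.cd_pc, ← cd_conj, ← cd_inv, ← cd_mul, ← cd_mul, ← mem_E,
    ← mem_E] at this
  generalize pcE sγ k 6 = σ at *
  obtain ⟨h1, h2⟩ := this (by
    have := E.mul_mem (E.mul_mem h (E.inv_mem hf))
      (H49.conj_mem_of_mem_normalizer (inv_mem m) (E.inv_mem hf))
    convert this using 1; group)
  refine ⟨_, mem_N _, mem_NE h1, _, pcJ.pc_mem (cq k % 1024), fun e he => ?_⟩
  have h3 := E.mul_mem h2 (H49.conj_mem_of_mem_normalizer (mem_NE h1) hf)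
  generalize el _ = n at *
  generalize pcE jγ _ 10 = y at *
  calc _ = y * (y⁻¹ * (n * σ * n⁻¹) * (n * f * n⁻¹) * e) *
      (y⁻¹ * (n * σ * n⁻¹) * (n * f * n⁻¹))⁻¹ * y⁻¹ := by group
    _ = _ := by rw [commE h3 he]; group

theorem conj_a {u : ℕ} (hu : u < 64) (h : bf 1 u ≠ 0) : ∃ i ∈ J, i * tr 8 * i⁻¹ = tr u := by
  have key : ∀ u < 64, bf 1 u ≠ 0 → ∃ i < 32, lane 6 (pcC jg i 10) 4 = u := by decide +kernel
  obtain ⟨i, -, e⟩ := key u hu h
  exact ⟨_, pcJ.pc_mem i, by rw [conj_tr _ (by decide), ← l4_cd, pcJ.cd_pc, e]⟩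

theorem r_a : r (tr 8) = d0 :=
  (show tr 8 = rγ 0 from eq_of_beq cd_a (cd_rγ 0 (by decide)) (by decide +kernel)) ▸
    (rel_rγ 0 (by decide)).eq

theorem e_f0 : cd ef0 = bl 0 := cd_f0.trans (by decide +kernel)
theorem e_f1 : cd ef1 = bl 4 := cd_f1.trans (by decide +kernel)

theorem aJ' {j : Aff} (hj : j ∈ J) (h : tr 8 * j * (tr 8 * j) = 1) :
    ∃ i ∈ J, tr 8 * j = i * tr 8 * i⁻¹ := by
  have := pcJ.all' (Q := fun c => frc (mulA (nat_lit 2216338399304) c) fun m =>
    orB (notB (Nat.beq (mulA m m) oneA)) (Nat.beq (Nat.land m (nat_lit 4398046511040)) oneA))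
    (by decide +kernel) hj
  simp only [frc_eq, ← cd_mul' cd_a rfl, orB_iff, notB_iff] at this
  have e := (mask_cd _ (by decide) (by decide)).1 (this.resolve_left (beq_sq h))
  have l : ∀ i < 6, lane 6 (nat_lit 4398046511040) (i + 1) = 63 ∧ lane 6 oneA (i + 1) = 2 ^ i := by
    decide +kernel
  rw [(l 0 (by decide)).1, (l 1 (by decide)).1, (l 2 (by decide)).1, (l 3 (by decide)).1,
    (l 4 (by decide)).1, (l 5 (by decide)).1, (l 0 (by decide)).2, (l 1 (by decide)).2,
    (l 2 (by decide)).2, (l 3 (by decide)).2, (l 4 (by decide)).2, (l 5 (by decide)).2] at e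
  simp only [(bits _ (act_lt _ _)).1] at e
  have b : bf 1 (enc (tr 8 * j).v) ≠ 0 := by
    rw [bf_mul (x := tr 8) (act_one (by decide)), show bf 1 (enc j.v) = 0 from hj.2,
      enc_tr (by decide)]; decide
  generalize tr 8 * j = x at *
  have m : x ∈ A0 := ext6 (s := x.s) (t := 1) (by
    rw [cols_congr fun _ => act_one, cols, e.2.1, e.2.2.1, e.2.2.2.1, e.2.2.2.2.1,
      e.2.2.2.2.2.1, e.2.2.2.2.2.2]; rfl)
  obtain ⟨i, hi, e⟩ := conj_a (enc_lt x.v) b
  exact ⟨i, hi, (eq_tr m).trans e.symm⟩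

set_option maxHeartbeats 2000000 in
theorem tl : TL D0 where
  toJL := jl
  pT := pT
  cT := card_T
  TN x _ := mem_N x
  sylN := sylN
  TM := T_le_M
  TE := T_le_NE
  AT := A_le_T
  JT := J_le_T
  ET := E_le_T
  Tz _ := comm_z
  sqA x hx := by rw [eq_tr hx, tr_mul (enc_lt _) (enc_lt _), Nat.xor_self, tr_zero]
  cA := card_A
  CA x hx _ _ := ext64 fun u hu => by
    have := hx (tr u) rfl
    rw [mul_tr x hu] at this
    rw [act_one hu, ← tr_inj hu (act_lt _ _) (mul_right_cancel this)]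
  simp L h1 _ h2 := by
    have := simple_Sp
    have : L.Normal := normalizer_eq_top_iff.1 (eq_top_iff.2 fun x _ => h2 (mem_N x))
    rcases (Normal.map this sH sH_surj).eq_bot_or_eq_top with h | h
    · refine Or.inl fun x hx y hy => ?_
      have : x ∈ A0 := mem_bot.1 (h ▸ mem_map_of_mem sH hx)
      rw [eq_tr this, eq_tr hy, tr_mul (enc_lt _) (enc_lt _), tr_mul (enc_lt _) (enc_lt _),
        Nat.xor_comm]
    · refine Or.inr fun x _ => ?_
      obtain ⟨y, hy, e⟩ := h.ge (mem_top x.s)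
      exact (mul_mem_cancel_left (inv_mem hy)).1 (h1 (inv_mul_eq_one.2 e))
  trans x hx h := by
    obtain ⟨s, e⟩ := exists_to_one (enc_lt x.v) fun e => h (by rw [eq_tr hx, e, tr_zero])
    exact nc (lnH s) (by rw [eq_tr hx, conj_tr _ (enc_lt _)]; exact congrArg tr e)
  zA := rfl
  aA := rfl
  bA := rfl
  tA h := g_ne_one (a := 1) (by decide) (by decide) ((mul_one _).symm.trans h)
  bJ := (tr_mem_J (by decide)).2 rfl
  uJ := mem_J.2 (cd_u ▸ by decide +kernel)
  kb := (congrArg (fun c => dV (kV c)) cd_b).trans (by decide +kernel)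
  ku := (congrArg (fun c => dV (kV c)) cd_u).trans (by decide +kernel)
  ladd hx hy := (congrArg dL (kV_mul hx hy)).trans (dL_xor _ _)
  lz := (congrArg (fun c => dL (kV c)) cd_z).trans (by decide +kernel)
  lt := (congrArg (fun c => dL (kV c)) cd_t).trans (by decide +kernel)
  rmul := r_mul
  rker := r_ker
  ract hx hj := (rel_T hx).1 _ hj
  rS _ hx := (rel_T hx).2.1
  rd _ hx := (rel_T hx).2.2
  ra := r_a
  AJ x hx := by
    rw [eq_tr hx]
    refine (em _).imp (tr_mem_J (enc_lt _)).2 fun c => ?_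
    have := (tr_mem_J (xor_lt (by decide) (enc_lt _))).2 (bf8 _ (enc_lt _) c)
    exact (congrArg r (tr_split (enc_lt _))).trans (by
      rw [r_mul (A_le_T rfl) (J_le_T this), r_a, (rel_J this).eq, mul_one])
  aJ _ := aJ'
  Agen B h x hx := by
    have k : ∀ u < 64, bf 1 u ≠ 0 → tr u ∈ B := fun u hu c => by
      obtain ⟨i, hi, e⟩ := conj_a hu c
      exact e ▸ h i hi
    rw [eq_tr hx]
    by_cases c : bf 1 (enc x.v) = 0
    · rw [tr_split (enc_lt _)]
      exact mul_mem (k 8 (by decide) (by decide)) (k _ (xor_lt (by decide) (enc_lt _)) (by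
        rw [bf_xor _ (by decide) _ (enc_lt _), c]; decide))
    · exact k _ (enc_lt _) c
  gen0 := act_a
  gen1 y h := by
    obtain ⟨w, hw, c, rfl⟩ := forall_V (P := fun y => d0 • y = y → ∃ w < 64, bf 1 w = 0 ∧ yV w = y)
      (by decide +kernel) y h
    exact ⟨_, mem_N _, gw_M hw c, cd_inj ((cd_mul' (cd_gw hw) cd_t).trans
      ((gw_facts w hw c).2.trans (cd_mul' cd_t (cd_gw hw)).symm)), act_gw hw c⟩
  gen2 _ _ := gen2'
  sqE := sqE
  cE := card_E
  CE _ := CE
  EJ _ hj := (chkJ hj).2.2.2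
  rE x hx v hv := by
    obtain ⟨j, hj, rfl⟩ := kap_onto v
    exact ((rel_T (E_le_T hx)).1 j hj).symm.trans (by
      rw [commE hx ((chkJ hj).2.2.2.2 hv), mul_inv_cancel_right])
  rE' := rE''
  f0E := mem_E.2 (cd_f0 ▸ by decide +kernel)
  f1E := mem_E.2 (cd_f1 ▸ by decide +kernel)
  rf0 := (rel_bl (by decide) e_f0).eq
  rf1 := (rel_bl (by decide) e_f1).eq
  blk0 := blk (by decide) e_f0
  blk1 := blk (by decide) e_f1
  blkb := blk (i := 1) (by decide) ((cd_mul' cd_f0 cd_b).trans (by decide +kernel))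
  blkz := by
    have e1 : cd (W 0 [3]) = bl 2 := (cd_W (by decide) (by decide)).trans (by decide +kernel)
    have e2 : cd (W 3 [3]) = bl 3 := (cd_W (by decide) (by decide)).trans (by decide +kernel)
    exact ⟨_, mem_E.2 (e1 ▸ by decide +kernel), _, mem_E.2 (e2 ▸ by decide +kernel),
      blk (by decide) e1, blk (by decide) e2, (rel_bl (by decide) e1).eq, (rel_bl (by decide) e2).eq,
      eq_of_beq (cd_mul' e1 e2) (cd_mul' cd_b cd_z) (by decide +kernel)⟩
  jb := ⟨tr 16, (tr_mem_J (by decide)).2 rfl, eq_of_beq (a := cjA (16 + oneA) (invA (16 + oneA))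
    (nat_lit 2218485882944)) (by rw [cd_conj, cd_tr (by decide), ← cd_f0]; rfl) (cd_mul' cd_f0 cd_b)
    (by decide +kernel)⟩
  kT := mem_T.2 (cd_k ▸ by decide +kernel)
  kt := eq_of_beq (cd_mul' cd_k cd_t) (cd_mul' cd_t cd_k) (by decide +kernel)
  kf := eq_of_beq (cd_mul' cd_k cd_f0) (cd_mul' cd_f0 cd_k) (by decide +kernel)
  rk := (rel_of (mem_T.2 (cd_k ▸ by decide +kernel)) cd_k (by decide +kernel)).eq
  inv _ := inv'
  b3 _ hi _ := b3' hi
  Iq _ := Iq'
  Ia x hx := by
    have key : ∀ u < 64, ∃ i < 3, jB (cjA (elC (nl i)) (invA (elC (nl i))) (u + oneA)) = true ∧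
      neB (elC (nl i)) = true := by decide +kernel
    obtain ⟨i, -, h1, h2⟩ := key _ (enc_lt x.v)
    rw [← cd_tr (enc_lt _), ← eq_tr hx, ← cd_el, ← cd_conj] at h1
    exact ⟨_, mem_N _, mem_NE (cd_el _ ▸ h2), mem_J.2 h1⟩
  cW := card_W
  W1 x hx n w hw hw' := by
    have key : ∀ u < 64, 8 ≤ u → ∀ w < 8, w + oneA = mulA (cjA (pcC eg (cw (8 * u + w)) 9)
      (invA (pcC eg (cw (8 * u + w)) 9)) (u + oneA)) (invA (u + oneA)) := by decide +kernel
    have := key _ (enc_lt x.v) (not_lt.1 fun c => n (eq_tr hx ▸ (tr_mem_E (enc_lt _)).2 c)) _ hw'.1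
    rw [← cd_tr (enc_lt _), ← cd_tr (enc_lt _), ← eq_tr hx, ← eq_tr hw, ← pcE'.cd_pc, ← cd_conj,
      ← cd_inv, ← cd_mul] at this
    exact ⟨_, pcE'.pc_mem _, cd_inj this⟩
  W2 _ := W2'
  W3 := W3'
  W4 e _ h m := not_hyp ((hyp_nc h).1 ((show e.s = 1 from m) ▸ (V0_facts V0.one_mem).2.1))

/-- The computations in the affine group. -/
theorem affS : AffS := ⟨D0, rfl, tl⟩

end Cfsg.Agent.H74.Aff
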