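import Cfsg.Agent.H74.AffA

/-! The subgroups `T`, `J`, `E` of the affine symplectic group. -/

set_option autoImplicit false

namespace Cfsg.Agent.H74.Aff

open Cfsg Subgroup Matrix H42 H46 H68.F6
open H44 (ev ev_nil ev_cons ev_append)
open H55.Sp6 (dec bf mv g dec_surj card_Sp)
open H2.L3E hiding pack

/-- the linear part -/
def sH : Aff →* Sp := MonoidHom.mk' (·.s) fun _ _ => rfl

theorem mask_cd (x : Aff) {M K : ℕ} (hM : M < 2 ^ (6 * 7)) (hK : K < 2 ^ (6 * 7)) :
    Nat.beq (Nat.land (cd x) M) K = true ↔ enc x.v &&& lane 6 M 0 = lane 6 K 0 ∧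
      act x.s 1 &&& lane 6 M 1 = lane 6 K 1 ∧ act x.s 2 &&& lane 6 M 2 = lane 6 K 2 ∧
      act x.s 4 &&& lane 6 M 3 = lane 6 K 3 ∧ act x.s 8 &&& lane 6 M 4 = lane 6 K 4 ∧
      act x.s 16 &&& lane 6 M 5 = lane 6 K 5 ∧ act x.s 32 &&& lane 6 M 6 = lane 6 K 6 := by
  rw [beq_iff, ← l0_cd, ← l1_cd, ← l2_cd, ← l3_cd, ← l4_cd, ← l5_cd, ← l6_cd]
  simp only [← lane_land]
  refine ⟨fun h => by simp only [← h]; exact ⟨rfl, rfl, rfl, rfl, rfl, rfl, rfl⟩,
    fun ⟨h0, h1, h2, h3, h4, h5, h6⟩ => eq_of_lane (w := 6) (by decide) fun i => ?_⟩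
  by_cases hi : i < 7
  · interval_cases i <;> assumption
  · rw [lane_eq_zero_of_lt hK (by omega)]
    exact lane_eq_zero_of_lt (n := 7) (Nat.and_le_right.trans_lt hM) (by omega)

theorem bits : ∀ u < 64, u &&& 63 = u ∧ (u &&& 8 = 0 ↔ bf 1 u = 0) ∧ (u &&& 56 = 0 ↔ u < 8) ∧
    (u &&& 60 = 4 ↔ u ∈ [4, 5, 6, 7]) := by decide +kernel

theorem bits2 : ∀ u < 64, (u &&& 62 = 2 ↔ u ∈ [2, 3]) ∧ (u &&& 62 = 4 ↔ u ∈ [4, 5]) ∧
    (u &&& 62 = 16 ↔ u ∈ [16, 17]) ∧ (u &&& 62 = 32 ↔ u ∈ [32, 33]) := by decide +kernel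

theorem bits3 : ∀ u < 64, (lw u = lw 2 → u ∈ [2, 3]) ∧ (lw u = lw 4 → u ∈ [4, 5]) ∧
    (lw u = lw 16 → u ∈ [16, 17]) ∧ (lw u = lw 32 → u ∈ [32, 33]) := by decide +kernel

theorem bits4 : ∀ u < 64, (8 ≤ u → lv u = 4 ∧ ∃ w ∈ [1, 2, 4], bf w u = 1) ∧
    (u < 8 → ∀ w < 8, bf w u = 0) := by decide +kernel

theorem bf_xor : ∀ a < 64, ∀ b < 64, bf 1 (a ^^^ b) = bf 1 a ^^^ bf 1 b := by decide +kernel

theorem bf_one {s : Sp} (h : act s 1 = 1) {u : ℕ} (hu : u < 64) : bf 1 (act s u) = bf 1 u := by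
  rw [← bf_act s (by decide) hu, h]

theorem bf_mul {x : Aff} (h : act x.s 1 = 1) (y : Aff) :
    bf 1 (enc (x * y).v) = bf 1 (enc x.v) ^^^ bf 1 (enc y.v) := by
  rw [enc_mul, bf_xor _ (enc_lt _) _ (act_lt _ _), bf_one h (enc_lt _)]

theorem V0_one {s : Sp} (h : s ∈ V0) : act s 1 = 1 := T0_one (V0_le_T0 h)

/-- the Sylow subgroup -/
def T : Subgroup Aff := T0.comap sH

/-- the subgroup `2 × 2¹⁺⁸` -/
def J : Subgroup Aff := mkF (fun x => x.s ∈ V0 ∧ bf 1 (enc x.v) = 0)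
  ⟨V0.one_mem, by rw [enc_one]; rfl⟩ fun ha hb =>
    ⟨V0.mul_mem ha.1 hb.1, by rw [bf_mul (V0_one ha.1), ha.2, hb.2]; rfl⟩

/-- the subgroup `2⁹` -/
def E : Subgroup Aff := mkF (fun x => enc x.v < 8 ∧ ∀ u < 8, act x.s u = u)
  ⟨by rw [enc_one]; decide, fun u hu => act_one (by omega)⟩ fun {a b} ha hb =>
    ⟨by rw [enc_mul, ha.2 _ hb.1]; exact Nat.xor_lt_two_pow (n := 3) ha.1 hb.1, fun u hu => by
      rw [Aff.mul_s, act_mul, hb.2 u hu, ha.2 u hu]⟩

/-- the test for `T` -/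
def tB (c : ℕ) : Bool := Nat.beq (Nat.land c (nat_lit 15986624)) (nat_lit 1056832)
/-- the test for `J` -/
def jB (c : ℕ) : Bool := Nat.beq (Nat.land c (nat_lit 4327196061640)) (nat_lit 2216204181568)
/-- the test for `E` -/
def eB (c : ℕ) : Bool := Nat.beq (Nat.land c (nat_lit 16777208)) (nat_lit 1056832)

theorem ap_lo {c0 c1 c2 c3 c4 c5 u : ℕ} (h : u.testBit 3 = false) :
    ap c0 c1 c2 c3 c4 c5 u = ap c0 c1 c2 0 c4 c5 u := by simp [ap, h]

theorem ap_lt {c0 c1 c2 c3 c4 c5 u : ℕ} (h : u < 8) :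
    ap c0 c1 c2 c3 c4 c5 u = ap c0 c1 c2 0 0 0 u := by
  interval_cases u <;> rfl

theorem mem_T {x : Aff} : x ∈ T ↔ tB (cd x) = true := by
  refine Iff.trans ?_ ((mask_cd x (M := nat_lit 15986624) (K := nat_lit 1056832) (by decide)
    (by decide)).trans (Iff.rfl : _ ↔ enc x.v &&& 0 = 0 ∧
    act x.s 1 &&& 63 = 1 ∧ act x.s 2 &&& 62 = 2 ∧ act x.s 4 &&& 60 = 4 ∧ act x.s 8 &&& 0 = 0 ∧
    act x.s 16 &&& 0 = 0 ∧ act x.s 32 &&& 0 = 0)).symm
  rw [(bits _ (act_lt _ _)).1, (bits2 _ (act_lt _ _)).1, (bits _ (act_lt _ _)).2.2.2]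
  simp only [Nat.and_zero, true_and, and_true]
  refine ⟨fun h => ⟨T0_one h, (lv_facts _ (act_lt _ _)).2.1 (h 2 (by decide)),
    (lv_facts _ (act_lt _ _)).2.2 (h 4 (by decide))⟩, fun ⟨h1, h2, h3⟩ => ?_⟩
  have key : ∀ c1 ∈ [2, 3], ∀ c2 ∈ [4, 5, 6, 7], ∀ u < 8,
    ap 1 c1 c2 0 0 0 u < 8 ∧ lv (ap 1 c1 c2 0 0 0 u) = lv u := by decide +kernel
  have lo : ∀ u < 8, act x.s u < 8 ∧ lv (act x.s u) = lv u := fun u hu => by
    rw [← act_ap _ (by omega), ap_lt hu, h1]; exact key _ h2 _ h3 u hu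
  intro u hu
  change lv (act x.s u) = _
  by_cases h : u < 8
  · exact (lo u h).2
  obtain ⟨e, w, hw, b⟩ := (bits4 u hu).1 (by omega)
  have w8 : w < 8 := by simp at hw; omega
  rw [e]
  refine ((bits4 _ (act_lt _ _)).1 (not_lt.1 fun c => ?_)).1
  have := (bits4 _ (act_lt _ _)).2 c _ (lo w w8).1
  rw [bf_act _ (by omega) hu] at this
  omega

theorem mem_J {x : Aff} : x ∈ J ↔ jB (cd x) = true := by
  refine Iff.trans ?_ ((mask_cd x (M := nat_lit 4327196061640) (K := nat_lit 2216204181568)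
    (by decide) (by decide)).trans (Iff.rfl : _ ↔ enc x.v &&& 8 = 0 ∧
    act x.s 1 &&& 63 = 1 ∧ act x.s 2 &&& 62 = 2 ∧ act x.s 4 &&& 62 = 4 ∧ act x.s 8 &&& 0 = 0 ∧
    act x.s 16 &&& 62 = 16 ∧ act x.s 32 &&& 62 = 32)).symm
  have b := fun u => bits2 _ (act_lt x.s u)
  have c := fun u => bits3 _ (act_lt x.s u)
  rw [(bits _ (act_lt _ _)).1, (bits _ (enc_lt _)).2.1, (b _).1, (b _).2.1, (b _).2.2.1, (b _).2.2.2]
  simp only [Nat.and_zero, true_and]
  refine ⟨fun h => ⟨h.2, V0_one h.1, (c _).1 (h.1 2 (by decide)), (c _).2.1 (h.1 4 (by decide)),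
    (c _).2.2.1 (h.1 16 (by decide)), (c _).2.2.2 (h.1 32 (by decide))⟩,
    fun ⟨h0, h1, h2, h3, h4, h5⟩ => ⟨mem_V0_of h1 fun u hu e _ => ?_, h0⟩⟩
  have key : ∀ c1 ∈ [2, 3], ∀ c2 ∈ [4, 5], ∀ c4 ∈ [16, 17], ∀ c5 ∈ [32, 33], ∀ u < 64, bf 1 u = 0 →
    u.testBit 3 = false ∧ (ap 1 c1 c2 0 c4 c5 u = u ∨ ap 1 c1 c2 0 c4 c5 u = u ^^^ 1) := by
    decide +kernel
  have := key _ h2 _ h3 _ h4 _ h5 u hu e
  rw [← act_ap _ hu, ap_lo this.1, h1]; exact this.2

theorem mem_E {x : Aff} : x ∈ E ↔ eB (cd x) = true := by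
  refine Iff.trans ?_ ((mask_cd x (M := nat_lit 16777208) (K := nat_lit 1056832) (by decide)
    (by decide)).trans (Iff.rfl : _ ↔ enc x.v &&& 56 = 0 ∧
    act x.s 1 &&& 63 = 1 ∧ act x.s 2 &&& 63 = 2 ∧ act x.s 4 &&& 63 = 4 ∧ act x.s 8 &&& 0 = 0 ∧
    act x.s 16 &&& 0 = 0 ∧ act x.s 32 &&& 0 = 0)).symm
  have b := fun u => bits _ (act_lt x.s u)
  rw [(b _).1, (b _).1, (b _).1, (bits _ (enc_lt _)).2.2.1]
  simp only [Nat.and_zero, and_true]
  refine ⟨fun h => ⟨h.1, h.2 1 (by decide), h.2 2 (by decide), h.2 4 (by decide)⟩,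
    fun ⟨h0, h1, h2, h3⟩ => ⟨h0, fun u hu => ?_⟩⟩
  rw [← act_ap _ (by omega), ap_lt hu, h1, h2, h3]
  interval_cases u <;> rfl

theorem J_le_T : J ≤ T := fun _ h => V0_le_T0 h.1

theorem E_le_T : E ≤ T := fun x h => mem_T.2 ((mask_cd x (by decide) (by decide)).2 (by
  rw [h.2 1 (by decide), h.2 2 (by decide), h.2 4 (by decide)]
  exact ⟨Nat.and_zero _, rfl, rfl, rfl, Nat.and_zero _, Nat.and_zero _, Nat.and_zero _⟩))

theorem A_le_T : A0 ≤ T := fun x h => show x.s ∈ T0 from (show x.s = 1 from h) ▸ T0.one_mem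

theorem forallT {Q : ℕ → Bool}
    (h : chkT (fun f => frc (pk 0 f) fun c => allB (fun v => Q (Nat.add v c)) 64) = true)
    {x : Aff} (hx : x ∈ T) : Q (cd x) = true := by
  obtain ⟨f, e, hf⟩ := elimT h hx
  rw [frc_eq] at hf
  have := of_allB hf (enc_lt x.v)
  rwa [pk_congr e, show Nat.add (enc x.v) (pk 0 (act (sH x))) = cd x from (pk_add _ _).symm] at this

theorem mem_M {n : Aff} (h : act n.s 1 = 1) : n ∈ normalizer (J : Set Aff) :=
  H49.mem_normalizer_of_conj_mem fun j hj => ⟨conj_mem_V0 h hj.1, by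
    have := bf_mul h n⁻¹
    rw [mul_inv_cancel, enc_one] at this
    rw [bf_mul (by rw [Aff.mul_s, act_mul, V0_one hj.1, h]), bf_mul h, hj.2, Nat.xor_zero, ← this]
    rfl⟩

theorem T_le_M : T ≤ normalizer (J : Set Aff) := fun _ h => mem_M (T0_one h)

/-- generators of `J` -/
noncomputable def jγ (i : ℕ) : Aff := el (fld 48 0x200000000000100000000000040000000000020000000000010000008600400000004500400000001440400000000c2040000000000040 i)
/-- their codes -/
def jg : ℕ → ℕ := fld 42 0x8102040818204081020508102040811204081020428102040810604281420408106040c102140c102040811284081020409102040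
/-- the index in `J` -/
def jidx (c : ℕ) : ℕ := fld 5 0xffb9dd6f380000000000b5e959ca30000000000073dac52d280000000000398a4188200000000000 (lane 6 c 4) + 32 * ((c &&& 7) + ((c &&& 48) >>> 1))
/-- generators of `E` -/
noncomputable def eγ (i : ℕ) : Aff := el (fld 48 0x40000000000020000000000010000000001000000001840800000000000800000001440400000000c2040000000000040 i)
/-- their codes -/
def eg : ℕ → ℕ := fld 42 0x204081020448102040810a040810204191020408102250810204081220408102140c102040811284081020409102040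
/-- the index in `E` -/
def eidx (c : ℕ) : ℕ := ((c >>> 24) &&& 7) + (((c >>> 30) &&& 6) <<< 2) +
  (((c >>> 36) &&& 4) <<< 3) + ((c &&& 7) <<< 6)
/-- generators of `T` modulo `J` -/
noncomputable def rγ (i : ℕ) : Aff := el (fld 48 0x8a0080000000000180000000000100000000000080000000000008 i)
/-- their codes -/
def rg : ℕ → ℕ := fld 42 0x20c08182040996204081024408102040812204081020408102048
/-- inverses of the coset representatives -/
def rinv : ℕ → ℕ := fld 42 0x8b6206081222d881820408b4206081222d081820409b2206081226c881820409b0206081226c08182040936206081224d88182040934206081224d08182040832206081220c88182040830206081220c08182040894204081222508102040896204081222588102040994204081226508102040996204081226588102040912204081224488102040910204081224408102040812204081220488102040810204081220408102040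
/-- the index of the coset -/
def ridx (c : ℕ) : ℕ := fld 5 0x240bb82a0d832001c05fb7af000000000098e2100000000000000000000000000000000000000000200ab0280d030001804f338e000000000090a00
  (((c >>> 19) &&& 1) + (((c >>> 31) &&& 3) <<< 1) + (((c >>> 37) &&& 3) <<< 3) +
    (((c >>> 40) &&& 1) <<< 5) + (((c >>> 3) &&& 1) <<< 6))
/-- generators of `T` modulo `E` -/
noncomputable def sγ (i : ℕ) : Aff := el (fld 48 0x8a0080000000860040000000450040000000000020000000000010000000000008 i)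
/-- their codes -/
def sg : ℕ → ℕ := fld 42 0x8302060810204281420408106040c1020408102060810204081420408102048
/-- inverses of the coset representatives -/
def sinv : ℕ → ℕ := fld 42 0x830e060c1e20c38183070830e060c1a20c38183060830e060c1620c38183050830e060c1220c38183040830a07081e20c281c2070830a07081a20c281c2060830a07081620c281c2050830a07081220c281c20408306070c1e20c181c30708306070c1a20c181c30608306070c1620c181c30508306070c1220c181c3040830206081e20c08182070830206081a20c08182060830206081620c08182050830206081220c08182040810e050c1e20438143070810e050c1a20438143060810e050c1620438143050810e050c1220438143040810a05081e20428142070810a05081a20428142060810a05081620428142050810a050812204281420408106040c1e204181030708106040c1a204181030608106040c16204181030508106040c1220418103040810204081e20408102070810204081a20408102060810204081620408102050810204081220408102040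
/-- the index of the coset -/
def sidx (c : ℕ) : ℕ := fld 6 0xf77a63653347eb2aa2796386ef1be56d13c5f34b24714304e73b67757243fb6ba6692282ff5ae17d52c1e30a20610200
  (((c >>> 12) &&& 1) + (((c >>> 18) &&& 3) <<< 1) + (c &&& 56))

theorem cd_jγ : ∀ k < 10, cd (jγ k) = jg k := by
  simp only [jγ, cd_el]; decide +kernel
theorem cd_eγ : ∀ k < 9, cd (eγ k) = eg k := by
  simp only [eγ, cd_el]; decide +kernel
theorem cd_rγ : ∀ k < 5, cd (rγ k) = rg k := by
  simp only [rγ, cd_el]; decide +kernel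
theorem cd_sγ : ∀ k < 6, cd (sγ k) = sg k := by
  simp only [sγ, cd_el]; decide +kernel

/-- the checks on all elements of `T` -/
noncomputable def qT (c : ℕ) : Bool := frc c fun c =>
  andB (andB (jB (mulA (rinv (ridx c)) c)) (eB (mulA (sinv (sidx c)) c)))
    (andB (orB (notB (jB c)) (andB (ltB (jidx c) 1024) (Nat.beq (pcC jg (jidx c) 10) c)))
      (orB (notB (eB c)) (andB (ltB (eidx c) 512) (Nat.beq (pcC eg (eidx c) 9) c))))

theorem chk_all {x : Aff} (hx : x ∈ T) : (jB (mulA (rinv (ridx (cd x))) (cd x)) = true ∧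
    eB (mulA (sinv (sidx (cd x))) (cd x)) = true) ∧
    (jB (cd x) = true → jidx (cd x) < 1024 ∧ pcC jg (jidx (cd x)) 10 = cd x) ∧
    (eB (cd x) = true → eidx (cd x) < 512 ∧ pcC eg (eidx (cd x)) 9 = cd x) := by
  have := forallT (Q := qT) (by decide +kernel) hx
  simp only [qT, frc_eq, andB_iff, orB_iff, notB_iff, ltB_iff, beq_iff] at this
  exact ⟨this.1, fun h => this.2.1.resolve_left (by simp [h]),
    fun h => this.2.2.resolve_left (by simp [h])⟩

theorem pcJ : PC J jγ jg 10 where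
  cdg := cd_jγ
  mem k hk := mem_J.2 (by rw [cd_jγ k hk]; revert k; decide +kernel)
  all _ hx := ⟨_, (chk_all (J_le_T hx)).2.1 (mem_J.1 hx)⟩

theorem pcE' : PC E eγ eg 9 where
  cdg := cd_eγ
  mem k hk := mem_E.2 (by rw [cd_eγ k hk]; revert k; decide +kernel)
  all _ hx := ⟨_, (chk_all (E_le_T hx)).2.2 (mem_E.1 hx)⟩

theorem decJ {x : Aff} (hx : x ∈ T) : ∃ k < 32, ∃ j ∈ J, x = pcE rγ k 5 * j := by
  have h := (chk_all hx).1.1
  have e : ∀ k < 32, invA (pcC rg k 5) = rinv k := by decide +kernel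
  have lt : ridx (cd x) < 32 := fld_lt 5 _ _
  rw [← e _ lt, ← cd_pcE _ cd_rγ, ← cd_inv, ← cd_mul] at h
  exact ⟨_, lt, _, mem_J.2 h, (mul_inv_cancel_left _ _).symm⟩

theorem decE {x : Aff} (hx : x ∈ T) : ∃ k < 64, ∃ e ∈ E, x = pcE sγ k 6 * e := by
  have h := (chk_all hx).1.2
  have e : ∀ k < 64, invA (pcC sg k 6) = sinv k := by decide +kernel
  have lt : sidx (cd x) < 64 := fld_lt 6 _ _
  rw [← e _ lt, ← cd_pcE _ cd_sγ, ← cd_inv, ← cd_mul] at h
  exact ⟨_, lt, _, mem_E.2 h, (mul_inv_cancel_left _ _).symm⟩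

theorem injE : ∀ i < 2 ^ 9, ∀ j < 2 ^ 9, pcE eγ i 9 = pcE eγ j 9 → i = j :=
  pcE'.inj (idx := eidx) (by decide +kernel)

theorem card_J : Nat.card J = 1024 :=
  card_of (n := 2 ^ 10) _ (fun i _ => pcJ.pc_mem i) (fun _ => pcJ.ex)
    (pcJ.inj (idx := jidx) (by decide +kernel))

theorem card_E : Nat.card E = 512 :=
  card_of (n := 2 ^ 9) _ (fun i _ => pcE'.pc_mem i) (fun _ => pcE'.ex) injE

theorem card_A : Nat.card A0 = 64 :=
  card_of tr (fun _ _ => rfl) (fun _ hx => ⟨_, enc_lt _, (eq_tr hx).symm⟩)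
    fun _ hi _ hj => tr_inj hi hj

theorem tr_mem_E {u : ℕ} (hu : u < 64) : tr u ∈ E ↔ u < 8 :=
  ⟨fun h => enc_tr hu ▸ h.1, fun h => ⟨(enc_tr hu).symm ▸ h, fun _ hv => act_one (by omega)⟩⟩

theorem tr_mem_J {u : ℕ} (hu : u < 64) : tr u ∈ J ↔ bf 1 u = 0 :=
  ⟨fun h => enc_tr hu ▸ h.2, fun h => ⟨V0.one_mem, (enc_tr hu).symm ▸ h⟩⟩

theorem card_W : Nat.card ↥(A0 ⊓ E) = 8 :=
  card_of tr (fun _ h => ⟨rfl, (tr_mem_E (by omega)).2 h⟩)
    (fun _ hx => ⟨_, hx.2.1, (eq_tr hx.1).symm⟩) fun _ hi _ hj => tr_inj (by omega) (by omega)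

theorem sH_surj : Function.Surjective sH := fun s => ⟨⟨0, s⟩, rfl⟩

theorem index_T : T.index = T0.index := index_comap_of_surjective _ sH_surj

theorem card_Aff : Nat.card Aff = 64 * 1451520 := by
  rw [← card_mul_index sH.ker, index_ker, MonoidHom.range_eq_top.2 sH_surj, card_top, card_Sp]
  exact congrArg (· * _) card_A

theorem card_T : Nat.card T = 2 ^ 15 := by
  have : Fact (Nat.Prime 2) := ⟨Nat.prime_two⟩
  obtain ⟨k, hk⟩ := isPGroup_T0.exists_card_eq
  have h1 := T0.card_mul_index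
  have h2 := T.card_mul_index
  have h3 := card_T0_ge
  rw [card_Sp, hk] at h1
  have : k ≤ 9 := by
    by_contra c
    exact absurd ((pow_dvd_pow 2 (show 10 ≤ k by omega)).trans ⟨_, h1.symm⟩) (by norm_num)
  have : k = 9 := by
    by_contra c
    have := pow_le_pow_right₀ (show 1 ≤ 2 by decide) (show k ≤ 8 by omega)
    omega
  subst this
  rw [card_Aff, index_T, show T0.index = 2835 by omega] at h2
  exact Nat.eq_of_mul_eq_mul_right (by decide : 0 < 2835) (h2.trans (by norm_num))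

instance : A0.Normal := (inferInstance : sH.ker.Normal)

theorem N_top : normalizer (A0 : Set Aff) = ⊤ := normalizer_eq_top A0

theorem mem_N (x : Aff) : x ∈ normalizer (A0 : Set Aff) := N_top.ge (mem_top x)

theorem pT : IsPGroup 2 T := IsPGroup.of_card card_T

theorem sylN : H8.IsSylowIn 2 T (normalizer (A0 : Set Aff)) :=
  ⟨fun x _ => mem_N x, pT, by
    rw [N_top, relIndex_top_right, index_T, ← relIndex_top_right]; exact sylow_T0.not_dvd⟩

theorem sqE : ∀ x ∈ E, x * x = 1 := fun x hx => cd_inj (by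
  rw [cd_mul, cd_one]
  exact beq_iff.1 (pcE'.all' (Q := fun c => Nat.beq (mulA c c) oneA) (by decide +kernel) hx))

theorem commE {x y : Aff} (hx : x ∈ E) (hy : y ∈ E) : x * y = y * x := by
  have := sqE _ (E.mul_mem hx hy)
  calc x * y = x * x * (y * x) * (y * y) := by
        rw [show x * x * (y * x) * (y * y) = x * (x * y * (x * y)) * y by group, this, mul_one]
    _ = _ := by rw [sqE x hx, sqE y hy, one_mul, mul_one]

/-- the test for the normalizer of `E` -/
noncomputable def neB (c : ℕ) : Bool :=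
  frc c fun c => frc (invA c) fun d => allB (fun k => eB (cjA c d (eg k))) 9

theorem mem_NE {n : Aff} (h : neB (cd n) = true) : n ∈ normalizer (E : Set Aff) :=
  pcE'.norm fun k hk => mem_E.2 (by
    rw [neB, frc_eq, frc_eq] at h; rw [cd_conj, cd_eγ k hk]; exact of_allB h hk)

theorem s_mem_NE (k : ℕ) : pcE sγ k 6 ∈ normalizer (E : Set Aff) :=
  pcE_mem k fun i hi => mem_NE (by rw [cd_sγ i hi]; revert i; decide +kernel)

theorem T_le_NE : T ≤ normalizer (E : Set Aff) := fun x hx => by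
  obtain ⟨k, -, e, he, rfl⟩ := decE hx
  exact mul_mem (s_mem_NE k) (le_normalizer he)

theorem CE {x : Aff} (hx : x ∈ T) (c : x ∈ centralizer (E : Set Aff)) : x ∈ E := by
  obtain ⟨k, hk, e, he, rfl⟩ := decE hx
  have key : ∀ k < 64, allB (fun i => Nat.beq (mulA (eg i) (pcC sg k 6)) (mulA (pcC sg k 6) (eg i))) 9
    = true → k = 0 := by decide +kernel
  obtain rfl := key k hk (allB_iff.2 fun i hi => beq_iff.2 (by
    have := c _ (pcE'.mem i hi)
    rw [← mul_assoc, mul_assoc _ e, commE he (pcE'.mem i hi), ← mul_assoc] at this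
    rw [← cd_pcE _ cd_sγ, ← cd_eγ i hi, ← cd_mul, ← cd_mul, mul_right_cancel this]))
  exact E.mul_mem E.one_mem he

end Cfsg.Agent.H74.Aff
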