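import Cfsg.Agent.H74.AffB

/-! Coordinates on `J` and the action of `T` on them. -/

set_option autoImplicit false

namespace Cfsg.Agent.H74.Aff

open Cfsg Subgroup Matrix H42 H46 H68.F6 H28
open H84.U6 hiding sg gen tab
open H55.Sp6 (dec bf mv g)
open H2.L3E hiding pack

/-- the vector of a code -/
def dV (n : ℕ) : V := ![dec4 n, dec4 (n / 4), dec4 (n / 16), dec4 (n / 64)]
/-- the last coordinate -/
def dL (n : ℕ) : ZMod 2 := if n.testBit 8 then 1 else 0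
/-- both -/
def dB (n : ℕ) : JB := (dV n, dL n)

theorem dec4_xor (a b : ℕ) : dec4 (a ^^^ b) = dec4 a + dec4 b := by
  have e : ∀ n, dec4 n = dec4 (n % 4) := fun n => by
    unfold dec4
    rw [show n % 4 % 2 = n % 2 by omega, show n % 4 / 2 % 2 = n / 2 % 2 by omega]
  have k : ∀ a < 4, ∀ b < 4, dec4 (a ^^^ b) = dec4 a + dec4 b := by decide +kernel
  rw [e, e a, e b, ← k _ (Nat.mod_lt _ (by decide)) _ (Nat.mod_lt _ (by decide))]
  exact congrArg dec4 (Nat.xor_mod_two_pow (n := 2))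

theorem dV_xor (a b : ℕ) : dV (a ^^^ b) = dV a + dV b := by
  have e : ∀ n, (a ^^^ b) / 2 ^ n = a / 2 ^ n ^^^ b / 2 ^ n := fun n => Nat.xor_div_two_pow
  have e2 : (a ^^^ b) / 4 = a / 4 ^^^ b / 4 := e 2
  have e4 : (a ^^^ b) / 16 = a / 16 ^^^ b / 16 := e 4
  have e6 : (a ^^^ b) / 64 = a / 64 ^^^ b / 64 := e 6
  simp only [dV, e2, e4, e6, dec4_xor]
  ext i; fin_cases i <;> rfl

theorem dL_xor (a b : ℕ) : dL (a ^^^ b) = dL a + dL b := by
  simp only [dL, Nat.testBit_xor]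
  cases a.testBit 8 <;> cases b.testBit 8 <;> decide

theorem dB_xor (a b : ℕ) : dB (a ^^^ b) = dB a + dB b := Prod.ext (dV_xor a b) (dL_xor a b)

/-- the coordinates on codes -/
def kV (c : ℕ) : ℕ := Nat.xor (fld 8 0xbbbbbebeebebeeeebbbbbebeebebeeeeb5b5b0b0e5e5e0e0b5b5b0b0e5e5e0e05b5b5e5e0b0b0e0e5b5b5e5e0b0b0e0e55555050050500005555505005050000 (Nat.land c 63))
  (fld 9 0xeeb75afd73edf6ee77eeb75afd73edf6ee776d769a1d0bd1eae0706d769a1d0bd1eae07056eb74ea706c360e0756eb74ea706c360e07d52ab40a08502a0000d52ab40a08502a0000 (Nat.land (Nat.shiftRight c 24) 63))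

theorem kV_lt (c : ℕ) : kV c < 512 :=
  Nat.xor_lt_two_pow (n := 9) ((fld_lt 8 _ _).trans (by decide)) (fld_lt 9 _ _)

theorem tabs : ∀ n < 512, (dV n = 0 ↔ Nat.beq (Nat.land n 255) 0 = true) ∧
    (hm (dV n) (dV n) = 0 ↔ tb 0xeee1eee1eee1111eeee1eee1eee1111eeee1eee1eee1111e111e111e111eeee1 (Nat.land n 255) = true) ∧
    (dV n ∈ l0 ↔ Nat.beq (Nat.land (Nat.xor n (Nat.shiftRight n 2)) 51) 0 = true) ∧
    (dV n + v0 ∈ l0 → dV n 0 = 1 → Nat.beq (Nat.land n 15) 5 = true) := by decide +kernel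

/-- the coordinates -/
noncomputable def kap (x : Aff) : V := dV (kV (cd x))
/-- the last coordinate -/
noncomputable def lam (x : Aff) : ZMod 2 := dL (kV (cd x))

theorem kV_one : kV (cd 1) = 0 := by rw [cd_one]; decide +kernel

theorem kV_mul {x y : Aff} (hx : x ∈ J) (hy : y ∈ J) :
    kV (cd (x * y)) = kV (cd x) ^^^ kV (cd y) := by
  have key : ∀ k < 10, ∀ w ∈ J, kV (cd (jγ k * w)) = kV (cd (jγ k)) ^^^ kV (cd w) := fun k hk w hw => by
    rw [cd_mul, cd_jγ k hk]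
    exact beq_iff.1 (of_allB (pcJ.all' (Q := fun c => allB (fun k =>
      Nat.beq (kV (mulA (jg k) c)) (Nat.xor (kV (jg k)) (kV c))) 10) (by decide +kernel) hw) hk)
  refine pcJ.ind (P := fun x => kV (cd (x * y)) = kV (cd x) ^^^ kV (cd y))
    (by rw [one_mul, kV_one, Nat.zero_xor]) (fun k hk x hx e => ?_) hx
  rw [mul_assoc, key k hk _ (J.mul_mem hx hy), e, key k hk _ hx, Nat.xor_assoc]

theorem kV_conj {x y : Aff} (hx : x ∈ J) (hy : y ∈ J) : kV (cd (x * y * x⁻¹)) = kV (cd y) := by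
  have := kV_mul hx (J.inv_mem hx)
  rw [mul_inv_cancel, kV_one] at this
  rw [kV_mul (J.mul_mem hx hy) (J.inv_mem hx), kV_mul hx hy, Nat.xor_comm (kV (cd x)), Nat.xor_assoc,
    ← this, Nat.xor_zero]

theorem conjJ {n j : Aff} (hn : n ∈ normalizer (J : Set Aff)) (hj : j ∈ J) : n * j * n⁻¹ ∈ J :=
  H49.conj_mem_of_mem_normalizer hn hj

theorem hom_of {X : Type*} [AddCommGroup X] {d : ℕ → X} (hd : ∀ a b, d (a ^^^ b) = d a + d b)
    {α : X → X} (hα : ∀ p q, α (p + q) = α p + α q) {n : Aff} (hn : n ∈ normalizer (J : Set Aff))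
    (c : ∀ k < 10, d (kV (cjA (cd n) (invA (cd n)) (jg k))) = α (d (kV (jg k)))) :
    ∀ j ∈ J, d (kV (cd (n * j * n⁻¹))) = α (d (kV (cd j))) := fun _ hj => by
  refine pcJ.ind (P := fun j => d (kV (cd (n * j * n⁻¹))) = α (d (kV (cd j)))) ?_
    (fun k hk x hx e => ?_) hj
  · have h0 : d 0 = 0 := left_eq_add.1 (hd 0 0)
    rw [mul_one, mul_inv_cancel, kV_one, h0]
    exact (left_eq_add.1 ((congrArg α (add_zero 0)).symm.trans (hα 0 0))).symm
  · rw [← conj_mul, kV_mul (conjJ hn (pcJ.mem k hk)) (conjJ hn hx), kV_mul (pcJ.mem k hk) hx, hd, hd,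
      hα, e, cd_conj, cd_jγ k hk, c k hk]

/-- a section -/
def sec : ℕ → ℕ := fld 10 0x399a42b9ec790a66b0ee2b1ee391a66b8ec798a498b208ab68d8222ca26a8a36a98322caa68d8a201d9340f97c5d0364f07e0f17e1d1364f87c5d834bcbb0aebf8fc2b2ee2faae3fabc3b2eeaf8fcab0b8ba0aabe8f82a2ea2eaaa3eab83a2eaae8f8aa0199240b96c590264b06e0b16e191264b86c598249cb308eb78dc232ce27a8e37a9c332cea78dca303d9b42f9fc7d0b66f0fe2f1fe3d1b66f8fc7d8b41c9300e9785c0324e07a0e17a1c1324e8785c830bdbb4afbfcfd2b6ef2feaf3febd3b6efafcfdab4389a02a9e8780a26a0ea2a1ea381a26a8e8788a099b248bb6cd9226cb26e8b36e99326cba6cd9a249db348fb7cdd236cf27e8f37e9d336cfa7cdda343c9b02e9f87c0b26e0fa2e1fa3c1b26e8f87c8b0b9ba4abbecf92a6eb2eeab3eeb93a6ebaecf9aa4189200a968580224a06a0a16a181224a86858820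

theorem kap_onto (v : V) : ∃ x ∈ J, kap x = v := by
  have h1 : ∀ a b c d : K4, cod a + 4 * cod b + 16 * cod c + 64 * cod d < 256 ∧
    dV (cod a + 4 * cod b + 16 * cod c + 64 * cod d) = ![a, b, c, d] := by decide +kernel
  have h2 : ∀ n < 256, kV (pcC jg (sec n) 10) = n := by decide +kernel
  refine forall_V (P := fun v => ∃ x ∈ J, kap x = v) (fun a b c d =>
    ⟨_, pcJ.pc_mem (sec (cod a + 4 * cod b + 16 * cod c + 64 * cod d)), ?_⟩) v
  rw [kap, pcJ.cd_pc, h2 _ (h1 a b c d).1, (h1 a b c d).2]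

/-- `x` acts like `γ` -/
def Rel (x : Aff) (γ : Gam) : Prop := ∀ j ∈ J, kap (x * j * x⁻¹) = γ • kap j

open Classical in
/-- the action on `J` modulo its centre -/
noncomputable def r (x : Aff) : Gam := if h : ∃ γ, Rel x γ then h.choose else 1

theorem Rel.eq {x : Aff} {γ : Gam} (h : Rel x γ) : r x = γ := by
  rw [r, dif_pos ⟨γ, h⟩]
  refine eq_of_smul fun v => ?_
  obtain ⟨j, hj, rfl⟩ := kap_onto v
  exact ((⟨γ, h⟩ : ∃ γ, Rel x γ).choose_spec j hj).symm.trans (h j hj)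

theorem Rel.mul {x y : Aff} {γ δ : Gam} (h : Rel x γ) (h' : Rel y δ)
    (hy : y ∈ normalizer (J : Set Aff)) : Rel (x * y) (γ * δ) := fun j hj => by
  rw [show x * y * j * (x * y)⁻¹ = x * (y * j * y⁻¹) * x⁻¹ by group, h _ (conjJ hy hj), h' j hj,
    mul_smul]

theorem rel_J {x : Aff} (hx : x ∈ J) : Rel x 1 := fun j hj => by
  rw [one_smul, kap, kV_conj hx hj, kap]

theorem rel_of {x : Aff} {c : ℕ} {γ : Gam} (hx : x ∈ T) (e : cd x = c)
    (h : ∀ k < 10, dV (kV (cjA c (invA c) (jg k))) = γ • dV (kV (jg k))) : Rel x γ :=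
  hom_of dV_xor (smul_add γ) (T_le_M hx) (e ▸ h)

/-- a third transvection -/
def t2 : Gam := mkG ![![0, 1, 1, 1], ![1, 0, 1, 1], ![1, 1, 0, 1], ![1, 1, 1, 0]] false
  (by decide +kernel) (by decide +kernel)

/-- one more involution -/
def t3 : Gam := mkG ![![1, 0, om ^ 2, om], ![0, 1, om ^ 2, om], ![om, om, 1, 0],
  ![om ^ 2, om ^ 2, 0, 1]] false (by decide +kernel) (by decide +kernel)

/-- the images of the generators -/
def rG (k : ℕ) : Gam := [d0, t0, t1, t2, t3].getD k 1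

theorem rγ_T : ∀ k < 5, rγ k ∈ T := fun k hk =>
  mem_T.2 (by rw [cd_rγ k hk]; revert k; decide +kernel)

theorem rel_rγ : ∀ k < 5, Rel (rγ k) (rG k) := fun k hk =>
  rel_of (rγ_T k hk) (cd_rγ k hk) (by revert k; decide +kernel)

theorem rG_mem : ∀ k < 5, rG k ∈ S0 ∧ rG k * d0 = d0 * rG k := fun k hk =>
  ⟨(tab_S0 ([73, 75, 120, 3, 85].getD k 0) (by revert k; decide)).mem (R_of
    (by revert k; decide +kernel) (by revert k; decide +kernel) (by revert k; decide +kernel)),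
    by revert k; decide +kernel⟩

theorem rel_T {x : Aff} (hx : x ∈ T) : Rel x (r x) ∧ r x ∈ S0 ∧ r x * d0 = d0 * r x := by
  obtain ⟨k, -, j, hj, rfl⟩ := decJ hx
  obtain ⟨-, γ, h1, h2⟩ := pcE_ind (γ := rγ)
    (P := fun x => x ∈ T ∧ ∃ γ, Rel x γ ∧ γ ∈ S0 ∧ γ * d0 = d0 * γ)
    ⟨T.one_mem, 1, rel_J J.one_mem, S0.one_mem, by simp⟩ k (m := 5)
    fun i hi x ⟨h0, γ, h1, h2, h3⟩ => ⟨T.mul_mem (rγ_T i hi) h0, _, (rel_rγ i hi).mul h1 (T_le_M h0),
      S0.mul_mem (rG_mem i hi).1 h2, by rw [mul_assoc, h3, ← mul_assoc, (rG_mem i hi).2, mul_assoc]⟩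
  have := h1.mul (rel_J hj) (le_normalizer hj)
  rw [mul_one] at this
  rw [this.eq]; exact ⟨this, h2⟩

theorem r_mul {x y : Aff} (hx : x ∈ T) (hy : y ∈ T) : r (x * y) = r x * r y :=
  ((rel_T hx).1.mul (rel_T hy).1 (T_le_M hy)).eq

theorem kap_eq {x y : Aff} (h : kap x = kap y) :
    Nat.beq (Nat.land (Nat.xor (kV (cd x)) (kV (cd y))) 255) 0 = true :=
  (tabs _ (Nat.xor_lt_two_pow (n := 9) (kV_lt _) (kV_lt _))).1.1 (by
    rw [dV_xor]; exact (congrArg (· + kap y) h).trans (V_two _))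

theorem r_ker {x : Aff} (hx : x ∈ T) : r x = 1 ↔ x ∈ J := by
  refine ⟨fun h => ?_, fun h => (rel_J h).eq⟩
  obtain ⟨k, hk, j, hj, rfl⟩ := decJ hx
  have m : pcE rγ k 5 ∈ T := pcE_mem k rγ_T
  rw [r_mul m (J_le_T hj), (rel_J hj).eq, mul_one] at h
  have key : ∀ k < 32, allB (fun i => Nat.beq (Nat.land (Nat.xor
    (kV (cjA (pcC rg k 5) (invA (pcC rg k 5)) (jg i))) (kV (jg i))) 255) 0) 10 = true → k = 0 := by
    decide +kernel
  obtain rfl := key k hk (allB_iff.2 fun i hi => by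
    rw [← cd_pcE _ cd_rγ, ← cd_jγ i hi, ← cd_conj]
    exact kap_eq (((rel_T m).1 _ (pcJ.mem i hi)).trans (by rw [h, one_smul])))
  exact J.mul_mem J.one_mem hj

/-- the named elements -/
noncomputable def et : Aff := W 0 [1]
/-- the named elements -/
noncomputable def ef0 : Aff := W 0 [2]
/-- the named elements -/
noncomputable def ef1 : Aff := W 0 [4]
/-- the named elements -/
noncomputable def ek : Aff := W 0 [4, 6]
/-- the named elements -/
noncomputable def eu : Aff := W 0 [1, 2, 3]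

theorem cd_t : cd et = nat_lit 2216355176512 := (cd_W (by decide) (by decide)).trans (by decide +kernel)
theorem cd_f0 : cd ef0 = nat_lit 2218485882944 := (cd_W (by decide) (by decide)).trans (by decide +kernel)
theorem cd_f1 : cd ef1 = nat_lit 2491216306240 := (cd_W (by decide) (by decide)).trans (by decide +kernel)
theorem cd_k : cd ek = nat_lit 2360219803712 := (cd_W (by decide) (by decide)).trans (by decide +kernel)
theorem cd_u : cd eu = nat_lit 2217445695552 := (cd_W (by decide) (by decide)).trans (by decide +kernel)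
theorem cd_z : cd (tr 1) = nat_lit 2216338399297 := cd_tr (by decide)
theorem cd_b : cd (tr 2) = nat_lit 2216338399298 := cd_tr (by decide)
theorem cd_a : cd (tr 8) = nat_lit 2216338399304 := cd_tr (by decide)

/-- the data -/
noncomputable def D0 : Dat Aff :=
  ⟨A0, T, J, E, tr 1, et, tr 8, tr 2, ef0, ef1, ek, eu, r, kap, lam⟩

theorem eq_of_beq {x y : Aff} {a b : ℕ} (h1 : cd x = a) (h2 : cd y = b) (h : Nat.beq a b = true) :
    x = y := cd_inj (h1.trans ((beq_iff.1 h).trans h2.symm))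

theorem ne_of_beq {x y : Aff} {a b : ℕ} (h1 : cd x = a) (h2 : cd y = b) (h : Nat.beq a b = false) :
    x ≠ y := fun e => beq_false_iff.1 h (h1.symm.trans (e ▸ h2))

theorem cd_mul' {x y : Aff} {a b : ℕ} (h1 : cd x = a) (h2 : cd y = b) : cd (x * y) = mulA a b :=
  h1 ▸ h2 ▸ cd_mul x y

theorem four : H49.Four (tr 1) et :=
  ⟨ne_of_beq cd_z cd_one (by decide +kernel), ne_of_beq cd_t cd_one (by decide +kernel),
    eq_of_beq (cd_mul' cd_z cd_z) cd_one (by decide +kernel),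
    eq_of_beq (cd_mul' cd_t cd_t) cd_one (by decide +kernel), ne_of_beq cd_t cd_z (by decide +kernel),
    eq_of_beq (cd_mul' cd_z cd_t) (cd_mul' cd_t cd_z) (by decide +kernel)⟩

theorem comm_z {x : Aff} (hx : x ∈ T) : x * tr 1 = tr 1 * x := by
  rw [mul_tr x (by decide), show act x.s 1 = 1 from T0_one hx]

/-- the checks on all elements of `J` -/
noncomputable def qJ (c : ℕ) : Bool := frc (mulA c c) fun s => frc (kV c) fun n =>
  andB (iteB (tb 0xeee1eee1eee1111eeee1eee1eee1111eeee1eee1eee1111e111e111e111eeee1 (Nat.land n 255)) (Nat.beq s oneA) (Nat.beq s (nat_lit 2216338399297)))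
    (andB (orB (notB (Nat.beq (Nat.land n 255) 0)) (orB (Nat.beq c oneA) (orB (Nat.beq c (nat_lit 2216338399297))
      (orB (Nat.beq c (nat_lit 2216355176512)) (Nat.beq c (nat_lit 2216355176513))))))
      (iteB (eB c) (Nat.beq (Nat.land (Nat.xor n (Nat.shiftRight n 2)) 51) 0)
        (notB (Nat.beq (Nat.land (Nat.xor n (Nat.shiftRight n 2)) 51) 0))))

theorem chkJ {x : Aff} (hx : x ∈ J) : (hm (kap x) (kap x) = 0 → x * x = 1) ∧
    (hm (kap x) (kap x) ≠ 0 → x * x = tr 1) ∧ (kap x = 0 → x ∈ V4 (tr 1) et) ∧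
    (x ∈ E ↔ kap x ∈ l0) := by
  have := pcJ.all' (Q := qJ) (by decide +kernel) hx
  obtain ⟨t1, t2, t3, -⟩ := tabs _ (kV_lt (cd x))
  simp only [qJ, frc_eq, andB_iff, orB_iff, notB_iff, iteB_eq, ← cd_mul] at this
  obtain ⟨h1, h2, h3⟩ := this
  refine ⟨fun h => ?_, fun h => ?_, fun h => four.mem_closure.2 ?_, ?_⟩
  · rw [if_pos (t2.1 h)] at h1; exact eq_of_beq rfl cd_one h1
  · rw [if_neg fun c => h (t2.2 c)] at h1; exact eq_of_beq rfl cd_z h1
  · exact (h2.resolve_left (by rw [t1.1 h]; decide)).imp (eq_of_beq rfl cd_one)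
      (Or.imp (eq_of_beq rfl cd_z) (Or.imp (eq_of_beq rfl cd_t)
        (eq_of_beq rfl ((cd_mul' cd_z cd_t).trans (by decide +kernel)))))
  · rw [mem_E, kap, t3]
    split_ifs at h3 with c
    · exact iff_of_true c h3
    · exact iff_of_false c (by rw [notB_iff.1 h3]; decide)

theorem sqJ {x : Aff} (hx : x ∈ J) : x * x = 1 ∨ x * x = tr 1 :=
  (em _).imp (chkJ hx).1 (chkJ hx).2.1

theorem sq_iff {x : Aff} (hx : x ∈ J) : x * x = 1 ↔ hm (kap x) (kap x) = 0 :=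
  ⟨fun h => by_contra fun c => four.z1 (((chkJ hx).2.1 c).symm.trans h), (chkJ hx).1⟩

theorem kap_mul {x y : Aff} (hx : x ∈ J) (hy : y ∈ J) : kap (x * y) = kap x + kap y := by
  rw [kap, kV_mul hx hy, dV_xor]; rfl

theorem comm_aux {G : Type*} [Group G] {x y z : G} (zz : z * z = 1) (cy : y * z = z * y)
    (ha : x * x = 1 ∨ x * x = z) (hb : y * y = 1 ∨ y * y = z)
    (hc : x * y * (x * y) = 1 ∨ x * y * (x * y) = z) :
    x * y = y * x * (x * y * (x * y) * (x * x * (y * y))) := by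
  have k : ∀ {a : G}, a = 1 ∨ a = z → a * y⁻¹ = y⁻¹ * a := by
    rintro _ (rfl | rfl)
    exacts [by simp, (Commute.inv_left cy).eq.symm]
  have e : y * x = x⁻¹ * (x * y * (x * y) * y⁻¹) := by group
  have cc : x * y * (x * y) * (x * y * (x * y)) = 1 := by rcases hc with h | h <;> simp [h, zz]
  calc x * y = x⁻¹ * (x * x * (y * y * y⁻¹)) := by group
    _ = x⁻¹ * y⁻¹ * (x * y * (x * y) * (x * y * (x * y))) * (x * x * (y * y)) := by
      rw [k hb, ← mul_assoc (x * x), k ha, cc]; group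
    _ = _ := by rw [e, k hc]; group

theorem sq_cases {x : Aff} (hx : x ∈ J) : hm (kap x) (kap x) = 0 ∧ x * x = 1 ∨
    hm (kap x) (kap x) = 1 ∧ x * x = tr 1 := by
  have k : ∀ a : K4, a = a ^ 2 → a ≠ 0 → a = 1 := by decide +kernel
  exact (em _).imp (fun h => ⟨h, (chkJ hx).1 h⟩) fun h => ⟨k _ (hm_conj _ _) h, (chkJ hx).2.1 h⟩

theorem comm_cases {x y : Aff} (hx : x ∈ J) (hy : y ∈ J) :
    hm (kap x) (kap y) + hm (kap y) (kap x) = 0 ∧ x * y = y * x ∨
      hm (kap x) (kap y) + hm (kap y) (kap x) ≠ 0 ∧ x * y = y * x * tr 1 := by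
  have e := comm_aux four.zz (comm_z (J_le_T hy)) (sqJ hx) (sqJ hy) (sqJ (J.mul_mem hx hy))
  have s := hm_self_add (kap x) (kap y)
  rw [← kap_mul hx hy] at s
  generalize hm (kap x) (kap y) + hm (kap y) (kap x) = c at s
  have k : ∀ c : K4, ((0 : K4) = 0 + 0 + c ∨ (0 : K4) = 1 + 1 + c ∨ (1 : K4) = 0 + 1 + c ∨
    (1 : K4) = 1 + 0 + c → c = 0) ∧ ((1 : K4) = 0 + 0 + c ∨ (1 : K4) = 1 + 1 + c ∨
      (0 : K4) = 0 + 1 + c ∨ (0 : K4) = 1 + 0 + c → c ≠ 0) := by decide +kernel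
  rcases sq_cases hx with ⟨a1, a2⟩ | ⟨a1, a2⟩ <;> rcases sq_cases hy with ⟨b1, b2⟩ | ⟨b1, b2⟩ <;>
    rcases sq_cases (J.mul_mem hx hy) with ⟨c1, c2⟩ | ⟨c1, c2⟩ <;> rw [a1, b1, c1] at s <;>
    rw [a2, b2, c2] at e <;> simp only [four.zz, one_mul, mul_one] at e
  exacts [Or.inl ⟨(k c).1 (.inl s), e⟩, Or.inr ⟨(k c).2 (.inl s), e⟩,
    Or.inr ⟨(k c).2 (.inr (.inr (.inl s))), e⟩, Or.inl ⟨(k c).1 (.inr (.inr (.inl s))), e⟩,
    Or.inr ⟨(k c).2 (.inr (.inr (.inr s))), e⟩, Or.inl ⟨(k c).1 (.inr (.inr (.inr s))), e⟩,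
    Or.inl ⟨(k c).1 (.inr (.inl s)), e⟩, Or.inr ⟨(k c).2 (.inr (.inl s)), e⟩]

theorem jl : JL D0 where
  toFour := four
  zJ := (tr_mem_J (by decide)).2 rfl
  tJ := mem_J.2 (cd_t ▸ by decide +kernel)
  ct _ hx := pcJ.comm (fun k hk => eq_of_beq (cd_mul' (cd_jγ k hk) cd_t) (cd_mul' cd_t (cd_jγ k hk))
    (by revert k; decide +kernel)) hx
  cmm _ hx _ hy := (comm_cases hx hy).imp And.right And.right
  sq _ hx := sqJ hx
  cJ := card_J
  add := kap_mul
  zero hx := ⟨(chkJ hx).2.2.1, fun h => by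
    rcases four.mem_closure.1 h with rfl | rfl | rfl | rfl
    · exact (congrArg dV kV_one).trans (by decide +kernel)
    · exact (congrArg (fun c => dV (kV c)) cd_z).trans (by decide +kernel)
    · exact (congrArg (fun c => dV (kV c)) cd_t).trans (by decide +kernel)
    · exact (congrArg (fun c => dV (kV c)) (cd_mul' cd_z cd_t)).trans (by decide +kernel)⟩
  onto := kap_onto
  sq_iff := sq_iff
  comm_iff hx hy := (comm_cases hx hy).elim (fun h => iff_of_true h.2 h.1) fun h =>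
    iff_of_false (fun e => four.z1 (mul_eq_left.1 (h.2.symm.trans e))) h.1

end Cfsg.Agent.H74.Aff
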