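import Cfsg.Agent.H74.AffC

/-! The involutions of `T`. -/

set_option autoImplicit false

namespace Cfsg.Agent.H74.Aff

open Cfsg Subgroup Matrix H42 H46 H68.F6 H28
open H84.U6 hiding sg gen tab Hyp
open H55.Sp6 (dec bf mv g)
open H2.L3E hiding pack

theorem nc (n : Aff) {x y : Aff} (e : n * x * n⁻¹ = y) : D0.NC x y := ⟨n, mem_N n, e⟩

theorem cd_f1u : cd (ef1 * eu) = nat_lit 2492323602496 := (cd_mul' cd_f1 cd_u).trans (by decide +kernel)
theorem cd_tz : cd (et * tr 1) = nat_lit 2216355176513 := (cd_mul' cd_t cd_z).trans (by decide +kernel)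

/-- the targets -/
noncomputable def okY (c : ℕ) : Bool := frc c fun c => orB (Nat.beq c oneA)
  (orB (Nat.beq c (nat_lit 2216355176512)) (orB (Nat.beq c (nat_lit 2492323602496))
    (andB (eB c) (andB (jB c) (notB (Nat.beq c (nat_lit 2216355176513)))))))

theorem cl_of {n x : Aff} (h : okY (cd (n * x * n⁻¹)) = true) :
    x = 1 ∨ D0.ToI x ∨ D0.NC x (ef1 * eu) ∨ D0.NC x et := by
  simp only [okY, frc_eq, orB_iff, andB_iff, notB_iff] at h
  by_cases h1 : n * x * n⁻¹ = 1
  · exact Or.inl (conj_eq_one_iff.1 h1)
  by_cases h2 : n * x * n⁻¹ = et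
  · exact Or.inr (Or.inr (Or.inr (nc n h2)))
  rcases h with h | h | h | h
  · exact absurd (eq_of_beq rfl cd_one h) h1
  · exact absurd (eq_of_beq rfl cd_t h) h2
  · exact Or.inr (Or.inr (Or.inl (nc n (eq_of_beq rfl cd_f1u h))))
  · exact Or.inr (Or.inl ⟨_, mem_E.2 h.1, mem_J.2 h.2.1, h1, h2, ne_of_beq rfl cd_tz h.2.2, nc n rfl⟩)

/-- representatives of the linear parts -/
def repC : ℕ → ℕ := fld 42 0x2444a1020408112c408102044a102040810244081020408102040

/-- first certificates -/
def c1 (c : ℕ) : ℕ := Nat.shiftLeft (fld 24 0x3be0800000000000000038800000000000000000000000002691200000000000055028800000000000000000000000003ae480000000000000008e00000000000000000000000000269100000000000008a051000000000000000000000000003ff08000000000000ef83080000000000000000000000000228120000000000000008a000000000000000000000000003ef480000000000005102880000000000000000000000000228100000000000000007d80000000000000000000000000000000000000000000003080000000000000000000000000000000000000000000007180000000000000000000000000000000000000000008603080000000000000000000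00000000000000000000000000f78000000000000000000000000000000000000000000000718000000000000000000000000000000000000000000000308000000000000000000000000000000000000000000c70308000000000000000000000000000000000000000000000b680000000000000000000000000000000000000000008e03080000000000000000000000000000000000000000000007d8000000000000000000000000000000000000000000000388000000000000000000000000000000000000000000aa8510000000000000000000000000000000000000000000000fb80000000000000000000000000000000000000000008a03080000000000000000000000000000000000000000008e0718000000000000000000000000000000000000000000000be8000000000000000000000000000000000000021810000860000000000000000000000000000000000000000014000510000000000000000000000000000000000000021812000308000000000000000000000000000000000000000016df0288000000000000000000000000000000000000021814860510000000000000000000000000000000000000000010000000000000000000000000000000000000000000021816db0288000000000000000000000000000000000000000012000b68000000e5c288000000000000000000000000000000f7828800000003fe580000000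00000000000000000000000db0718000000f1828800000000000000000000000000000071828800000003fe5c000000000000000000000000000000000fb800000000000000000002ea4c000000000000000000000be8000000000000000000fb54080000000000000000007d830800000000000000000002ea48000000000000000000be8308000000000000000000ef440c000000000000000000ef851000000003ce58000000000000000000000000000000b68718000000000f1800000000000000000000000000000000071800000003ce5c000000000000000000000000000000000f78000000000e5c000000000000000000000000000000000f7800000000000000000002ca48000000000000000000b68308000000000000000000000b0800000000000000000000030800000000000000000002ca4c000000000000000000000b68000000000000000000000a4c000000000000000000000b68000000000000000000000000000000035c94000000000df0000000000000000000000000000000034c90000000db0510000000000000000000000000000000035c90000000be8510000000000000000000000000000000034c94000000000db0000000f5c28800000002fa0c000000037c1400000000028800000003ee18000000eb1408000000036c100000000006d8000000e1828800000002fa08000000037c1000000000028800000003ee1c000000ff040c000000036c140000000006d8000000000000000000000000000034000d10000014000510000000000000000000000000000034000d10000014000510000000000000000000000000000036000c94000016000db0000000000000000000000000000036000c94000016000db000000003de1800000002da08000030000c10000010000000000000000e18000000000a08000030000c1000001000000000000003de1c00000002da0c000032000d94000012000000000000000f5c000000000b4c000032000d94000012000000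
  (((c >>> 12) &&& 1) + (((c >>> 18) &&& 3) <<< 1) + (((c >>> 24) &&& 7) <<< 3) +
    (((c >>> 30) &&& 6) <<< 5) + (((c >>> 36) &&& 4) <<< 6))) 6

/-- second certificates -/
def c2 : ℕ → ℕ := fld 12 0x38028030020018008010000000000000000000000000000000000000000000000000000000000000000000000000000800800800800900900900900000000000000000000000000000000000000000000000000000000000000000000000000000000000000000000000000000000000000000000000000000000000000000000000000000000000000000000000000800800800800900900900900000000000000000000000000000000000000000000000000000000000000000000000000000000000000000000000000000000000000000000000000c80c80c00c00c00c00c80c80000000000000000000000000800800800800900900900900000000000000000000000000400400480480400400480480000000000000000000000000000000000000000000008000e00e40e40e00e40e00e00e40c80c80c00c00c00c00c80c80a40a00a40a00a00a40a00a40800800800800900900900900640600600640640600600640400400480480400400480480200240200240200240200240000000000000000000000000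

/-- first check -/
noncomputable def q1 (c : ℕ) : Bool := frc c fun c => orB (notB (Nat.beq (mulA c c) oneA))
  (frc (elC (c1 c)) fun m => frc (cjA m (invA m) c) fun y => anyB (fun i => Nat.beq y (repC i)) 5)

/-- second check -/
noncomputable def q2 (i v : ℕ) : Bool := frc (Nat.add v (repC i)) fun c =>
  orB (notB (Nat.beq (mulA c c) oneA))
    (frc (elC (c2 (Nat.add (Nat.mul 64 i) v))) fun m => okY (cjA m (invA m) c))

theorem beq_sq {x : Aff} (h : x * x = 1) : ¬ Nat.beq (mulA (cd x) (cd x)) oneA = false := by
  rw [← cd_mul, h, cd_one]; decide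

theorem cls' {x : Aff} (hx : x ∈ T) (h : x * x = 1) :
    x = 1 ∨ D0.ToI x ∨ D0.NC x (ef1 * eu) ∨ D0.NC x et := by
  obtain ⟨f, e, hf⟩ := elimT (Q := fun f => q1 (pk 0 f)) (by decide +kernel) hx
  have e0 : pk 0 f = cd ⟨0, x.s⟩ := by rw [pk_congr e, cd]; exact congrArg (pk · _) enc_one.symm
  simp only [e0, q1, frc_eq, orB_iff, notB_iff, anyB_iff, beq_iff, ← cd_el, ← cd_conj] at hf
  obtain ⟨i, hi, e1⟩ := hf.resolve_left (beq_sq (Aff.ext (by simp [Aff.mul_v]) (congrArg Aff.s h :)))
  generalize el _ = n at e1
  have e2 : Nat.add (enc (n * x * n⁻¹).v) (repC i) = cd (n * x * n⁻¹) := by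
    have k : ∀ i < 5, lane 6 (repC i) 0 = 0 := by decide +kernel
    have := k i hi
    rw [← e1, l0_cd] at this
    rw [← e1, cd, cd, this, pk_add (H2.L3E.enc _)]; rfl
  have := of_allB (of_allB (p := fun i => allB (q2 i) 64) (n := 5) (by decide +kernel) hi)
    (enc_lt (n * x * n⁻¹).v)
  simp only [e2, q2, frc_eq, orB_iff, notB_iff, ← cd_el, ← cd_conj] at this
  have := this.resolve_left (beq_sq (by rw [conj_mul, h, mul_one, mul_inv_cancel]))
  generalize el _ = m at this
  exact cl_of (n := m * n) (by convert this using 3; group)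

theorem hyp_cd (x : Aff) : Hyp x.s ↔ hypB (apC (cd x)) = true := hyp_iff fun _ => apC_cd x

theorem hyp_nc {x y : Aff} (h : D0.NC x y) : Hyp x.s ↔ Hyp y.s := by
  obtain ⟨n, -, rfl⟩ := h
  refine ⟨fun h => h.conj n.s, fun h => ?_⟩
  have := h.conj n.s⁻¹
  rwa [show n.s⁻¹ * (n * x * n⁻¹).s * n.s⁻¹⁻¹ = x.s by simp [mul_assoc]] at this

theorem not_hyp : ¬ Hyp (ef1 * eu).s := by rw [hyp_cd, cd_f1u]; decide +kernel

theorem t_mem : et ∈ J := jl.tJ

theorem nc_iff {x : Aff} (hx : x ∈ T) (h : x * x = 1) : D0.NC x (ef1 * eu) ↔ ¬ Hyp x.s := by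
  refine ⟨fun c => (hyp_nc c).not.2 not_hyp, fun n => ?_⟩
  rcases cls' hx h with rfl | ⟨y, -, hy, -, -, -, c⟩ | c | c
  · exact absurd (V0_facts V0.one_mem).2.1 n
  · exact absurd ((hyp_nc c).2 (V0_facts hy.1).2.1) n
  · exact c
  · exact absurd ((hyp_nc c).2 (V0_facts t_mem.1).2.1) n

theorem tt_code {x : Aff} (h : D0.NC x et) :
    ∃ w < 64, w ≠ 0 ∧ (cd x = wC 0 [w] ∨ cd x = wC w [w]) := by
  obtain ⟨n, -, e⟩ := h
  have e1 : x * n⁻¹ = n⁻¹ * et := by rw [← e]; group
  generalize n⁻¹ = m at e1
  have lt := act_lt m.s 1
  have e2 : x.s = g (act m.s 1) := by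
    rw [← conj_g, eq_mul_inv_iff_mul_eq]
    exact (congrArg Aff.s e1).trans (congrArg (m.s * ·) (mul_one _))
  have e3 := congrArg (fun x : Aff => enc x.v) e1
  simp only [enc_mul] at e3
  rw [show enc et.v = 0 from enc_dec 0 (by decide), act_zero, Nat.xor_zero, e2,
    act_g lt (enc_lt _)] at e3
  have e4 : ∀ v, enc x.v = v → cd x = wC v [act m.s 1] := fun v hv => by
    rw [cd, hv, e2]; exact pk_congr fun u hu => act_g lt hu
  refine ⟨_, lt, act_ne_zero _ (by decide) (by decide), Or.symm (Or.imp (e4 _) (e4 _) ?_)⟩
  have e5 : enc x.v = enc m.v ^^^ mv (act m.s 1) (enc m.v) := by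
    nth_rewrite 1 [← e3]; rw [Nat.xor_xor_cancel_right]
  rw [e5, mv]
  split_ifs
  exacts [Or.inl (Nat.xor_xor_cancel_left _ _), Or.inr (Nat.xor_self _)]

/-- the test for the classes meeting `E ⊓ J` -/
noncomputable def toIB (c : ℕ) : Bool := frc c fun c => andB (tB c)
  (andB (Nat.beq (mulA c c) oneA) (andB (notB (Nat.beq c oneA)) (andB (hypB (apC c))
    (allB (fun w => andB (notB (Nat.beq c (wC 0 [w]))) (notB (Nat.beq c (wC w [w])))) 64))))

theorem toI_of {x : Aff} {c : ℕ} (e : cd x = c) (h : toIB c = true) : D0.ToI x := by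
  subst e
  simp only [toIB, frc_eq, andB_iff, notB_iff, allB_iff, ← cd_mul, ← mem_T, ← hyp_cd] at h
  obtain ⟨h1, h2, h3, h4, h5⟩ := h
  rcases cls' h1 (eq_of_beq rfl cd_one h2) with c | c | c | c
  · exact absurd c (ne_of_beq rfl cd_one h3)
  · exact c
  · exact absurd ((hyp_nc c).1 h4) not_hyp
  · obtain ⟨w, hw, -, c⟩ := tt_code c
    exact (c.elim (beq_false_iff.1 (h5 w hw).1) (beq_false_iff.1 (h5 w hw).2)).elim

/-- the conjugates of `t` in `T` outside `J` -/
def bl : ℕ → ℕ := fld 42 0x9d73c40811e75cf1020409962040811a658810204095034408116540d1020409102040811244081020408132c40810e04cb1020408122040810a0488102040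

theorem isTv_rG : ∀ k < 3, IsTv (rG (k + 1)) := fun k hk => by
  interval_cases k
  · exact isTv_t0
  · exact ⟨rfl, v1, by decide +kernel, by decide +kernel, forall_V (by decide +kernel)⟩
  · exact ⟨rfl, v0 + v1, by decide +kernel, by decide +kernel, forall_V (by decide +kernel)⟩

theorem bl_T {i : ℕ} (hi : i < 12) {x : Aff} (e : cd x = bl i) : x ∈ T :=
  mem_T.2 (by rw [e]; clear e; revert i; decide +kernel)

theorem rel_bl {i : ℕ} (hi : i < 12) {x : Aff} (e : cd x = bl i) : Rel x (rG (i / 4 + 1)) :=
  rel_of (bl_T hi e) e (by clear e; revert i; decide +kernel)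

theorem blk {i : ℕ} (hi : i < 12) {x : Aff} (e : cd x = bl i) : D0.Blk x := by
  have h1 := rel_bl hi e
  refine ⟨show IsTv (r x) from h1.eq ▸ isTv_rG _ (by omega), fun j hj c => ?_, nc (el (fld 24 0x83880083800187c80187c0008308008300028b48028b400082880082800186c80186c0 i))
    (eq_of_beq ((cd_conj _ _).trans (by rw [cd_el, e])) cd_t (by clear e h1; revert i; decide +kernel)),
    toI_of (cd_mul' e cd_z) (by clear e h1; revert i; decide +kernel),
    toI_of (cd_mul' e cd_t) (by clear e h1; revert i; decide +kernel),
    toI_of (cd_mul' e cd_tz) (by clear e h1; revert i; decide +kernel)⟩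
  have k : ∀ i < 12, invA (bl i) = bl i := by decide +kernel
  have h2 := kap_eq (((rel_T (bl_T hi e)).1 j hj).trans c)
  rw [cd_conj, e, k i hi] at h2
  have := of_allB (pcJ.all' (Q := fun c => allB (fun i => orB (notB (Nat.beq (Nat.land (Nat.xor
    (kV (cjA (bl i) (bl i) c)) (kV c)) 255) 0)) (Nat.beq (mulA (bl i) c) (mulA c (bl i)))) 12)
    (by decide +kernel) hj) hi
  rw [h2] at this
  exact eq_of_beq (cd_mul' e rfl) (cd_mul' rfl e) this

theorem inv' {x : Aff} (hx : x ∈ T) (h : x * x = 1) : x = 1 ∨ x = et ∨ x = et * tr 1 ∨ D0.ToI x ∨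
    D0.NC x (ef1 * eu) ∨ D0.Blk x := by
  rcases cls' hx h with c | c | c | c
  · exact Or.inl c
  · exact Or.inr (Or.inr (Or.inr (Or.inl c)))
  · exact Or.inr (Or.inr (Or.inr (Or.inr (Or.inl c))))
  obtain ⟨w, hw, w0, c⟩ := tt_code c
  have k : ∀ w < 64, w ≠ 0 → ∀ c ∈ [wC 0 [w], wC w [w]], tB c = true → c = nat_lit 2216355176512 ∨
    c = nat_lit 2216355176513 ∨ ∃ i < 12, c = bl i := by decide +kernel
  rcases k w hw w0 (cd x) (by simpa using c) (mem_T.1 hx) with e | e | ⟨i, hi, e⟩
  · exact Or.inr (Or.inl (cd_inj (e.trans cd_t.symm)))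
  · exact Or.inr (Or.inr (Or.inl (cd_inj (e.trans cd_tz.symm))))
  · exact Or.inr (Or.inr (Or.inr (Or.inr (Or.inr (blk hi e)))))

theorem b3' {i : Aff} (hi : i ∈ J) {c : K4} (e : kap i = v0 + c • v1) : D0.ToI (ef1 * i) := by
  have k : ∀ c : K4, v0 + c • v1 + v0 ∈ l0 ∧ (v0 + c • v1) 0 = 1 ∧ v0 + c • v1 ∈ l0 := by
    decide +kernel
  obtain ⟨-, -, h1, h2⟩ := tabs _ (kV_lt (cd i))
  have := pcJ.all' (Q := fun c => orB (notB (Nat.beq (Nat.land (kV c) 15) 5)) (orB (notB (Nat.beq
    (Nat.land (Nat.xor (kV c) (Nat.shiftRight (kV c) 2)) 51) 0))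
      (toIB (mulA (nat_lit 2491216306240) c)))) (by decide +kernel) hi
  rw [kap] at e
  rw [e] at h1 h2
  rw [h1.1 (k c).2.2, h2 (k c).1 (k c).2.1] at this
  exact toI_of (cd_mul' cd_f1 rfl) this

theorem W3' : {e | e ∈ E ∧ D0.NC e (ef1 * eu)}.ncard = 224 := by
  rw [ncard_eq_cnt _ (fun i => pcE eγ i 9) (fun i => frc (pcC eg i 9) fun c => notB (hypB (apC c)))
    (2 ^ 9) (fun i hi j hj _ _ => injE i hi j hj) fun x => ?_]
  · decide +kernel
  simp only [frc_eq, notB_iff, ← pcE'.cd_pc, ← Bool.not_eq_true, ← hyp_cd]
  refine ⟨fun ⟨h1, h2⟩ => ?_, ?_⟩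
  · obtain ⟨i, hi, rfl⟩ := pcE'.ex h1
    exact ⟨i, hi, (nc_iff (E_le_T h1) (sqE _ h1)).1 h2, rfl⟩
  · rintro ⟨i, -, h, rfl⟩
    exact ⟨pcE'.pc_mem i, (nc_iff (E_le_T (pcE'.pc_mem i)) (sqE _ (pcE'.pc_mem i))).2 h⟩

theorem W2' {e : Aff} (he : e ∈ E) (h : ∀ x ∈ A0, x ∉ E → e * x ≠ x * e) : D0.NC e (ef1 * eu) := by
  refine (nc_iff (E_le_T he) (sqE _ he)).2 fun ⟨x, hx, y, hy, e1, e2, b⟩ => ?_
  have k : ∀ u < 64, act e.s u = u → u < 8 := fun u hu c => not_le.1 fun l =>
    h (tr u) rfl (fun m => absurd ((tr_mem_E hu).1 m) (by omega)) (by rw [mul_tr e hu, c])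
  have := (bits4 y hy).2 (k y hy e2) x (k x hx e1)
  omega

end Cfsg.Agent.H74.Aff
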