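import Mathlib
import Cfsg.Agent.H74.CksDefs
import Cfsg.Agent.H75.LieAut
import Cfsg.Agent.S0255

/-!
# Doubly transitive actions of the simple groups of Lie type: the family split
-/

set_option autoImplicit false
set_option linter.style.haveILetI false
set_option linter.unusedSectionVars false

namespace Cfsg.Agent.H74.Cks

open Cfsg.Agent.H35 Cfsg.Agent.Lead.T3

universe u

/-- The pieces used by the final assembly. -/
structure Pieces : Prop where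
  r1 : R1Stmt
  r2 : R2Stmt
  ra : RaStmt
  r3 : R3Stmt
  mda : MdaStmt
  mdc : MdcStmt
  mdo : MdoStmt
  mdu : MduStmt
  mdv : MdvStmt
  mde : MdeStmt
  mdt : MdtStmt
  mdr : MdrStmt
  mdf : MdfStmt
  fl2 : Fl2Stmt
  fu3 : Fu3Stmt
  fsz : FszStmt
  fre1 : Fre1Stmt
  fre2 : Fre2Stmt
  fs4 : Fs4Stmt
  fu4 : Fu4Stmt
  fu5 : Fu5Stmt
  g2v : G2vStmt
  d4v : D4vStmt
  f4v : F4vStmt
  xn : XnStmt
  fln : FlnStmt
  fen : FenStmt
  fon : FonStmt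
  op3 : Op3Stmt
  ob3 : Ob3Stmt
  sp3 : Sp3Stmt
  sp2a : Sp2aStmt
  sp2b : Sp2bStmt
  f42a : F42aStmt
  f42b : F42bStmt
  f42n : F42nStmt

/-- The theorem for one group. -/
def Fine (Γ : Type) [Group Γ] : Prop := ∀ H : Subgroup Γ, Two H → Conc Γ H.index

theorem Conc.of_equiv {G : Type u} {Γ : Type} [Group G] [Group Γ] (e : G ≃* Γ) {N : ℕ}
    (h : Conc Γ N) : Conc G N := by
  rcases h with ⟨F, i1, i2, l, h1, ⟨f⟩, h2⟩ | ⟨F, i1, i2, h1, ⟨f⟩, h2⟩ |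
    ⟨F, i1, i2, q, h1, h3, ⟨f⟩, h2⟩ | ⟨F, i1, i2, q, h1, h3, ⟨f⟩, h2⟩ |
    ⟨F, i1, i2, q, h1, h3, ⟨f⟩, h2⟩ | ⟨F, i1, i2, h1, ⟨f⟩, h2⟩ | ⟨F, i1, i2, h1, ⟨f⟩, h2⟩ |
    ⟨F, i1, i2, h1, ⟨f⟩, h2⟩ | ⟨F, i1, i2, n, h1, h3, ⟨f⟩, h2⟩
  · exact Or.inl ⟨F, i1, i2, l, h1, ⟨e.trans f⟩, h2⟩
  · exact Or.inr (Or.inl ⟨F, i1, i2, h1, ⟨e.trans f⟩, h2⟩)
  · exact Or.inr (Or.inr (Or.inl ⟨F, i1, i2, q, h1, h3, ⟨e.trans f⟩, h2⟩))
  · exact Or.inr (Or.inr (Or.inr (Or.inl ⟨F, i1, i2, q, h1, h3, ⟨e.trans f⟩, h2⟩)))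
  · exact Or.inr (Or.inr (Or.inr (Or.inr (Or.inl ⟨F, i1, i2, q, h1, h3, ⟨e.trans f⟩, h2⟩))))
  · exact Or.inr (Or.inr (Or.inr (Or.inr (Or.inr (Or.inl ⟨F, i1, i2, h1, ⟨e.trans f⟩, h2⟩)))))
  · exact Or.inr (Or.inr (Or.inr (Or.inr (Or.inr (Or.inr (Or.inl
      ⟨F, i1, i2, h1, ⟨e.trans f⟩, h2⟩))))))
  · exact Or.inr (Or.inr (Or.inr (Or.inr (Or.inr (Or.inr (Or.inr (Or.inl
      ⟨F, i1, i2, h1, ⟨e.trans f⟩, h2⟩)))))))
  · exact Or.inr (Or.inr (Or.inr (Or.inr (Or.inr (Or.inr (Or.inr (Or.inr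
      ⟨F, i1, i2, n, h1, h3, ⟨e.trans f⟩, h2⟩)))))))

theorem two_stabilizer {Γ : Type} {Ω : Type*} [Group Γ] [Finite Γ] [MulAction Γ Ω] [Fintype Ω]
    [Nontrivial Ω] (h2 : MulAction.IsMultiplyPretransitive Γ Ω 2) (a : Ω) :
    Two (MulAction.stabilizer Γ a) ∧ (MulAction.stabilizer Γ a).index = Fintype.card Ω := by
  classical
  have hprim : MulAction.IsPreprimitive Γ Ω := MulAction.isPreprimitive_of_is_two_pretransitive h2
  have htr : MulAction.IsPretransitive Γ Ω := hprim.toIsPretransitive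
  have hind : (MulAction.stabilizer Γ a).index = Fintype.card Ω := by
    rw [MulAction.index_stabilizer_of_transitive, Nat.card_eq_fintype_card]
  refine ⟨⟨MulAction.IsPreprimitive.isCoatom_stabilizer_of_isPreprimitive Γ a, ?_, ?_⟩, hind⟩
  · rw [MulAction.is_two_pretransitive_iff] at h2 ⊢
    intro x y z w hxy hzw
    have key : ∀ x y : Γ ⧸ MulAction.stabilizer Γ a, x ≠ y → x.out • a ≠ y.out • a := by
      intro x y h h'
      apply h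
      rw [← QuotientGroup.out_eq' x, ← QuotientGroup.out_eq' y, QuotientGroup.eq,
        MulAction.mem_stabilizer_iff, mul_smul, ← h', inv_smul_smul]
    obtain ⟨g, h1, h3⟩ := h2 (key x y hxy) (key z w hzw)
    have fin : ∀ x z : Γ ⧸ MulAction.stabilizer Γ a, g • x.out • a = z.out • a → g • x = z := by
      intro x z h
      rw [← QuotientGroup.out_eq' x, ← QuotientGroup.out_eq' z, MulAction.Quotient.smul_mk,
        QuotientGroup.eq, MulAction.mem_stabilizer_iff, smul_eq_mul, mul_smul, ← h, ← mul_smul g,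
        inv_smul_smul]
    exact ⟨g, fin x z h1, fin y w h3⟩
  · rw [hind]
    obtain ⟨b, hb⟩ := exists_ne a
    let f : Fin 2 ↪ Ω := ⟨![a, b], by
      intro i j h
      fin_cases i <;> fin_cases j <;> simp_all [eq_comm]⟩
    have ht : MulAction.IsPretransitive Γ (Fin 2 ↪ Ω) := h2
    have h1 := MulAction.index_stabilizer_of_transitive Γ f
    have h3 : Nat.card (Fin 2 ↪ Ω) = Fintype.card Ω * (Fintype.card Ω - 1) := by
      rw [Nat.card_eq_fintype_card, Fintype.card_embedding_eq, Fintype.card_fin]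
      simp [Nat.descFactorial, mul_comm]
    rw [← h3, ← h1]
    exact Subgroup.index_dvd_card _

theorem transfer {G Ω : Type*} {Γ : Type} [Group G] [Finite G] [MulAction G Ω] [FaithfulSMul G Ω]
    [Fintype Ω] [Nontrivial G] [Group Γ] (e : G ≃* Γ) (h2 : MulAction.IsMultiplyPretransitive G Ω 2)
    (h : Fine Γ) : Conc G (Fintype.card Ω) := by
  haveI : Finite Γ := Finite.of_equiv G e.toEquiv
  have hΩ : Nontrivial Ω := by
    by_contra hn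
    rw [not_nontrivial_iff_subsingleton] at hn
    obtain ⟨x, y, hxy⟩ := exists_pair_ne G
    exact hxy (eq_of_smul_eq_smul (α := Ω) fun a => Subsingleton.elim _ _)
  letI : MulAction Γ Ω := MulAction.compHom Ω e.symm.toMonoidHom
  have h2' : MulAction.IsMultiplyPretransitive Γ Ω 2 := by
    rw [MulAction.is_two_pretransitive_iff] at h2 ⊢
    intro x y z w hxy hzw
    obtain ⟨g, h1, h3⟩ := h2 hxy hzw
    refine ⟨e g, ?_, ?_⟩
    · change e.symm (e g) • x = z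
      rwa [e.symm_apply_apply]
    · change e.symm (e g) • y = w
      rwa [e.symm_apply_apply]
  obtain ⟨a⟩ : Nonempty Ω := inferInstance
  obtain ⟨h1, h3⟩ := two_stabilizer h2' a
  have := h _ h1
  rw [h3] at this
  exact this.of_equiv e

theorem char_eq {F : Type} [Field F] [Fintype F] {p r : ℕ} [CharP F p] (hr : r.Prime)
    (h : Fintype.card F = r) : p = r := by
  obtain ⟨n, hp, hn⟩ := FiniteField.card F p
  have : p ∣ r := by rw [← h, hn]; exact dvd_pow_self p n.ne_zero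
  exact (Nat.prime_dvd_prime_iff_eq hp hr).1 this

theorem tm_four {n : ℕ} {par : ℕ → ℕ} {sp : ℕ} {a b : Fin n} (h : tm n par sp a b = 4) :
    a ≠ b ∧ max a.1 b.1 = sp := by
  unfold tm at h
  split_ifs at h with h1 h2 h3 <;> omega

theorem deg_data {Γ : Type} [Group Γ] {p n : ℕ} {S : Sys Γ p n} {par : ℕ → ℕ} {sp : ℕ}
    {q : Fin n → ℕ} (hm : ∀ a b, S.m a b = tm n par sp a b) (hq : ∀ a, S.q a = q a) (h : S.Deg) :
    ∃ j k : Fin n, j ≠ k ∧ max j.1 k.1 = sp ∧ q j = 2 ∧ q k = 2 := by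
  obtain ⟨j, k, h1, h2, h3⟩ := h
  rw [hm] at h1
  exact ⟨j, k, (tm_four h1).1, (tm_four h1).2, hq j ▸ h2, hq k ▸ h3⟩

theorem sq_ne_two (r : ℕ) : r ^ 2 ≠ 2 := by
  intro h
  rcases Nat.lt_or_ge r 2 with h1 | h1
  · interval_cases r <;> omega
  · nlinarith

theorem sq_ne_three (r : ℕ) : r ^ 2 ≠ 3 := by
  intro h
  rcases Nat.lt_or_ge r 2 with h1 | h1
  · interval_cases r <;> omega
  · nlinarith

/-- The output of the reduction in rank at least three. -/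
theorem red3 (A : Pieces) {Γ : Type} [Group Γ] [Finite Γ] {p : ℕ} [Fact p.Prime]
    (hL : IsLieTypeChar p Γ) {n : ℕ} {par : ℕ → ℕ} {sp : ℕ} {q : Fin n → ℕ} (ht : Typ n par sp)
    (hs : Has Γ p n (tm n par sp) q) (H : Subgroup Γ) (h : Two H) :
    (par = parA ∧ sp = 0 ∧ ∀ r, (∀ a, q a = r) → H.index * (r - 1) = r ^ (n + 1) - 1) ∨
    (p ∣ H.index ∧ ((∀ j k : Fin n, j ≠ k → max j.1 k.1 = sp → q j = 2 → q k = 2 → False) →
      FT p H ∧ (∃ c, H.index = p ^ c) ∧ Out n par sp q H.index (pp p Γ))) := by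
  haveI := H75.isSimpleGroup_of_lie hL
  obtain ⟨S, hm, hq⟩ := hs
  have hq' : S.q = q := funext hq
  rcases A.r3 S hL par sp ht hm H h with ⟨h1, h2, h3⟩ | ⟨h1, h2⟩
  · exact Or.inl ⟨h1, h2, fun r hr => h3 r fun a => (hq a).trans (hr a)⟩
  · refine Or.inr ⟨h1, fun hd => ?_⟩
    rw [← hq']
    refine h2 fun hdeg => ?_
    obtain ⟨j, k, a1, a2, a3, a4⟩ := deg_data hm hq hdeg
    exact hd j k a1 a2 a3 a4

/-- The output of the reduction in rank two. -/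
theorem red2 (A : Pieces) {Γ : Type} [Group Γ] [Finite Γ] {p : ℕ} [Fact p.Prime]
    (hL : IsLieTypeChar p Γ) {m : ℕ} {g : Prop} (hm : m = 4 ∨ m = 6 ∨ m = 8) (hs : Has2 Γ p m g)
    (hg : g ∨ ∀ H : Subgroup Γ, Two H → p ∣ H.index → ∃ c, H.index = p ^ c)
    (hf : Fin2 Γ p (if m = 6 then 4 else 3)) : Fine Γ := by
  intro H h
  haveI := H75.isSimpleGroup_of_lie hL
  obtain ⟨S, h1, h2⟩ := hs
  obtain ⟨a1, a2, a3⟩ := A.r2 S hL (by rw [h1]; exact hm) H h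
    (hg.imp h2 fun h3 => h3 H h)
  rw [h1] at a2
  exact (hf H h a1 a2 a3).elim

/-- The output of the reduction in rank one. -/
theorem red1 (A : Pieces) {Γ : Type} [Group Γ] [Finite Γ] {p : ℕ} [Fact p.Prime]
    (hL : IsLieTypeChar p Γ) {q : ℕ} (hs : Has1 Γ p q) (hc : Conc Γ (q + 1)) (hf : Fin1 Γ p) :
    Fine Γ := by
  intro H h
  haveI := H75.isSimpleGroup_of_lie hL
  obtain ⟨S, h1⟩ := hs
  rcases A.r1 S hL H h with h2 | ⟨h2, h3⟩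
  · rw [h2, h1]; exact hc
  · exact hf H h h2 h3

theorem parA_ne_parD {n : ℕ} (h : 4 ≤ n) : parA ≠ parD n := by
  intro e
  have := congrFun e (n - 1)
  simp only [parA, parD, if_true] at this
  omega

theorem parE_ne_parA {n : ℕ} (h : 6 ≤ n) : parE n ≠ parA := by
  intro e
  have := congrFun e (n - 1)
  simp only [parA, parE, if_true] at this
  omega

theorem parE_ne_parD {n : ℕ} (h : 6 ≤ n) : parE n ≠ parD n := by
  intro e
  have := congrFun e (n - 1)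
  simp only [parD, parE, if_true] at this
  omega

theorem lieE {p : ℕ} {Γ : Type} [Group Γ] (h : IsExceptionalChevChar p Γ) : IsLieTypeChar p Γ :=
  Or.inr (Or.inr (Or.inr (Or.inr (Or.inr (Or.inr (Or.inl h))))))

theorem lieT {p : ℕ} {Γ : Type} [Group Γ] (h : IsTwistedE6D4Char p Γ) : IsLieTypeChar p Γ :=
  Or.inr (Or.inr (Or.inr (Or.inr (Or.inr (Or.inr (Or.inr (Or.inl h)))))))

section Families

variable (A : Pieces) {F : Type} [Field F] [Fintype F] {p : ℕ} [Fact p.Prime] [CharP F p]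
include A p

theorem fine_L2 [Finite (PL 2 F)] (h4 : 4 ≤ Fintype.card F) : Fine (PL 2 F) := by
  have hL : IsLieTypeChar p (PL 2 F) :=
    Or.inl ⟨F, _, ‹Fintype F›, ‹CharP F p›, 2, le_rfl, fun _ => h4, ⟨MulEquiv.refl _⟩⟩
  obtain ⟨S, -, hq⟩ := A.mda F p 1 le_rfl fun _ => h4
  exact red1 A hL ⟨S, hq 0⟩ (Or.inr (Or.inl ⟨F, _, ‹Fintype F›, h4, ⟨MulEquiv.refl _⟩, rfl⟩)) (A.fl2 F p h4)

theorem fine_L3 [Finite (PL 3 F)] : Fine (PL 3 F) := by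
  have hL : IsLieTypeChar p (PL 3 F) :=
    Or.inl ⟨F, _, ‹Fintype F›, ‹CharP F p›, 3, by omega, fun h => by omega, ⟨MulEquiv.refl _⟩⟩
  haveI := H75.isSimpleGroup_of_lie hL
  obtain ⟨S, hm, hq⟩ := A.mda F p 2 (by omega) fun h => by omega
  intro H h
  rcases A.ra (G := PL 3 F) S hL hm _ hq H h with h1 | ⟨h1, h2⟩
  · exact Or.inl ⟨F, _, ‹Fintype F›, 3, le_rfl, ⟨MulEquiv.refl _⟩, h1⟩
  · haveI : Fact (Nat.Prime 7) := ⟨by norm_num⟩
    obtain ⟨e⟩ := S0255.result (F := ZMod 7) (K := F) (ZMod.card 7) h1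
    exact Or.inr (Or.inl ⟨ZMod 7, _, _, by rw [ZMod.card]; omega, ⟨e.symm⟩, by rw [h2, ZMod.card]⟩)

theorem fine_Ln {n : ℕ} (hn : 3 ≤ n) [Finite (PL (n + 1) F)] : Fine (PL (n + 1) F) := by
  have hL : IsLieTypeChar p (PL (n + 1) F) :=
    Or.inl ⟨F, _, ‹Fintype F›, ‹CharP F p›, n + 1, by omega, fun h => by omega, ⟨MulEquiv.refl _⟩⟩
  intro H h
  rcases red3 A hL (Or.inl ⟨Or.inl ⟨hn, rfl⟩, rfl⟩) (A.mda F p n (by omega) fun h => by omega) H h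
    with ⟨-, -, h1⟩ | ⟨-, h1⟩
  · exact Or.inl ⟨F, _, ‹Fintype F›, n + 1, by omega, ⟨MulEquiv.refl _⟩, h1 _ fun _ => rfl⟩
  obtain ⟨-, hc, ho⟩ := h1 fun j k hjk hm _ _ => hjk (Fin.ext (by omega))
  have hf := A.fln F p n hn H h
  rcases ho with ⟨-, h2, h3⟩ | ⟨h2, -, r, hr, h3, h4⟩ | ⟨h2, h3, -⟩ | ⟨h2, -⟩ | ⟨-, h2, -⟩
  · exact (hf.1 (h2 ⟨0, by omega⟩) h3).elim
  · have hr' : Fintype.card F = r := h3 ⟨0, by omega⟩
    obtain ⟨a1, a2⟩ := hf.2 h2 (by omega) hc (by rw [hr']; exact h4)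
    subst h2
    exact Or.inr (Or.inr (Or.inr (Or.inr (Or.inr (Or.inr (Or.inr (Or.inl
      ⟨F, _, ‹Fintype F›, a1, ⟨MulEquiv.refl _⟩, a2⟩)))))))
  · exact (parA_ne_parD h2 h3).elim
  · omega
  · omega

theorem fine_L {n : ℕ} (hn : 2 ≤ n) (h4 : n = 2 → 4 ≤ Fintype.card F) [Finite (PL n F)] :
    Fine (PL n F) := by
  rcases Nat.lt_or_ge n 4 with h | h
  · obtain rfl | rfl : n = 2 ∨ n = 3 := by omega
    · exact fine_L2 (p := p) A (h4 rfl)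
    · exact fine_L3 (p := p) A
  · obtain ⟨k, rfl⟩ : ∃ k, n = k + 1 := ⟨n - 1, by omega⟩
    exact fine_Ln (p := p) A (by omega)

omit [CharP F p] in
/-- Type `C_n` with all parameters equal and different from two. -/
theorem fine_C {Γ : Type} [Group Γ] [Finite Γ] (hL : IsLieTypeChar p Γ) {n : ℕ} (hn : 3 ≤ n)
    (h2 : Fintype.card F ≠ 2) (hs : Has Γ p n (tm n parA (n - 1)) fun _ => Fintype.card F)
    (h3 : Fintype.card F = 3 → NoPow Γ p) : Fine Γ := by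
  intro H h
  rcases red3 A hL (Or.inr (Or.inl ⟨hn, rfl, rfl⟩)) hs H h with ⟨-, h1, -⟩ | ⟨-, h1⟩
  · omega
  obtain ⟨hft, hc, ho⟩ := h1 fun _ _ _ _ h5 _ => h2 h5
  rcases ho with ⟨h4, -⟩ | ⟨-, h4, -⟩ | ⟨-, -, h4, -⟩ | ⟨-, h4⟩ | ⟨rfl, -, r, hr, h4⟩
  · omega
  · omega
  · omega
  · exact (h3 (h4 ⟨0, by omega⟩) H h hft hc).elim
  · have a1 := h4 0
    have a2 := h4 3
    simp [qC] at a1 a2
    rcases hr with rfl | rfl <;> omega

theorem fine_S {n : ℕ} (hn : 2 ≤ n) (h3 : n = 2 → 3 ≤ Fintype.card F) [Finite (PSp n F)] :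
    Fine (PSp n F) := by
  have hL : IsLieTypeChar p (PSp n F) :=
    Or.inr (Or.inl ⟨F, _, ‹Fintype F›, ‹CharP F p›, n, hn, h3, ⟨MulEquiv.refl _⟩⟩)
  rcases Nat.lt_or_ge n 3 with h | h
  · obtain rfl : n = 2 := by omega
    exact red2 A hL (Or.inl rfl) ((A.mdc F p).2 (h3 rfl)) (Or.inl trivial) (A.fs4 F p (h3 rfl))
  by_cases h2 : Fintype.card F = 2
  · intro H hH
    exact Or.inr (Or.inr (Or.inr (Or.inr (Or.inr (Or.inr (Or.inr (Or.inr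
      ⟨F, _, ‹Fintype F›, n, h, h2, ⟨MulEquiv.refl _⟩, A.sp2a F h2 n h H hH (A.sp2b F h2 n h H hH)⟩)))))))
  · refine fine_C A hL h h2 ((A.mdc F p).1 n h) fun h4 => ?_
    obtain rfl : p = 3 := char_eq (F := F) Nat.prime_three h4
    exact A.sp3 F h4 n h

theorem fine_Oo {n : ℕ} (hn : 3 ≤ n) (ho : Odd (Fintype.card F))
    [Finite (POmega F (quadFormOdd n F))] : Fine (POmega F (quadFormOdd n F)) := by
  have hL : IsLieTypeChar p (POmega F (quadFormOdd n F)) :=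
    Or.inr (Or.inr (Or.inr (Or.inl ⟨F, _, ‹Fintype F›, ‹CharP F p›, n, hn, ho, ⟨MulEquiv.refl _⟩⟩)))
  refine fine_C A hL hn (fun h => by rw [h] at ho; exact absurd ho (by decide))
    ((A.mdo F p).1 n hn ho) fun h4 => ?_
  obtain rfl : p = 3 := char_eq (F := F) Nat.prime_three h4
  exact A.ob3 F h4 n hn

theorem fine_Op {n : ℕ} (hn : 4 ≤ n) [Finite (POmega F (quadFormPlus n F))] :
    Fine (POmega F (quadFormPlus n F)) := by
  have hL : IsLieTypeChar p (POmega F (quadFormPlus n F)) :=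
    Or.inr (Or.inr (Or.inr (Or.inr (Or.inl ⟨F, _, ‹Fintype F›, ‹CharP F p›, n, hn, ⟨MulEquiv.refl _⟩⟩))))
  intro H h
  rcases red3 A hL (Or.inl ⟨Or.inr (Or.inl ⟨hn, rfl⟩), rfl⟩) ((A.mdo F p).2.1 n hn) H h
    with ⟨h1, -⟩ | ⟨-, h1⟩
  · exact (parA_ne_parD hn h1.symm).elim
  obtain ⟨hft, hc, ho⟩ := h1 fun j k hjk hm _ _ => hjk (Fin.ext (by omega))
  rcases ho with ⟨-, h2, -⟩ | ⟨h2, -⟩ | ⟨-, -, -, r, hr, h3⟩ | ⟨h2, -⟩ | ⟨-, h2, -⟩
  · exact ((A.fon F p).1 (h2 ⟨0, by omega⟩) n hn H h hft hc).elim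
  · omega
  · have hr' : Fintype.card F = r := h3 ⟨0, by omega⟩
    rcases hr with rfl | rfl
    · exact ((A.fon F p).1 hr' n hn H h hft hc).elim
    · obtain rfl : p = 3 := char_eq (F := F) Nat.prime_three hr'
      exact (A.op3 F hr' n hn H h hft hc).elim
  · omega
  · omega

theorem fine_Om {n : ℕ} (hn : 3 ≤ n) {a b : F} (hab : Ani a b)
    [Finite (POmega F (quadFormMinus n F a b))] : Fine (POmega F (quadFormMinus n F a b)) := by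
  have hL : IsLieTypeChar p (POmega F (quadFormMinus n F a b)) :=
    Or.inr (Or.inr (Or.inr (Or.inr (Or.inr (Or.inl
      ⟨F, _, ‹Fintype F›, ‹CharP F p›, n + 1, a, b, by omega, hab, ⟨MulEquiv.refl _⟩⟩)))))
  intro H h
  rcases red3 A hL (Or.inr (Or.inl ⟨hn, rfl, rfl⟩)) ((A.mdo F p).2.2 n hn a b hab) H h
    with ⟨-, h1, -⟩ | ⟨-, h1⟩
  · omega
  obtain ⟨hft, hc, ho⟩ := h1 fun j k hjk hm h5 h6 => by
    unfold qC at h5 h6
    rcases (by omega : j.1 + 1 = n ∨ k.1 + 1 = n) with e | e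
    · rw [if_pos e] at h5; exact sq_ne_two _ h5
    · rw [if_pos e] at h6; exact sq_ne_two _ h6
  rcases ho with ⟨h4, -⟩ | ⟨-, h4, -⟩ | ⟨-, -, h4, -⟩ | ⟨-, h4⟩ | ⟨rfl, -, r, hr, h4⟩
  · omega
  · omega
  · omega
  · have := h4 ⟨n - 1, by omega⟩
    unfold qC at this
    rw [if_pos (by simp only; omega)] at this
    exact (sq_ne_three _ this).elim
  · have a1 := h4 0
    simp [qC] at a1
    exact ((A.fon F p).2 (by omega) a b hab H h hft hc).elim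

omit [Fintype F] [CharP F p] [Field F] in
/-- Type `C_n` with a square parameter on the chain. -/
theorem fine_C2 {Γ : Type} [Group Γ] [Finite Γ] (hL : IsLieTypeChar p Γ) {n r t : ℕ} (hn : 3 ≤ n)
    (hs : Has Γ p n (tm n parA (n - 1)) (qC n (r ^ 2) t)) : Fine Γ := by
  intro H h
  rcases red3 A hL (Or.inr (Or.inl ⟨hn, rfl, rfl⟩)) hs H h with ⟨-, h1, -⟩ | ⟨-, h1⟩
  · omega
  obtain ⟨hft, hc, ho⟩ := h1 fun j k hjk hm h5 h6 => by
    unfold qC at h5 h6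
    have : j.1 ≠ k.1 := fun e => hjk (Fin.ext e)
    rcases (by omega : j.1 + 1 ≠ n ∨ k.1 + 1 ≠ n) with e | e
    · rw [if_neg e] at h5; exact sq_ne_two _ h5
    · rw [if_neg e] at h6; exact sq_ne_two _ h6
  rcases ho with ⟨h4, -⟩ | ⟨-, h4, -⟩ | ⟨-, -, h4, -⟩ | ⟨-, h4⟩ | ⟨rfl, -, s, hr, h4⟩
  · omega
  · omega
  · omega
  · have := h4 ⟨0, by omega⟩
    unfold qC at this
    rw [if_neg (by simp only; omega)] at this
    exact (sq_ne_three _ this).elim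
  · have a1 := h4 0
    simp [qC] at a1
    rcases hr with rfl | rfl
    · exact (sq_ne_two _ a1).elim
    · exact (sq_ne_three _ a1).elim

theorem fine_U {n r : ℕ} (hr : Fintype.card F = r ^ 2) (hn : 3 ≤ n) (h2 : ¬ (n = 3 ∧ r = 2))
    [Finite (PSU n F r)] : Fine (PSU n F r) := by
  have hL : IsLieTypeChar p (PSU n F r) :=
    Or.inr (Or.inr (Or.inl ⟨F, _, ‹Fintype F›, ‹CharP F p›, n, r, hr, hn, h2, ⟨MulEquiv.refl _⟩⟩))
  rcases Nat.lt_or_ge n 6 with h | h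
  · obtain rfl | rfl | rfl : n = 3 ∨ n = 4 ∨ n = 5 := by omega
    · have h3 : r ≠ 2 := fun e => h2 ⟨rfl, e⟩
      have h4 : 3 ≤ r := by
        have := Fintype.one_lt_card (α := F)
        rcases Nat.lt_or_ge r 2 with h5 | h5
        · interval_cases r <;> omega
        · omega
      exact red1 A hL ((A.mdv F p r hr).2.2 h3)
        (Or.inr (Or.inr (Or.inl ⟨F, _, ‹Fintype F›, r, h4, hr, ⟨MulEquiv.refl _⟩, rfl⟩))) (A.fu3 F p r hr h3)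
    · exact red2 A hL (Or.inl rfl) (A.mdv F p r hr).1 (Or.inl trivial) (A.fu4 F p r hr)
    · exact red2 A hL (Or.inl rfl) (A.mdv F p r hr).2.1 (Or.inl trivial) (A.fu5 F p r hr)
  · obtain ⟨k, rfl | rfl⟩ := Nat.even_or_odd' n
    · exact fine_C2 A hL (by omega) (A.mdu F p r hr k (by omega)).1
    · exact fine_C2 A hL (by omega) (A.mdu F p r hr k (by omega)).2

omit [CharP F p] in
/-- Type `E_n`. -/
theorem fine_E {Γ : Type} [Group Γ] [Finite Γ] (hL : IsLieTypeChar p Γ) {n : ℕ}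
    (hn : n = 6 ∨ n = 7 ∨ n = 8) (hs : Has Γ p n (tm n (parE n) 0) fun _ => Fintype.card F)
    (h3 : Fintype.card F = 2 → ∀ H : Subgroup Γ, Two H → H.index ≠ pp p Γ) : Fine Γ := by
  intro H h
  rcases red3 A hL (Or.inl ⟨Or.inr (Or.inr ⟨hn, rfl⟩), rfl⟩) hs H h with ⟨h1, -⟩ | ⟨-, h1⟩
  · exact (parE_ne_parA (by omega) h1).elim
  obtain ⟨-, -, ho⟩ := h1 fun j k hjk hm _ _ => hjk (Fin.ext (by omega))
  rcases ho with ⟨-, h2, h4⟩ | ⟨h2, -⟩ | ⟨-, h2, -⟩ | ⟨h2, -⟩ | ⟨h2, -⟩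
  · exact (h3 (h2 ⟨0, by omega⟩) H h h4).elim
  · omega
  · exact (parE_ne_parD (by omega) h2).elim
  · omega
  · omega

omit [Fintype F] [CharP F p] [Field F] in
/-- Type `F₄`. -/
theorem fine_F {Γ : Type} [Group Γ] [Finite Γ] (hL : IsLieTypeChar p Γ) {q : Fin 4 → ℕ}
    (hs : Has Γ p 4 (tm 4 parA 2) q)
    (h3 : (q 0 ≠ 2 ∧ q 1 ≠ 2) ∨ ∀ H : Subgroup Γ, Two H → ¬ p ∣ H.index) : Fine Γ := by
  intro H h
  rcases red3 A hL (Or.inr (Or.inr ⟨rfl, rfl, rfl⟩)) hs H h with ⟨-, h1, -⟩ | ⟨h0, h1⟩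
  · omega
  rcases h3 with h3 | h3
  swap
  · exact (h3 H h h0).elim
  obtain ⟨-, -, ho⟩ := h1 fun j k hjk hm h5 h6 => by
    fin_cases j <;> fin_cases k <;> simp_all
  rcases ho with ⟨h2, -⟩ | ⟨h2, -⟩ | ⟨-, -, h2, -⟩ | ⟨h2, -⟩ | ⟨-, h2, -⟩ <;> omega

theorem fine_G2 (h3 : 3 ≤ Fintype.card F) [Finite (Lie.chevG2.group F)] :
    Fine (Lie.chevG2.group F) := by
  have hL : IsLieTypeChar p (Lie.chevG2.group F) :=
    lieE ⟨F, _, ‹Fintype F›, ‹CharP F p›, Or.inl ⟨h3, ⟨MulEquiv.refl _⟩⟩⟩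
  have hx := A.xn.1 F p h3
  refine red2 A hL (Or.inr (Or.inl rfl)) ((A.mde F p).2.2.2.2 h3) ?_ (hx.1 (A.g2v F p h3))
  rcases Nat.lt_or_ge (Fintype.card F) 4 with h | h
  · exact Or.inr (hx.2 (by omega))
  · exact Or.inl h

theorem fine_F4 [Finite (Lie.chevF4.group F)] : Fine (Lie.chevF4.group F) := by
  have hL : IsLieTypeChar p (Lie.chevF4.group F) :=
    lieE ⟨F, _, ‹Fintype F›, ‹CharP F p›, Or.inr (Or.inl ⟨MulEquiv.refl _⟩)⟩
  refine fine_F A hL (A.mde F p).2.2.2.1 ?_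
  by_cases h2 : Fintype.card F = 2
  · refine Or.inr fun H h hp => ?_
    obtain rfl : p = 2 := char_eq (F := F) Nat.prime_two h2
    rcases A.f42n F h2 H h hp with h3 | h3
    · have := A.f42a F h2 H h.max.1
      omega
    · exact A.f42b F h2 H h3
  · exact Or.inl ⟨h2, h2⟩

theorem fine_E6 [Finite (Lie.chevE6.group F)] : Fine (Lie.chevE6.group F) := by
  refine fine_E (p := p) A (lieE ⟨F, _, ‹Fintype F›, ‹CharP F p›, Or.inr (Or.inr (Or.inl ⟨MulEquiv.refl _⟩))⟩)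
    (Or.inl rfl) (A.mde F p).1 fun h2 => ?_
  obtain rfl : p = 2 := char_eq (F := F) Nat.prime_two h2
  exact (A.fen F h2).1

theorem fine_E7 [Finite (Lie.chevE7.group F)] : Fine (Lie.chevE7.group F) := by
  refine fine_E (p := p) A
    (lieE ⟨F, _, ‹Fintype F›, ‹CharP F p›, Or.inr (Or.inr (Or.inr (Or.inl ⟨MulEquiv.refl _⟩)))⟩)
    (Or.inr (Or.inl rfl)) (A.mde F p).2.1 fun h2 => ?_
  obtain rfl : p = 2 := char_eq (F := F) Nat.prime_two h2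
  exact (A.fen F h2).2.1

theorem fine_E8 [Finite (Lie.chevE8.group F)] : Fine (Lie.chevE8.group F) := by
  refine fine_E (p := p) A
    (lieE ⟨F, _, ‹Fintype F›, ‹CharP F p›, Or.inr (Or.inr (Or.inr (Or.inr ⟨MulEquiv.refl _⟩)))⟩)
    (Or.inr (Or.inr rfl)) (A.mde F p).2.2.1 fun h2 => ?_
  obtain rfl : p = 2 := char_eq (F := F) Nat.prime_two h2
  exact (A.fen F h2).2.2

theorem fine_tE6 {r : ℕ} (hr : IsPrimePow r) (h2 : Fintype.card F = r ^ 2)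
    [Finite (Lie.twistedE6 F r)] : Fine (Lie.twistedE6 F r) :=
  fine_F (p := p) A (lieT ⟨F, _, ‹Fintype F›, ‹CharP F p›, r, hr, Or.inl ⟨h2, ⟨MulEquiv.refl _⟩⟩⟩)
    ((A.mdt F p r hr).1 h2) (Or.inl ⟨sq_ne_two r, sq_ne_two r⟩)

theorem fine_tD4 {r : ℕ} (hr : IsPrimePow r) (h3 : Fintype.card F = r ^ 3)
    [Finite (Lie.twistedD4 F r)] : Fine (Lie.twistedD4 F r) :=
  red2 (p := p) A (lieT ⟨F, _, ‹Fintype F›, ‹CharP F p›, r, hr, Or.inr ⟨h3, ⟨MulEquiv.refl _⟩⟩⟩)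
    (Or.inr (Or.inl rfl)) ((A.mdt F p r hr).2 h3) (Or.inl trivial)
    (A.xn.2.1 F p r hr h3 (A.d4v F p r hr h3))

end Families

section Families2

variable (A : Pieces) {F : Type} [Field F] [Fintype F]
include A

theorem fine_Sz {m : ℕ} (hm : 1 ≤ m) (h : Fintype.card F = 2 ^ (2 * m + 1))
    [Finite (Lie.Sz F (2 ^ (m + 1)))] : Fine (Lie.Sz F (2 ^ (m + 1))) :=
  red1 (p := 2) A (Or.inr (Or.inr (Or.inr (Or.inr (Or.inr (Or.inr (Or.inr (Or.inr (Or.inl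
      ⟨rfl, F, _, ‹Fintype F›, m, hm, h, ⟨MulEquiv.refl _⟩⟩)))))))))
    ((A.mdr F m hm).1 h)
    (Or.inr (Or.inr (Or.inr (Or.inl ⟨F, _, ‹Fintype F›, m, hm, h, ⟨MulEquiv.refl _⟩, rfl⟩))))
    (A.fsz F m hm h)

theorem fine_tF4 {m : ℕ} (hm : 1 ≤ m) (h : Fintype.card F = 2 ^ (2 * m + 1))
    [Finite (Lie.twistedF4 F (2 ^ m))] : Fine (Lie.twistedF4 F (2 ^ m)) :=
  red2 (p := 2) A (Or.inr (Or.inr (Or.inr (Or.inr (Or.inr (Or.inr (Or.inr (Or.inr (Or.inr (Or.inl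
      ⟨rfl, F, _, ‹Fintype F›, m, hm, h, ⟨MulEquiv.refl _⟩⟩))))))))))
    (Or.inr (Or.inr rfl)) (A.mdf F m hm h) (Or.inl trivial) (A.xn.2.2 F m hm h (A.f4v F m hm h))

theorem fine_tG2 {m : ℕ} (hm : 1 ≤ m) (h : Fintype.card F = 3 ^ (2 * m + 1))
    [Finite (Lie.twistedG2 F (3 ^ m))] : Fine (Lie.twistedG2 F (3 ^ m)) :=
  haveI : Fact (Nat.Prime 3) := ⟨Nat.prime_three⟩
  red1 (p := 3) A (Or.inr (Or.inr (Or.inr (Or.inr (Or.inr (Or.inr (Or.inr (Or.inr (Or.inr (Or.inr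
      ⟨rfl, F, _, ‹Fintype F›, m, hm, h, ⟨MulEquiv.refl _⟩⟩))))))))))
    ((A.mdr F m hm).2 h)
    (Or.inr (Or.inr (Or.inr (Or.inr (Or.inl ⟨F, _, ‹Fintype F›, m, hm, h, ⟨MulEquiv.refl _⟩, rfl⟩)))))
    fun H a1 a2 a3 => (A.fre2 F m hm h H (A.fre1 F m hm h H a1 a2 a3)).elim

end Families2

/-- The theorem from the pieces. -/
theorem main (A : Pieces) {G Ω : Type*} [Group G] [Finite G] [MulAction G Ω] [FaithfulSMul G Ω]
    [Fintype Ω] (r : ℕ) [Fact r.Prime] (hG : IsLieTypeChar r G)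
    (h2 : MulAction.IsMultiplyPretransitive G Ω 2) : Conc G (Fintype.card Ω) := by
  haveI := H75.isSimpleGroup_of_lie hG
  rcases hG with ⟨F, _, _, _, n, h1, h3, ⟨e⟩⟩ | ⟨F, _, _, _, m, h1, h3, ⟨e⟩⟩ |
    ⟨F, _, _, _, n, q, h1, h3, h4, ⟨e⟩⟩ | ⟨F, _, _, _, m, h1, h3, ⟨e⟩⟩ |
    ⟨F, _, _, _, m, h1, ⟨e⟩⟩ | ⟨F, _, _, _, m, a, b, h1, h3, ⟨e⟩⟩ |
    ⟨F, _, _, _, ⟨h1, ⟨e⟩⟩ | ⟨⟨e⟩⟩ | ⟨⟨e⟩⟩ | ⟨⟨e⟩⟩ | ⟨⟨e⟩⟩⟩ |
    ⟨F, _, _, _, q, hq, ⟨h1, ⟨e⟩⟩ | ⟨h1, ⟨e⟩⟩⟩ | ⟨-, F, _, _, m, h1, h3, ⟨e⟩⟩ |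
    ⟨-, F, _, _, m, h1, h3, ⟨e⟩⟩ | ⟨-, F, _, _, m, h1, h3, ⟨e⟩⟩ <;>
    haveI := Finite.of_equiv G e.toEquiv <;> refine transfer e h2 ?_
  · exact fine_L (p := r) A h1 h3
  · exact fine_S (p := r) A h1 h3
  · exact fine_U (p := r) A h1 h3 h4
  · exact fine_Oo (p := r) A h1 h3
  · exact fine_Op (p := r) A h1
  · exact fine_Om (p := r) A (by omega) h3
  · exact fine_G2 (p := r) A h1
  · exact fine_F4 (p := r) A
  · exact fine_E6 (p := r) A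
  · exact fine_E7 (p := r) A
  · exact fine_E8 (p := r) A
  · exact fine_tE6 (p := r) A hq h1
  · exact fine_tD4 (p := r) A hq h1
  · exact fine_Sz A h1 h3
  · exact fine_tF4 A h1 h3
  · exact fine_tG2 A h1 h3

end Cfsg.Agent.H74.Cks
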