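import Mathlib
import Cfsg.Agent.H74.CksAsm
import Cfsg.Agent.H86.CksExt
import Cfsg.Agent.H65.F42a
import Cfsg.Agent.H89.CksF42b
import Cfsg.Agent.H24.CksF4v
import Cfsg.Agent.H6.CksD4b
import Cfsg.Agent.H19.CkG2v
import Cfsg.Agent.H52.CksQdx
import Cfsg.Agent.H47.Plx
import Cfsg.Agent.H31.CksRgx
import Cfsg.Agent.H84.CksPd1
import Cfsg.Agent.H28.CksPd2
import Cfsg.Agent.H80.CkU4
import Cfsg.Agent.H8.CksFu5
import Cfsg.Agent.H4.CksOp3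
import Cfsg.Agent.H30.CksOb3
import Cfsg.Agent.H29.CksHm3
import Cfsg.Agent.H32.CksPan
import Cfsg.Agent.H35.CkDc
import Cfsg.Agent.H72.CkTgen
import Cfsg.Agent.H60.CksGen
import Cfsg.Agent.H36.CksBas1
import Cfsg.Agent.H61.CksBas2
import Cfsg.Agent.H13.CksLad
import Cfsg.Agent.H86.CksHcd
import Cfsg.Agent.H15.CksRl
import Cfsg.Agent.H70.CksPar
import Cfsg.Agent.H40.CksHm
import Cfsg.Agent.H44.CkPl
import Cfsg.Agent.H75.CksQ
import Cfsg.Agent.H76.CksQf1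
import Cfsg.Agent.H3.CksQf2
import Cfsg.Agent.H90.CksQ24
import Cfsg.Agent.H43.CksMinj
import Cfsg.Agent.H69.CksTwo
import Cfsg.Agent.H28.CksR3a
import Cfsg.Agent.H67.CksR3c
import Cfsg.Agent.H94.CksMda
import Cfsg.Agent.H23.CkMdu
import Cfsg.Agent.H57.CksMdr
import Cfsg.Agent.H71.CkFl2
import Cfsg.Agent.H89.CksFre
import Cfsg.Agent.H36.CksNum
import Cfsg.Agent.H13.CksFln
import Cfsg.Agent.H80.CkSp2
import Cfsg.Agent.H92.CksSp3
import Cfsg.Agent.H34.CksMde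

/-!
# Doubly transitive actions of the simple groups of Lie type: the pieces chained
-/

set_option autoImplicit false

namespace Cfsg.Agent.H74.Cks.Ch

open Cfsg.Agent.H74.Cks

theorem ext : ExtStmt := @H86.CksExt.ext
theorem bas1 : Bas1Stmt := @H36.CkB.bas1
theorem bas2 : Bas2Stmt := @H61.CksB.bas2 @bas1
theorem cnt : CntStmt := @H61.CksB.cnt
theorem tgen : TgenStmt := @H72.CkTgen.tgen @bas1
theorem faith : FaithStmt := @H72.CkTgen.faith @bas1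
theorem gen : GenStmt := @H60Gen.gen
theorem lad : LadStmt := @H13.CksLad.lad @bas1
theorem pd1 : Pd1Stmt := @H84.CksPd1.pd1
theorem pdiv : PdivStmt := @H28.CksPd2.pdiv @bas1 @pd1
theorem hcd : HcdStmt := @H86.Hcd.hcdStmt
theorem rl : RlStmt := @H15.CksRl.rl @bas1
theorem dc2 : Dc2Stmt := @H35.CkDc.dc2
theorem idx : IdxStmt := @H35.CkDc.idx @bas1
theorem pan : PanStmt := @H32.CksPan.pan
theorem pol : PolStmt := @H40.CksHm.pol
theorem hm1 : Hm1Stmt := @H40.CksHm.hm1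
theorem hm2 : Hm2Stmt := @H40.CksHm.hm2
theorem hm3 : Hm3Stmt := @H29.CksHm.hm3 @pan
theorem rgx : RgxStmt := @H31.CksRgx.rgx
theorem plx : PlxStmt := @H47.Plx.plx @rgx
theorem qdx : QdxStmt := @H52.CksQdx.qdxStmt @bas1 @rgx
theorem plf : PlfStmt := @H44.CkPl.plf @bas1 @lad @hm1 @hm2 @hm3
theorem torq : TorqStmt := @H44.CkPl.torq @bas1
theorem qgen : QgenStmt := @H75.CksQ.qgen @bas1
theorem tk3 : Tk3Stmt := @H75.CksQ.tk3 @bas1 @faith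
theorem qt : QtStmt := @H75.CksQ.qt @bas1
theorem qf1 : Qf1Stmt := @H76.CksQf1.qf1Stmt @bas1 @lad
theorem qf3 : Qf3Stmt := @H76.CksQf1.qf3Stmt @bas1 @lad
theorem qf2 : Qf2Stmt := @H3.CksQf2.qf2 @bas1 @lad
theorem q24 : Q24Stmt := @H90.Q24.q24 @bas1 @lad
theorem minj : MinjStmt := @H43.CksM.minj @bas1
theorem tf : TfStmt := @H43.CksM.tf @torq
theorem two : TwoStmt := @H69.twoStmt @bas1 @lad
theorem prod : ProdStmt := @H69.prodStmt @bas1 @gen @lad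
theorem r3a : R3aStmt :=
  @H28.CksR3.r3a ⟨@bas1, @bas2, @tgen, @faith, @lad, @plf, @torq, @minj, @tf, @two, @prod⟩
theorem hy : H67.CksR3c.Hy :=
  ⟨@bas1, @tgen, @lad, @plf, @torq, @qgen, @qf1, @qf2, @qf3, @q24, @tk3, @qt, @minj, @tf, @two, @prod⟩
theorem r3c : R3cStmt := @H67.CksR3c.r3c hy
theorem r3f : R3fStmt := @H67.CksR3c.r3f hy
theorem gen3 : Gen3Stmt := @H60Gen.gen3 @torq @qgen
theorem r1 : R1Stmt := @H70.CksPar.r1 @bas1 @bas2 @pdiv @rl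
theorem r2 : R2Stmt := @H70.CksPar.r2 @bas1 @bas2 @lad @pdiv @hcd @rl @dc2
theorem ra : RaStmt := @H70.CksPar.ra @bas1 @bas2 @faith @gen @lad @pdiv @idx @plx @plf @torq
theorem r3 : R3Stmt := @H70.CksPar.r3 @bas1 @bas2 @pdiv @dc2 @idx @plx @qdx @r3a @r3c @r3f @gen3

theorem pieces : Pieces where
  r1 := @r1
  r2 := @r2
  ra := @ra
  r3 := @r3
  mda := @H94.CksMda.mda @ext
  mdc := @H94.CksMda.mdc @ext
  mdo := @H94.CksMda.mdo @ext
  mdu := @H23.CkU.mdu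
  mdv := @H23.CkU.mdv
  mde := @H34.CksM.mdeStmt @ext
  mdt := @H34.CksM.mdtStmt @ext
  mdr := @H57.CksMdr.mdr
  mdf := @H57.CksMdr.mdf
  fl2 := @H71.CkFl2.fl2
  fu3 := @H71.CkFl2.fu3
  fsz := @H71.CkFl2.fsz
  fre1 := @H89.CksF.fre1
  fre2 := @H89.CksF.fre2
  fs4 := @H36.CkN.fs4
  fu4 := @H80.CkU4.fu4
  fu5 := @H8.CksFu5.fu5
  g2v := @H19.CkG.g2v
  d4v := @H6.CksD4.d4v
  f4v := @H24.CkF.f4v
  xn := @H36.CkN.xn
  fln := @H13.CksFln.fln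
  fen := @H13.CksFln.fen
  fon := @H13.CksFln.fon
  op3 := @H4.CksOp3.op3
  ob3 := @H30.CksOb3.ob3
  sp3 := @H92.CksSp.sp3 @cnt
  sp2a := @H80.CkSp2.sp2a
  sp2b := @H92.CksSp.sp2b @cnt
  f42a := @H65.F42a.f42a
  f42b := @H89.CksF.f42b
  f42n := @H36.CkN.f42n

end Cfsg.Agent.H74.Cks.Ch
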