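import Cfsg.Agent.H63.GvDefs

/-! The structure of a normal `2`-subgroup of the group of a minimal bad subspace. -/

set_option autoImplicit false

namespace Cfsg.Agent.H74.CyO2a

open Subgroup MulAction Cfsg.Agent.H11.Cy Cfsg.Agent.H45.Iv Cfsg.Agent.H63.Gv
open scoped commutatorElement

variable {G : Type} [Group G] {Ω : Type} [MulAction G Ω] {p : ℕ} {A : Ω → Subgroup G}

theorem two_p (h : St p A) (hp : p ≠ 2) {N : Subgroup G} (hN : IsPGroup 2 N) {w : Ω} {g : G}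
    (h1 : g ∈ N) (h2 : g ∈ A w) : g = 1 := by
  obtain ⟨k, hk⟩ := hN ⟨g, h1⟩
  have h3 : g ^ 2 ^ k = 1 := congrArg Subtype.val hk
  have h4 : g ^ p = 1 := by
    have := pow_card_eq_one' (x := (⟨g, h2⟩ : A w))
    rw [h.card w] at this
    exact congrArg Subtype.val this
  have h5 : (2 ^ k).Coprime p :=
    Nat.Coprime.pow_left k ((Nat.coprime_primes Nat.prime_two h.pp).2 hp.symm)
  have := pow_gcd_eq_one.2 ⟨h3, h4⟩
  rwa [h5, pow_one] at this

omit [MulAction G Ω] in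
theorem com_mem {N : Subgroup G} {w : Ω} (nz : Nz A w N) {n a : G} (hn : n ∈ N) (ha : a ∈ A w) :
    ⁅n, a⁆ ∈ N := by
  have := N.mul_mem hn (nz a ha _ (N.inv_mem hn))
  rwa [show n * (a * n⁻¹ * a⁻¹) = ⁅n, a⁆ by rw [commutatorElement_def]; group] at this

theorem com_fix (h : St p A) (hp : p ≠ 2) {N : Subgroup G} (hN : IsPGroup 2 N) {w : Ω}
    (nz : Nz A w N) {n a : G} (hn : n ∈ N) (ha : a ∈ A w) (e : n • w = w) : ⁅n, a⁆ = 1 := by
  refine two_p h hp hN (com_mem nz hn ha) (w := w) ?_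
  have := h.eqv n w a ha
  rw [e] at this
  exact (A w).mul_mem this ((A w).inv_mem ha)

theorem com_mov (h : St p A) (hp : p ≠ 2) (ls : LS A) {N : Subgroup G} (hN : IsPGroup 2 N) {w : Ω}
    (nz : Nz A w N) {n a : G} (hn : n ∈ N) (ha : a ∈ A w) (e : w ≠ n • w) :
    ⁅n, a⁆ ∈ Rl A w (n • w) := by
  by_contra hc
  obtain ⟨c, -, -, k, h1, h2⟩ := (ls _ _ e).1.out ⁅n, a⁆
    (mul_mem (mem_sup_right (h.eqv n w a ha)) (mem_sup_left ((A w).inv_mem ha))) hc
  exact h2 (two_p h hp hN (N.pow_mem (com_mem nz hn ha) k) h1)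

omit [MulAction G Ω] in
theorem R_conj {x y : Ω} {a r : G} (ha : a ∈ Fl A x y) (hr : r ∈ Rl A x y) :
    a * r * a⁻¹ ∈ Rl A x y := by
  have : Rl A x y ≤ (Rl A x y).comap (MulAut.conj a).toMonoidHom :=
    commutator_le.2 fun u hu v hv => by
      rw [mem_comap, map_commutatorElement]
      exact commutator_mem_commutator (mul_mem (mul_mem ha hu) (inv_mem ha))
        (mul_mem (mul_mem ha hv) (inv_mem ha))
  exact this hr

omit [MulAction G Ω] in
theorem R_le {x y : Ω} : Rl A x y ≤ Fl A x y :=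
  commutator_le.2 fun _ hu _ hv => mul_mem (mul_mem (mul_mem hu hv) (inv_mem hu)) (inv_mem hv)

theorem o2a : O2aStmt := by
  intro G _ _ Ω _ _ p A h c c2 nil P _ mk N hN
  have aM : ∀ w ∈ P, A w ≤ Ms A P := fun w hw =>
    le_iSup₂ (f := fun w (_ : w ∈ P) => A w) w hw
  have nz : ∀ w, A w ≤ Ms A P → Nz A w N := fun w hw a ha s hs => hN.2.2 a (hw ha) s hs
  obtain ⟨cen, com⟩ := c2 P N hN.1 hN.2.1 fun w hw => nz w (aM w hw)
  have le : ∀ x ∈ P, ⁅N, A x⁆ ≤ N := fun x hx =>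
    commutator_le.2 fun n hn a ha => com_mem (nz x (aM x hx)) hn ha
  have cj : ∀ g ∈ Ms A P, ∀ x ∈ P, ∀ m ∈ ⁅N, A x⁆, g * m * g⁻¹ ∈ ⁅N, A (g • x)⁆ := by
    intro g hg x _ m hm
    have : ⁅N, A x⁆ ≤ (⁅N, A (g • x)⁆ : Subgroup G).comap (MulAut.conj g).toMonoidHom :=
      commutator_le.2 fun n hn a ha => by
        rw [mem_comap, map_commutatorElement]
        exact commutator_mem_commutator (hN.2.2 g hg n hn) (h.eqv g x a ha)
    exact this hm
  have comm : ∀ x ∈ P, ∀ m ∈ ⁅N, A x⁆, ∀ c ∈ N, c ∈ centralizer (A x : Set G) →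
      m * c = c * m := by
    intro x hx m hm d hd hd'
    have : ⁅N, A x⁆ ≤ centralizer ({d} : Set G) := commutator_le.2 fun n hn a ha => by
      rw [mem_centralizer_singleton_iff]
      have h1 : a * d = d * a := hd' a ha
      have h2 : n * a * n⁻¹ * ⁅d, n⁆ = ⁅d, n⁆ * (n * a * n⁻¹) := com d hd n hn _
        (mul_mem (mul_mem (hN.2.1 hn) (aM x hx ha)) (inv_mem (hN.2.1 hn)))
      have h3 : d * a * d⁻¹ = a := by rw [← h1]; group
      have h4 : d * a⁻¹ = a⁻¹ * d := by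
        calc d * a⁻¹ = a⁻¹ * (a * d) * a⁻¹ := by group
          _ = a⁻¹ * d := by rw [h1]; group
      calc ⁅n, a⁆ * d = (n * a * n⁻¹ * ⁅d, n⁆) * ⁅d, n⁆⁻¹ * (a⁻¹ * d) := by
            rw [commutatorElement_def n a]; group
        _ = ⁅d, n⁆ * (n * (d * a * d⁻¹) * n⁻¹) * ⁅d, n⁆⁻¹ * (d * a⁻¹) := by rw [h2, h3, h4]
        _ = d * ⁅n, a⁆ := by simp only [commutatorElement_def]; group
    exact mem_centralizer_singleton_iff.1 (this hm)
  have fixc : ∀ x ∈ P, ∀ n ∈ N, n • x = x → n ∈ centralizer (A x : Set G) := by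
    intro x hx n hn e a ha
    exact (commutatorElement_eq_one_iff_mul_comm.1
      (com_fix h c.p2 hN.1 (nz x (aM x hx)) hn ha e)).symm
  have dec : ∀ x ∈ P, ∀ n ∈ N, ∃ m ∈ ⁅N, A x⁆, ∃ c ∈ N, c ∈ centralizer (A x : Set G) ∧
      n = m * c := by
    intro x hx n hn
    by_cases e : x = n • x
    · exact ⟨1, one_mem _, n, hn, fixc x hx n hn e.symm, (one_mul n).symm⟩
    obtain ⟨la, -, lc, -⟩ := c.ls _ _ e
    have : Nontrivial (A x) := Finite.one_lt_card_iff_nontrivial.1 (by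
      rw [h.card x]; exact h.pp.one_lt)
    obtain ⟨⟨a, ha⟩, ha1⟩ := exists_ne (1 : A x)
    have ha1 : a ≠ 1 := fun e => ha1 (Subtype.ext e)
    have zc : ∀ z ∈ Zl A x (n • x), ∀ g ∈ Fl A x (n • x), g * z = z * g :=
      fun z hz g hg => hz.2 g hg
    have zf : ∀ z ∈ Zl A x (n • x), z • x = x := fun z hz =>
      (c.ep.kfix _ _ e z).1 hz.2 x (c.sk.ln _ _).1
    let W : Subgroup G :=
      { carrier := {g | ∃ m ∈ ⁅N, A x⁆ ⊓ Rl A x (n • x), ∃ z ∈ Zl A x (n • x), g = m * z}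
        one_mem' := ⟨1, one_mem _, 1, one_mem _, (one_mul 1).symm⟩
        mul_mem' := by
          rintro _ _ ⟨m, hm, z, hz, rfl⟩ ⟨m', hm', z', hz', rfl⟩
          refine ⟨m * m', mul_mem hm hm', z * z', mul_mem hz hz', ?_⟩
          calc m * z * (m' * z') = m * (z * m') * z' := by group
            _ = m * m' * (z * z') := by rw [← zc z hz m' (R_le hm'.2)]; group
        inv_mem' := by
          rintro _ ⟨m, hm, z, hz, rfl⟩
          refine ⟨m⁻¹, inv_mem hm, z⁻¹, inv_mem hz, ?_⟩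
          rw [zc z hz m (R_le hm.2), mul_inv_rev] }
    have r0 : ⁅n, a⁆ ∈ W := ⟨⁅n, a⁆, ⟨commutator_mem_commutator hn ha,
      com_mov h c.p2 c.ls hN.1 (nz x (aM x hx)) hn ha e⟩, 1, one_mem _, (mul_one _).symm⟩
    rcases lc.irr W (fun z hz => ⟨1, one_mem _, z, hz, (one_mul z).symm⟩)
      (by rintro _ ⟨m, hm, z, hz, rfl⟩; exact mul_mem hm.2 (la.zle hz))
      (by
        rintro b hb _ ⟨m, hm, z, hz, rfl⟩
        have h1 := cj b (aM x hx hb) x hx m hm.1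
        rw [h.fix x b hb] at h1
        refine ⟨b * m * b⁻¹, ⟨h1, R_conj (mem_sup_left hb) hm.2⟩, z, hz, ?_⟩
        calc b * (m * z) * b⁻¹ = b * m * (z * b⁻¹) := by group
          _ = b * m * b⁻¹ * z := by
            rw [← zc z hz b⁻¹ (mem_sup_left ((A x).inv_mem hb))]; group) with e1 | e1
    · rw [e1] at r0
      have h1 := zf _ r0
      rw [commutatorElement_def, mul_smul, h.fix x a⁻¹ ((A x).inv_mem ha)] at h1
      rcases h.semi _ x _ (h.eqv n x a ha) h1 with h2 | h2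
      · exact absurd (by simpa using h2) ha1
      · exact absurd h2 e
    · obtain ⟨r, hr, h1⟩ := la.tr _ (c.sk.ln x (n • x)).2
      rw [← e1] at hr
      obtain ⟨m, hm, z, hz, rfl⟩ := hr
      rw [mul_smul, zf z hz] at h1
      have h2 : m⁻¹ * n ∈ N := mul_mem (inv_mem (le x hx hm.1)) hn
      exact ⟨m, hm.1, m⁻¹ * n, h2, fixc x hx _ h2 (by rw [mul_smul, ← h1, inv_smul_smul]),
        by group⟩
  have sub : ∀ x ∈ P, ∀ y ∈ P, x ≠ y → ∃ Ψ, Sub A Ψ ∧ Good A Ψ ∧ x ∈ Ψ ∧ y ∈ Ψ ∧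
      (∀ n ∈ N, ∀ w, n • w ∈ Ψ ↔ w ∈ Ψ) ∧ ∀ w ∈ Ψ, ⁅N, A w⁆ ≤ Ts A Ψ := by
    intro x hx y hy e
    have la := (c.ls _ _ e).1
    have rM : Rl A x y ≤ Ms A P := R_le.trans (c.sk.fle P x hx y hy).1
    have h2 : IsPGroup 2 (N ⊔ Rl A x y : Subgroup G) :=
      hN.1.to_sup_of_normal_left' la.r2 fun r hr => by
        rw [mem_normalizer_iff]
        refine fun g => ⟨hN.2.2 r (rM hr) g, fun hg => ?_⟩
        have := hN.2.2 r⁻¹ (inv_mem (rM hr)) _ hg
        rwa [show r⁻¹ * (r * g * r⁻¹) * r⁻¹⁻¹ = g by group] at this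
    obtain ⟨s1, s2, s3, s4, -⟩ := nil x _ h2 fun a ha s hs => by
      have : N ⊔ Rl A x y ≤ (N ⊔ Rl A x y).comap (MulAut.conj a).toMonoidHom :=
        sup_le (fun n hn => mem_sup_left (hN.2.2 a (aM x hx ha) n hn))
          fun r hr => mem_sup_right (R_conj (mem_sup_left ha) hr)
      exact this hs
    refine ⟨_, s1, s2, s3, ?_, fun n hn => s4 n (mem_sup_left hn), fun w hw => ?_⟩
    · show A y ≤ _
      exact (le_sup_right : A y ≤ Fl A x y).trans
        (la.sup.ge.trans (sup_le_sup_right le_sup_right _))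
    · have hw' : A w ≤ Ms A P := le_trans hw (sup_le (sup_le hN.2.1 rM) (aM x hx))
      refine commutator_le.2 fun n hn a ha => ?_
      by_cases e : w = n • w
      · rw [com_fix h c.p2 hN.1 (nz w hw') hn ha e.symm]
        exact one_mem _
      · exact (c.sk.fle _ w hw _ ((s4 n (mem_sup_left hn) w).2 hw)).2
          (com_mov h c.p2 c.ls hN.1 (nz w hw') hn ha e)
  refine ⟨dec, le, comm, fun x hx m hm => ?_, cj, sub⟩
  obtain ⟨y, hy, e⟩ : ∃ y ∈ P, x ≠ y := by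
    obtain ⟨u, hu, v, hv, e, -⟩ := mk.two
    by_cases h1 : x = u
    · exact ⟨v, hv, h1 ▸ e⟩
    · exact ⟨u, hu, h1⟩
  obtain ⟨Ψ, s1, s2, s3, -, -, s4⟩ := sub x hx y hy e
  have h1 := (c.ga Ψ s1 s2 x s3).sq m (s4 x s3 hm)
  refine cen _ (mul_mem (le x hx hm) (le x hx hm)) fun s hs => ?_
  obtain ⟨m', hm', d, hd, hd', rfl⟩ := dec x hx s hs
  have h2 : m' * (m * m) = m * m * m' := h1 m' (mk.tle Ψ (s4 x s3 hm'))
  have h3 : Commute m d := comm x hx m hm d hd hd'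
  calc m * m * (m' * d) = m' * (m * m * d) := by rw [← mul_assoc, ← h2, mul_assoc]
    _ = m' * d * (m * m) := by rw [(h3.mul_left h3).eq, mul_assoc m' d]

end Cfsg.Agent.H74.CyO2a
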