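/-
The Held group in a group of Monster type; the normalizer of an element of class 3A does not split.
-/
import Cfsg.Agent.H74.CenSplit
import Cfsg.Agent.H74.Mon3B
import Cfsg.Agent.H44.F24M
import Cfsg.Agent.S5417
import Cfsg.Agent.S2049
import Cfsg.Agent.S1695

set_option autoImplicit false

namespace Cfsg.Agent.H74.Mon

open Cfsg Subgroup Cfsg.Agent.H48 Cfsg.Agent.H49
open scoped commutatorElement

theorem center_eq_bot_of_not_prime {T : Type*} [Group T] [IsSimpleGroup T]
    (h : ¬ (Nat.card T).Prime) : center T = ⊥ := by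
  refine (IsSimpleGroup.eq_bot_or_eq_top_of_normal _ inferInstance).resolve_right fun e => ?_
  let _ : CommGroup T := Group.commGroupOfCenterEqTop e
  exact h IsSimpleGroup.prime_card

/-- a complement in the centralizer -/
theorem sub_of_quot {G T : Type} [Group G] [Finite G] [Group T] [IsSimpleGroup T]
    (hc : center T = ⊥) (hM : HasCyclicSchurMultiplier T 1) {b : G} (hb : (orderOf b).Prime)
    [((zpowers b).subgroupOf (centralizer (zpowers b : Set G))).Normal]
    (φ : centralizer (zpowers b : Set G) ⧸ (zpowers b).subgroupOf (centralizer (zpowers b : Set G))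
      ≃* T) : ∃ K : Subgroup G, K ≤ centralizer {b} ∧ Nonempty (K ≃* T) := by
  let ι : centralizer ({b} : Set G) ≃* centralizer (zpowers b : Set G) :=
    MulEquiv.subgroupCongr (centralizer_zpowers' b).symm
  exact ⟨_, map_subtype_le _, ⟨((commutator _).equivMapOfInjective _ (subtype_injective _)).symm.trans
    (MulEquiv.ofBijective _ (cen_split hc hM hb
      (φ.toMonoidHom.comp ((QuotientGroup.mk' _).comp ι.toMonoidHom))
      (φ.surjective.comp ((QuotientGroup.mk'_surjective _).comp ι.surjective))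
      fun c => φ.map_eq_one_iff.trans (QuotientGroup.eq_one_iff (ι c))))⟩⟩

/-- the centralizer of an element of class 7A -/
theorem he_sub {G : Type} [Group G] [Finite G] (hG : IsGroupOfMonsterType G) :
    ∃ x : G, orderOf x = 7 ∧ ∃ K : Subgroup G, K ≤ centralizer {x} ∧ Spor.IsoHe K ∧ IsHe K := by
  have : Fact (Nat.Prime 7) := ⟨by norm_num⟩
  obtain ⟨z, Q, _, hM⟩ := hG
  obtain ⟨k, h1, h2⟩ := hM.1.2.2.2.2
  obtain ⟨Q', θ, R, h, r⟩ := mon_start hM h1 (isConj_iff.2 ⟨k, rfl⟩) h2
  obtain ⟨⟨b, hb⟩, ho⟩ := exists_prime_orderOf_dvd_card'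
    (G := centralizer ({z, k * z * k⁻¹} : Set G)) 7 (by rw [h.card_L r]; norm_num)
  rw [orderOf_mk] at ho
  have n1 : ((zpowers b).subgroupOf (centralizer (zpowers b : Set G))).Normal :=
    (normal_subgroupOf_iff_le_normalizer (le_centralizer _)).2 (centralizer_le_normalizer _)
  obtain ⟨φ⟩ := S5417.result z Q hM _ h1 (isConj_iff.2 ⟨k, rfl⟩) h2 (zpowers b) (zpowers_le.2 hb) (by
    rw [Nat.card_zpowers, ho]
    have hP := Sylow.card_eq_multiplicity (default : Sylow 7 (centralizer ({z, k * z * k⁻¹} : Set G)))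
    rw [← hP, ← card_map_of_injective (subtype_injective _), eq_comm]
    exact h.card_sylow r (Or.inr rfl) (by rw [card_map_of_injective (subtype_injective _), hP]))
  have hS := S1695.result.1
  obtain ⟨K, h3, ⟨e⟩⟩ := sub_of_quot (center_eq_bot_of_not_prime
    (by rw [S1695.result.2]; norm_num)) S2049.result (ho ▸ this.out) φ
  exact ⟨b, ho, K, h3, ⟨e⟩, e.isSimpleGroup, (Nat.card_congr e.toEquiv).trans S1695.result.2⟩

/-- the normalizer of a subgroup of class 3A -/
theorem three_norm {G : Type*} [Group G] [Finite G] (hG : IsGroupOfMonsterType G) :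
    ∃ X N : Subgroup G, Nat.card X = 3 ∧ N = normalizer (X : Set G) ∧
      (∃ _ : (X.subgroupOf N).Normal, Nonempty (N ⧸ X.subgroupOf N ≃* Spor.Fi24)) ∧
      ∀ L : Subgroup N, ¬ (X.subgroupOf N).IsComplement' L := by
  obtain ⟨z, Q, _, hM⟩ := hG
  obtain ⟨g, π, hg, h1, h2, -, h3, -⟩ := exists_three hM
  refine ⟨zpowers g, _, by rw [Nat.card_zpowers, hg], rfl, ⟨normal_in_normalizer,
    ⟨((QuotientGroup.quotientMulEquivOfEq (by ext n; exact (h2 n).symm)).trans
      (QuotientGroup.quotientKerEquivOfSurjective π h1)).trans H44.F24.iso.symm⟩⟩, fun L hL => ?_⟩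
  have key : ∀ c ∈ centralizer ({g} : Set G), ∃ x ∈ zpowers g,
      x⁻¹ * c ∈ L.map (normalizer (zpowers g : Set G)).subtype := fun c hc => by
    rw [← centralizer_zpowers'] at hc
    obtain ⟨⟨x, l⟩, e⟩ := hL.2 ⟨c, centralizer_le_normalizer _ hc⟩
    exact ⟨x.1.1, x.2, l.1, l.2, eq_inv_mul_iff_mul_eq.2 (congrArg Subtype.val e)⟩
  have h4 : ⁅centralizer ({g} : Set G), centralizer ({g} : Set G)⁆ ≤
      L.map (normalizer (zpowers g : Set G)).subtype := commutator_le.2 fun a ha b hb => by
    obtain ⟨_, ⟨m, rfl⟩, hx⟩ := key a ha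
    obtain ⟨_, ⟨n, rfl⟩, hy⟩ := key b hb
    have ca : ∀ k : ℤ, Commute (g ^ k) a := fun k =>
      (show Commute a g from mem_centralizer_singleton_iff.1 ha).symm.zpow_left k
    have cb : ∀ k : ℤ, Commute (g ^ k) b := fun k =>
      (show Commute b g from mem_centralizer_singleton_iff.1 hb).symm.zpow_left k
    have := mul_mem (mul_mem (mul_mem hx hy) (inv_mem hx)) (inv_mem hy)
    convert this using 1
    simp only [commutatorElement_def, mul_inv_rev, neg_neg, ← zpow_neg]
    calc a * b * a⁻¹ * b⁻¹ = a * b * a⁻¹ * b⁻¹ * (g ^ (-m) * g ^ (-n) * g ^ m * g ^ n) := by group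
      _ = _ := by
        simp only [mul_assoc, (ca _).left_comm, (cb _).left_comm, (ca _).inv_right.left_comm,
          (cb _).inv_right.left_comm]
  obtain ⟨l, hl, e⟩ := h4 h3
  have := (disjoint_def.1 hL.disjoint) (show l.1 ∈ zpowers g from (show l.1 = g from e).symm ▸ mem_zpowers g) hl
  rw [this, map_one] at e
  rw [← e, orderOf_one] at hg
  omega

end Cfsg.Agent.H74.Mon
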