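/-
Commuting pairs of involutions of the Monster.
-/
import Cfsg.Agent.H74.MsMd
import Cfsg.Agent.H49.MidU2

set_option autoImplicit false

namespace Cfsg.Agent.H74.Ms

open Cfsg Subgroup Cfsg.Agent.H48 Cfsg.Agent.H49 Cfsg.Agent.H48.Rec Cfsg.Agent.H48.Mid
open Cfsg.Agent.H74.Mon Cfsg.Agent.H97.Gr Cfsg.Agent.H97.Gr.B6b Cfsg.Agent.H70.Mid
open Cfsg.Agent.H97.Yt (M)

theorem sq_of_pair {G : Type*} [Group G] [Finite G] {Q S : Subgroup G} {z s : G}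
    {θ : centralizer ({z} : Set G) →* Spor.Co1} {R : Lam → G → Prop} (h : MD Q z θ R)
    (p : Pair Q S z s) {g : Co0} {y : G} (a : Ass θ g y) (hy : y ∈ S) : g * g = 1 := by
  obtain ⟨v, r, hv⟩ := h.exists_short p.xQ
  obtain ⟨g₀, e⟩ := trans64 (h.norm_eq_64 p r hv) (sqNorm_e8 none)
  obtain ⟨c, hc, e1⟩ : g₀ * g * g₀⁻¹ ∈ Signs :=
    (h.twist g₀).pull_eq_Signs p (by rw [← e, inv_smul_smul]; exact r) ▸
      mem_pull.2 ⟨y, ⟨hy, a.mem⟩, a.twist g₀⟩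
  have := signEl_mul_self c hc
  rwa [← e1, conj_mul, conj_eq_one_iff] at this

variable {Q : Subgroup M} {z : M} {θ : centralizer ({z} : Set M) →* Spor.Co1} {R : Lam → M → Prop}

theorem ZZ_iff (hz : z ∈ ZZ) {y : M} : y ∈ ZZ ↔ IsConj z y :=
  ⟨fun hy => IsConj.trans (IsConj.symm hz) hy, fun c => IsConj.trans hz c⟩

theorem DD_of {x y : M} (hx : x ∈ DD) (g : M) (e : g * x * g⁻¹ = y) : y ∈ DD :=
  e ▸ mrep.conj g x hx

theorem DD_inv {a : M} (ha : a ∈ DD) : a⁻¹ = a := inv_eq_of_mul_eq_one_right (DD_sq ha)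

theorem t2_DD (h : MD Q z θ R) (hz : z ∈ ZZ) {d : M} (t : T2 R d) : d ∈ DD := by
  obtain ⟨-, h1, h2, h3⟩ := (H34.MidA.t2_iff h).1 t
  exact ((two_real d h2).resolve_left h1).resolve_right fun e => h3 ((ZZ_iff hz).1 e)

theorem t2_of (h : MD Q z θ R) (hz : z ∈ ZZ) {d : M} (hd : d ∈ DD) (hQ : d ∈ Q) : T2 R d :=
  (H34.MidA.t2_iff h).2 ⟨hQ, mrep.ne d hd, DD_sq hd, fun c => disj_DD_ZZ hd ((ZZ_iff hz).2 c)⟩

theorem mul_DD (h : MD Q z θ R) (hz : z ∈ ZZ) {d : M} (hd : d ∈ DD) (hQ : d ∈ Q) : z * d ∈ DD :=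
  h.hQ.cen d hQ ▸ t2_DD h hz (t2_mul_z h (t2_of h hz hd hQ))

theorem mem_of_DD (h : MD Q z θ R) (hz : z ∈ ZZ) {d : M} (hd : d ∈ DD) (zd : z * d ∈ DD) :
    d ∈ Q :=
  let ⟨_, _, _, h', t⟩ := H49.Mid.md_at hz
  md_le h h' (t2_mem h' (t d hd zd))

/-- no involution lies over a square root of `-1` -/
theorem no_neg (h : MD Q z θ R) (hz : z ∈ ZZ) {g : Co0} {y : M} (a : Ass θ g y) (yy : y * y = 1) :
    g * g = 1 := by
  refine (sq_cases h a yy).resolve_right fun hg => ?_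
  have nQ : ∀ {y}, Ass θ g y → y ∉ Q := fun a hy => by
    rcases mem_center_Co0.1 ((h.ass_mem_iff a).1 hy) with e | e <;> rw [e] at hg
    · exact negEl_ne_one (by rw [← hg, mul_one])
    · exact negEl_ne_one (hg.symm.trans negEl_mul_self)
  have key : ∀ {y}, Ass θ g y → y * y = 1 → y ∉ ZZ := fun {y} a yy hy => by
    obtain ⟨Q', θ', R', h', -⟩ := H49.Mid.md_at hy
    obtain ⟨h1, h2⟩ := neg_spec h hg
    obtain ⟨e, he, eQ, e1⟩ := exists_inf h' (E := pre h (nV g).ker) (fun e he => by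
      obtain ⟨v, r⟩ := h.ex1 e (pre_le h _ he)
      exact mem_centralizer_singleton_iff.2
        (comm_of_neg h a yy hg r (mem_ker.1 ((mem_pre h r).1 he))))
      (fun e he => (h2 e he).1 ▸ one_mem _) (by omega)
    have eQ0 := pre_le h _ he
    have c : IsConj z e := by
      by_contra c
      exact (h2 e he).2 ((H34.MidA.t2_iff h).2 ⟨eQ0, e1, (h2 e he).1, c⟩)
    have eZ := (ZZ_iff hz).2 c
    obtain ⟨Q1, θ1, R1, h3, -⟩ := H49.Mid.md_at eZ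
    have y1 := (pair_of h' h3 eQ ((ZZ_iff hy).1 eZ) fun e => nQ a (e ▸ eQ0)).zS
    by_cases ez : e = z
    · subst ez
      exact nQ a (md_le h h3 y1)
    · exact negEl_ne_one (hg.symm.trans (sq_of_pair h (pair_of h h3 eQ0 c ez) a y1))
  have az := ass_mul h a h.hQ.mem
  have zz : y * z * (y * z) = 1 := by
    rw [mul_assoc, ← mul_assoc z, ← a.comm, mul_assoc, h.hQ.zz, mul_one, yy]
  rcases two_real y yy with e | e | e
  · exact nQ a (e ▸ one_mem _)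
  · rcases two_real _ zz with e' | e' | e'
    · exact nQ az (e' ▸ one_mem _)
    · exact nQ a (mem_of_DD h hz e (a.comm ▸ e'))
    · exact key az zz e'
  · exact key a yy e

theorem comm_fix (h : MD Q z θ R) {a : M} (ha : a ∈ DD) (za : z * a ∈ ZZ) {g : Co0}
    (as : Ass θ g a) (v : Lam) (q : M) (r : R v q) (hv : H49.Fix g v) : q * a = a * q := by
  rcases (h.uniq r (h.act' as r)).1 hv with e | e
  · exact (mul_inv_eq_iff_eq_mul.1 e).symm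
  · refine absurd za (disj_DD_ZZ (DD_of ha q⁻¹ ?_))
    rw [inv_inv, mul_assoc, mul_inv_eq_iff_eq_mul.1 e, mul_assoc, inv_mul_cancel_left]

theorem over_zt (h : MD Q z θ R) (hz : z ∈ ZZ) {a : M} (ha : a ∈ DD) (c : a * z = z * a)
    (za : z * a ∈ ZZ) : ∃ θ' R', MD Q z θ' R' ∧ Ass θ' zt a := by
  obtain ⟨g, as⟩ := exists_ass (θ := θ) c
  rcases twist_cases h as (no_neg h hz as (DD_sq ha)) with e | ⟨θ', R', h', a' | a'⟩
  · exact absurd za (disj_DD_ZZ (mul_DD h hz ha e))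
  · exact ⟨θ', R', h', a'⟩
  · obtain ⟨w, hw⟩ := exists_odd_ut
    obtain ⟨q, r⟩ := h'.ex2 w
    have r1 := h'.mul r (h'.act' a' (h'.inv r))
    refine absurd za (disj_DD_ZZ (DD_of ha (q * (a * q⁻¹ * a⁻¹)) ?_))
    rw [← (h.hQ.sq (h'.mem r1)).resolve_left fun e => hw ((h'.sq_iff r1).1 e)]
    simp only [mul_inv_rev, inv_inv, DD_inv ha, mul_assoc]
    rw [← mul_assoc a a, DD_sq ha, one_mul, mul_one]

theorem fitD {x y : M} (hx : x ∈ DD) (hy : y ∈ DD) (c : x * y = y * x) :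
    ∃ z ∈ ZZ, z * x ∈ DD ∧ z * y ∈ DD := by
  obtain ⟨g, r, s, ε, δ, hr, hs, e1, e2⟩ := locT hx hy c
  obtain ⟨Q, θ, R, h, hR⟩ := real_md
  have key : ∀ {x : M} {r ε}, x ∈ DD → g * x * g⁻¹ = qq r ε → g⁻¹ * zA * g⁻¹⁻¹ * x ∈ DD :=
    fun {x r ε} hx e => by
      refine DD_of (mul_DD h zA_mem (mrep.conj g x hx) ?_) g⁻¹ (by group)
      rw [e]
      rcases z2cases ε with rfl | rfl
      · have := h.cls (hR r)
        rw [qq_mul_zA] at this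
        exact h.mem this
      · exact h.mem (hR r)
  exact ⟨_, ZZ_conj g⁻¹ zA_mem, key hx e1, key hy e2⟩

/-- an involution that commutes with a 2A involution lies with it in an extraspecial group -/
theorem fit {a l : M} (ha : a ∈ DD) (ll : l * l = 1) (c : l * a = a * l) :
    ∃ z ∈ ZZ, ∃ Q θ R, MD Q z θ R ∧ R vU a ∧ l ∈ Q := by
  suffices ∃ z ∈ ZZ, ∀ Q θ R, MD Q z θ R → a ∈ Q ∧ l ∈ Q by
    obtain ⟨z, hz, H⟩ := this
    obtain ⟨Q, θ, R, h, -⟩ := H49.Mid.md_at hz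
    obtain ⟨v, hv, r⟩ := t2_of h hz ha (H Q θ R h).1
    obtain ⟨g, e⟩ := trans32 hv nU
    exact ⟨z, hz, Q, _, _, h.twist g, by rw [← e, inv_smul_smul]; exact r, (H Q θ R h).2⟩
  have e0 : l * a * a = l := by rw [mul_assoc, DD_sq ha, mul_one]
  rcases two_real l ll with e | e | e
  · obtain ⟨z, hz, h1, -⟩ := fitD ha ha rfl
    exact ⟨z, hz, fun Q θ R h => ⟨mem_of_DD h hz ha h1, e ▸ one_mem _⟩⟩
  · obtain ⟨z, hz, h1, h2⟩ := fitD ha e c.symm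
    exact ⟨z, hz, fun Q θ R h => ⟨mem_of_DD h hz ha h1, mem_of_DD h hz e h2⟩⟩
  rcases two_real (l * a) (by rw [mul_assoc, ← mul_assoc a, ← c, e0, ll]) with e' | e' | e'
  · exact absurd e (disj_DD_ZZ (by rw [← e0, e', one_mul]; exact ha))
  · exact ⟨l, e, fun Q θ R h => ⟨mem_of_DD h e ha e', h.hQ.mem⟩⟩
  · obtain ⟨Q, θ, R, h, -⟩ := H49.Mid.md_at e
    obtain ⟨θ, R, h, as⟩ := over_zt h e ha c.symm e'
    obtain ⟨w, v, hv, cv⟩ := exists_four_zt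
    obtain ⟨q, r⟩ := h.ex2 w
    have r1 := h.cg (h.mul r (h.act' as (h.inv r))) cv.symm
    obtain ⟨c1, c2⟩ := (h.isConj_iff_norm r1 hv.le).2 hv
    have sZ := (ZZ_iff e).2 c1
    exact ⟨_, sZ, fun Q' θ' R' h' => ⟨mem_of_DD h' sZ ha (DD_of ha q (by group)),
      (pair_of h h' (h.mem r1) c1 c2).zS⟩⟩

theorem trans_z {a z z' : M} (ha : a ∈ DD) (hz : z ∈ ZZ) (hz' : z' ∈ ZZ) (za : z * a ∈ DD)
    (za' : z' * a ∈ DD) : ∃ k, k * a = a * k ∧ k * z * k⁻¹ = z' := by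
  obtain ⟨g, rfl⟩ := isConj_iff.1 ((ZZ_iff hz).1 hz')
  obtain ⟨Q, θ, R, h, T⟩ := H49.Mid.md_at hz
  obtain ⟨v, hv, r⟩ := T a ha za
  obtain ⟨w, hw, r'⟩ := T _ (mrep.conj g⁻¹ a ha) (DD_of za' g⁻¹ (by group))
  obtain ⟨k, hk, e⟩ := h.conj_of_norm_eq r r' (.inl ⟨hv, hw⟩)
  refine ⟨g * k, ?_, by rw [mul_assoc g, mem_centralizer_singleton_iff.1 hk]; group⟩
  rw [mul_assoc, mul_inv_eq_iff_eq_mul.1 e]; group

end Cfsg.Agent.H74.Ms
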