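/-
2-elements of the centralizer of a 2A involution that almost centralize a large 2-subgroup.
-/
import Cfsg.Agent.H74.MsLoc
import Cfsg.Agent.H47.E6B

set_option autoImplicit false

namespace Cfsg.Agent.H74.Ms

open Cfsg Subgroup Cfsg.Agent.H48 Cfsg.Agent.H49 Cfsg.Agent.H48.Rec Cfsg.Agent.H48.Mid
open Cfsg.Agent.H74.Mon Cfsg.Agent.H97.Gr Cfsg.Agent.H97.Gr.B6b Cfsg.Agent.H70.Mid
open Cfsg.Agent.H97.Yt (M)

section
variable {G : Type*} [Group G] [Finite G]

theorem half {X : Subgroup G} {f l : G} (h : ∀ y ∈ X, f * y * f⁻¹ = y ∨ f * y * f⁻¹ = y * l) :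
    Nat.card X ≤ 2 * Nat.card ↥(X ⊓ centralizer {f}) := by
  have key : ∀ y ∈ X, y ∉ X ⊓ centralizer {f} → f * y * f⁻¹ = y * l := fun y hy hn =>
    (h y hy).resolve_left fun e =>
      hn ⟨hy, mem_centralizer_singleton_iff.2 (mul_inv_eq_iff_eq_mul.1 e).symm⟩
  refine H47.E6.card_le_two_mul inf_le_left fun a ha b hb na nb => ⟨mul_mem ha hb,
    mem_centralizer_singleton_iff.2 (mul_inv_eq_iff_eq_mul.1 ?_).symm⟩
  calc f * (a * b) * f⁻¹ = f * a * f⁻¹ * (f * b⁻¹ * f⁻¹)⁻¹ := by group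
    _ = _ := by rw [key a ha na, key _ (inv_mem hb) fun e => nb (inv_mem_iff.1 e)]; group

theorem exists_nc {Q X : Subgroup G} {z : G} (h : XS Q z) (hX : X ≤ Q) (hz : z ∈ X)
    (hc : 2 * Nat.card Q < Nat.card X * Nat.card X) : ∃ x ∈ X, ∃ y ∈ X, x * y ≠ y * x := by
  by_contra! hn
  exact hc.not_ge (h.card_mul_card_centralizer_of_mem hX hz ▸ Nat.mul_le_mul_left _
    (card_le_of_le fun x hx => ⟨hX hx, fun y hy => hn y hy x hx⟩))

theorem two_cases {Q : Subgroup G} {z a l f : G} (h : XS Q z) (ha : a ∈ Q) (hl : l ∈ Q)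
    (hf : f ∈ Q) (c : ∀ y ∈ Q, y * a = a * y → y * l = l * y → y * f = f * y) :
    ∃ m, (m = f ∨ m = f * l) ∧ (m = 1 ∨ m = z ∨ m = a ∨ m = a * z) := by
  by_cases e : ∀ y ∈ Q, y * a = a * y → y * f = f * y
  · exact ⟨f, .inl rfl, h.mem_of_centralizes_centralizer ha hf e⟩
  push Not at e
  obtain ⟨u, hu, ua, uf⟩ := e
  refine ⟨_, .inr rfl, h.mem_of_centralizes_centralizer ha (mul_mem hf hl) fun y hy ya => ?_⟩
  by_cases yl : y * l = l * y
  · exact Commute.mul_right (c y hy ya yl) yl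
  refine (h.mul_comm_of_ne_of_ne hf hl hy (fun e => ?_) (Ne.symm yl)).symm
  exact XS.mul_ne_of_ne_of_eq uf e.symm (c _ (mul_mem hu hy) (Commute.mul_left ua ya)
    (h.mul_comm_of_ne_of_ne hu hy hl (fun e => uf (c u hu ua e)) yl))

end

theorem key0 {a l : M} (ha : a ∈ DD) (ll : l * l = 1) (c : l * a = a * l) (l1 : l ≠ 1)
    (la : l ≠ a) : ∃ Y : Subgroup M, IsPGroup 2 Y ∧ (∀ y ∈ Y, y * a = a * y ∧ y * l = l * y) ∧
      ∀ (f : M) (n : ℕ), f * a = a * f → f ^ 2 ^ n = 1 →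
        (∀ y ∈ Y, f * y * f⁻¹ = y ∨ f * y * f⁻¹ = y * l) → (f = 1 ∨ f = a ∨ f = l ∨ f = l * a) ∨
          ∃ c, c * a = a * c ∧ (c * f = f * c ∨ c * (f * l) = f * l * c) ∧ c * l ≠ l * c := by
  obtain ⟨z, hz, Q, θ, R, h, r, hl⟩ := fit ha ll c
  have aQ := h.mem r
  have aa := DD_sq ha
  let Y : Subgroup M :=
    { carrier := {c | (c * a = a * c ∧ c * l = l * c) ∧ ∃ s ∈ H10.Co.Sg, Ass θ s c}
      one_mem' := ⟨⟨Commute.one_left _, Commute.one_left _⟩, 1, one_mem _, ass_one_one⟩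
      mul_mem' := fun ⟨⟨a1, a2⟩, s, hs, a3⟩ ⟨⟨b1, b2⟩, t, ht, b3⟩ =>
        ⟨⟨Commute.mul_left a1 b1, Commute.mul_left a2 b2⟩, _, mul_mem hs ht, a3.mul b3⟩
      inv_mem' := fun ⟨⟨a1, a2⟩, s, hs, a3⟩ =>
        ⟨⟨Commute.inv_left a1, Commute.inv_left a2⟩, _, inv_mem hs, a3.inv⟩ }
  refine ⟨Y, fun ⟨y, _, s, hs, as⟩ => ⟨3, Subtype.ext ?_⟩, fun y hy => hy.1,
    fun f n fa fn hf => ?_⟩
  · have := h.hQ.pow_four ((h.ass_mem_iff (as.mul as)).2 (Sg_sq hs ▸ one_mem _))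
    rwa [← sq, ← pow_mul] at this
  have XY : ∀ y ∈ Q, y * a = a * y → y * l = l * y → y ∈ Y := fun y hy e1 e2 =>
    ⟨⟨e1, e2⟩, 1, one_mem _, h.ass_one hy⟩
  have hX : ∀ y ∈ Q ⊓ centralizer {a} ⊓ centralizer {l}, f * y * f⁻¹ = y ∨ f * y * f⁻¹ = y * l :=
    fun y hy => hf y (XY y hy.1.1 (mem_centralizer_singleton_iff.1 hy.1.2)
      (mem_centralizer_singleton_iff.1 hy.2))
  have k1 := half (X := Q) fun y hy => h.hQ.conj aQ hy
  have k2 := half (X := Q ⊓ centralizer {a}) fun y hy => h.hQ.conj hl hy.1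
  have k3 := half hX
  rw [h.card] at k1
  have fz : f * z = z * f := by
    obtain ⟨x, hx, y, hy, e⟩ := exists_nc h.hQ.toXS (X := Q ⊓ centralizer {a} ⊓ centralizer {l})
      (inf_le_left.trans inf_le_left) ⟨⟨h.hQ.mem, mem_centralizer_singleton_iff.2
        (h.hQ.cen a aQ).symm⟩, mem_centralizer_singleton_iff.2 (h.hQ.cen l hl).symm⟩
      (by rw [h.card]; exact lt_of_lt_of_le (by norm_num)
            (Nat.mul_self_le_mul_self (by omega : 2 ^ 23 ≤ _)))
    have m : ∀ y ∈ Q ⊓ centralizer {a} ⊓ centralizer {l}, f * y * f⁻¹ ∈ Q := fun y hy => by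
      rcases hX y hy with e | e <;> rw [e]
      exacts [hy.1.1, mul_mem hy.1.1 hl]
    have e1 := h.hQ.commutator_eq_z (m x hx) (m y hy) fun e1 => e (by
      rw [conj_mul, conj_mul] at e1
      exact mul_left_cancel (mul_right_cancel e1))
    rw [← mul_inv_eq_iff_eq_mul]
    nth_rw 1 [← h.hQ.commutator_eq_z hx.1.1 hy.1.1 e]
    rw [← e1]; group
  have fQ : f ∈ Q := mem_of_fix h n fz fn (lt_of_lt_of_le (by omega) (card_le_of_le
    (inf_le_inf_right (centralizer {f}) (inf_le_left.trans inf_le_left :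
      Q ⊓ centralizer {a} ⊓ centralizer {l} ≤ Q))))
  have az := h.hQ.cen a aQ
  by_cases lz : l = z
  · subst lz
    obtain ⟨x, rx⟩ := h.ex1 f fQ
    have hx := fixB' (x := x) ((h.comm_iff rx r).1 fa) fun s hs => by
      obtain ⟨k, as, ka⟩ := h.exists_lift_fix r nU hs.2
      refine .inl ((h.uniq rx (h.act' as rx)).2
        ((hf k ⟨⟨ka, as.comm⟩, s, hs.1, as⟩).imp (fun e => ?_) fun e => ?_))
      · rw [← mul_inv_eq_iff_eq_mul.1 e, mul_inv_cancel_right]
      · rw [mul_inv_eq_iff_eq_mul] at e ⊢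
        rw [mul_assoc f, ← as.comm, ← mul_assoc, e, mul_assoc k l f, ← fz, mul_assoc, mul_assoc,
          ll, mul_one]
    have fin : ∀ p, R (e8 none) p → (f = p ∨ f = p * a) → ∃ c, c * a = a * c ∧
        (c * f = f * c ∨ c * (f * l) = f * l * c) ∧ c * l ≠ l * c := fun p rp e => by
      by_contra! hn
      have pZ := (ZZ_iff hz).2 (h.e8_spec rp).1
      have pa : p * a ∈ DD := t2_DD h hz ⟨vU', nU', h.cg (h.mul rp r)
        ⟨-vU, by rw [← U_add_U']; abel⟩⟩
      obtain ⟨Q', θ', R', h', -⟩ := H49.Mid.md_at pZ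
      have aQ' := mem_of_DD h' pZ ha pa
      rcases h'.hQ.mem_of_centralizes_centralizer' aQ' aa (y := l) (fun c hc ca =>
        hn c ca (.inl (by
          rcases e with rfl | rfl
          exacts [h'.hQ.cen c hc, Commute.mul_right (h'.hQ.cen c hc) ca]))) with e | e | e | e
      · exact l1 e
      · exact (h.e8_spec rp).2 e.symm
      · exact la e
      · exact disj_DD_ZZ (by rwa [e, h'.hQ.cen a aQ']) hz
    rcases hx with (e | e) | e | e
    · exact .inl (((h.zero_iff rx).1 e).imp_right fun e => .inr (.inl e))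
    · exact .inl (.inr (((h.uniq r rx).1 (by rwa [zero_add] at e)).imp_right
        fun e => .inr (e.trans az)))
    · exact .inr (fin (f * a) (h.cg (h.mul rx r) (by
        rw [← U_add_U', add_comm vU]; exact e.symm.add (cong.refl _)))
        (.inr (by rw [mul_assoc, aa, mul_one])))
    · exact .inr (fin f (h.cg rx (by rw [← U_add_U', add_comm vU]; exact e.symm)) (.inl rfl))
  obtain ⟨m, e1, e2⟩ := two_cases h.hQ.toXS aQ hl fQ fun y hy ya yl => by
    rcases hf y (XY y hy ya yl) with e | e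
    · exact (mul_inv_eq_iff_eq_mul.1 e).symm
    · rcases h.hQ.conj fQ hy with e' | e' <;> rw [e] at e'
      · exact absurd (mul_eq_left.1 e') l1
      · exact absurd (mul_left_cancel e') lz
  have e3 : f = m ∨ f = m * l := e1.imp Eq.symm fun e => by rw [e, mul_assoc, ll, mul_one]
  have fin : (∀ y ∈ Q, y * a = a * y → y * m = m * y) → (m = z ∨ m = a * z) →
      (f = 1 ∨ f = a ∨ f = l ∨ f = l * a) ∨
        ∃ c, c * a = a * c ∧ (c * f = f * c ∨ c * (f * l) = f * l * c) ∧ c * l ≠ l * c := by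
    intro cm e
    by_cases hn : ∀ y ∈ Q, y * a = a * y → y * l = l * y
    · have e4 : l = a * z := (((h.hQ.mem_of_centralizes_centralizer aQ hl hn).resolve_left
        l1).resolve_left lz).resolve_left la
      have e5 : z = l * a := by rw [c, e4, ← mul_assoc, aa, one_mul]
      left
      rcases e with e | e <;> rcases e3 with e3 | e3 <;> rw [e3, e]
      · exact .inr (.inr (.inr e5))
      · exact .inr (.inl (by rw [e5, c, mul_assoc, ll, mul_one]))
      · exact .inr (.inr (.inl e4.symm))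
      · exact .inl (by rw [← e4, ll])
    · push Not at hn
      obtain ⟨y, hy, ya, yl⟩ := hn
      have := cm y hy ya
      exact .inr ⟨y, ya, e1.imp (fun e => by rwa [e] at this) fun e => by rwa [e] at this, yl⟩
  rcases e2 with e | e | e | e
  · exact .inl (e3.imp (·.trans e) fun e3 => .inr (.inl (by rw [e3, e, one_mul])))
  · exact fin (fun y hy _ => e ▸ h.hQ.cen y hy) (.inl e)
  · exact .inl (.inr (e3.imp (·.trans e) fun e3 => .inr (by rw [e3, e, c])))
  · exact fin (fun y hy ya => e ▸ Commute.mul_right ya (h.hQ.cen y hy)) (.inr e)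

end Cfsg.Agent.H74.Ms
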