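/-
The centralizer of a four-group of the Monster tells a 2A involution from a 2B involution.
-/
import Cfsg.Agent.H74.MsKey

set_option autoImplicit false

namespace Cfsg.Agent.H74.Ms

open Cfsg Subgroup Cfsg.Agent.H48 Cfsg.Agent.H49 Cfsg.Agent.H48.Rec Cfsg.Agent.H48.Mid
open Cfsg.Agent.H74.Mon Cfsg.Agent.H97.Gr Cfsg.Agent.H97.Gr.B6b Cfsg.Agent.H70.Mid
open Cfsg.Agent.H97.Yt (M)
open Cfsg.Agent.H49.Mid (PI mem_pair)

theorem two_le {G : Type*} [Group G] [Finite G] {A B : Subgroup G} (h : A ≤ B) {x : G}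
    (h1 : x ∈ B) (h2 : x ∉ A) : Nat.card A * 2 ≤ Nat.card B := by
  have a := (A.subgroupOf B).card_mul_index
  rw [Nat.card_congr (subgroupOfEquivOfLe h).toEquiv] at a
  have b : (A.subgroupOf B).index ≠ 1 := fun e => h2 (subgroupOf_eq_top.1 (index_eq_one.1 e) h1)
  have c : (A.subgroupOf B).index ≠ 0 := index_ne_zero_of_finite
  exact a ▸ Nat.mul_le_mul_left _ (by omega)

theorem pi_inv {A G : Type*} [Group A] [Group G] {S : Subgroup A} {T : Subgroup G} {f : A → G}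
    (p : PI S T f) {a : A} (ha : a ∈ S) : f a⁻¹ = (f a)⁻¹ :=
  eq_inv_of_mul_eq_one_left (by rw [← p.mul _ (inv_mem ha) _ ha, inv_mul_cancel, p.one])

theorem conj_cent {G : Type*} [Group G] {a k x : G} (ka : k * a = a * k)
    (hx : x ∈ centralizer {a}) : k * x * k⁻¹ ∈ centralizer {a} :=
  have := mem_centralizer_singleton_iff.2 ka
  mul_mem (mul_mem this hx) (inv_mem this)

variable {Q : Subgroup M} {z : M} {θ : centralizer ({z} : Set M) →* Spor.Co1} {R : Lam → M → Prop}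
  {a : M}

theorem mul_cases (ha : a ∈ DD) (hz : z ∈ ZZ) (c : a * z = z * a) : z * a ∈ DD ∨ z * a ∈ ZZ := by
  obtain ⟨_, _, _, h, -⟩ := H49.Mid.md_at hz
  refine (two_real _ ?_).resolve_left fun e => disj_DD_ZZ ha ?_
  · rw [mul_assoc, ← mul_assoc a, c, mul_assoc, DD_sq ha, mul_one, h.hQ.zz]
  · rwa [← DD_inv ha, ← eq_inv_of_mul_eq_one_left e]

theorem exists_root (h : MD Q z θ R) (hz : z ∈ ZZ) (ha : a ∈ DD) (c : a * z = z * a) :
    ∃ x ∈ Q ⊓ centralizer {a}, x * x = z := by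
  rcases mul_cases ha hz c with e | e
  · have aQ := mem_of_DD h hz ha e
    have k1 := half (X := Q) fun y hy => h.hQ.conj aQ hy
    rw [h.card] at k1
    obtain ⟨x, hx, y, hy, e⟩ := exists_nc h.hQ.toXS (X := Q ⊓ centralizer {a}) inf_le_left
      ⟨h.hQ.mem, mem_centralizer_singleton_iff.2 c.symm⟩ (by
        rw [h.card]
        exact lt_of_lt_of_le (by norm_num) (Nat.mul_self_le_mul_self (by omega : 2 ^ 23 ≤ _)))
    by_contra! hn
    have s : ∀ x ∈ Q ⊓ centralizer {a}, x⁻¹ = x := fun x hx =>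
      inv_eq_of_mul_eq_one_right ((h.hQ.sq hx.1).resolve_right (hn x hx))
    exact e (by rw [← s _ (mul_mem hx hy), mul_inv_rev, s x hx, s y hy])
  · obtain ⟨θ, R, h, as⟩ := over_zt h hz ha c e
    obtain ⟨v, hv, hn⟩ := exists_odd_fix_zt
    obtain ⟨q, r⟩ := h.ex2 v
    exact ⟨q, ⟨h.mem r, mem_centralizer_singleton_iff.2 (comm_fix h ha e as v q r hv)⟩,
      (h.hQ.sq (h.mem r)).resolve_left fun e => hn ((h.sq_iff r).1 e)⟩

theorem lift_cent (h : MD Q z θ R) (ha : a ∈ DD) (za : z * a ∈ ZZ) (as : Ass θ zt a) {μ : Co0}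
    (hμ : mk1 μ ∈ centralizer ({z0} : Set Spor.Co1)) : ∃ k, Ass θ μ k ∧ k * a = a * k := by
  obtain ⟨x, ax⟩ := h.exists_ass' μ
  have b : Ass θ zt (x * a * x⁻¹) := ass_of_eq ((ax.mul as).mul ax.inv) (by
    rw [map_mul, map_mul, map_inv, eq_mul_inv_iff_mul_eq]
    exact (mem_centralizer_singleton_iff.1 hμ).symm)
  have hb := mrep.conj x a ha
  have zb : z * (x * a * x⁻¹) ∈ ZZ := by
    have := ZZ_conj x za
    rwa [← mul_assoc, ax.comm, mul_assoc z, mul_assoc z] at this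
  obtain ⟨v, r⟩ := h.ex1 _ (ass_sub h as b)
  obtain ⟨u, hu⟩ := perp_zt (v := v) (fix_of_sq h as (DD_sq ha) r (by
    rw [mul_inv_cancel_left, DD_sq hb])) fun f hf => by
    obtain ⟨t, rt⟩ := h.ex2 f
    rw [← h.comm_iff r rt]
    exact (Commute.mul_right (Commute.inv_right (comm_fix h ha za as f t rt hf))
      (comm_fix h hb zb b f t rt hf)).symm
  obtain ⟨q, rq⟩ := h.ex2 u
  have qQ := h.mem rq
  rcases (h.uniq (h.mul (h.act' as rq) (h.inv rq)) r).1 (by rw [add_comm]; exact hu.symm)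
    with e | e <;> rw [DD_inv ha, mul_assoc a q, mul_assoc a (q * a)] at e
  · refine ⟨q⁻¹ * x, by simpa using (h.ass_one (inv_mem qQ)).mul ax, ?_⟩
    rw [← mul_inv_eq_iff_eq_mul]
    calc _ = q⁻¹ * (x * a * x⁻¹) * q := by group
      _ = _ := by rw [mul_left_cancel e]; group
  · refine absurd (ZZ_conj q za) (disj_DD_ZZ ?_)
    rw [mul_assoc a, mul_right_inj, mul_assoc _ _ z, h.hQ.cen _ (inv_mem qQ),
      ← mul_assoc (q * a), mul_assoc q, as.comm] at e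
    exact e ▸ hb

theorem img_le_Q0 (h : MD Q z θ R) (ha : a ∈ DD) (za : z * a ∈ ZZ) (as : Ass θ zt a)
    {X : Subgroup M} (h2 : IsPGroup 2 X) (hle : ∀ x ∈ X, x * a = a * x)
    (hn : ∀ k, k * z = z * k → k * a = a * k → ∀ x ∈ X, k * x * k⁻¹ ∈ X) : img θ X ≤ Q0 := by
  refine le_Q0 (h2.comap_subtype.map θ) ?_ fun c hc g hg => ?_
  · rintro _ ⟨x, hx, rfl⟩
    rw [mem_centralizer_singleton_iff, show z0 = θ ⟨a, as.1⟩ from as.2, ← map_mul, ← map_mul]
    exact congrArg θ (Subtype.ext (hle x hx))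
  · obtain ⟨μ, rfl⟩ := mk1_surj c
    obtain ⟨g, rfl⟩ := mk1_surj g
    obtain ⟨k, ak, ka⟩ := lift_cent h ha za as hc
    obtain ⟨x, hx, ax⟩ := mem_img.1 hg
    rw [← map_inv, ← map_mul, ← map_mul]
    exact mem_img.2 ⟨_, hn k ak.comm ka x hx, (ak.mul ax).mul ak.inv⟩

theorem card_fix (h : MD Q z θ R) (hz : z ∈ ZZ) (ha : a ∈ DD) (c : a * z = z * a)
    (za : z * a ∈ ZZ) : 2 ^ 17 ≤ Nat.card ↥(Q ⊓ centralizer {a}) := by
  obtain ⟨θ, R, h, as⟩ := over_zt h hz ha c za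
  have := le_card_fix h (comm_fix h ha za as)
  rwa [card_zt.2] at this

theorem img_eq_Q0 (h : MD Q z θ R) (hz : z ∈ ZZ) (ha : a ∈ DD) (za : z * a ∈ ZZ)
    (as : Ass θ zt a) {g : Co0} (hg : g ∈ Qt) :
    ∃ y, Ass θ g y ∧ y * a = a * y ∧ (y * y = 1 ∨ y * y = z * a) := by
  obtain ⟨Q', θ', R', h', -⟩ := H49.Mid.md_at za
  have e0 : z * a * a = z := by rw [mul_assoc, DD_sq ha, mul_one]
  have c' : a * (z * a) = z * a * a := by rw [← mul_assoc, as.comm]
  have cz : ∀ x ∈ Q' ⊓ centralizer {a}, x * z = z * x := fun x hx => e0 ▸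
    Commute.mul_right (h'.hQ.cen x hx.1) (mem_centralizer_singleton_iff.1 hx.2)
  have zQ : z ∉ Q' := fun e => by
    have aQ : a ∈ Q' := by
      have := mul_mem (inv_mem e) h'.hQ.mem
      rwa [inv_mul_cancel_left] at this
    exact disj_DD_ZZ (mul_DD h' za ha aQ) (e0.symm ▸ hz)
  have k1 := card_fix h hz ha as.comm za
  have k2 := card_fix h' za ha c' (e0.symm ▸ hz)
  have zX : z ∈ Q ⊓ centralizer {a} := ⟨h.hQ.mem, mem_centralizer_singleton_iff.2 as.comm.symm⟩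
  have k3 := h.hQ.card_mul_card_centralizer_of_mem inf_le_left zX
  have k4 := two_le (A := Q ⊓ (Q' ⊓ centralizer {a}))
    (B := Q ⊓ centralizer (Q ⊓ centralizer {a} : Subgroup M)) (fun i hi => ⟨hi.1, fun x hx => by
      by_contra hn
      refine zQ (h.hQ.commutator_eq_z hx.1 hi.1 hn ▸ mul_mem (h'.hQ.conj_mem ?_ hi.2.1)
        (inv_mem hi.2.1))
      exact Commute.mul_right (h.hQ.cen x hx.1) (mem_centralizer_singleton_iff.1 hx.2)⟩)
    (h.hQ.z_mem_inf_centralizer fun _ hx => hx.1) fun e => zQ e.2.1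
  have k5 := card_img h (H := Q' ⊓ centralizer {a}) fun x hx =>
    mem_centralizer_singleton_iff.2 (cz x hx)
  have k6 := img_le_Q0 h ha za as (X := Q' ⊓ centralizer {a}) h'.hQ.isPGroup.to_inf_left
    (fun x hx => mem_centralizer_singleton_iff.1 hx.2) fun k kz ka x hx =>
      ⟨h'.hQ.conj_mem (Commute.mul_right kz ka) hx.1, conj_cent ka hx.2⟩
  rw [h.card] at k3
  have k7 : Nat.card ↥(Q ⊓ centralizer (Q ⊓ centralizer {a} : Subgroup M)) ≤ 2 ^ 9 := by
    by_contra hn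
    have := Nat.mul_le_mul k1 (not_le.1 hn)
    omega
  have k8 : img θ (Q' ⊓ centralizer {a}) = Q0 := eq_of_le_of_card_ge k6 (by
    rw [card_Q0]
    by_contra hn
    have := Nat.mul_le_mul (by omega : Nat.card ↥(Q ⊓ (Q' ⊓ centralizer {a})) ≤ 2 ^ 8)
      (Nat.le_sub_one_of_lt (not_le.1 hn))
    omega)
  obtain ⟨y, hy, ay⟩ := mem_img.1 (k8.ge (mem_map_of_mem mk1 hg))
  exact ⟨y, ay, mem_centralizer_singleton_iff.1 hy.2, h'.hQ.sq hy.1⟩

theorem calc1 {G : Type*} [Group G] {a x y z : G} (zz : z * z = 1) (xx : x * x = a)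
    (yy : y * y = z * a) (yz : y * z = z * y) :
    y * (y⁻¹ * x) * y⁻¹ = (y⁻¹ * x)⁻¹ * z := by
  calc y * (y⁻¹ * x) * y⁻¹ = x⁻¹ * (x * x) * y⁻¹ := by group
    _ = x⁻¹ * (z * (z * a)) * y⁻¹ := by rw [xx, ← mul_assoc z, zz, one_mul]
    _ = _ := by rw [← yy, mul_inv_rev, inv_inv, mul_assoc _ y z, yz]; group

theorem calc2 {G : Type*} [Group G] {a q y z : G} (ya : y * a = a * y) (az : a * z = z * a)
    (qz : q⁻¹ * z = z * q⁻¹) (e : y * (q * (a * q⁻¹ * a⁻¹)) * y⁻¹ = q * (a * q⁻¹ * a⁻¹) * z) :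
    y * q * a * (y * q)⁻¹ = q * (z * a) * q⁻¹ := by
  calc y * q * a * (y * q)⁻¹ = y * (q * (a * q⁻¹ * a⁻¹)) * y⁻¹ * (y * a * y⁻¹) := by group
    _ = q * a * (q⁻¹ * (a⁻¹ * (z * a))) := by rw [e, ya]; group
    _ = _ := by rw [← az, inv_mul_cancel_left, qz]; group

/-- a 2A involution is not a square in a normal 2-subgroup -/
theorem no_root (hz : z ∈ ZZ) (ha : a ∈ DD) (c : a * z = z * a) {X : Subgroup M}
    (h2 : IsPGroup 2 X) (hle : ∀ x ∈ X, x * z = z * x ∧ x * a = a * x)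
    (hn : ∀ k, k * z = z * k → k * a = a * k → ∀ x ∈ X, k * x * k⁻¹ ∈ X) {x : M} (hx : x ∈ X) :
    x * x ≠ a := fun xx => by
  obtain ⟨Q, θ, R, h, T⟩ := H49.Mid.md_at hz
  rcases mul_cases ha hz c with za | za
  · obtain ⟨v, hv, r⟩ := T a ha za
    rcases h.hQ.sq (h.le_of_normal_two r hv h2 (fun x hx => ⟨mem_centralizer_singleton_iff.2
      (hle x hx).1, mem_centralizer_singleton_iff.2 (hle x hx).2⟩) hn hx) with e | e
    · exact mrep.ne a ha (xx.symm.trans e)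
    · exact disj_DD_ZZ ha (xx.symm.trans e ▸ hz)
  obtain ⟨θ, R, h, as⟩ := over_zt h hz ha c za
  have xz := mem_centralizer_singleton_iff.2 (hle x hx).1
  obtain ⟨g, hg, e⟩ := img_le_Q0 h ha za as h2 (fun x hx => (hle x hx).2) hn
    (mem_map_of_mem θ (x := ⟨x, xz⟩) hx)
  have ax : Ass θ g x := ⟨xz, e⟩
  have aa : Ass θ (g * g) a := xx ▸ ax.mul ax
  have gg : g * g = zt ∨ g * g = negEl * zt :=
    (mem_center_Co0.1 ((h.ass_mem_iff (aa.mul as.inv)).1 (by simp))).imp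
      mul_inv_eq_one.1 mul_inv_eq_iff_eq_mul.1
  obtain ⟨y, ay, ya, yy⟩ := img_eq_Q0 h hz ha za as hg
  replace yy := yy.resolve_left fun e => disj_DD_ZZ (mul_DD h hz ha (by
    simpa [e] using ass_sub h (ay.mul ay) aa)) za
  obtain ⟨v, r⟩ := h.ex1 _ (ass_sub h ay ax)
  have e1 := calc1 h.hQ.zz xx yy ay.comm
  obtain ⟨u, hu⟩ := root_fix gg (Qt_fix hg) ((h.uniq (h.inv r) (h.act' ay r)).2 (.inr e1))
  rw [inv_eq_of_mul_eq_one_right ((h.sq_iff (h.cg r hu)).2 (norm_cm_zt u))] at e1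
  obtain ⟨q, rq⟩ := h.ex2 u
  refine disj_DD_ZZ (DD_of ha (y * q) (calc2 ya c (h.hQ.cen _ (inv_mem (h.mem rq))) ?_))
    (ZZ_conj q za)
  rcases (h.uniq r (h.mul rq (h.act' as (h.inv rq)))).1 hu with e | e <;> rw [e]
  · exact e1
  · rw [← mul_assoc y _ z, mul_assoc _ z, ← ay.inv.comm, ← mul_assoc _ _ z, e1]

theorem dvd_card_nb {y : M} (ha : a ∈ DD) (hy : y ∈ DD) (ay : a * y ∈ DD) :
    19 ∣ Nat.card (centralizer ({a, y} : Set M)) := by
  have h1 := (H97.Mj.card_nb mloc meq_real ha (nb_ne _ ha)).1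
  have h2 := card_cent ha
  have h3 : (centralizer {y}).relIndex (centralizer ({a} : Set M)) = 27143910000 := by
    have c := mem_centralizer_singleton_iff.2 (comm_of_mul ha hy ay).symm
    have e : (centralizer {y}).subgroupOf (centralizer {a}) = centralizer {⟨y, c⟩} :=
      Subgroup.ext fun x => by
        rw [mem_subgroupOf, mem_centralizer_singleton_iff, mem_centralizer_singleton_iff]
        exact ⟨fun e => Subtype.ext e, congrArg Subtype.val⟩
    rw [relIndex, e, ← card_class, ← h1, Nat.card_coe_set_eq, ← Set.ncard_coe_finset,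
      ← Set.ncard_image_of_injective _ Subtype.val_injective]
    congr 1
    ext x
    rw [Finset.mem_coe, H97.Mj.mem_nb]
    constructor
    · rintro ⟨_, hc, rfl⟩
      obtain ⟨⟨g, hg⟩, rfl⟩ := isConj_iff.1 hc
      refine ⟨mrep.conj g y hy, DD_of ay g ?_⟩
      rw [← mul_assoc g, mem_centralizer_singleton_iff.1 hg, mul_assoc a, mul_assoc a]
      rfl
    · rintro ⟨h1, h2⟩
      obtain ⟨g, hg, rfl⟩ := trans_nb ha hy h1 ay h2
      exact ⟨_, isConj_iff.2 ⟨⟨g, mem_centralizer_singleton_iff.2 hg⟩, rfl⟩, rfl⟩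
  have h4 := XS.card_mul_relIndex' (centralizer {y}) (centralizer ({a} : Set M))
  rw [h2, h3, ← centralizer_pair] at h4
  omega

theorem noz {m n : M} (ha : a ∈ DD) (nn : n * n = 1) (na : n * a = a * n) (n1 : n ≠ 1)
    (n2 : n ≠ a) (c : a * m = m * a) {φ : M → M}
    (p : PI (centralizer {a, n}) (centralizer {m, a}) φ) (e : φ a = m) : m ∉ ZZ := fun hm => by
  obtain ⟨Q, θ, R, h, -⟩ := H49.Mid.md_at hm
  have key : ∀ z ∈ ZZ, z = n ∨ z = n * a → False := fun z hz ez => by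
    have iff : ∀ k, k * a = a * k → (k * n = n * k ↔ k * z = z * k) := fun k ka => by
      rcases ez with rfl | rfl
      · rfl
      · rw [← mul_assoc, mul_assoc n, ← ka, ← mul_assoc, mul_left_inj]
    obtain ⟨x, hx, xx⟩ := exists_root h hm ha c
    obtain ⟨x, mx, rfl⟩ := p.surj x (mem_pair.2
      ⟨h.hQ.cen x hx.1, mem_centralizer_singleton_iff.1 hx.2⟩)
    let X : Subgroup M :=
      { carrier := {x | x ∈ centralizer {a, n} ∧ φ x ∈ Q}
        one_mem' := ⟨one_mem _, by rw [p.one]; exact one_mem _⟩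
        mul_mem' := fun a b => ⟨mul_mem a.1 b.1, p.mul _ a.1 _ b.1 ▸ mul_mem a.2 b.2⟩
        inv_mem' := fun a => ⟨inv_mem a.1, pi_inv p a.1 ▸ inv_mem a.2⟩ }
    refine no_root hz ha ((iff a rfl).1 na.symm) (X := X) (fun ⟨y, hy, yQ⟩ => ⟨2, Subtype.ext
      (p.inj _ (pow_mem hy _) _ (one_mem _) ?_)⟩) (fun y hy => ⟨(iff y (mem_pair.1 hy.1).1).1
        (mem_pair.1 hy.1).2, (mem_pair.1 hy.1).1⟩) (fun k kz ka y hy => ?_) ⟨mx, hx.1⟩
      (p.inj _ (mul_mem mx mx) _ (mem_pair.2 ⟨rfl, na.symm⟩) (by rw [p.mul _ mx _ mx, xx, e]))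
    · rw [p.pow hy]
      exact (h.hQ.pow_four yQ).trans p.one.symm
    · have hk := mem_pair.2 ⟨ka, (iff k ka).2 kz⟩
      refine ⟨mul_mem (mul_mem hk hy.1) (inv_mem hk), ?_⟩
      rw [p.mul _ (mul_mem hk hy.1) _ (inv_mem hk), p.mul _ hk _ hy.1, pi_inv p hk]
      exact h.hQ.conj_mem (mem_pair.1 (p.maps k hk)).1 hy.2
  rcases (two_real n nn).resolve_left n1 with e1 | e1
  · rcases two_real (n * a) (by
      rw [mul_assoc, ← mul_assoc a, ← na, mul_assoc, DD_sq ha, mul_one, nn]) with e2 | e2 | e2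
    · exact n2 (by rw [← DD_inv ha, ← eq_inv_of_mul_eq_one_left e2])
    · obtain ⟨ε, -⟩ := p.equiv
      have := (dvd_card_nb ha e1 (na ▸ e2)).trans (Nat.card_congr ε.toEquiv ▸ card_dvd_of_le
        (centralizer_le (Set.singleton_subset_iff.2 (Set.mem_insert m {a}))))
      rw [md_card h] at this
      omega
    · exact key _ e2 (.inr rfl)
  · exact key _ e1 (.inl rfl)

end Cfsg.Agent.H74.Ms
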