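/-
A standard subgroup with centre of order two that is the full centralizer of its centre.
-/
import Cfsg.Agent.H10.Std1
import Cfsg.Agent.H62.CITLocal
import Cfsg.Agent.H49.Syl

set_option autoImplicit false

open scoped Pointwise
open Subgroup

namespace Cfsg.Agent.H74.Ms

open Cfsg.Agent.H8 Cfsg.Agent.H10 Cfsg.Agent.H10.Std Cfsg.Agent.H98

local notation "C[" A "]" => Subgroup.centralizer (SetLike.coe A)
local notation "C1[" x "]" => Subgroup.centralizer ({x} : Set _)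

variable {G : Type*} [Group G] [Finite G]

theorem burn (hO : ∀ N : Subgroup G, N.Normal → Odd (Nat.card N) → N = ⊥) (K : Subgroup G)
    [K.Normal] (P : Sylow 2 K) (hP : normalizer ((P : Subgroup K) : Set K) ≤ centralizer P) :
    (P : Subgroup K) = ⊤ := by
  have : Fact (Nat.Prime 2) := ⟨Nat.prime_two⟩
  have h0 : pPrimeCore 2 K = ⊥ := by
    have := H3.pPrimeCore_characteristic 2 K
    exact H52.map_subtype_eq_bot_iff.1 (hO _ inferInstance
      (Nat.coprime_two_right.1 (H3.map_pPrimeCore_coprime K)))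
  have h1 := MonoidHom.ker_transferSylow_isComplement' P hP
  rwa [(eq_bot_iff (a := (MonoidHom.transferSylow P hP).ker)).2 (h0 ▸ H3.le_pPrimeCore ((Nat.prime_two.coprime_iff_not_dvd.2
    (MonoidHom.not_dvd_card_ker_transferSylow P hP)).symm)), isComplement'_bot_left] at h1

theorem burn' (hO : ∀ N : Subgroup G, N.Normal → Odd (Nat.card N) → N = ⊥) (K : Subgroup G)
    [K.Normal] (h : ∀ x ∈ K, ∀ n, x ^ 2 ^ n = 1 → ∀ y ∈ K, x * y = y * x) {x : G} (hx : x ∈ K) :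
    ∃ n, x ^ 2 ^ n = 1 := by
  obtain ⟨P⟩ := (Sylow.nonempty : Nonempty (Sylow 2 K))
  obtain ⟨n, e⟩ := P.isPGroup' ⟨⟨x, hx⟩, (burn hO K P fun y _ a ha => by
    obtain ⟨n, e⟩ := P.isPGroup' ⟨a, ha⟩
    exact Subtype.ext (h a a.2 n (congrArg (fun x => x.1.1) e) y y.2)).ge (mem_top _)⟩
  exact ⟨n, congrArg (fun x => x.1.1) e⟩

omit [Finite G] in
theorem odd_bot {t : G} (h : centralizerPPrimeCore 2 t = ⊥) (N : Subgroup C1[t]) (hN : N.Normal)
    (ho : Odd (Nat.card N)) : N = ⊥ :=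
  eq_bot_iff.2 (H52.map_subtype_eq_bot_iff.1 h ▸ H3.le_pPrimeCore ho.coprime_two_right)

/-- a standard subgroup without outer automorphisms whose centre has order two -/
structure St (A : Subgroup G) (t : G) : Prop where
  ctr : Ctr A t
  inn : ∀ x, Commute x t → Inner A x
  cap : ∀ x ∈ A, x ∈ C[A] → x = 1 ∨ x = t

omit [Finite G] in
theorem St.conj {A : Subgroup G} {t : G} (h : St A t) (g : G) :
    St (MulAut.conj g • A) (g * t * g⁻¹) where
  ctr := h.ctr.conj g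
  inn := fun x hx => by
    have := (h.inn (g⁻¹ * x * g) (by
      calc g⁻¹ * x * g * t = g⁻¹ * (x * (g * t * g⁻¹)) * g := by group
        _ = _ := by rw [hx.eq]; group)).conj g
    rwa [show g * (g⁻¹ * x * g) * g⁻¹ = x by group] at this
  cap := fun x hx hk => by
    rw [centralizer_conj_smul] at hk
    exact (h.cap _ (mem_conj_smul.1 hx) (mem_conj_smul.1 hk)).imp
      (fun e => by rw [show x = g * (g⁻¹ * x * g) * g⁻¹ by group, e]; group)
      fun e => by rw [← e]; group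

/-- a pair of such subgroups with commuting centres -/
structure Pr (A : Subgroup G) (t : G) (B : Subgroup G) (u : G) : Prop where
  l : St A t
  r : St B u
  comm : Commute u t
  disj : ∀ s ∈ C[A], s ∈ C[B] → ∀ n, s ^ 2 ^ n = 1 → s = 1

omit [Finite G] in
theorem Pr.symm {A B : Subgroup G} {t u : G} (h : Pr A t B u) : Pr B u A t :=
  ⟨h.r, h.l, h.comm.symm, fun s a b => h.disj s b a⟩

theorem St.pr {A : Subgroup G} {t g : G} (h : St A t) (hc : Commute (g * t * g⁻¹) t)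
    (hne : g * t * g⁻¹ ≠ t) : Pr A t (MulAut.conj g • A) (g * t * g⁻¹) := by
  refine ⟨h, h.conj g, hc, fun s a b n e => by_contra fun h1 => hne ?_⟩
  have : Fact (Nat.Prime 2) := ⟨Nat.prime_two⟩
  obtain ⟨x, hx, ho⟩ := exists_orderOf_eq_of_ne_bot (p := 2) (isPGroup_zpowers_of_pow e)
    (by rwa [Ne, zpowers_eq_bot])
  have := norm_of_conj_mem h.ctr.std (g := g⁻¹) ho (zpowers_le_of_mem a hx) (by
    rw [centralizer_conj_smul] at b
    rw [inv_inv]
    exact mem_conj_smul.1 (zpowers_le_of_mem b hx))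
  rw [h.ctr.norm_eq] at this
  rw [(mem_cent1.1 (inv_mem_iff.1 this)).eq, mul_inv_cancel_right]

/-- the property of the model that is used -/
def Key (A : Subgroup G) (t : G) : Prop := ∀ l ∈ A, l * l = 1 → l ≠ 1 → l ≠ t →
  ∃ Y ≤ A, IsPGroup 2 Y ∧ (∀ y ∈ Y, y * l = l * y) ∧ ∀ f ∈ A, ∀ n, f ^ 2 ^ n = 1 →
    (∀ y ∈ Y, f * y * f⁻¹ = y ∨ f * y * f⁻¹ = y * l) → (f = 1 ∨ f = t ∨ f = l ∨ f = l * t) ∨
      ∃ c ∈ A, (c * f = f * c ∨ c * (f * l) = f * l * c) ∧ c * l ≠ l * c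

namespace Pr

variable {A B : Subgroup G} {t u : G} (h : Pr A t B u)
include h

omit [Finite G] in
theorem not_mem : u ∉ C[A] := fun e => ne_one_of_orderOf_two h.r.ctr.ord
  (h.disj u e h.r.ctr.memK 1 (by rw [pow_one, ← h.r.ctr.ord, pow_orderOf_eq_one]))

omit [Finite G] in
theorem dec : (∃ l ∈ A, ∃ k ∈ C[A], u = l * k ∧ l * l = 1 ∧ (u ∈ A → u = l)) ∨
    ∃ l ∈ A, ∃ k ∈ C[A], u = l * k ∧ k * k = t := by
  have uu := mul_self_of_orderOf_two h.r.ctr.ord
  by_cases hu : u ∈ A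
  · exact .inl ⟨u, hu, 1, one_mem _, (mul_one u).symm, uu, fun _ => rfl⟩
  obtain ⟨l, hl, k, hk, e⟩ := h.l.inn u h.comm
  have e1 : k * k = (l * l)⁻¹ := eq_inv_of_mul_eq_one_right (by
    rw [(comm_of_mem hl hk).mul_mul_mul_comm, ← e, uu])
  rcases h.l.cap _ (e1 ▸ inv_mem (mul_mem hl hl)) (mul_mem hk hk) with e2 | e2
  · exact .inl ⟨l, hl, k, hk, e, inv_eq_one.1 (e1.symm.trans e2), fun e => absurd e hu⟩
  · exact .inr ⟨l, hl, k, hk, e, e2⟩

omit [Finite G] in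
theorem ascent {l k : G} (hl : l ∈ A) (hk : k ∈ C[A]) (e : u = l * k) (kk : k * k = t) {c : G}
    (ct : Commute c t) {m : ℕ} (cm : c ^ 2 ^ m = u) : ∃ c, Commute c u ∧ c ^ 2 ^ (m + 1) = t := by
  obtain ⟨a, ha, b, hb, rfl⟩ := h.l.inn c ct
  rw [(comm_of_mem ha hb).mul_pow, e] at cm
  have e1 : b ^ 2 ^ m * k⁻¹ = (a ^ 2 ^ m)⁻¹ * l := by
    rw [mul_inv_eq_iff_eq_mul, mul_assoc, ← cm, inv_mul_cancel_left]
  have bt := h.l.ctr.comm_K hb
  have kt := h.l.ctr.comm_K hk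
  refine ⟨b, ?_⟩
  rw [e, pow_succ, pow_mul, sq]
  rcases h.l.cap _ (e1 ▸ mul_mem (inv_mem (pow_mem ha _)) hl)
    (mul_mem (pow_mem hb _) (inv_mem hk)) with e2 | e2
  · rw [mul_inv_eq_one] at e2
    exact ⟨(comm_of_mem hl hb).symm.mul_right (e2 ▸ Commute.self_pow b _), by rw [e2, kk]⟩
  · rw [mul_inv_eq_iff_eq_mul] at e2
    refine ⟨(comm_of_mem hl hb).symm.mul_right ?_, ?_⟩
    · rw [eq_inv_mul_of_mul_eq e2.symm]
      exact bt.inv_right.mul_right (Commute.self_pow b _)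
    · rw [e2, kt.mul_mul_mul_comm, mul_self_of_orderOf_two h.l.ctr.ord, one_mul, kk]

theorem not_both (h1 : ∃ l ∈ A, ∃ k ∈ C[A], u = l * k ∧ k * k = t)
    (h2 : ∃ l ∈ B, ∃ k ∈ C[B], t = l * k ∧ k * k = u) : False := by
  obtain ⟨l, hl, k, hk, e, kk⟩ := h1
  obtain ⟨l', hl', k', hk', e', kk'⟩ := h2
  have key : ∀ m : ℕ, (∃ c, Commute c u ∧ c ^ 2 ^ m = t) ∧ ∃ c, Commute c t ∧ c ^ 2 ^ m = u := by
    intro m
    induction m with
    | zero => exact ⟨⟨t, h.comm.symm, by simp⟩, u, h.comm, by simp⟩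
    | succ m ih =>
      obtain ⟨⟨c, c1, c2⟩, d, d1, d2⟩ := ih
      exact ⟨h.ascent hl hk e kk d1 d2, h.symm.ascent hl' hk' e' kk' c1 c2⟩
  obtain ⟨c, -, e⟩ := (key (Nat.card G)).1
  have : Fact (Nat.Prime 2) := ⟨Nat.prime_two⟩
  have h1 := orderOf_eq_prime_pow (x := c) (p := 2) (n := Nat.card G)
    (e ▸ ne_one_of_orderOf_two h.l.ctr.ord)
    (by rw [pow_succ, pow_mul, e, ← h.l.ctr.ord, pow_orderOf_eq_one])
  have h2 := _root_.orderOf_le_card (x := c)
  have h3 := Nat.lt_two_pow_self (n := Nat.card G + 1)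
  omega

theorem two_elt (K : Key A t) {l k : G} (hl : l ∈ A) (hk : k ∈ C[A]) (e : u = l * k)
    (ll : l * l = 1) (hu : u ∈ A → u = l) {x : G} (hx : x ∈ C[B]) (xt : Commute x t) {n : ℕ}
    (xn : x ^ 2 ^ n = 1) : x = 1 ∨ x = u := by
  have : Fact (Nat.Prime 2) := ⟨Nat.prime_two⟩
  have uu := mul_self_of_orderOf_two h.r.ctr.ord
  have tt := mul_self_of_orderOf_two h.l.ctr.ord
  have tK := h.l.ctr.memK
  obtain ⟨Y, YA, Y2, Yl, HY⟩ := K l hl ll (fun e1 => h.not_mem (by rwa [e, e1, one_mul]))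
    fun e1 => h.not_mem (by rw [e, e1]; exact mul_mem tK hk)
  obtain ⟨P, hP, YP⟩ := exists_sylIn_ge (U := Y) (H := C1[t] ⊓ C1[u]) (fun y hy =>
    ⟨mem_cent1.2 (comm_of_mem (YA hy) tK), mem_cent1.2
      (e ▸ Commute.mul_right (Yl y hy) (comm_of_mem (YA hy) hk))⟩) Y2
  have nK : ∀ c, Commute c u → ∀ y ∈ C[B], c * y * c⁻¹ ∈ C[B] := fun c hc y hy => by
    have := mem_cent1.2 hc
    rw [← h.r.ctr.norm_eq, h.r.ctr.std.2.2.2] at this
    exact (mem_normalizer_iff.1 this y).1 hy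
  have nU : ∀ c, Commute c u → ∀ y ∈ zpowers u, c * y * c⁻¹ = y := fun c hc y ⟨i, hy⟩ => by
    rw [← hy, (hc.zpow_right i).eq, mul_inv_cancel_right]
  have uP : zpowers u ≤ P := H49.le_sylIn_of_normal hP
    (isPGroup_zpowers_of_pow (k := 1) (by rw [pow_one, sq, uu]))
    (zpowers_le_of_mem ⟨mem_cent1.2 h.comm, mem_cent1.2 rfl⟩) fun c hc =>
      H49.mem_normalizer_of_conj_mem fun y hy => by rwa [nU c (mem_cent1.1 (hP.le hc).2) y hy]
  suffices P ⊓ C[B] ≤ zpowers u by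
    obtain ⟨c, hc, e⟩ := hP.exists_conj_le (zpowers_le_of_mem
      ⟨mem_cent1.2 xt, mem_cent1.2 (h.r.ctr.comm_K hx)⟩) (isPGroup_zpowers_of_pow xn)
    have cu := mem_cent1.1 hc.2
    have h1 := this ⟨e (conj_mem_map_conj (mem_zpowers x)), nK c cu x hx⟩
    have h2 := nU _ cu.inv_left _ h1
    rw [show c⁻¹ * (c * x * c⁻¹) * c⁻¹⁻¹ = x by group] at h2
    exact (H49.mem_zpowers_invol uu).1 (h2 ▸ h1)
  by_contra hn
  obtain ⟨f, ⟨fP, fK⟩, fu, hf⟩ := H62.exists_central_mod hP.isPGroup inf_le_left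
    (le_inf uP (zpowers_le_of_mem h.r.ctr.memK)) hn (fun s hs y hy =>
      ⟨P.mul_mem (P.mul_mem hs hy.1) (P.inv_mem hs), nK s (mem_cent1.1 (hP.le hs).2) y hy.2⟩)
    fun s hs y hy => by rwa [nU s (mem_cent1.1 (hP.le hs).2) y hy]
  have two : ∀ y ∈ P, ∃ n, y ^ 2 ^ n = 1 := fun y hy =>
    (hP.isPGroup ⟨y, hy⟩).imp fun n e => congrArg Subtype.val e
  obtain ⟨a, ha, b, hb, rfl⟩ := h.l.inn f (mem_cent1.1 (hP.le fP).1)
  have ab := comm_of_mem ha hb
  obtain ⟨m, hm⟩ := two _ fP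
  have am : a ^ 2 ^ (m + 1) = 1 := by
    rw [ab.mul_pow] at hm
    rw [pow_succ, pow_mul, sq]
    rcases h.l.cap _ (pow_mem ha (2 ^ m))
      (eq_inv_of_mul_eq_one_left hm ▸ inv_mem (pow_mem hb _)) with e | e <;> rw [e]
    exacts [mul_one 1, tt]
  have eu : a * b * u = a * l * (b * k) := by
    rw [e, (comm_of_mem hl hb).symm.mul_mul_mul_comm]
  have m1 : a * b * u ∈ P := mul_mem fP (uP (mem_zpowers u))
  have m2 : a * b * u ∈ C[B] := mul_mem fK h.r.ctr.memK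
  have n1 : a * b ≠ 1 := fun e => fu (e ▸ one_mem _)
  have n2 : a * b * u ≠ 1 := fun e =>
    fu (eq_inv_of_mul_eq_one_left e ▸ inv_mem (mem_zpowers u))
  obtain ⟨m', hm'⟩ := two _ m1
  rcases HY a ha _ am (fun y hy => by
    have e1 : y * (a * b) * y⁻¹ * (a * b)⁻¹ = y * (a * y * a⁻¹)⁻¹ := by
      rw [mul_assoc y, mul_assoc a, ← (comm_of_mem (inv_mem (YA hy)) hb).eq]; group
    have e2 := hf y (YP hy)
    rw [e1] at e2
    rcases (H49.mem_zpowers_invol uu).1 e2 with e3 | e3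
    · exact .inl (mul_inv_eq_one.1 e3).symm
    · rw [hu (e3 ▸ mul_mem (YA hy) (inv_mem (mul_mem (mul_mem ha (YA hy)) (inv_mem ha))))] at e3
      right
      rw [Yl y hy, ← mul_inv_eq_iff_eq_mul, ← inv_inj, inv_eq_of_mul_eq_one_right ll, ← e3]
      group) with (e1 | e1 | e1 | e1) | ⟨c, hc, e1, e2⟩
  · exact n1 (h.disj _ (by rwa [e1, one_mul]) fK m hm)
  · exact n1 (h.disj _ (e1 ▸ mul_mem tK hb) fK m hm)
  · exact n2 (h.disj _ (by rw [eu, e1, ll, one_mul]; exact mul_mem hb hk) m2 m' hm')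
  · refine n2 (h.disj _ ?_ m2 m' hm')
    rw [eu, e1, (comm_of_mem hl tK).eq, mul_assoc t, ll, mul_one]
    exact mul_mem tK (mul_mem hb hk)
  · have cu : c ∈ C1[u] := by
      rw [← h.r.ctr.norm_eq]
      rcases e1 with e1 | e1
      · exact cent_le_norm' h.r.ctr.std hm n1 fK
          (mem_cent1.2 (Commute.mul_right e1 (comm_of_mem hc hb)))
      · exact cent_le_norm' h.r.ctr.std hm' n2 m2
          (mem_cent1.2 (eu ▸ Commute.mul_right e1 (comm_of_mem hc (mul_mem hb hk))))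
    have := mem_centralizer_singleton_iff.1 cu
    rw [e, ← mul_assoc, mul_assoc l, ← (comm_of_mem hc hk).eq, ← mul_assoc, mul_left_inj] at this
    exact e2 this

theorem cent_eq (K : Key A t) (hbal : centralizerPPrimeCore 2 u = ⊥)
    (h1 : ∃ l ∈ A, ∃ k ∈ C[A], u = l * k ∧ l * l = 1 ∧ (u ∈ A → u = l)) : C1[u] = B := by
  obtain ⟨l, hl, k, hk, e, ll, hu⟩ := h1
  obtain ⟨a, ha, b, hb, e1⟩ := h.r.inn t h.comm.symm
  have all : ∀ x ∈ C[B], Commute x t := by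
    obtain ⟨a, ha, b, hb, e1, n, bn⟩ := (h.r.inn t h.comm.symm).two (e := 1)
      (by rw [pow_one, ← h.l.ctr.ord, pow_orderOf_eq_one])
    intro x hx
    rw [e1]
    refine (comm_of_mem ha hx).symm.mul_right ?_
    rcases h.two_elt K hl hk e ll hu hb
      (e1 ▸ (comm_of_mem ha hb).symm.mul_right rfl) bn with e | e <;> rw [e]
    exacts [Commute.one_right x, h.r.ctr.comm_K hx]
  have two := fun x hx n xn => h.two_elt K hl hk e ll hu (x := x) hx (all x hx) (n := n) xn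
  have : (C[B].subgroupOf C1[u]).Normal := normal_subgroupOf_of_le_normalizer (by
    rw [← h.r.ctr.norm_eq, h.r.ctr.std.2.2.2])
  refine le_antisymm (fun x hx => ?_) fun x hx => mem_cent1.2 (comm_of_mem hx h.r.ctr.memK)
  obtain ⟨a, ha, b, hb, rfl⟩ := h.r.inn x (mem_cent1.1 hx)
  obtain ⟨n, bn⟩ := burn' (odd_bot hbal) (C[B].subgroupOf C1[u]) (fun x hx n xn y _ => by
    refine Subtype.ext ?_
    rcases two x hx n (congrArg Subtype.val xn) with e | e
    · simp [e]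
    · simpa [e] using (mem_centralizer_singleton_iff.1 y.2).symm)
    (x := ⟨b, mem_cent1.2 (h.r.ctr.comm_K hb)⟩) hb
  rcases two b hb n (congrArg Subtype.val bn) with e | e <;> rw [e]
  exacts [mul_mem ha (one_mem _), mul_mem ha h.r.ctr.memA]

end Pr

theorem St.cent_eq {A : Subgroup G} {t g : G} (h : St A t) (K : Key A t)
    (hbal : ∀ t : G, orderOf t = 2 → centralizerPPrimeCore 2 t = ⊥)
    (hc : Commute (g * t * g⁻¹) t) (hne : g * t * g⁻¹ ≠ t) : C1[t] = A := by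
  have key : ∀ g : G, C1[g * t * g⁻¹] = MulAut.conj g • A → C1[t] = A := fun g e => by
    ext x
    rw [← conj_mem_conj_smul (g := g) (H := A), ← e, mem_cent1, mem_cent1, Commute.conj_iff]
  have p := h.pr hc hne
  have p' := h.pr (g := g⁻¹) ((Commute.conj_iff g).1 (by simpa [mul_assoc] using hc.symm))
    fun e => hne (by nth_rw 1 [← e]; group)
  rcases p.dec with e | e
  · exact key g (p.cent_eq K (hbal _ p.r.ctr.ord) e)
  rcases p'.dec with e' | ⟨l, hl, k, hk, e1, e2⟩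
  · exact key g⁻¹ (p'.cent_eq K (hbal _ p'.r.ctr.ord) e')
  refine (p.not_both e ⟨_, conj_mem_conj_smul.2 hl, g * k * g⁻¹, ?_, ?_, ?_⟩).elim
  · rw [centralizer_conj_smul]; exact conj_mem_conj_smul.2 hk
  · rw [conj_mul, ← e1]; group
  · rw [conj_mul, e2]

end Cfsg.Agent.H74.Ms
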