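/-
Groups with an involution whose centralizer is the double cover of the Baby Monster: fusion.
-/
import Cfsg.Agent.H74.MsNoz
import Cfsg.Agent.H74.MsRed
import Cfsg.Agent.H48.MidMod
import Cfsg.Agent.S2084

set_option autoImplicit false

namespace Cfsg.Agent.H74.Ms

open Cfsg Subgroup Cfsg.Agent.H48 Cfsg.Agent.H49 Cfsg.Agent.H48.Mid
open Cfsg.Agent.H74.Mon Cfsg.Agent.H97.Gr Cfsg.Agent.H97.Gr.B6b Cfsg.Agent.H70.Mid
open Cfsg.Agent.H97.Yt (M)
open Cfsg.Agent.H49.Mid (PI mem_pair exists_pi)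

local notation "C1[" x "]" => Subgroup.centralizer ({x} : Set _)

section
variable {A B C : Type*} [Group A] [Group B] [Group C] {S : Subgroup A} {T : Subgroup B}
  {U : Subgroup C} {f : A → B} {g : B → C}

theorem pi_comp (p : PI S T f) (q : PI T U g) : PI S U fun a => g (f a) :=
  ⟨fun a ha b hb => by rw [p.mul a ha b hb, q.mul _ (p.maps a ha) _ (p.maps b hb)],
    fun a ha => q.maps _ (p.maps a ha),
    fun a ha b hb e => p.inj a ha b hb (q.inj _ (p.maps a ha) _ (p.maps b hb) e), fun y hy => by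
      obtain ⟨b, hb, rfl⟩ := q.surj y hy
      obtain ⟨a, ha, rfl⟩ := p.surj b hb
      exact ⟨a, ha, rfl⟩⟩

theorem pi_symm (p : PI S T f) : ∃ g, PI T S g ∧ (∀ a ∈ S, g (f a) = a) ∧ ∀ b ∈ T, f (g b) = b := by
  obtain ⟨e, he⟩ := p.equiv
  obtain ⟨g, q, hg⟩ := exists_pi e.symm
  refine ⟨g, q, fun a ha => ?_, fun b hb => ?_⟩
  · rw [← he ⟨a, ha⟩, hg, e.symm_apply_apply]
  · rw [hg ⟨b, hb⟩, ← he, e.apply_symm_apply]

theorem pi_conj (k : A) {S T : Subgroup A} (h : ∀ a, k * a * k⁻¹ ∈ T ↔ a ∈ S) :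
    PI S T fun a => k * a * k⁻¹ :=
  ⟨fun _ _ _ _ => conj_mul.symm, fun a => (h a).2,
    fun _ _ _ _ e => mul_left_cancel (mul_right_cancel e), fun y hy =>
      ⟨k⁻¹ * y * k, (h _).1 (by simpa [mul_assoc] using hy), by group⟩⟩

theorem conj_comm (k a x : A) :
    k * a * k⁻¹ * (k * x * k⁻¹) = k * x * k⁻¹ * (k * a * k⁻¹) ↔ a * x = x * a :=
  Commute.conj_iff k

theorem pi_conj1 (k x : A) : PI C1[x] C1[k * x * k⁻¹] fun a => k * a * k⁻¹ :=
  pi_conj k fun a => by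
    rw [mem_centralizer_singleton_iff, mem_centralizer_singleton_iff, conj_comm]

theorem pi_isConj (p : PI S T f) {k a : A} (hk : k ∈ S) (ha : a ∈ S) :
    IsConj (f a) (f (k * a * k⁻¹)) :=
  isConj_iff.2 ⟨f k, by rw [p.mul _ (mul_mem hk ha) _ (inv_mem hk), p.mul _ hk _ ha, pi_inv p hk]⟩

end

theorem key_of_pi {G : Type*} [Group G] {L : Subgroup G} {a : M} (ha : a ∈ DD) {α : M → G}
    (p : PI C1[a] L α) : Key L (α a) := fun l hl ll l1 lt => by
  have m := @mem_centralizer_singleton_iff M _ a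
  have ma := m.2 rfl
  obtain ⟨l, ml, rfl⟩ := p.surj l hl
  obtain ⟨Y, Y2, Yc, HY⟩ := key0 ha (p.inj _ (mul_mem ml ml) _ (one_mem _) (by
    rw [p.mul _ ml _ ml, ll, p.one])) (m.1 ml) (fun e => l1 (by rw [e, p.one]))
    fun e => lt (by rw [e])
  have mY := fun y hy => m.2 (Yc y hy).1
  let Y' : Subgroup G :=
    { carrier := α '' Y
      one_mem' := ⟨1, one_mem _, p.one⟩
      mul_mem' := by
        rintro _ _ ⟨x, hx, rfl⟩ ⟨y, hy, rfl⟩
        exact ⟨_, mul_mem hx hy, p.mul _ (mY x hx) _ (mY y hy)⟩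
      inv_mem' := by
        rintro _ ⟨x, hx, rfl⟩
        exact ⟨_, inv_mem hx, pi_inv p (mY x hx)⟩ }
  refine ⟨Y', ?_, ?_, ?_, fun f hf n fn H => ?_⟩
  · rintro _ ⟨y, hy, rfl⟩
    exact p.maps y (mY y hy)
  · rintro ⟨_, y, hy, rfl⟩
    obtain ⟨n, e⟩ := Y2 ⟨y, hy⟩
    refine ⟨n, Subtype.ext ((p.pow (mY y hy) _).symm.trans ?_)⟩
    rw [show y ^ 2 ^ n = 1 from congrArg Subtype.val e]
    exact p.one
  · rintro _ ⟨y, hy, rfl⟩
    exact (p.comm (mY y hy) ml).2 (Yc y hy).2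
  obtain ⟨f, mf, rfl⟩ := p.surj f hf
  refine (HY f n (m.1 mf) (p.inj _ (pow_mem mf _) _ (one_mem _) (by rw [p.pow mf, fn, p.one]))
    fun y hy => ?_).imp (fun e => ?_) fun ⟨c, ca, e1, e2⟩ => ⟨α c, p.maps c (m.2 ca), ?_,
      fun e => e2 ((p.comm (m.2 ca) ml).1 e)⟩
  · have my := mY y hy
    have := H _ ⟨y, hy, rfl⟩
    rw [← pi_inv p mf, ← p.mul _ mf _ my, ← p.mul _ (mul_mem mf my) _ (inv_mem mf),
      ← p.mul _ my _ ml] at this
    exact this.imp (p.inj _ (mul_mem (mul_mem mf my) (inv_mem mf)) _ my)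
      (p.inj _ (mul_mem (mul_mem mf my) (inv_mem mf)) _ (mul_mem my ml))
  · rcases e with e | e | e | e <;> rw [e]
    exacts [.inl p.one, .inr (.inl rfl), .inr (.inr (.inl rfl)),
      .inr (.inr (.inr (p.mul _ ml _ ma)))]
  · rw [← p.mul _ mf _ ml]
    exact e1.imp (p.comm (m.2 ca) mf).2 (p.comm (m.2 ca) (mul_mem mf ml)).2

/-- a pure four-group of products of a 2A involution with 2B involutions -/
theorem exists_zt {a : M} (ha : a ∈ DD) : ∃ r s : M, ∀ x, x = r ∨ x = s ∨ x = r * s →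
    x ∈ DD ∧ x * a = a * x ∧ a * x ∈ ZZ := by
  obtain ⟨z, hz, Q, θ, R, h, ra, -⟩ := fit ha (mul_one 1) (Commute.one_left a)
  have key : ∀ v x, TB v → R v x → x ∈ DD ∧ x * a = a * x ∧ a * x ∈ ZZ := fun v x tv r => by
    have e : sqNorm (vU + v).1 = 64 := by
      rw [AddSubgroup.coe_add, sqNorm_add, nU, tv.1, dotInt_comm, tv.2]; rfl
    exact ⟨t2_DD h hz ⟨v, tv.1, r⟩, (h.comm_iff r ra).2 tv.pu,
      (ZZ_iff hz).2 ((h.isConj_iff_norm (h.mul ra r) e.le).2 e).1⟩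
  obtain ⟨r, rr⟩ := h.ex2 r1
  obtain ⟨s, rs⟩ := h.ex2 r2
  refine ⟨r, s, ?_⟩
  rintro _ (rfl | rfl | rfl)
  · exact key _ _ (by unfold TB; decide +kernel) rr
  · exact key _ _ (by unfold TB; decide +kernel) rs
  · exact key _ _ (by unfold TB; decide +kernel) (h.mul rr rs)

variable {G : Type*} [Group G]

/-- an isomorphism between the centralizer of a 2A involution and that of `t` -/
structure Ch (a : M) (t : G) (α : M → G) : Prop where
  mem : a ∈ DD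
  pi : PI C1[a] C1[t] α
  eq : α a = t

theorem exists_ch [Finite G] [IsSimpleGroup G] (hG : ¬ IsMulCommutative G)
    (hbal : ∀ t : G, orderOf t = 2 → centralizerPPrimeCore 2 t = ⊥) {L : Subgroup G}
    (hL : IsStandardSubgroup L) (h2 : Nat.card (center L) = 2)
    (e : L ⧸ center L ≃* Spor.BabyMonster) : ∃ (t : G) (α : M → G), Ch tU t α ∧
      ∃ g, g * t * g⁻¹ * t = t * (g * t * g⁻¹) ∧ g * t * g⁻¹ ≠ t := by
  obtain ⟨x, x1, xx, hx⟩ := exists_gen_of_card_two h2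
  have xc : x ∈ center L := hx ▸ mem_zpowers x
  have k : ∀ y ∈ (e.toMonoidHom.comp (QuotientGroup.mk' (center L))).ker, y ∈ center L :=
    fun y hy => (QuotientGroup.eq_one_iff y).1 (e.map_eq_one_iff.1 hy)
  obtain ⟨b⟩ := H97.Yt.bEquiv
  obtain ⟨ε, hε, -⟩ := H80.T.stem_KK b (π := e.toMonoidHom.comp (QuotientGroup.mk' (center L)))
    ⟨e.surjective.comp (QuotientGroup.mk'_surjective _), k,
      hL.1.1.commutator_eq_top ▸ le_top⟩ (x := x)
    (e.map_eq_one_iff.2 ((QuotientGroup.eq_one_iff x).2 xc)) x1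
  obtain ⟨α, p, hα⟩ := exists_pi ε.symm
  have et : α tU = x := by rw [← hε, hα, ε.symm_apply_apply]
  have cap : ∀ y ∈ L, y ∈ centralizer (L : Set G) → y = 1 ∨ y = x := fun y hy hk =>
    ((mem_zpowers_invol xx).1 (hx ▸ mem_center_iff.2 fun w => Subtype.ext (hk w w.2) :
      (⟨y, hy⟩ : L) ∈ _)).imp (congrArg Subtype.val) (congrArg Subtype.val)
  have ctr : H10.Std.Ctr L (x : G) := ⟨hL, by
    rw [Subgroup.orderOf_coe]; exact orderOf_two_iff.2 ⟨x1, xx⟩, x.2,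
    fun y hy => congrArg Subtype.val (mem_center_iff.1 xc ⟨y, hy⟩), fun y hy hk _ => cap y hy hk⟩
  have st : St L (x : G) := ⟨ctr, fun y hy => H10.Std.inner_of_out hL.1.1
    (H78.Ou.card_out_congr e S2084.result) (ctr.norm_eq ▸ H10.Std.mem_cent1.2 hy), cap⟩
  obtain ⟨g, hc, hne⟩ := H10.Std.exists_conj_comm hL (eq_bot_iff.2 (sSup_le fun N hN =>
    ((IsSimpleGroup.eq_bot_or_eq_top_of_normal N hN.1).resolve_right fun e => by
      have := (Nat.coprime_two_right.1 hN.2).of_dvd_nat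
        (orderOf_dvd_natCard N (x := (x : G)) (e ▸ mem_top _))
      rw [ctr.ord] at this
      exact absurd this (by decide)).le)) (fun hn => by
    rcases IsSimpleGroup.eq_bot_or_eq_top_of_normal L hn with e1 | e1
    · exact x1 (Subtype.ext (e1.le x.2))
    · refine hG ⟨⟨fun a b => mem_center_iff.1 (((IsSimpleGroup.eq_bot_or_eq_top_of_normal
        (center G) inferInstance).resolve_left fun e2 => x1 (Subtype.ext (e2.le
          (mem_center_iff.2 fun y => ctr.memK y (e1.ge (mem_top y)))))).ge (mem_top b)) a⟩⟩)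
    ctr.ord ctr.memK
  exact ⟨x, α, ⟨tU_mem, (st.cent_eq (et ▸ key_of_pi tU_mem p) hbal hc hne).symm ▸ p, et⟩, g, hc,
    hne⟩

namespace Ch

variable {a : M} {t : G} {α : M → G} (h : Ch a t α)
include h

theorem mem_DD {m : M} (ma : m * a = a * m) (c : IsConj t (α m)) : m ∈ DD := by
  have M' := @mem_centralizer_singleton_iff M _ a
  have p := h.pi
  have sq : ∀ m, m * a = a * m → IsConj t (α m) → m * m = 1 ∧ m ≠ 1 := fun m ma c => by
    obtain ⟨g, e⟩ := isConj_iff.1 c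
    refine ⟨p.inj _ (mul_mem (M'.2 ma) (M'.2 ma)) _ (one_mem _) ?_, fun e1 => mrep.ne a h.mem
      (p.inj _ (M'.2 rfl) _ (one_mem _) ?_)⟩
    · rw [p.mul _ (M'.2 ma) _ (M'.2 ma), ← e, conj_mul, ← h.eq, ← p.mul _ (M'.2 rfl) _ (M'.2 rfl),
        DD_sq h.mem, p.one, mul_one, mul_inv_cancel]
    · rw [e1, p.one, conj_eq_one_iff] at e
      rw [h.eq, e, p.one]
  obtain ⟨g, e⟩ := isConj_iff.1 c
  have c1 : α m * t = t * α m := mem_centralizer_singleton_iff.1 (p.maps m (M'.2 ma))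
  obtain ⟨n, hn, en⟩ := p.surj (g⁻¹ * t * g) (mem_centralizer_singleton_iff.2 (by
    rw [← conj_comm g, e]; simpa [mul_assoc] using c1.symm))
  have cn : IsConj t (α n) := isConj_iff.2 ⟨g⁻¹, by rw [en, inv_inv]⟩
  by_cases na : n = a
  · rw [na, h.eq] at en
    rw [p.inj m (M'.2 ma) a (M'.2 rfl) (by rw [← e, h.eq]; nth_rw 1 [en]; group)]
    exact h.mem
  obtain ⟨β, q, e1, -⟩ := pi_symm (p.res ma rfl)
  have r := (pi_conj1 g t).res (b := α n) (y := t)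
    (mem_centralizer_singleton_iff.1 (p.maps n hn)) (by rw [en]; group)
  rw [e, Set.pair_comm (α m)] at r
  refine ((two_real m (sq m ma c).1).resolve_left (sq m ma c).2).resolve_right
    (noz h.mem (sq n (M'.1 hn) cn).1 (M'.1 hn) (sq n (M'.1 hn) cn).2 na ma.symm
      (Set.pair_comm a m ▸ pi_comp (pi_comp (p.res (M'.1 hn) rfl) r) q) ?_)
  change β (g * α a * g⁻¹) = m
  rw [h.eq, e, e1 m (mem_pair.2 ⟨ma, rfl⟩)]

theorem move {b : M} (hb : b ∈ DD) {u : G} (c : IsConj t u) : ∃ β, Ch b u β := by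
  obtain ⟨k, e⟩ := isConj_iff.1 ((IsConj.symm hb).trans h.mem)
  obtain ⟨g, rfl⟩ := isConj_iff.1 c
  exact ⟨_, hb, pi_comp (pi_comp (e ▸ pi_conj1 k b) h.pi) (pi_conj1 g t), by rw [e, h.eq]⟩

theorem conj_nb {g : G} (hc : g * t * g⁻¹ * t = t * (g * t * g⁻¹)) (hne : g * t * g⁻¹ ≠ t) {b : M}
    (hb : b ∈ DD) (ab : a * b ∈ DD) : IsConj t (α b) := by
  have M' := @mem_centralizer_singleton_iff M _ a
  have p := h.pi
  have ha := h.mem
  have fin : ∀ m, m * a = a * m → IsConj t (α m) → a * m ∈ DD → IsConj t (α b) :=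
    fun m ma c am => by
      obtain ⟨k, ka, rfl⟩ := trans_nb ha (h.mem_DD ma c) hb am ab
      exact c.trans (pi_isConj p (M'.2 ka) (M'.2 ma))
  obtain ⟨m, hm, e⟩ := p.surj _ (mem_centralizer_singleton_iff.2 hc)
  have ma := M'.1 hm
  have c : IsConj t (α m) := isConj_iff.2 ⟨g, e.symm⟩
  have mD := h.mem_DD ma c
  have e0 : ∀ x, x * a = a * x → a * x * a = x := fun x xa => by
    rw [mul_assoc, xa, ← mul_assoc, DD_sq ha, one_mul]
  rcases two_real (a * m) (by rw [← mul_assoc, e0 m ma, DD_sq mD]) with e1 | e1 | e1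
  · rw [← DD_inv mD, ← eq_inv_of_mul_eq_one_left e1, h.eq] at e
    exact absurd e.symm hne
  · exact fin m ma c e1
  obtain ⟨r, s, H⟩ := exists_zt ha
  have key : ∀ x, x = r ∨ x = s ∨ x = r * s → IsConj t (α x) := fun x hx => by
    obtain ⟨h1, h2, h3⟩ := H x hx
    obtain ⟨k, ka, e2⟩ := trans_z ha e1 h3 ((e0 m ma).symm ▸ mD) ((e0 x h2).symm ▸ h1)
    rw [← mul_assoc, ka, mul_assoc a, mul_assoc a, mul_right_inj] at e2
    exact c.trans (e2 ▸ pi_isConj p (M'.2 ka) hm)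
  have mr := M'.2 (H r (.inl rfl)).2.1
  have ms := M'.2 (H s (.inr (.inl rfl))).2.1
  obtain ⟨k, e2⟩ := isConj_iff.1 (key r (.inl rfl)).symm
  obtain ⟨n, hn, en⟩ := p.surj (k * α s * k⁻¹) (mem_centralizer_singleton_iff.2 (by
    rw [← e2, conj_comm]
    exact (p.comm ms mr).2 (comm_of_mul (H r (.inl rfl)).1 (H s (.inr (.inl rfl))).1
      (H _ (.inr (.inr rfl))).1).symm))
  refine fin n (M'.1 hn) ((key s (.inr (.inl rfl))).trans (isConj_iff.2 ⟨k, en.symm⟩))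
    (h.mem_DD (M'.1 (mul_mem (M'.2 rfl) hn)) ((key _ (.inr (.inr rfl))).trans
      (isConj_iff.2 ⟨k, ?_⟩)))
  rw [p.mul _ (M'.2 rfl) _ hn, p.mul _ mr _ ms, ← conj_mul, e2, en, h.eq]

theorem swap (H : ∀ b ∈ DD, a * b ∈ DD → IsConj t (α b)) {b : M} (hb : b ∈ DD) (ab : a * b ∈ DD) :
    ∃ β, Ch b (α b) β ∧ β a = t := by
  have M' := @mem_centralizer_singleton_iff M _
  have c := comm_of_mul h.mem hb ab
  obtain ⟨β, q⟩ := h.move hb (H b hb ab)
  obtain ⟨n, hn, e⟩ := q.pi.surj t (mem_centralizer_singleton_iff.2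
    (mem_centralizer_singleton_iff.1 (h.pi.maps b (M'.2 c.symm))).symm)
  obtain ⟨k, kb, e1⟩ := trans_nb hb h.mem (q.mem_DD (M'.1 hn) (e ▸ (H b hb ab).symm)) (c ▸ ab)
    (q.mem_DD (M'.1 (mul_mem (M'.2 rfl) hn)) ((H b hb ab).symm.trans (by
      rw [q.pi.mul _ (M'.2 rfl) _ hn, q.eq, e]
      nth_rw 2 [← h.eq]
      rw [← h.pi.mul _ (M'.2 c.symm) _ (M'.2 rfl), ← c]
      exact H _ ab (by rwa [← mul_assoc, DD_sq h.mem, one_mul]))))
  have e2 : k * b * k⁻¹ = b := by rw [kb, mul_inv_cancel_right]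
  have r := pi_conj1 k b
  rw [e2] at r
  exact ⟨_, ⟨hb, pi_comp r q.pi, by rw [e2, q.eq]⟩, by rw [e1, e]⟩

end Ch

end Cfsg.Agent.H74.Ms
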