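/-
Groups with an involution whose centralizer is the double cover of the Baby Monster: the embedding
of the Monster.
-/
import Cfsg.Agent.H74.MsChart

set_option autoImplicit false

namespace Cfsg.Agent.H74.Ms

open Cfsg Subgroup Cfsg.Agent.H48 Cfsg.Agent.H49 Cfsg.Agent.H48.Mid
open Cfsg.Agent.H97.Gr Cfsg.Agent.H97.Gr.B6b Cfsg.Agent.H70.Mid
open Cfsg.Agent.H97.Yt Cfsg.Agent.H80.Y Cfsg.Agent.H49.Mid
open Cfsg.Agent.H80.T (Tup)

variable {G : Type*} [Group G]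

theorem differ' {Q : Subgroup M} {z : M} {θ : centralizer ({z} : Set M) →* Spor.Co1}
    {R : Lam → M → Prop} (h : MD Q z θ R) {a b : M} (fl : Fl R a b) {T : Subgroup G}
    {f f' : M → G} (p : PI (centralizer {a, b}) T f) (p' : PI (centralizer {a, b}) T f')
    (ea : f' a = f a) (eb : f' b = f b) : ∃ l, l * a = a * l ∧ l * b = b * l ∧
      ∀ c, c * a = a * c → c * b = b * c → f' c = f l * f c * (f l)⁻¹ := by
  obtain ⟨g, q, e1, e2⟩ := pi_symm p
  have ab := fl_comm h fl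
  obtain ⟨l, la, lb, e⟩ := differ h fl ab.symm (f := fun c => c)
    ⟨fun _ _ _ _ => rfl, fun _ h => h, fun _ _ _ _ h => h, fun y hy => ⟨y, hy, rfl⟩⟩
    (pi_comp p' q) rfl rfl (by rw [ea, e1 a (mem_pair.2 ⟨rfl, ab⟩)])
    (by rw [eb, e1 b (mem_pair.2 ⟨ab.symm, rfl⟩)])
  refine ⟨l, la, lb, fun c ca cb => ?_⟩
  have hl := mem_pair.2 ⟨la, lb⟩
  have hc := mem_pair.2 ⟨ca, cb⟩
  rw [← e2 _ (p'.maps c hc), e c ca cb, p.mul _ (mul_mem hl hc) _ (inv_mem hl), p.mul _ hl _ hc,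
    pi_inv p hl]

theorem pi_closure {S : Subgroup M} {T : Subgroup G} {f : M → G} (p : PI S T f) {a b c l : M}
    (ha : a ∈ S) (hb : b ∈ S) (hc : c ∈ S) (hl : l ∈ closure ({a, b, c} : Set M)) :
    f l ∈ closure ({f a, f b, f c} : Set G) := by
  suffices l ∈ S ∧ f l ∈ closure ({f a, f b, f c} : Set G) from this.2
  induction hl using closure_induction with
  | mem g hg =>
    rcases hg with rfl | rfl | rfl
    exacts [⟨ha, subset_closure (.inl rfl)⟩, ⟨hb, subset_closure (.inr (.inl rfl))⟩,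
      ⟨hc, subset_closure (.inr (.inr rfl))⟩]
  | one => exact ⟨one_mem _, by rw [p.one]; exact one_mem _⟩
  | mul g k _ _ h1 h2 =>
    exact ⟨mul_mem h1.1 h2.1, by rw [p.mul _ h1.1 _ h2.1]; exact mul_mem h1.2 h2.2⟩
  | inv g _ h1 => exact ⟨inv_mem h1.1, by rw [pi_inv p h1.1]; exact inv_mem h1.2⟩

theorem exists_hom [Finite G] {t : ℕ → M} {g : M} (ht : Tup t g) {x : G} {α : M → G}
    (h : Ch (t 11) x α) (H : ∀ b ∈ DD, t 11 * b ∈ DD → IsConj x (α b)) :
    ∃ ψ : M →* G, ∀ c ∈ centralizer {t 11}, ψ c = α c := by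
  have D : ∀ i ∈ V14, t i ∈ DD := ht.mem
  have A : ∀ i ∈ V14, ∀ j ∈ V14, i ≠ j → adj i j = false → Adj DD (t i) (t j) :=
    fun i hi j hj e a => ⟨D i hi, D j hj, ht.mul i hi j hj e a⟩
  have a16 := A 1 (by decide) 6 (by decide) (by decide) (by decide)
  have a1e := A 1 (by decide) 11 (by decide) (by decide) (by decide)
  have a6e := A 6 (by decide) 11 (by decide) (by decide) (by decide)
  have cm : ∀ i ∈ V15, ∀ j ∈ V15, adj i j = false → t i * t j = t j * t i := ht.rel.cox.cm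
  have s1 := sq_D a16.1
  have s6 := sq_D a16.2.1
  have se := sq_D a1e.2.1
  have c16 := a16.comm
  have c1e := a1e.comm
  have c6e := a6e.comm
  have hz : t 1 * t 6 * t 11 ∈ ZZ := NL.memZ ⟨a16, a1e, a6e, fun e => by
    have e1 : t 1 = (t 6 * t 11)⁻¹ := eq_inv_of_mul_eq_one_left (by rwa [← mul_assoc])
    have c : ∀ i ∈ V15, adj i 6 = false → adj i 11 = false → Commute (t i) (t 1) := fun i hi a b =>
      e1 ▸ (Commute.mul_right (cm i hi 6 (by decide) a) (cm i hi 11 (by decide) b)).inv_right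
    have e2 : ∀ i ∈ V15, ∀ j ∈ V15, adj i j = true → Commute (t i) (t j) → t i = t j :=
      fun i hi j hj a c => by
        have := ht.rel.cox.br i hi j hj a
        rw [c.eq, mul_assoc, ht.rel.cox.sq i hi, mul_one, ← c.eq, mul_assoc,
          ht.rel.cox.sq j hj, mul_one] at this
        exact this.symm
    have e3 := e2 2 (by decide) 1 (by decide) (by decide) (c 2 (by decide) (by decide) (by decide))
    have e4 := e2 2 (by decide) 3 (by decide) (by decide)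
      (e3 ▸ cm 1 (by decide) 3 (by decide) (by decide))
    have := ht.mul 1 (by decide) 3 (by decide) (by decide) (by decide)
    rw [← e4, e3, s1] at this
    exact mrep.ne _ this rfl⟩
  obtain ⟨z, e0⟩ : ∃ z0, z0 = t 1 * t 6 * t 11 := ⟨_, rfl⟩
  rw [← e0] at hz
  obtain ⟨Q0, θ0, R0, h0, T0⟩ := H49.Mid.md_at hz
  have z1 : z * t 1 = t 6 * t 11 := by
    rw [e0, mul_assoc, ← c1e.eq, ← mul_assoc, c16.eq, mul_assoc (t 6), s1, mul_one]
  have z6 : z * t 6 = t 1 * t 11 := by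
    rw [e0, mul_assoc, ← c6e.eq, ← mul_assoc, mul_assoc (t 1), s6, mul_one]
  have ze : z * t 11 = t 1 * t 6 := by rw [e0, mul_assoc, se, mul_one]
  have t1 := T0 _ a16.1 (z1 ▸ a6e.2.2)
  have t6 := T0 _ a16.2.1 (z6 ▸ a1e.2.2)
  have te := T0 _ a1e.2.1 (ze ▸ a16.2.2)
  have fe6 : Fl R0 (t 11) (t 6) := ⟨te, t6, T0 _ a6e.symm.2.2 (by
    rw [← mul_assoc, ze, mul_assoc, s6, mul_one]; exact a16.1)⟩
  have f1e : Fl R0 (t 1) (t 11) := ⟨t1, te, T0 _ a1e.2.2 (by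
    rw [← mul_assoc, z1, mul_assoc, se, mul_one]; exact a16.2.1)⟩
  have f16 : Fl R0 (t 1) (t 6) := ⟨t1, t6, T0 _ a16.2.2 (by
    rw [← ze, ← mul_assoc, h0.hQ.zz, one_mul]; exact a1e.2.1)⟩
  have p := h.pi
  have αe := h.eq
  obtain ⟨β0, q0, βe⟩ := h.swap H a16.2.1 a6e.symm.2.2
  obtain ⟨δ0, r0, δe⟩ := h.swap H a16.1 a1e.symm.2.2
  generalize α6 : α (t 6) = y at q0
  generalize α1 : α (t 1) = w at r0
  have M' : ∀ {a b : M}, a * b = b * a → a ∈ centralizer ({b} : Set M) :=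
    mem_centralizer_singleton_iff.2
  obtain ⟨l1, -, l1y, e1⟩ := differ' h0 fe6
    (Set.pair_comm y x ▸ Set.pair_comm (t 6) (t 11) ▸ q0.pi.res c6e.eq.symm βe) (p.res c6e.eq α6)
    (αe.trans βe.symm) (α6.trans q0.eq.symm)
  have q := q0.pi.conj (q0.pi.maps _ (M' l1y))
  obtain ⟨l2, l2w, -, e2⟩ := differ' h0 f1e (r0.pi.res c1e.eq.symm δe)
    (Set.pair_comm x w ▸ Set.pair_comm (t 11) (t 1) ▸ p.res c1e.eq α1) (α1.trans r0.eq.symm)
    (αe.trans δe.symm)
  have r := r0.pi.conj (r0.pi.maps _ (M' l2w))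
  generalize hβ : (fun a => β0 l1 * β0 a * (β0 l1)⁻¹) = β at q
  generalize hδ : (fun a => δ0 l2 * δ0 a * (δ0 l2)⁻¹) = δ at r
  replace e1 : ∀ c, c * t 11 = t 11 * c → c * t 6 = t 6 * c → α c = β c := hβ ▸ e1
  replace e2 : ∀ c, c * t 1 = t 1 * c → c * t 11 = t 11 * c → α c = δ c := hδ ▸ e2
  have β1 : β (t 1) = w := (e1 _ c1e.eq c16.eq).symm.trans α1
  have β6 : β (t 6) = y := (e1 _ c6e.eq rfl).symm.trans α6
  have βe' : β (t 11) = x := (e1 _ rfl c6e.eq.symm).symm.trans αe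
  have δ1 : δ (t 1) = w := (e2 _ rfl c1e.eq).symm.trans α1
  have δ6 : δ (t 6) = y := (e2 _ c16.eq.symm c6e.eq).symm.trans α6
  obtain ⟨l, l1, l6, e3⟩ := differ' h0 f16
    (Set.pair_comm y w ▸ Set.pair_comm (t 6) (t 1) ▸ q.res c16.eq β1) (r.res c16.eq.symm δ6)
    (δ1.trans β1.symm) (δ6.trans β6.symm)
  have z6' : z * t 6 = t 6 * z := (h0.hQ.cen _ (t2_mem h0 t6)).symm
  have hl := pi_closure q (M' z6') (M' c6e.eq.symm) (M' rfl)
    (cen M Q0 z θ0 R0 h0 _ _ fe6 l fun k kz ke k6 => by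
      have k1 : k * t 1 = t 1 * k := by
        rw [show t 1 = z * t 11 * t 6 by rw [ze, mul_assoc, s6, mul_one]]
        exact Commute.mul_right (Commute.mul_right kz ke) k6
      have := e3 k k1 k6
      rw [← e2 k k1 ke, e1 k ke k6] at this
      exact (q.comm (M' l6) (M' k6)).1 (mul_inv_eq_iff_eq_mul.1 this.symm))
  rw [βe', β6] at hl
  have c51 := cm 5 (by decide) 1 (by decide) (by decide)
  have c5e := cm 5 (by decide) 11 (by decide) (by decide)
  have ct1 := cm 10 (by decide) 1 (by decide) (by decide)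
  have ct6 := cm 10 (by decide) 6 (by decide) (by decide)
  have m16 := mul_mem (M' c16.eq) (M' (rfl : t 6 * t 6 = _))
  have key : α (t 5) * β (t 10) = β (t 10) * α (t 5) := by
    refine comm_of_closure hl (αe ▸ (p.comm (M' c5e) (M' rfl)).2 c5e)
      (β6 ▸ (q.comm (M' rfl) (M' ct6)).2 ct6.symm)
      (β6 ▸ βe' ▸ (q.comm (M' rfl) (M' c6e.eq.symm)).2 c6e.eq) (m := β (t 1 * t 6)) ?_
      ((q.comm m16 (M' ct6)).2 (Commute.mul_left ct1.symm ct6.symm))
      (βe' ▸ (q.comm m16 (M' c6e.eq.symm)).2 (c1e.mul_left c6e)) ?_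
    · rw [← βe', ← q.mul _ (M' c6e.eq.symm) _ m16, e0, (c1e.mul_left c6e).eq]
    rw [← e3 _ ct1 ct6, e2 _ c51 c5e]
    exact (r.comm (M' c51) (M' ct1)).2 (cm 5 (by decide) 10 (by decide) (by decide))
  obtain ⟨ψ, hψ⟩ := univ_any (tup_univ ht) (rel_glue ht.rel p q e1 key) (by
    rw [if_neg (by decide), ht.f3, p.one])
  refine ⟨ψ, fun c hc => ?_⟩
  rw [← ht.hK] at hc
  induction hc using closure_induction with
  | mem g hg =>
    obtain ⟨i, hi, rfl⟩ := hg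
    obtain ⟨h1, h2⟩ := (by decide : ∀ i ∈ V11, i ∈ V14 ∧ i ≠ 10) i hi
    exact (hψ i h1).trans (if_neg h2)
  | one => rw [map_one, p.one]
  | mul g k hg hk h1 h2 => rw [map_mul, h1, h2, p.mul _ (ht.hK.le hg) _ (ht.hK.le hk)]
  | inv g hg h1 => rw [map_inv, h1, pi_inv p (ht.hK.le hg)]

/-- the embedding of the Monster -/
theorem exists_emb [Finite G] {a : M} {x g : G} {α : M → G} (h : Ch a x α)
    (hc : g * x * g⁻¹ * x = x * (g * x * g⁻¹)) (hne : g * x * g⁻¹ ≠ x) :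
    ∃ ψ : M →* G, Function.Injective ψ ∧ ∀ d ∈ DD, centralizer {ψ d} ≤ ψ.range := by
  obtain ⟨t, k, ht⟩ := H80.T.exists_tup
  obtain ⟨β, q⟩ := h.move (ht.mem 11 (by decide)) (IsConj.refl x)
  obtain ⟨ψ, hψ⟩ := exists_hom ht q fun b => q.conj_nb hc hne
  have e : ψ (t 11) = x := (hψ _ (mem_centralizer_singleton_iff.2 rfl)).trans q.eq
  have := isM_real.1
  refine ⟨ψ, (MonoidHom.ker_eq_bot_iff ψ).1 (ψ.normal_ker.eq_bot_or_eq_top.resolve_right
    fun e1 => hne ?_), fun d hd c hc => ?_⟩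
  · rw [← e, e1.ge (mem_top (t 11)), mul_one, mul_inv_cancel]
  · obtain ⟨m, rfl⟩ := isConj_iff.1 ((IsConj.symm q.mem).trans hd)
    rw [mem_centralizer_singleton_iff, map_mul, map_mul, map_inv, e] at hc
    obtain ⟨n, hn, en⟩ := q.pi.surj ((ψ m)⁻¹ * c * ψ m) (mem_centralizer_singleton_iff.2 (by
      rw [← conj_comm (ψ m)]; simpa [mul_assoc] using hc))
    exact ⟨m * n * m⁻¹, by rw [map_mul, map_mul, map_inv, hψ n hn, en]; group⟩

end Cfsg.Agent.H74.Ms
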