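import Mathlib
import Cfsg.Agent.H74.Mathieu

/-! # Upper bound for the Schur multiplier of `M12` (generated certificate) -/

set_option autoImplicit false
set_option maxRecDepth 1000000
set_option linter.style.longLine false

namespace Cfsg.Agent.H74

open Cfsg Cfsg.Agent.H42 Cfsg.Agent.H46

/-- Rules. -/
def c12p2_rule : List (List (List ℕ)) :=
  [[[1, 4, 5], [1, 3, 5], [1, 2, 3, 4], [3], [3, 4], [5]],
   [[], [], [2, 3, 5], [3, 5], [4, 5], [5]],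
   [[], [], [], [3, 5], [3, 4, 5], [5]],
   [[], [], [], [5], [4, 5], [5]],
   [[], [], [], [], [5], [5]],
   [[], [], [], [], [], []]]

/-- Fused subgroups. -/
def c12p2_fq : List (List (List ℕ)) :=
  [[[1, 3, 4, 5], [0, 1, 2, 3, 4, 5], [0, 1, 2, 3, 4], [0, 1, 4], [1, 4, 5]],
   [[1, 4], [0, 1, 2, 3], [3, 5], [4, 5], [5]]]

/-- Their images. -/
def c12p2_fq' : List (List (List ℕ)) :=
  [[[0, 3], [1, 2, 3, 4], [2, 5], [0, 5], [1, 4, 5]],
   [[0, 2, 5], [0, 1, 2, 3, 5], [3, 4], [4], [5]]]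

/-- Rows. -/
def c12p2_sA : List Spec :=
  [⟨1, [0], [], 0, 1, 127⟩,
   ⟨1, [1], [], 1, 1, 127⟩,
   ⟨1, [2], [], 4, 1, 127⟩,
   ⟨1, [3], [], 2, 1, 127⟩,
   ⟨1, [4], [], 7, 1, 127⟩,
   ⟨1, [5], [], 14, 1, 127⟩,
   ⟨0, [3], [3, 3], 23, 1, 127⟩,
   ⟨0, [4], [4, 4], 29, 1, 127⟩,
   ⟨4, [3, 2], [2, 3, 4], 46, 1, 1⟩,
   ⟨0, [4], [3, 0], 5, 1, 127⟩,
   ⟨0, [5], [0, 0], 11, 1, 1⟩,
   ⟨4, [4, 0], [0, 4], 17, 1, 127⟩,
   ⟨4, [3, 3], [4], 35, 1, 1⟩,
   ⟨0, [0], [0, 0], 21, 1, 127⟩,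
   ⟨0, [4], [4, 0], 22, 1, 1⟩,
   ⟨0, [3], [2, 0], 9, 1, 1⟩,
   ⟨4, [2, 2], [4], 28, 1, 127⟩,
   ⟨0, [4], [0, 0], 10, 1, 1⟩,
   ⟨0, [2], [1, 0], 15, 1, 127⟩,
   ⟨4, [3, 0], [0, 3, 4], 16, 1, 127⟩,
   ⟨4, [0, 0], [], 3, 1, 127⟩,
   ⟨0, [2], [2, 0], 8, 1, 1⟩,
   ⟨3, [3, 3], [4], 40, 1, 1⟩,
   ⟨3, [2, 0], [0, 1], 38, 1, 127⟩]

/-- Rows. -/
def c12p2_sB : List Spec :=
  [⟨0, [3], [1, 1], 45, 2, 127⟩,
   ⟨4, [1, 1], [4], 43, 2, 127⟩,
   ⟨3, [2, 2], [], 44, 2, 85⟩,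
   ⟨3, [1, 0], [0, 2], 42, 2, 85⟩,
   ⟨3, [0, 0], [1, 2], 37, 2, 125⟩,
   ⟨3, [3, 2], [2, 3, 4], 39, 2, 65⟩,
   ⟨0, [4], [1, 1], 36, 4, 33⟩]

/-- Rows. -/
def c12p2_sC : List Spec :=
  [⟨2, [0], [], 44, 2, 65⟩,
   ⟨0, [3], [1, 1], 45, 2, 127⟩,
   ⟨3, [2, 2], [], 37, 2, 127⟩,
   ⟨3, [1, 0], [0, 2], 42, 2, 121⟩]

/-- The certificate. -/
noncomputable def c12p2 : Cert where
  q := 1
  n := 6
  nf := 2
  b := 22
  M := 128
  D := 2
  fuel := 102
  rule := fun i j => getLL (getL3 c12p2_rule i) j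
  fq := fun i j => getLL (getL3 c12p2_fq i) j
  fq' := fun i j => getLL (getL3 c12p2_fq' i) j
  nrm := nrmM 22 48 7
  nri := getL [0, 0, 0, 0, 1, 2]
  nrj := getL [0, 1, 4, 2, 1, 2]
  B := getL [0x1fc000020001fc00001, 0x10000000000000000000000, 0x4000000000000000000000000000, 0x7e00000000000, 0x7f0001f80000200000000000, 0x20001f800000]
  nU := 1
  U := getL [unitV 22 28 * 1]
  ord := getL [2]
  sA := c12p2_sA
  sB := c12p2_sB
  sC := c12p2_sC

theorem c12p2_nrm : Nrm c12p2.b c12p2.R c12p2.M c12p2.nrm := by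
  dsimp only [c12p2, Cert.R]
  exact (nrm_nrmM (b := 22) (R := 48) (v := 7) (by norm_num) : Nrm 22 48 (2 ^ 7) _)

theorem c12p2_chk : c12p2.chk 2 = true := by decide +kernel

theorem c12p2_bound : MBound Spor.M12 (1485 * 1485) 2 :=
  Cert.mBound_perm test12 (C := c12p2)
    (xs := getL [736874641639903728752643455142405508, 318935243034669377044923531375558792, 713439683499167710645028111620606340, 920631843536889066890776739326331267, 318736418740516579205136730919700609, 230556057047343997304295075435055364])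
    (gs := getL [429976291788167209085234580432193024, 983553042649537266979977019204733184])
    (inv := getLL [[2, 16], [2], [6], [10, 11], [10], [0]])
    (by show Nat.Prime 2; norm_num) card_M12 c12p2_nrm (by decide +kernel) c12p2_chk

/-- Rules. -/
def c12p3_rule : List (List (List ℕ)) :=
  [[[], [1], [1, 1, 2]],
   [[], [], [2]],
   [[], [], []]]

/-- Fused subgroups. -/
def c12p3_fq : List (List (List ℕ)) :=
  [[[0, 0], [1, 1, 2], [2, 2]]]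

/-- Their images. -/
def c12p3_fq' : List (List (List ℕ)) :=
  [[[0], [1, 1, 2, 2], [2]]]

/-- Rows. -/
def c12p3_sA : List Spec :=
  [⟨1, [0], [], 2, 1, 80⟩,
   ⟨1, [1], [], 0, 1, 80⟩,
   ⟨1, [2], [], 8, 1, 80⟩,
   ⟨3, [2, 1], [1, 2], 5, 1, 41⟩,
   ⟨0, [2, 2], [2, 0], 4, 1, 41⟩,
   ⟨3, [1, 0], [0, 2, 2], 11, 1, 41⟩,
   ⟨3, [2, 0], [0, 1, 2, 2], 1, 1, 2⟩]

/-- Rows. -/
def c12p3_sB : List Spec :=
  []

/-- Rows. -/
def c12p3_sC : List Spec :=
  [⟨3, [0, 0, 0], [], 9, 3, 80⟩,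
   ⟨3, [2, 2, 2], [], 10, 3, 40⟩]

/-- The certificate. -/
noncomputable def c12p3 : Cert where
  q := 2
  n := 3
  nf := 1
  b := 19
  M := 81
  D := 3
  fuel := 36
  rule := fun i j => getLL (getL3 c12p3_rule i) j
  fq := fun i j => getLL (getL3 c12p3_fq i) j
  fq' := fun i j => getLL (getL3 c12p3_fq' i) j
  nrm := nrmL 19 12 81
  nri := getL [0, 0, 2]
  nrj := getL [2, 0, 2]
  B := getL [0x80000, 0x27, 0x4000000000]
  nU := 0
  U := getL []
  ord := getL []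
  sA := c12p3_sA
  sB := c12p3_sB
  sC := c12p3_sC

theorem c12p3_nrm : Nrm c12p3.b c12p3.R c12p3.M c12p3.nrm := by
  dsimp only [c12p3, Cert.R]
  exact nrm_nrmL 19 12 81

theorem c12p3_chk : c12p3.chk 1 = true := by decide +kernel

theorem c12p3_bound : MBound Spor.M12 (3520 * 3520) 1 :=
  Cert.mBound_perm test12 (C := c12p3)
    (xs := getL [936688860482283082485734824699238925, 636930549336833250635412823664281728, 974348224049812946477808066979043392])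
    (gs := getL [978239198764604640668953934463309856])
    (inv := getLL [[0], [5], [1]])
    (by show Nat.Prime 3; norm_num) card_M12 c12p3_nrm (by decide +kernel) c12p3_chk

theorem bound12 : MBound Spor.M12 1 2 :=
  (((c12p2_bound.mul
    c12p3_bound).mul
    (mBound_of_prime (p := 5) (k := 19008) (by norm_num) card_M12)).mul
    (mBound_of_prime (p := 11) (k := 8640) (by norm_num) card_M12)).congr (by norm_num) (by norm_num)

end Cfsg.Agent.H74
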