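import Mathlib
import Cfsg.Agent.H74.Mathieu

/-! # Upper bound for the Schur multiplier of `M22` (generated certificate) -/

set_option autoImplicit false
set_option maxRecDepth 1000000
set_option linter.style.longLine false

namespace Cfsg.Agent.H74

open Cfsg Cfsg.Agent.H42 Cfsg.Agent.H46

/-- Rules. -/
def c22p2_rule : List (List (List ℕ)) :=
  [[[3, 6], [1, 4, 6], [1, 2, 3, 4, 6], [4, 6], [4], [4, 5], [3, 4]],
   [[], [3, 4, 6], [2, 3, 4, 6], [3], [3, 6], [3, 5], [3, 4]],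
   [[], [], [3, 4, 6], [3], [3, 4], [4, 5, 6], [3, 6]],
   [[], [], [], [], [4], [5], [6]],
   [[], [], [], [], [], [5], [6]],
   [[], [], [], [], [], [], [6]],
   [[], [], [], [], [], [], []]]

/-- Fused subgroups. -/
def c22p2_fq : List (List (List ℕ)) :=
  [[[0, 1, 6], [0, 4, 5, 6], [4, 5, 6], [4, 5], [4, 6], [3, 4, 5, 6]],
   [[0, 3, 5, 6], [1, 3, 4], [2, 3, 5, 6], [2, 3, 4, 5], [1, 2, 4, 5, 6]]]

/-- Their images. -/
def c22p2_fq' : List (List (List ℕ)) :=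
  [[[0], [1, 6], [3, 5, 6], [5], [6], [4, 5, 6]],
   [[0, 1, 2, 4], [1, 2, 5], [3], [1, 2, 4, 5, 6], [1, 6]]]

/-- Rows. -/
def c22p2_sA : List Spec :=
  [⟨1, [0], [], 0, 1, 255⟩,
   ⟨1, [1], [], 1, 1, 255⟩,
   ⟨1, [2], [], 2, 1, 255⟩,
   ⟨1, [3], [], 3, 1, 255⟩,
   ⟨1, [4], [], 5, 1, 255⟩,
   ⟨1, [5], [], 16, 1, 255⟩,
   ⟨1, [6], [], 40, 1, 255⟩,
   ⟨0, [5], [5, 0], 33, 1, 1⟩,
   ⟨3, [4, 3], [3, 4], 34, 1, 1⟩,
   ⟨0, [3], [3, 0], 48, 1, 1⟩,
   ⟨0, [6], [4, 0], 32, 1, 1⟩,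
   ⟨0, [4], [3, 1], 27, 1, 1⟩,
   ⟨0, [0], [0, 0], 6, 1, 255⟩,
   ⟨0, [6], [0, 0], 25, 1, 171⟩,
   ⟨0, [5], [3, 0], 41, 1, 255⟩,
   ⟨3, [3, 2], [2, 3], 26, 1, 255⟩,
   ⟨0, [5], [5, 1], 24, 1, 1⟩,
   ⟨0, [5], [1, 1], 10, 1, 255⟩,
   ⟨0, [1], [0, 0], 13, 1, 255⟩,
   ⟨0, [1], [1, 1], 11, 1, 255⟩,
   ⟨0, [5], [5, 2], 4, 1, 255⟩,
   ⟨0, [6], [2, 1], 20, 1, 255⟩,
   ⟨3, [4, 0], [0, 2, 5], 54, 1, 1⟩,
   ⟨0, [5], [2, 1], 17, 1, 1⟩,
   ⟨4, [2, 2], [], 19, 1, 245⟩,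
   ⟨0, [5], [2, 0], 18, 1, 93⟩,
   ⟨0, [2], [0, 0], 12, 1, 245⟩,
   ⟨3, [1, 1], [], 8, 1, 57⟩,
   ⟨4, [2, 1], [1, 2], 9, 1, 1⟩,
   ⟨3, [3, 0], [0, 4, 5], 52, 1, 255⟩,
   ⟨3, [3, 1], [1, 2, 4], 53, 1, 255⟩,
   ⟨4, [2, 0], [0, 1, 3], 59, 1, 1⟩,
   ⟨4, [0, 0], [1, 3, 4], 60, 1, 1⟩]

/-- Rows. -/
def c22p2_sB : List Spec :=
  [⟨3, [3, 3], [], 51, 2, 85⟩,
   ⟨3, [0, 0], [2, 3], 49, 2, 255⟩,
   ⟨0, [2], [2, 0], 50, 2, 15⟩,
   ⟨4, [1, 1], [], 58, 2, 123⟩,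
   ⟨4, [1, 0], [0, 3, 4], 57, 2, 59⟩,
   ⟨0, [4], [3, 3], 56, 8, 195⟩]

/-- Rows. -/
def c22p2_sC : List Spec :=
  [⟨2, [0], [], 58, 2, 51⟩,
   ⟨3, [3, 3], [], 51, 2, 85⟩,
   ⟨3, [0, 0], [2, 3], 49, 2, 255⟩,
   ⟨0, [2], [2, 0], 50, 2, 23⟩]

/-- The certificate. -/
noncomputable def c22p2 : Cert where
  q := 1
  n := 7
  nf := 2
  b := 24
  M := 256
  D := 2
  fuel := 122
  rule := fun i j => getLL (getL3 c22p2_rule i) j
  fq := fun i j => getLL (getL3 c22p2_fq i) j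
  fq' := fun i j => getLL (getL3 c22p2_fq' i) j
  nrm := nrmM 24 63 8
  nri := getL [0, 0, 0, 0, 0, 2, 5]
  nrj := getL [0, 1, 2, 3, 5, 2, 5]
  B := getL [0x10000010000000000fe000001, 0xfe0000fe000004000000, 0x10000000000010000000000fe000000, 0x20000000000fe000000, 0xfe000000000000000000000000, 0x1000000000000000000000000000000000000, 0x20000000000000000fe000000]
  nU := 1
  U := getL [unitV 24 19 * 1]
  ord := getL [4]
  sA := c22p2_sA
  sB := c22p2_sB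
  sC := c22p2_sC

theorem c22p2_nrm : Nrm c22p2.b c22p2.R c22p2.M c22p2.nrm := by
  dsimp only [c22p2, Cert.R]
  exact (nrm_nrmM (b := 24) (R := 63) (v := 8) (by norm_num) : Nrm 24 63 (2 ^ 8) _)

theorem c22p2_chk : c22p2.chk 4 = true := by decide +kernel

theorem c22p2_bound : MBound Spor.M22 (3465 * 3465) 4 :=
  Cert.mBound_perm test22 (C := c22p2)
    (xs := getL [961330851372833795579467202632654304, 958514119471473173328894821939235328, 969889150636511631919884359356948128, 971269592446826249552146775608034368, 962061359898476230036779290980663872, 964982036800751298160704307567146336, 958451093468343897049966384500005248])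
    (gs := getL [971836033750071015914680203006920736, 976939484096674918434342100758858784])
    (inv := getLL [[14], [6, 10], [6], [1, 11, 12, 18, 21, 9, 3, 4], [1, 12, 11, 21], [1, 12], [1]])
    (by show Nat.Prime 2; norm_num) card_M22 c22p2_nrm (by decide +kernel) c22p2_chk

/-- Rules. -/
def c22p3_rule : List (List (List ℕ)) :=
  [[[], [1]],
   [[], []]]

/-- Fused subgroups. -/
def c22p3_fq : List (List (List ℕ)) :=
  []

/-- Their images. -/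
def c22p3_fq' : List (List (List ℕ)) :=
  []

/-- Rows. -/
def c22p3_sA : List Spec :=
  [⟨1, [0], [], 0, 1, 26⟩,
   ⟨1, [1], [], 3, 1, 26⟩]

/-- Rows. -/
def c22p3_sB : List Spec :=
  [⟨0, [1], [0, 0, 0], 1, 3, 26⟩]

/-- Rows. -/
def c22p3_sC : List Spec :=
  [⟨2, [0], [], 1, 1, 26⟩]

/-- The certificate. -/
noncomputable def c22p3 : Cert where
  q := 2
  n := 2
  nf := 0
  b := 15
  M := 27
  D := 3
  fuel := 16
  rule := fun i j => getLL (getL3 c22p3_rule i) j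
  fq := fun i j => getLL (getL3 c22p3_fq i) j
  fq' := fun i j => getLL (getL3 c22p3_fq' i) j
  nrm := nrmL 15 4 27
  nri := getL [0, 1]
  nrj := getL [0, 1]
  B := getL [0x1, 0x8000]
  nU := 1
  U := getL [unitV 15 1 * 1]
  ord := getL [3]
  sA := c22p3_sA
  sB := c22p3_sB
  sC := c22p3_sC

theorem c22p3_nrm : Nrm c22p3.b c22p3.R c22p3.M c22p3.nrm := by
  dsimp only [c22p3, Cert.R]
  exact nrm_nrmL 15 4 27

theorem c22p3_chk : c22p3.chk 3 = true := by decide +kernel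

theorem c22p3_bound : MBound Spor.M22 (49280 * 49280) 3 :=
  Cert.mBound_perm test22 (C := c22p3)
    (xs := getL [959698404691966495927467223829130272, 959823851459553241611420302368245792])
    (gs := getL [])
    (inv := getLL [[2], [3]])
    (by show Nat.Prime 3; norm_num) card_M22 c22p3_nrm (by decide +kernel) c22p3_chk

theorem bound22 : MBound Spor.M22 1 12 :=
  ((((c22p2_bound.mul
    c22p3_bound).mul
    (mBound_of_prime (p := 5) (k := 88704) (by norm_num) card_M22)).mul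
    (mBound_of_prime (p := 7) (k := 63360) (by norm_num) card_M22)).mul
    (mBound_of_prime (p := 11) (k := 40320) (by norm_num) card_M22)).congr (by norm_num) (by norm_num)

end Cfsg.Agent.H74
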