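import Cfsg.Agent.H44.Coset
import Cfsg.Agent.H44.Perm3

set_option autoImplicit false
set_option maxRecDepth 1000000
set_option linter.all false
set_option Elab.async false

namespace Cfsg.Agent.H74.PresS6.L0
open Cfsg.Agent.H44

noncomputable def rT0 : Tr :=
 (.leaf (nat_lit 28))
noncomputable def gT0 : Tr :=
 (.leaf (nat_lit 0))
/-- The relators. -/
def R : List (List ℕ) := [[1, 1]]
/-- The subgroup generators. -/
def S : List (List ℕ) := []
def Wr : List (List ℕ) := [[1, 1]]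
def Wn : List (List ℕ) := []
def cr : List (ℕ × ℕ × ℕ) := [(0, 0, 0)]
def cn : List (ℕ × ℕ × ℕ) := []
noncomputable def rT : Tr := rT0
noncomputable def gT : Tr := gT0
noncomputable def rC (i : ℕ) : ℕ := rT.get (nat_lit 0) i
noncomputable def gC (i : ℕ) : ℕ := gT.get (nat_lit 0) i
noncomputable def row (p : ℕ) : ℕ := rec2 rC (nat_lit 10) (nat_lit 1023) (nat_lit 4) (nat_lit 15) p
noncomputable def gf (p : ℕ) : ℕ := rec2 gC (nat_lit 10) (nat_lit 1023) (nat_lit 4) (nat_lit 15) p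
noncomputable def gw (c : ℕ) : List ℕ := nth [] Wr c
noncomputable def wn (c : ℕ) : ℕ := pack (nat_lit 1) (nth [] Wn c) (nat_lit 0)
noncomputable def C : Cert :=
  { n := (nat_lit 2), na := (nat_lit 0), M := (nat_lit 0), nc := (nat_lit 1), W := (nat_lit 1), EB := (nat_lit 2),
    LB := (nat_lit 1), nreg := (nat_lit 1), ivT := (nat_lit 2), base := (nat_lit 0),
    row := row, gf := gf, gw := gw, wn := wn }
theorem masks : Masks C (nat_lit 1) (nat_lit 3) (nat_lit 1) (nat_lit 3) (nat_lit 7) :=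
  ⟨by decide +kernel, by decide +kernel, by decide +kernel, by decide +kernel, by decide +kernel⟩
noncomputable def rchk : ℕ → ℕ → ℕ → Bool :=
  rowChk row gf gw (nat_lit 2) (nat_lit 0) (nat_lit 1) (nat_lit 1) (nat_lit 1) (nat_lit 2) (nat_lit 3) (nat_lit 1) (nat_lit 1) (nat_lit 3) (nat_lit 7) (nat_lit 1) (nat_lit 2) (nat_lit 1) (nat_lit 1) (nat_lit 5) (nat_lit 31)
noncomputable def fchk : ℕ → ℕ → ℕ → Bool :=
  auxRun row gf wn (nat_lit 2) (nat_lit 0) (nat_lit 0) (nat_lit 1) (nat_lit 1) (nat_lit 1) (nat_lit 2) (nat_lit 3) (nat_lit 1) (nat_lit 1) (nat_lit 3) (nat_lit 2) (nat_lit 0) (nat_lit 1) (nat_lit 1)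
theorem rows_of {lo hi : ℕ} {t : JL} (h : t.run rchk (nat_lit 5) hi lo = true) : C.RowsOK lo hi :=
  rowsOK_of_run masks h
theorem facts_of {lo hi : ℕ} {t : JL} (h : t.run fchk (nat_lit 20) hi lo = true) : C.FactsOK lo hi :=
  factsOK_of_run masks h
theorem words_ok : wordsChk 2 1 1 1 1 2 0 R S Wr Wn cr cn = true := by
  decide +kernel
noncomputable def j0 : JL :=
(.cons (nat_lit 2) (nat_lit 1) (nat_lit 0)
.nil)
theorem t0 : C.RowsOK (nat_lit 0) (nat_lit 2) :=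
  rows_of (t := j0) (by decide +kernel)
theorem checked : Checked C R S :=
  ⟨⟨Wr, Wn, cr, cn, fun _ => rfl, fun _ => rfl, words_ok⟩, t0,
    fun _ _ h => absurd h (Nat.not_lt_zero _)⟩

/-- In any group whose elements `g 1, …, g 1` satisfy the relators `R`, a subgroup containing the words
of `S` has index at most 2 in the subgroup generated by these elements. -/
theorem idxLe {G : Type*} [Group G] {g : ℕ → G} (hg : Sat g R) {H : Subgroup G}
    (hS : ∀ s ∈ S, ev g s ∈ H) : IdxLe H (gen g 1) 2 :=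
  checked.idxLe hg hS

end Cfsg.Agent.H74.PresS6.L0

namespace Cfsg.Agent.H74.PresS6.L1
open Cfsg.Agent.H44

noncomputable def rT0 : Tr :=
 (.leaf (nat_lit 467776))
noncomputable def gT0 : Tr :=
 (.leaf (nat_lit 9228))
/-- The relators. -/
def R : List (List ℕ) := [[1, 1],
  [2, 2],
  [1, 2, 1, 2]]
/-- The subgroup generators. -/
def S : List (List ℕ) := [[1]]
def Wr : List (List ℕ) := [[2, 2],
  [1, 2, 1, 2]]
def Wn : List (List ℕ) := [[1, 3]]
def cr : List (ℕ × ℕ × ℕ) := [(0, 0, 0), (1, 2, 0)]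
def cn : List (ℕ × ℕ × ℕ) := [(1, 3, 0)]
noncomputable def rT : Tr := rT0
noncomputable def gT : Tr := gT0
noncomputable def rC (i : ℕ) : ℕ := rT.get (nat_lit 0) i
noncomputable def gC (i : ℕ) : ℕ := gT.get (nat_lit 0) i
noncomputable def row (p : ℕ) : ℕ := rec2 rC (nat_lit 8) (nat_lit 255) (nat_lit 12) (nat_lit 4095) p
noncomputable def gf (p : ℕ) : ℕ := rec2 gC (nat_lit 9) (nat_lit 511) (nat_lit 8) (nat_lit 255) p
noncomputable def gw (c : ℕ) : List ℕ := nth [] Wr c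
noncomputable def wn (c : ℕ) : ℕ := pack (nat_lit 3) (nth [] Wn c) (nat_lit 0)
noncomputable def C : Cert :=
  { n := (nat_lit 2), na := (nat_lit 0), M := (nat_lit 2), nc := (nat_lit 2), W := (nat_lit 1), EB := (nat_lit 4),
    LB := (nat_lit 3), nreg := (nat_lit 2), ivT := (nat_lit 14472), base := (nat_lit 8),
    row := row, gf := gf, gw := gw, wn := wn }
theorem masks : Masks C (nat_lit 1) (nat_lit 15) (nat_lit 7) (nat_lit 5) (nat_lit 31) :=
  ⟨by decide +kernel, by decide +kernel, by decide +kernel, by decide +kernel, by decide +kernel⟩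
noncomputable def rchk : ℕ → ℕ → ℕ → Bool :=
  rowChk row gf gw (nat_lit 2) (nat_lit 2) (nat_lit 2) (nat_lit 1) (nat_lit 1) (nat_lit 4) (nat_lit 15) (nat_lit 3) (nat_lit 7) (nat_lit 5) (nat_lit 31) (nat_lit 2) (nat_lit 14472) (nat_lit 1) (nat_lit 1) (nat_lit 6) (nat_lit 63)
noncomputable def fchk : ℕ → ℕ → ℕ → Bool :=
  auxRun row gf wn (nat_lit 2) (nat_lit 0) (nat_lit 2) (nat_lit 2) (nat_lit 1) (nat_lit 1) (nat_lit 4) (nat_lit 15) (nat_lit 3) (nat_lit 7) (nat_lit 5) (nat_lit 14472) (nat_lit 8) (nat_lit 3) (nat_lit 7)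
theorem rows_of {lo hi : ℕ} {t : JL} (h : t.run rchk (nat_lit 12) hi lo = true) : C.RowsOK lo hi :=
  rowsOK_of_run masks h
theorem facts_of {lo hi : ℕ} {t : JL} (h : t.run fchk (nat_lit 20) hi lo = true) : C.FactsOK lo hi :=
  factsOK_of_run masks h
theorem words_ok : wordsChk 2 2 1 3 2 14472 8 R S Wr Wn cr cn = true := by
  decide +kernel
noncomputable def j0 : JL :=
(.cons (nat_lit 2) (nat_lit 8259) (nat_lit 1)
.nil)
theorem t0 : C.RowsOK (nat_lit 0) (nat_lit 2) :=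
  rows_of (t := j0) (by decide +kernel)
noncomputable def j1 : JL :=
(.cons (nat_lit 2) (nat_lit 0x1800000) (nat_lit 0x2001001000000)
.nil)
theorem t1 : C.FactsOK (nat_lit 0) (nat_lit 2) :=
  facts_of (t := j1) (by decide +kernel)
theorem checked : Checked C R S :=
  ⟨⟨Wr, Wn, cr, cn, fun _ => rfl, fun _ => rfl, words_ok⟩, t0,
    t1⟩

/-- In any group whose elements `g 1, …, g 2` satisfy the relators `R`, a subgroup containing the words
of `S` has index at most 2 in the subgroup generated by these elements. -/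
theorem idxLe {G : Type*} [Group G] {g : ℕ → G} (hg : Sat g R) {H : Subgroup G}
    (hS : ∀ s ∈ S, ev g s ∈ H) : IdxLe H (gen g 2) 2 :=
  checked.idxLe hg hS

end Cfsg.Agent.H74.PresS6.L1

namespace Cfsg.Agent.H74.PresS6.L2
open Cfsg.Agent.H44

noncomputable def rT0 : Tr :=
 (.leaf (nat_lit 0x7733440))
noncomputable def gT0 : Tr :=
 (.leaf (nat_lit 0x28241810))
/-- The relators. -/
def R : List (List ℕ) := [[1, 1],
  [2, 2],
  [3, 3],
  [1, 2, 1, 2],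
  [1, 3, 1, 3],
  [2, 3, 2, 3]]
/-- The subgroup generators. -/
def S : List (List ℕ) := [[1],
  [2]]
def Wr : List (List ℕ) := [[3, 3],
  [1, 3, 1, 3],
  [2, 3, 2, 3]]
def Wn : List (List ℕ) := [[1, 4],
  [2, 6]]
def cr : List (ℕ × ℕ × ℕ) := [(0, 0, 0), (1, 4, 0), (1, 5, 0)]
def cn : List (ℕ × ℕ × ℕ) := [(1, 6, 0), (1, 7, 0)]
noncomputable def rT : Tr := rT0
noncomputable def gT : Tr := gT0
noncomputable def rC (i : ℕ) : ℕ := rT.get (nat_lit 0) i
noncomputable def gC (i : ℕ) : ℕ := gT.get (nat_lit 0) i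
noncomputable def row (p : ℕ) : ℕ := rec2 rC (nat_lit 8) (nat_lit 255) (nat_lit 16) (nat_lit 65535) p
noncomputable def gf (p : ℕ) : ℕ := rec2 gC (nat_lit 9) (nat_lit 511) (nat_lit 8) (nat_lit 255) p
noncomputable def gw (c : ℕ) : List ℕ := nth [] Wr c
noncomputable def wn (c : ℕ) : ℕ := pack (nat_lit 3) (nth [] Wn c) (nat_lit 0)
noncomputable def C : Cert :=
  { n := (nat_lit 2), na := (nat_lit 0), M := (nat_lit 4), nc := (nat_lit 3), W := (nat_lit 1), EB := (nat_lit 4),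
    LB := (nat_lit 3), nreg := (nat_lit 3), ivT := (nat_lit 0xde5688), base := (nat_lit 80),
    row := row, gf := gf, gw := gw, wn := wn }
theorem masks : Masks C (nat_lit 1) (nat_lit 15) (nat_lit 7) (nat_lit 5) (nat_lit 31) :=
  ⟨by decide +kernel, by decide +kernel, by decide +kernel, by decide +kernel, by decide +kernel⟩
noncomputable def rchk : ℕ → ℕ → ℕ → Bool :=
  rowChk row gf gw (nat_lit 2) (nat_lit 4) (nat_lit 3) (nat_lit 1) (nat_lit 1) (nat_lit 4) (nat_lit 15) (nat_lit 3) (nat_lit 7) (nat_lit 5) (nat_lit 31) (nat_lit 3) (nat_lit 0xde5688) (nat_lit 2) (nat_lit 3) (nat_lit 6) (nat_lit 63)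
noncomputable def fchk : ℕ → ℕ → ℕ → Bool :=
  auxRun row gf wn (nat_lit 2) (nat_lit 0) (nat_lit 4) (nat_lit 3) (nat_lit 1) (nat_lit 1) (nat_lit 4) (nat_lit 15) (nat_lit 3) (nat_lit 7) (nat_lit 5) (nat_lit 0xde5688) (nat_lit 80) (nat_lit 4) (nat_lit 15)
theorem rows_of {lo hi : ℕ} {t : JL} (h : t.run rchk (nat_lit 18) hi lo = true) : C.RowsOK lo hi :=
  rowsOK_of_run masks h
theorem facts_of {lo hi : ℕ} {t : JL} (h : t.run fchk (nat_lit 20) hi lo = true) : C.FactsOK lo hi :=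
  factsOK_of_run masks h
theorem words_ok : wordsChk 2 3 1 3 3 14571144 80 R S Wr Wn cr cn = true := by
  decide +kernel
noncomputable def j0 : JL :=
(.cons (nat_lit 2) (nat_lit 0x3081144) (nat_lit 14)
.nil)
theorem t0 : C.RowsOK (nat_lit 0) (nat_lit 2) :=
  rows_of (t := j0) (by decide +kernel)
noncomputable def j1 : JL :=
(.cons (nat_lit 4) (nat_lit 0x4c000300001800000) (nat_lit 0x50010023001001000000000000)
.nil)
theorem t1 : C.FactsOK (nat_lit 0) (nat_lit 4) :=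
  facts_of (t := j1) (by decide +kernel)
theorem checked : Checked C R S :=
  ⟨⟨Wr, Wn, cr, cn, fun _ => rfl, fun _ => rfl, words_ok⟩, t0,
    t1⟩

/-- In any group whose elements `g 1, …, g 3` satisfy the relators `R`, a subgroup containing the words
of `S` has index at most 2 in the subgroup generated by these elements. -/
theorem idxLe {G : Type*} [Group G] {g : ℕ → G} (hg : Sat g R) {H : Subgroup G}
    (hS : ∀ s ∈ S, ev g s ∈ H) : IdxLe H (gen g 3) 2 :=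
  checked.idxLe hg hS

end Cfsg.Agent.H74.PresS6.L2

namespace Cfsg.Agent.H74.PresS6.L3
open Cfsg.Agent.H44

noncomputable def rT0 : Tr :=
 (.leaf (nat_lit 0x739c8321080))
noncomputable def gT0 : Tr :=
 (.leaf (nat_lit 0x130481102407014))
/-- The relators. -/
def R : List (List ℕ) := [[1, 1],
  [2, 2],
  [3, 3],
  [4, 4],
  [1, 2, 1, 2],
  [1, 3, 1, 3],
  [2, 3, 2, 3],
  [1, 4, 1, 4],
  [2, 4, 2, 4],
  [3, 4, 3, 4]]
/-- The subgroup generators. -/
def S : List (List ℕ) := [[1],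
  [2],
  [3]]
def Wr : List (List ℕ) := [[4, 4],
  [1, 4, 1, 4],
  [2, 4, 2, 4],
  [3, 4, 3, 4]]
def Wn : List (List ℕ) := [[1, 5],
  [2, 7],
  [3, 9]]
def cr : List (ℕ × ℕ × ℕ) := [(0, 0, 0), (1, 7, 0), (1, 8, 0), (1, 9, 0)]
def cn : List (ℕ × ℕ × ℕ) := [(1, 10, 0), (1, 11, 0), (1, 12, 0)]
noncomputable def rT : Tr := rT0
noncomputable def gT : Tr := gT0
noncomputable def rC (i : ℕ) : ℕ := rT.get (nat_lit 0) i
noncomputable def gC (i : ℕ) : ℕ := gT.get (nat_lit 0) i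
noncomputable def row (p : ℕ) : ℕ := rec2 rC (nat_lit 7) (nat_lit 127) (nat_lit 25) (nat_lit 0x1ffffff) p
noncomputable def gf (p : ℕ) : ℕ := rec2 gC (nat_lit 9) (nat_lit 511) (nat_lit 10) (nat_lit 1023) p
noncomputable def gw (c : ℕ) : List ℕ := nth [] Wr c
noncomputable def wn (c : ℕ) : ℕ := pack (nat_lit 4) (nth [] Wn c) (nat_lit 0)
noncomputable def C : Cert :=
  { n := (nat_lit 2), na := (nat_lit 0), M := (nat_lit 6), nc := (nat_lit 4), W := (nat_lit 1), EB := (nat_lit 5),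
    LB := (nat_lit 4), nreg := (nat_lit 4), ivT := (nat_lit 0x9a785643210), base := (nat_lit 672),
    row := row, gf := gf, gw := gw, wn := wn }
theorem masks : Masks C (nat_lit 1) (nat_lit 31) (nat_lit 15) (nat_lit 6) (nat_lit 63) :=
  ⟨by decide +kernel, by decide +kernel, by decide +kernel, by decide +kernel, by decide +kernel⟩
noncomputable def rchk : ℕ → ℕ → ℕ → Bool :=
  rowChk row gf gw (nat_lit 2) (nat_lit 6) (nat_lit 4) (nat_lit 1) (nat_lit 1) (nat_lit 5) (nat_lit 31) (nat_lit 4) (nat_lit 15) (nat_lit 6) (nat_lit 63) (nat_lit 4) (nat_lit 0x9a785643210) (nat_lit 3) (nat_lit 7) (nat_lit 7) (nat_lit 127)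
noncomputable def fchk : ℕ → ℕ → ℕ → Bool :=
  auxRun row gf wn (nat_lit 2) (nat_lit 0) (nat_lit 6) (nat_lit 4) (nat_lit 1) (nat_lit 1) (nat_lit 5) (nat_lit 31) (nat_lit 4) (nat_lit 15) (nat_lit 6) (nat_lit 0x9a785643210) (nat_lit 672) (nat_lit 5) (nat_lit 31)
theorem rows_of {lo hi : ℕ} {t : JL} (h : t.run rchk (nat_lit 28) hi lo = true) : C.RowsOK lo hi :=
  rowsOK_of_run masks h
theorem facts_of {lo hi : ℕ} {t : JL} (h : t.run fchk (nat_lit 20) hi lo = true) : C.FactsOK lo hi :=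
  factsOK_of_run masks h
theorem words_ok : wordsChk 2 4 1 4 4 10615102124560 672 R S Wr Wn cr cn = true := by
  decide +kernel
noncomputable def j0 : JL :=
(.cons (nat_lit 2) (nat_lit 0x10182021c305) (nat_lit 355)
.nil)
theorem t0 : C.RowsOK (nat_lit 0) (nat_lit 2) :=
  rows_of (t := j0) (by decide +kernel)
noncomputable def j1 : JL :=
(.cons (nat_lit 6) (nat_lit 0x820006500048000300001800000) (nat_lit 0x2000400cc0020044001001000000000000000000)
.nil)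
theorem t1 : C.FactsOK (nat_lit 0) (nat_lit 6) :=
  facts_of (t := j1) (by decide +kernel)
theorem checked : Checked C R S :=
  ⟨⟨Wr, Wn, cr, cn, fun _ => rfl, fun _ => rfl, words_ok⟩, t0,
    t1⟩

/-- In any group whose elements `g 1, …, g 4` satisfy the relators `R`, a subgroup containing the words
of `S` has index at most 2 in the subgroup generated by these elements. -/
theorem idxLe {G : Type*} [Group G] {g : ℕ → G} (hg : Sat g R) {H : Subgroup G}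
    (hS : ∀ s ∈ S, ev g s ∈ H) : IdxLe H (gen g 4) 2 :=
  checked.idxLe hg hS

end Cfsg.Agent.H74.PresS6.L3

namespace Cfsg.Agent.H74.PresS6.L4
open Cfsg.Agent.H44

noncomputable def rT0 : Tr :=
 (.leaf (nat_lit 0x1ce73946421080))
noncomputable def gT0 : Tr :=
 (.leaf (nat_lit 0x1404c120440c02808018))
/-- The relators. -/
def R : List (List ℕ) := [[1, 1],
  [2, 2],
  [3, 3],
  [4, 4],
  [5, 5],
  [1, 2, 1, 2],
  [1, 3, 1, 3],
  [2, 3, 2, 3],
  [1, 4, 1, 4],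
  [2, 4, 2, 4],
  [3, 4, 3, 4],
  [1, 5, 1, 5],
  [2, 5, 2, 5],
  [3, 5, 3, 5],
  [4, 5, 4, 5]]
/-- The subgroup generators. -/
def S : List (List ℕ) := [[1],
  [2],
  [3],
  [4]]
def Wr : List (List ℕ) := [[5, 5],
  [1, 5, 1, 5],
  [2, 5, 2, 5],
  [3, 5, 3, 5],
  [4, 5, 4, 5]]
def Wn : List (List ℕ) := [[1, 6],
  [2, 8],
  [3, 10],
  [4, 12]]
def cr : List (ℕ × ℕ × ℕ) := [(0, 0, 0), (1, 11, 0), (1, 12, 0), (1, 13, 0), (1, 14, 0)]
def cn : List (ℕ × ℕ × ℕ) := [(1, 15, 0), (1, 16, 0), (1, 17, 0), (1, 18, 0)]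
noncomputable def rT : Tr := rT0
noncomputable def gT : Tr := gT0
noncomputable def rC (i : ℕ) : ℕ := rT.get (nat_lit 0) i
noncomputable def gC (i : ℕ) : ℕ := gT.get (nat_lit 0) i
noncomputable def row (p : ℕ) : ℕ := rec2 rC (nat_lit 7) (nat_lit 127) (nat_lit 30) (nat_lit 0x3fffffff) p
noncomputable def gf (p : ℕ) : ℕ := rec2 gC (nat_lit 9) (nat_lit 511) (nat_lit 10) (nat_lit 1023) p
noncomputable def gw (c : ℕ) : List ℕ := nth [] Wr c
noncomputable def wn (c : ℕ) : ℕ := pack (nat_lit 4) (nth [] Wn c) (nat_lit 0)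
noncomputable def C : Cert :=
  { n := (nat_lit 2), na := (nat_lit 0), M := (nat_lit 8), nc := (nat_lit 5), W := (nat_lit 1), EB := (nat_lit 5),
    LB := (nat_lit 4), nreg := (nat_lit 5), ivT := (nat_lit 0xcdab8967543210), base := (nat_lit 5440),
    row := row, gf := gf, gw := gw, wn := wn }
theorem masks : Masks C (nat_lit 1) (nat_lit 31) (nat_lit 15) (nat_lit 6) (nat_lit 63) :=
  ⟨by decide +kernel, by decide +kernel, by decide +kernel, by decide +kernel, by decide +kernel⟩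
noncomputable def rchk : ℕ → ℕ → ℕ → Bool :=
  rowChk row gf gw (nat_lit 2) (nat_lit 8) (nat_lit 5) (nat_lit 1) (nat_lit 1) (nat_lit 5) (nat_lit 31) (nat_lit 4) (nat_lit 15) (nat_lit 6) (nat_lit 63) (nat_lit 5) (nat_lit 0xcdab8967543210) (nat_lit 3) (nat_lit 7) (nat_lit 7) (nat_lit 127)
noncomputable def fchk : ℕ → ℕ → ℕ → Bool :=
  auxRun row gf wn (nat_lit 2) (nat_lit 0) (nat_lit 8) (nat_lit 5) (nat_lit 1) (nat_lit 1) (nat_lit 5) (nat_lit 31) (nat_lit 4) (nat_lit 15) (nat_lit 6) (nat_lit 0xcdab8967543210) (nat_lit 5440) (nat_lit 5) (nat_lit 31)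
theorem rows_of {lo hi : ℕ} {t : JL} (h : t.run rchk (nat_lit 35) hi lo = true) : C.RowsOK lo hi :=
  rowsOK_of_run masks h
theorem facts_of {lo hi : ℕ} {t : JL} (h : t.run fchk (nat_lit 20) hi lo = true) : C.FactsOK lo hi :=
  factsOK_of_run masks h
theorem words_ok : wordsChk 2 5 1 4 5 57890976858124816 5440 R S Wr Wn cr cn = true := by
  decide +kernel
noncomputable def j0 : JL :=
(.cons (nat_lit 2) (nat_lit 0x5080c1011220386) (nat_lit 4012)
.nil)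
theorem t0 : C.RowsOK (nat_lit 0) (nat_lit 2) :=
  rows_of (t := j0) (by decide +kernel)
noncomputable def j1 : JL :=
(.cons (nat_lit 8) (nat_lit 0xb70009a0007d0006000048000300001800000) (nat_lit 0x58008022400400ce0020045001001000000000000000000000000)
.nil)
theorem t1 : C.FactsOK (nat_lit 0) (nat_lit 8) :=
  facts_of (t := j1) (by decide +kernel)
theorem checked : Checked C R S :=
  ⟨⟨Wr, Wn, cr, cn, fun _ => rfl, fun _ => rfl, words_ok⟩, t0,
    t1⟩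

/-- In any group whose elements `g 1, …, g 5` satisfy the relators `R`, a subgroup containing the words
of `S` has index at most 2 in the subgroup generated by these elements. -/
theorem idxLe {G : Type*} [Group G] {g : ℕ → G} (hg : Sat g R) {H : Subgroup G}
    (hS : ∀ s ∈ S, ev g s ∈ H) : IdxLe H (gen g 5) 2 :=
  checked.idxLe hg hS

end Cfsg.Agent.H74.PresS6.L4

namespace Cfsg.Agent.H74.PresS6.L5
open Cfsg.Agent.H44

noncomputable def rT0 : Tr :=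
 (.leaf (nat_lit 0x71c71c7183104104100))
noncomputable def gT0 : Tr :=
 (.leaf (nat_lit 0x9409008c08808403c03402c02401c))
/-- The relators. -/
def R : List (List ℕ) := [[1, 1],
  [2, 2],
  [3, 3],
  [4, 4],
  [5, 5],
  [6, 6],
  [1, 2, 1, 2],
  [1, 3, 1, 3],
  [2, 3, 2, 3],
  [1, 4, 1, 4],
  [2, 4, 2, 4],
  [3, 4, 3, 4],
  [1, 5, 1, 5],
  [2, 5, 2, 5],
  [3, 5, 3, 5],
  [4, 5, 4, 5],
  [1, 6, 1, 6],
  [2, 6, 2, 6],
  [3, 6, 3, 6],
  [4, 6, 4, 6],
  [5, 6, 5, 6]]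
/-- The subgroup generators. -/
def S : List (List ℕ) := [[1],
  [2],
  [3],
  [4],
  [5]]
def Wr : List (List ℕ) := [[6, 6],
  [1, 6, 1, 6],
  [2, 6, 2, 6],
  [3, 6, 3, 6],
  [4, 6, 4, 6],
  [5, 6, 5, 6]]
def Wn : List (List ℕ) := [[1, 7],
  [2, 9],
  [3, 11],
  [4, 13],
  [5, 15]]
def cr : List (ℕ × ℕ × ℕ) := [(0, 0, 0), (1, 16, 0), (1, 17, 0), (1, 18, 0), (1, 19, 0), (1, 20, 0)]
def cn : List (ℕ × ℕ × ℕ) := [(1, 21, 0), (1, 22, 0), (1, 23, 0), (1, 24, 0), (1, 25, 0)]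
noncomputable def rT : Tr := rT0
noncomputable def gT : Tr := gT0
noncomputable def rC (i : ℕ) : ℕ := rT.get (nat_lit 0) i
noncomputable def gC (i : ℕ) : ℕ := gT.get (nat_lit 0) i
noncomputable def row (p : ℕ) : ℕ := rec2 rC (nat_lit 7) (nat_lit 127) (nat_lit 42) (nat_lit 0x3ffffffffff) p
noncomputable def gf (p : ℕ) : ℕ := rec2 gC (nat_lit 8) (nat_lit 255) (nat_lit 12) (nat_lit 4095) p
noncomputable def gw (c : ℕ) : List ℕ := nth [] Wr c
noncomputable def wn (c : ℕ) : ℕ := pack (nat_lit 5) (nth [] Wn c) (nat_lit 0)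
noncomputable def C : Cert :=
  { n := (nat_lit 2), na := (nat_lit 0), M := (nat_lit 10), nc := (nat_lit 6), W := (nat_lit 1), EB := (nat_lit 6),
    LB := (nat_lit 5), nreg := (nat_lit 6), ivT := (nat_lit 0xf835cb62547418a418820), base := (nat_lit 43648),
    row := row, gf := gf, gw := gw, wn := wn }
theorem masks : Masks C (nat_lit 1) (nat_lit 63) (nat_lit 31) (nat_lit 7) (nat_lit 127) :=
  ⟨by decide +kernel, by decide +kernel, by decide +kernel, by decide +kernel, by decide +kernel⟩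
noncomputable def rchk : ℕ → ℕ → ℕ → Bool :=
  rowChk row gf gw (nat_lit 2) (nat_lit 10) (nat_lit 6) (nat_lit 1) (nat_lit 1) (nat_lit 6) (nat_lit 63) (nat_lit 5) (nat_lit 31) (nat_lit 7) (nat_lit 127) (nat_lit 6) (nat_lit 0xf835cb62547418a418820) (nat_lit 4) (nat_lit 15) (nat_lit 7) (nat_lit 127)
noncomputable def fchk : ℕ → ℕ → ℕ → Bool :=
  auxRun row gf wn (nat_lit 2) (nat_lit 0) (nat_lit 10) (nat_lit 6) (nat_lit 1) (nat_lit 1) (nat_lit 6) (nat_lit 63) (nat_lit 5) (nat_lit 31) (nat_lit 7) (nat_lit 0xf835cb62547418a418820) (nat_lit 43648) (nat_lit 5) (nat_lit 31)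
theorem rows_of {lo hi : ℕ} {t : JL} (h : t.run rchk (nat_lit 42) hi lo = true) : C.RowsOK lo hi :=
  rowsOK_of_run masks h
theorem facts_of {lo hi : ℕ} {t : JL} (h : t.run fchk (nat_lit 20) hi lo = true) : C.FactsOK lo hi :=
  factsOK_of_run masks h
theorem words_ok : wordsChk 2 6 1 5 6 18754227528905178281510944 43648 R S Wr Wn cr cn = true := by
  decide +kernel
noncomputable def j0 : JL :=
(.cons (nat_lit 2) (nat_lit 0x18284060808b1424407) (nat_lit 624485)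
.nil)
theorem t0 : C.RowsOK (nat_lit 0) (nat_lit 2) :=
  rows_of (t := j0) (by decide +kernel)
noncomputable def j1 : JL :=
(.cons (nat_lit 10) (nat_lit 0xec000cf000b200095000780006000048000300001800000) (nat_lit 0xe00100560008022800400d00020046001001000000000000000000000000000000)
.nil)
theorem t1 : C.FactsOK (nat_lit 0) (nat_lit 10) :=
  facts_of (t := j1) (by decide +kernel)
theorem checked : Checked C R S :=
  ⟨⟨Wr, Wn, cr, cn, fun _ => rfl, fun _ => rfl, words_ok⟩, t0,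
    t1⟩

/-- In any group whose elements `g 1, …, g 6` satisfy the relators `R`, a subgroup containing the words
of `S` has index at most 2 in the subgroup generated by these elements. -/
theorem idxLe {G : Type*} [Group G] {g : ℕ → G} (hg : Sat g R) {H : Subgroup G}
    (hS : ∀ s ∈ S, ev g s ∈ H) : IdxLe H (gen g 6) 2 :=
  checked.idxLe hg hS

end Cfsg.Agent.H74.PresS6.L5

namespace Cfsg.Agent.H74.PresS6.L6
open Cfsg.Agent.H44

noncomputable def rT0 : Tr :=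
 (.leaf (nat_lit 0x39ecd66b259ad16e73d1580a6a131a88ea5021a472591c964d28701960b0581c160d0670d95006571215cb4651b1a804561d15848451a94834550115446430c99c02441b9106c250c0c42e430090c6a23191142c420a90802210010c2831098c42407088804020100804000))
noncomputable def gT0 : Tr :=
 (.leaf (nat_lit 0x98002500090002300088002100048001000038000c00028000800))
/-- The relators. -/
def R : List (List ℕ) := [[1, 1],
  [2, 2],
  [3, 3],
  [4, 4],
  [5, 5],
  [6, 6],
  [7, 7],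
  [1, 2, 1, 2],
  [1, 3, 1, 3],
  [2, 3, 2, 3],
  [1, 4, 1, 4],
  [2, 4, 2, 4],
  [3, 4, 3, 4],
  [1, 5, 1, 5],
  [2, 5, 2, 5],
  [3, 5, 3, 5],
  [4, 5, 4, 5],
  [1, 6, 1, 6],
  [2, 6, 2, 6],
  [3, 6, 3, 6],
  [4, 6, 4, 6],
  [5, 6, 5, 6],
  [2, 7, 2, 7],
  [4, 7, 4, 7],
  [3, 6, 7, 3, 6, 7],
  [7, 1, 7, 1, 7, 2, 1],
  [3, 7, 3, 7, 3, 7, 3, 7],
  [5, 7, 5, 7, 5, 7, 5, 7],
  [1, 3, 7, 1, 3, 7, 1, 3, 7],
  [1, 5, 7, 1, 5, 7, 1, 5, 7],
  [7, 5, 7, 3, 7, 5, 7, 4, 3, 2]]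
/-- The subgroup generators. -/
def S : List (List ℕ) := [[1],
  [2],
  [3],
  [4],
  [5],
  [6]]
def Wr : List (List ℕ) := [[7, 7],
  [1, 1],
  [2, 7, 2, 7],
  [3, 3],
  [4, 7, 4, 7],
  [5, 5],
  [6, 6],
  [2, 1, 2, 1],
  [4, 1, 4, 1],
  [6, 1, 6, 1],
  [7, 1, 7, 2, 1, 7, 1],
  [2, 3, 2, 3],
  [4, 3, 4, 3],
  [6, 7, 3, 6, 7, 3],
  [2, 5, 2, 5],
  [4, 5, 4, 5],
  [1, 3, 1, 3],
  [7, 1, 3, 7, 1, 3, 7, 1, 3],
  [1, 5, 1, 5],
  [7, 1, 5, 7, 1, 5, 7, 1, 5],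
  [3, 5, 3, 5],
  [6, 5, 6, 5],
  [1, 7, 1, 7, 2, 1, 7],
  [3, 7, 3, 7, 3, 7, 3, 7],
  [5, 7, 3, 7, 5, 7, 4, 3, 2, 7],
  [3, 7, 5, 7, 4, 3, 2, 7, 5, 7],
  [5, 7, 5, 7, 5, 7, 5, 7]]
def Wn : List (List ℕ) := [[1, 8],
  [2, 10],
  [3, 12],
  [4, 14],
  [5, 16],
  [6, 18]]
def cr : List (ℕ × ℕ × ℕ) := [(0, 0, 0), (0, 0, 0), (1, 22, 0), (0, 0, 0), (1, 23, 0), (0, 0, 0), (0, 0, 0), (1, 7, 1), (1, 10, 1), (1, 17, 1), (1, 25, 2), (1, 9, 0), (1, 12, 1), (1, 24, 1), (1, 14, 0), (1, 16, 0), (1, 8, 0), (1, 28, 2), (1, 13, 0), (1, 29, 2), (1, 15, 0), (1, 21, 1), (1, 25, 1), (1, 26, 0), (1, 30, 1), (1, 30, 3), (1, 27, 0)]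
def cn : List (ℕ × ℕ × ℕ) := [(1, 31, 0), (1, 32, 0), (1, 33, 0), (1, 34, 0), (1, 35, 0), (1, 36, 0)]
noncomputable def rT : Tr := rT0
noncomputable def gT : Tr := gT0
noncomputable def rC (i : ℕ) : ℕ := rT.get (nat_lit 0) i
noncomputable def gC (i : ℕ) : ℕ := gT.get (nat_lit 0) i
noncomputable def row (p : ℕ) : ℕ := rec2 rC (nat_lit 6) (nat_lit 63) (nat_lit 72) (nat_lit 0xffffffffffffffffff) p
noncomputable def gf (p : ℕ) : ℕ := rec2 gC (nat_lit 8) (nat_lit 255) (nat_lit 18) (nat_lit 262143) p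
noncomputable def gw (c : ℕ) : List ℕ := nth [] Wr c
noncomputable def wn (c : ℕ) : ℕ := pack (nat_lit 5) (nth [] Wn c) (nat_lit 0)
noncomputable def C : Cert :=
  { n := (nat_lit 12), na := (nat_lit 0), M := (nat_lit 12), nc := (nat_lit 7), W := (nat_lit 4), EB := (nat_lit 9),
    LB := (nat_lit 5), nreg := (nat_lit 27), ivT := (nat_lit 0x94e1173d8d52d09398a418820), base := (nat_lit 349440),
    row := row, gf := gf, gw := gw, wn := wn }
theorem masks : Masks C (nat_lit 15) (nat_lit 511) (nat_lit 31) (nat_lit 13) (nat_lit 8191) :=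
  ⟨by decide +kernel, by decide +kernel, by decide +kernel, by decide +kernel, by decide +kernel⟩
noncomputable def rchk : ℕ → ℕ → ℕ → Bool :=
  rowChk row gf gw (nat_lit 12) (nat_lit 12) (nat_lit 7) (nat_lit 4) (nat_lit 15) (nat_lit 9) (nat_lit 511) (nat_lit 5) (nat_lit 31) (nat_lit 13) (nat_lit 8191) (nat_lit 27) (nat_lit 0x94e1173d8d52d09398a418820) (nat_lit 4) (nat_lit 15) (nat_lit 8) (nat_lit 255)
noncomputable def fchk : ℕ → ℕ → ℕ → Bool :=
  auxRun row gf wn (nat_lit 12) (nat_lit 0) (nat_lit 12) (nat_lit 7) (nat_lit 4) (nat_lit 15) (nat_lit 9) (nat_lit 511) (nat_lit 5) (nat_lit 31) (nat_lit 13) (nat_lit 0x94e1173d8d52d09398a418820) (nat_lit 349440) (nat_lit 5) (nat_lit 31)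
theorem rows_of {lo hi : ℕ} {t : JL} (h : t.run rchk (nat_lit 56) hi lo = true) : C.RowsOK lo hi :=
  rowsOK_of_run masks h
theorem facts_of {lo hi : ℕ} {t : JL} (h : t.run fchk (nat_lit 20) hi lo = true) : C.FactsOK lo hi :=
  factsOK_of_run masks h
theorem words_ok : wordsChk 12 7 4 5 27 737214392205380596375629170720 349440 R S Wr Wn cr cn = true := by
  decide +kernel
noncomputable def j0 : JL :=
(.cons (nat_lit 12) (nat_lit 0xe1b0518031714160010150f13000e1b051a0317000e190518031701160010150f0214070010040f131207060d000c1101070010040f02010e060d000c020b0a0609040800000706050403020121201f1e1d1c) (nat_lit 0xba9876)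
.nil)
theorem t0 : C.RowsOK (nat_lit 0) (nat_lit 12) :=
  rows_of (t := j0) (by decide +kernel)
noncomputable def j1 : JL :=
(.cons (nat_lit 12) (nat_lit 0x12100104000e7000ca000ad00090000780006000048000300001800000) (nat_lit 0x2200200cf00100568008022c00400d20020047001001000000000000000000000000000000000000)
.nil)
theorem t1 : C.FactsOK (nat_lit 0) (nat_lit 12) :=
  facts_of (t := j1) (by decide +kernel)
theorem checked : Checked C R S :=
  ⟨⟨Wr, Wn, cr, cn, fun _ => rfl, fun _ => rfl, words_ok⟩, t0,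
    t1⟩

/-- In any group whose elements `g 1, …, g 7` satisfy the relators `R`, a subgroup containing the words
of `S` has index at most 12 in the subgroup generated by these elements. -/
theorem idxLe {G : Type*} [Group G] {g : ℕ → G} (hg : Sat g R) {H : Subgroup G}
    (hS : ∀ s ∈ S, ev g s ∈ H) : IdxLe H (gen g 7) 12 :=
  checked.idxLe hg hS

end Cfsg.Agent.H74.PresS6.L6

namespace Cfsg.Agent.H74.PresS6.L7
open Cfsg.Agent.H44

noncomputable def rT0 : Tr :=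
 (.leaf (nat_lit 0x1aeb53c24042c8d1212657502c1c3a2e42c9553020244ae203926f696748e7ae039ed3cf38646a0db8f89ee65c7c1b01c70528c57299231ed00c8aef60c1b556a515eeba4e8ae0320c98232f2660c5988370624c80c302029866539a2c42a9a9262c521cc00a4aa854eaa153aa754a38093a8750ca194428651aa1289b6e770b008a394586e91320a92dcc5ddbb8022aead62244110ca1c31125aae8081b844481acd59ef702eb560b80208810200ec41ed49a398f68e741b1d00194431b9b6a602da0f0b43218800641a734c69cd31a534638055ac6666ca0f0b21602b8a8524015059cb31672cc594b14e1582a94600a6284318a2122942a18928800ca48842925283280249c744298520a21406404809e008e398728e61ca394708e1382698a004518651461081142604b284128a280228a20c218c4208624009041924106302528640c60849206004818c50461202390508c408229020020840010120611060843182108040411002004008010020040000))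
noncomputable def gT0 : Tr :=
 (.leaf (nat_lit 0x2253198a136e2539b814f6a0065e801b7de06a271da6dc45db709a6dc13db698f69a465a68cf69a06e0601a85a641c491e89227e2418f8524661489b85876a0491781226a012137c27000098000250000900002300008800021000054000130000440000f0000340000b0000240000588f00e13c0180f015f380578c))
/-- The relators. -/
def R : List (List ℕ) := [[1, 1],
  [2, 2],
  [3, 3],
  [4, 4],
  [5, 5],
  [6, 6],
  [7, 7],
  [8, 8],
  [1, 2, 1, 2],
  [1, 3, 1, 3],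
  [2, 3, 2, 3],
  [1, 4, 1, 4],
  [2, 4, 2, 4],
  [3, 4, 3, 4],
  [1, 5, 1, 5],
  [2, 5, 2, 5],
  [3, 5, 3, 5],
  [4, 5, 4, 5],
  [1, 6, 1, 6],
  [2, 6, 2, 6],
  [3, 6, 3, 6],
  [4, 6, 4, 6],
  [5, 6, 5, 6],
  [2, 7, 2, 7],
  [4, 7, 4, 7],
  [3, 6, 7, 3, 6, 7],
  [7, 1, 7, 1, 7, 2, 1],
  [3, 7, 3, 7, 3, 7, 3, 7],
  [5, 7, 5, 7, 5, 7, 5, 7],
  [1, 3, 7, 1, 3, 7, 1, 3, 7],
  [1, 5, 7, 1, 5, 7, 1, 5, 7],
  [7, 5, 7, 3, 7, 5, 7, 4, 3, 2],
  [3, 6, 8, 3, 6, 8],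
  [5, 8, 5, 8, 5, 8],
  [6, 8, 6, 8, 6, 8],
  [8, 2, 8, 5, 7, 5, 2],
  [2, 7, 8, 2, 7, 8],
  [8, 4, 8, 6, 7, 3, 2],
  [1, 8, 1, 8, 1, 8, 1, 8]]
/-- The subgroup generators. -/
def S : List (List ℕ) := [[1],
  [2],
  [3],
  [4],
  [5],
  [6],
  [7]]
def Wr : List (List ℕ) := [[8, 8],
  [1, 1],
  [2, 8, 5, 7, 5, 2, 8],
  [3, 3],
  [4, 8, 6, 7, 3, 2, 8],
  [5, 5],
  [6, 6],
  [7, 8, 2, 7, 8, 2],
  [2, 1, 2, 1],
  [4, 1, 4, 1],
  [6, 1, 6, 1],
  [7, 7],
  [2, 3, 2, 3],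
  [4, 3, 4, 3],
  [6, 8, 3, 6, 8, 3],
  [7, 6, 8, 4, 8, 2, 3],
  [8, 6, 8, 6, 8, 6],
  [2, 5, 2, 5],
  [4, 5, 4, 5],
  [7, 5, 2, 8, 2, 8, 5],
  [8, 5, 8, 5, 8, 5],
  [1, 3, 1, 3],
  [1, 5, 1, 5],
  [1, 7, 1, 7, 2, 1, 7],
  [2, 7, 2, 7],
  [3, 7, 1, 3, 7, 1, 3, 7, 1],
  [4, 7, 4, 7],
  [5, 7, 1, 5, 7, 1, 5, 7, 1],
  [6, 7, 3, 6, 7, 3],
  [1, 8, 1, 8, 1, 8, 1, 8],
  [2, 2],
  [4, 4],
  [7, 2, 8, 7, 2, 8],
  [3, 5, 3, 5],
  [6, 5, 6, 5],
  [3, 7, 3, 7, 3, 7, 3, 7],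
  [5, 7, 5, 7, 5, 7, 5, 7],
  [1, 2, 1, 2],
  [7, 2, 7, 2],
  [8, 7, 2, 8, 7, 2],
  [4, 2, 4, 2],
  [5, 7, 4, 3, 2, 7, 5, 7, 3, 7],
  [1, 4, 1, 4],
  [8, 6, 7, 3, 2, 8, 4],
  [3, 7, 5, 7, 4, 3, 2, 7, 5, 7],
  [4, 3, 2, 7, 5, 7, 3, 7, 5, 7],
  [6, 2, 6, 2],
  [3, 2, 8, 4, 8, 6, 7],
  [5, 8, 5, 8, 5, 8],
  [6, 8, 6, 8, 6, 8],
  [3, 4, 3, 4],
  [5, 7, 3, 7, 5, 7, 4, 3, 2, 7],
  [6, 4, 6, 4],
  [8, 1, 8, 1, 8, 1, 8, 1],
  [2, 4, 2, 4],
  [7, 4, 7, 4],
  [5, 3, 5, 3],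
  [3, 4, 7, 5, 7, 3, 7, 5, 7, 2]]
def Wn : List (List ℕ) := [[1, 9],
  [2, 11],
  [3, 13],
  [4, 15],
  [5, 17],
  [6, 19],
  [7, 21],
  [8, 5, 8, 5, 8, 5],
  [2, 1, 2, 1],
  [4, 1, 4, 1],
  [7, 1, 7, 2, 1, 7, 1],
  [2, 3, 2, 3],
  [4, 3, 4, 3],
  [6, 8, 3, 6, 8, 3],
  [2, 5, 2, 5],
  [4, 5, 4, 5],
  [6, 7, 3, 6, 7, 3],
  [1, 7, 3, 1, 7, 3, 1, 7, 3],
  [2, 2],
  [3, 3],
  [4, 4],
  [6, 6],
  [1, 1],
  [7, 7],
  [1, 7, 5, 1, 7, 5, 1, 7, 5],
  [5, 5],
  [8, 8]]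
def cr : List (ℕ × ℕ × ℕ) := [(0, 0, 0), (0, 0, 0), (1, 35, 1), (0, 0, 0), (1, 37, 1), (0, 0, 0), (0, 0, 0), (1, 36, 1), (1, 8, 1), (1, 11, 1), (1, 18, 1), (0, 0, 0), (1, 10, 0), (1, 13, 1), (1, 32, 1), (2, 37, 2), (1, 34, 1), (1, 15, 0), (1, 17, 0), (1, 35, 4), (1, 33, 1), (1, 9, 0), (1, 14, 0), (1, 26, 1), (1, 23, 0), (1, 29, 1), (1, 24, 0), (1, 30, 1), (1, 25, 1), (1, 38, 0), (0, 0, 0), (0, 0, 0), (2, 36, 1), (1, 16, 0), (1, 22, 1), (1, 27, 0), (1, 28, 0), (1, 8, 0), (1, 23, 1), (2, 36, 0), (1, 12, 1), (1, 31, 5), (1, 11, 0), (1, 37, 2), (1, 31, 3), (1, 31, 7), (1, 19, 1), (1, 37, 5), (1, 33, 0), (1, 34, 0), (1, 13, 0), (1, 31, 1), (1, 21, 1), (1, 38, 1), (1, 12, 0), (1, 24, 1), (1, 16, 1), (2, 31, 1)]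
def cn : List (ℕ × ℕ × ℕ) := [(1, 39, 0), (1, 40, 0), (1, 41, 0), (1, 42, 0), (1, 43, 0), (1, 44, 0), (1, 45, 0), (1, 33, 1), (1, 8, 1), (1, 11, 1), (1, 26, 2), (1, 10, 0), (1, 13, 1), (1, 32, 1), (1, 15, 0), (1, 17, 0), (1, 25, 1), (2, 29, 2), (0, 0, 0), (0, 0, 0), (0, 0, 0), (0, 0, 0), (0, 0, 0), (0, 0, 0), (2, 30, 2), (0, 0, 0), (0, 0, 0)]
noncomputable def rT : Tr := rT0
noncomputable def gT : Tr := gT0
noncomputable def rC (i : ℕ) : ℕ := rT.get (nat_lit 0) i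
noncomputable def gC (i : ℕ) : ℕ := gT.get (nat_lit 0) i
noncomputable def row (p : ℕ) : ℕ := rec2 rC (nat_lit 5) (nat_lit 31) (nat_lit 99) (nat_lit 0x7ffffffffffffffffffffffff) p
noncomputable def gf (p : ℕ) : ℕ := rec2 gC (nat_lit 8) (nat_lit 255) (nat_lit 22) (nat_lit 0x3fffff) p
noncomputable def gw (c : ℕ) : List ℕ := nth [] Wr c
noncomputable def wn (c : ℕ) : ℕ := pack (nat_lit 5) (nth [] Wn c) (nat_lit 0)
noncomputable def C : Cert :=
  { n := (nat_lit 30), na := (nat_lit 5), M := (nat_lit 45), nc := (nat_lit 8), W := (nat_lit 6), EB := (nat_lit 11),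
    LB := (nat_lit 5), nreg := (nat_lit 58), ivT := (nat_lit 0x56d3a464f835cb62548398a418820), base := (nat_lit 0x2aaa00),
    row := row, gf := gf, gw := gw, wn := wn }
theorem masks : Masks C (nat_lit 63) (nat_lit 2047) (nat_lit 31) (nat_lit 17) (nat_lit 131071) :=
  ⟨by decide +kernel, by decide +kernel, by decide +kernel, by decide +kernel, by decide +kernel⟩
noncomputable def rchk : ℕ → ℕ → ℕ → Bool :=
  rowChk row gf gw (nat_lit 30) (nat_lit 45) (nat_lit 8) (nat_lit 6) (nat_lit 63) (nat_lit 11) (nat_lit 2047) (nat_lit 5) (nat_lit 31) (nat_lit 17) (nat_lit 131071) (nat_lit 58) (nat_lit 0x56d3a464f835cb62548398a418820) (nat_lit 6) (nat_lit 63) (nat_lit 8) (nat_lit 255)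
noncomputable def fchk : ℕ → ℕ → ℕ → Bool :=
  auxRun row gf wn (nat_lit 30) (nat_lit 5) (nat_lit 45) (nat_lit 8) (nat_lit 6) (nat_lit 63) (nat_lit 11) (nat_lit 2047) (nat_lit 5) (nat_lit 31) (nat_lit 17) (nat_lit 0x56d3a464f835cb62548398a418820) (nat_lit 0x2aaa00) (nat_lit 7) (nat_lit 127)
theorem rows_of {lo hi : ℕ} {t : JL} (h : t.run rchk (nat_lit 64) hi lo = true) : C.RowsOK lo hi :=
  rowsOK_of_run masks h
theorem facts_of {lo hi : ℕ} {t : JL} (h : t.run fchk (nat_lit 20) hi lo = true) : C.FactsOK lo hi :=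
  factsOK_of_run masks h
theorem words_ok : wordsChk 30 8 6 5 58 28176883932974165028840478934665248 2796032 R S Wr Wn cr cn = true := by
  decide +kernel
noncomputable def j0 : JL :=
(.cons (nat_lit 16) (nat_lit 0xc070605040302000c070620041f0201001d251b1a19180021070620041f0201001d1c1b241918010c23001322121701142300132212020021070620041f1e01001d1c1b1a1918010c070013041217010c07060e000d16151407001304120211100f060e000d02010c0b060a04090000080706050403020141403f3e3d3c3b) (nat_lit 0x124503ce34c)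
(.cons (nat_lit 14) (nat_lit 0x15140700203a12171110463920000d1645441d4342004140360c3f3e3d3c1f0001380f3b2000372b2827070629040002360c353420331f00000c07060504032601001d251b241918001432310530031e010c2f002e2d1f172c0c230600041f2b110c0f2a29001f162827070620040026) (nat_lit 0x72b96a9238a1a607ec)
.nil))
theorem t0 : C.RowsOK (nat_lit 0) (nat_lit 30) :=
  rows_of (t := j0) (by decide +kernel)
noncomputable def j1 : JL :=
(.cons (nat_lit 5) (nat_lit 0) (nat_lit 0)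
(.cons (nat_lit 16) (nat_lit 0x1bc0018100162001430012400105000e6000c7000a800090000780006000048000300001800000) (nat_lit 0x30080003009141c2070800a0107800401ce0008031a001005300020085800400ca00080112001001000000000000000000000000000000000000000000)
(.cons (nat_lit 16) (nat_lit 0x2db002b50028f00269002430021d001f0001990015e0013100104000c90009c0006f0002d00000) (nat_lit 0x111980100ac46200402710600100bc27600402d09c80100ac21c004028c61370030131c180020c00106000120240833a1c18014044803120060204008b00300f1c1c2820e00a01c3818200300d1c0410018060c0c000860000c0163018000300a)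
(.cons (nat_lit 8) (nat_lit 0x14900123000fd000d7000aa0007d0002600000) (nat_lit 0x581000403559780100dd61400403550800100d3eaa0c00c055e55020060264030008180040c00024066235002018)
.nil))))
theorem t1 : C.FactsOK (nat_lit 0) (nat_lit 45) :=
  facts_of (t := j1) (by decide +kernel)
theorem checked : Checked C R S :=
  ⟨⟨Wr, Wn, cr, cn, fun _ => rfl, fun _ => rfl, words_ok⟩, t0,
    t1⟩

/-- In any group whose elements `g 1, …, g 8` satisfy the relators `R`, a subgroup containing the words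
of `S` has index at most 30 in the subgroup generated by these elements. -/
theorem idxLe {G : Type*} [Group G] {g : ℕ → G} (hg : Sat g R) {H : Subgroup G}
    (hS : ∀ s ∈ S, ev g s ∈ H) : IdxLe H (gen g 8) 30 :=
  checked.idxLe hg hS

end Cfsg.Agent.H74.PresS6.L7

namespace Cfsg.Agent.H74.PresS6.L8
open Cfsg.Agent.H44

noncomputable def rT0 : Tr :=
 (.node (.leaf (nat_lit 0x79e81446baa596207153879f0d607a415aa1444e9a3d41e899007a2751201e30560c7523c8104c8206d02091e007878401ae25712a881b5289f58f98703521a9055984933250d506a27401a99944d068c154817409a66593258f4cc80352361a2054946543691a60d2479234a1b0068684f4e00b3c6b6515247115ca1a4cf30168306226801669730b925cc2e4972cb859cb2c00a2cb1658a2c51630b125902c148004a88cf40b23054029d72a59514a84a414ca9e4113460012b2158c06885281250529831134ca26508025744718149849014859b2d09225430ba200486845241230519a38d208a10511e601420091488488140008388a27543a50d44e923d23c10804f801cc1271e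54f186813c51004e83a091c711003983891c40e2c7103871c0e704e0018e3059b54d964013609a04c8320d2e6930031630b1840c28610309180c7283026012e507003102c20e40b1050314908096285121400838a0828e2851608504a800cb1e51204a024c12409110481a081009000194208103882440e20710067203823c11c58b0018e1c3163870828194b1608d046100c1163860018e182080631c28a1460a50a0010c143143050c38114a144842020e081143040010c1030c0431c182241104860438c0c10c3030010104604001181101010a2820420a08106028000020840218110088044021810c0802410210008004002001000800400200000))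
 (.leaf (nat_lit 0x247d4b985d00c9f7103d859bee1e7c64691c50f1f76fb37dbc2f8064fb779e990e8753bd89bd2d1f730b991aceec06262181dc0ea07a03081d40ea16333c99a981a9790bb89f3ec61770bb0184ee65686037dcd4fa47133581e44f246933a018180637b03795c80be07d13785b40fa0705e685bc2e2378fb681ec6e005f03d81b978de6402e7d9c0ddc670af89c38cde6c5c865a80b5a633b961a34d2578c3195d96a1f6202c7d850f196adb595cbac247458875980ade6d03d75b32ca27ceb65d995a1f6c02981782f9d5ed3305ebabdd6452879a00a196b03a7583ec2276cb505e1421e6002679a02ede6303105d3cd01724c87978091f640b879944d816ef327d792200420b64973e91a4eba881722b875c42900f02d535aba959028ad85672d4d00f2403a0b44d62cad53eaa95d4a4b023e3a900d82cd556bac5952ab595a5ab4d50da4034aa7553ac7d756aa059028a945634900c82c9552c2d68e2cb1658a2908e0ca4c440b15543a9802ac2e61418a06502a538c2ca9654e256d7005584e6271938a900280b07133ca1c46e24793369864c289009b671b38ea76d2368dd4ad2519289a40240af2d240b9c4aea67921490648249008a65533ea95753389574692319188a4d507a23ca344c022c1258984506442250572484a24811609ae50022112190888c02071f38aaa7175ab2a5d51a8145a209)))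
noncomputable def gT0 : Tr :=
 (.leaf (nat_lit 0x4ca34da682879328f3c91481d4806dfa403d01101d8681ce9e40864f2023a7900903c79881d3c86ce9e32074f01e82700ec23cc4509824080c23f8658a0432cc4211843708b11e8471cec13086609623b042414800a000004e0000260000128000090000046000022000010800006000002c000014000009000004000001c00000c0000050000016190007088001824002c01e015f8d))
/-- The relators. -/
def R : List (List ℕ) := [[1, 1],
  [2, 2],
  [3, 3],
  [4, 4],
  [5, 5],
  [6, 6],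
  [7, 7],
  [8, 8],
  [9, 9],
  [1, 2, 1, 2],
  [1, 3, 1, 3],
  [2, 3, 2, 3],
  [1, 4, 1, 4],
  [2, 4, 2, 4],
  [3, 4, 3, 4],
  [1, 5, 1, 5],
  [2, 5, 2, 5],
  [3, 5, 3, 5],
  [4, 5, 4, 5],
  [1, 6, 1, 6],
  [2, 6, 2, 6],
  [3, 6, 3, 6],
  [4, 6, 4, 6],
  [5, 6, 5, 6],
  [2, 7, 2, 7],
  [4, 7, 4, 7],
  [3, 6, 7, 3, 6, 7],
  [7, 1, 7, 1, 7, 2, 1],
  [3, 7, 3, 7, 3, 7, 3, 7],
  [5, 7, 5, 7, 5, 7, 5, 7],
  [1, 3, 7, 1, 3, 7, 1, 3, 7],
  [1, 5, 7, 1, 5, 7, 1, 5, 7],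
  [7, 5, 7, 3, 7, 5, 7, 4, 3, 2],
  [3, 6, 8, 3, 6, 8],
  [5, 8, 5, 8, 5, 8],
  [6, 8, 6, 8, 6, 8],
  [8, 2, 8, 5, 7, 5, 2],
  [2, 7, 8, 2, 7, 8],
  [8, 4, 8, 6, 7, 3, 2],
  [1, 8, 1, 8, 1, 8, 1, 8],
  [1, 9, 1, 9],
  [9, 2, 9, 6, 3],
  [2, 4, 9, 2, 4, 9],
  [2, 5, 9, 2, 5, 9],
  [2, 7, 9, 2, 7, 9],
  [9, 6, 9, 6, 5, 4],
  [2, 8, 9, 2, 8, 9, 2, 8, 9]]
/-- The subgroup generators. -/
def S : List (List ℕ) := [[1],
  [2],
  [3],
  [4],
  [5],
  [6],
  [7],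
  [8]]
def Wr : List (List ℕ) := [[9, 9],
  [1, 9, 1, 9],
  [2, 9, 6, 3, 9],
  [3, 9, 2, 9, 6],
  [4, 9, 2, 4, 9, 2],
  [5, 9, 2, 5, 9, 2],
  [6, 9, 6, 5, 4, 9],
  [7, 9, 2, 7, 9, 2],
  [8, 8],
  [1, 1],
  [2, 8, 5, 7, 5, 2, 8],
  [3, 3],
  [4, 8, 6, 7, 3, 2, 8],
  [5, 5],
  [6, 6],
  [7, 8, 2, 7, 8, 2],
  [9, 2, 8, 9, 2, 8, 9, 2, 8],
  [2, 1, 2, 1],
  [4, 1, 4, 1],
  [7, 7],
  [9, 1, 9, 1],
  [2, 3, 2, 3],
  [4, 3, 4, 3],
  [6, 9, 2, 9, 3],
  [7, 6, 8, 4, 8, 2, 3],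
  [8, 6, 8, 6, 8, 6],
  [2, 5, 2, 5],
  [4, 5, 4, 5],
  [7, 5, 2, 8, 2, 8, 5],
  [8, 5, 8, 5, 8, 5],
  [9, 2, 5, 9, 2, 5],
  [1, 3, 1, 3],
  [1, 5, 1, 5],
  [1, 7, 1, 7, 2, 1, 7],
  [2, 7, 2, 7],
  [3, 7, 1, 3, 7, 1, 3, 7, 1],
  [4, 7, 4, 7],
  [5, 7, 1, 5, 7, 1, 5, 7, 1],
  [6, 7, 3, 6, 7, 3],
  [9, 2, 7, 9, 2, 7],
  [1, 8, 1, 8, 1, 8, 1, 8],
  [2, 2],
  [4, 4],
  [7, 2, 8, 7, 2, 8],
  [3, 5, 3, 5],
  [6, 5, 6, 5],
  [9, 6, 9, 6, 5, 4],
  [3, 7, 3, 7, 3, 7, 3, 7],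
  [5, 7, 5, 7, 5, 7, 5, 7],
  [1, 2, 1, 2],
  [7, 2, 7, 2],
  [8, 7, 2, 8, 7, 2],
  [4, 2, 4, 2],
  [5, 7, 4, 3, 2, 7, 5, 7, 3, 7],
  [6, 8, 3, 6, 8, 3],
  [1, 4, 1, 4],
  [8, 6, 7, 3, 2, 8, 4],
  [3, 7, 5, 7, 4, 3, 2, 7, 5, 7],
  [4, 3, 2, 7, 5, 7, 3, 7, 5, 7],
  [6, 2, 6, 2],
  [3, 6, 9, 2, 9],
  [3, 2, 8, 4, 8, 6, 7],
  [5, 8, 5, 8, 5, 8],
  [6, 8, 6, 8, 6, 8],
  [3, 4, 3, 4],
  [5, 7, 3, 7, 5, 7, 4, 3, 2, 7],
  [6, 4, 6, 4],
  [8, 1, 8, 1, 8, 1, 8, 1],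
  [2, 4, 2, 4],
  [7, 4, 7, 4],
  [8, 9, 2, 8, 9, 2, 8, 9, 2],
  [5, 3, 5, 3],
  [3, 4, 7, 5, 7, 3, 7, 5, 7, 2],
  [3, 2, 7, 5, 7, 3, 7, 5, 7, 4],
  [9, 2, 4, 9, 2, 4],
  [3, 1, 3, 1],
  [6, 3, 9, 2, 9],
  [9, 8, 2, 9, 8, 2, 9, 8, 2],
  [1, 5, 7, 1, 5, 7, 1, 5, 7],
  [1, 7, 3, 1, 7, 3, 1, 7, 3],
  [9, 6, 5, 4, 9, 6],
  [1, 6, 1, 6],
  [3, 6, 3, 6],
  [4, 6, 4, 6],
  [9, 2, 9, 6, 3],
  [2, 8, 7, 2, 8, 7],
  [6, 3, 7, 6, 3, 7],
  [7, 3, 7, 5, 7, 4, 3, 2, 7, 5],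
  [2, 1, 7, 1, 7, 1, 7],
  [5, 6, 5, 6],
  [5, 1, 5, 1],
  [7, 3, 1, 7, 3, 1, 7, 3, 1],
  [8, 2, 5, 7, 5, 8, 2],
  [2, 6, 2, 6],
  [7, 3, 6, 7, 3, 6],
  [8, 3, 6, 8, 3, 6],
  [9, 2, 9, 3, 6]]
def Wn : List (List ℕ) := [[1, 10],
  [2, 12],
  [3, 14],
  [4, 16],
  [5, 18],
  [6, 20],
  [7, 22],
  [8, 24],
  [8, 5, 8, 5, 8, 5],
  [2, 1, 2, 1],
  [4, 1, 4, 1],
  [7, 1, 7, 2, 1, 7, 1],
  [2, 3, 2, 3],
  [4, 3, 4, 3],
  [6, 8, 3, 6, 8, 3],
  [2, 5, 2, 5],
  [4, 5, 4, 5],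
  [2, 9, 6, 3, 9],
  [6, 7, 3, 6, 7, 3],
  [1, 7, 3, 1, 7, 3, 1, 7, 3],
  [2, 2],
  [3, 3],
  [4, 4],
  [6, 6],
  [1, 1],
  [7, 7],
  [1, 7, 5, 1, 7, 5, 1, 7, 5],
  [5, 5],
  [8, 8]]
def cr : List (ℕ × ℕ × ℕ) := [(0, 0, 0), (1, 40, 0), (1, 41, 1), (1, 41, 4), (1, 42, 1), (1, 43, 1), (1, 45, 1), (1, 44, 1), (0, 0, 0), (0, 0, 0), (1, 36, 1), (0, 0, 0), (1, 38, 1), (0, 0, 0), (0, 0, 0), (1, 37, 1), (1, 46, 2), (1, 9, 1), (1, 12, 1), (0, 0, 0), (1, 40, 1), (1, 11, 0), (1, 14, 1), (2, 41, 1), (2, 38, 2), (1, 35, 1), (1, 16, 0), (1, 18, 0), (1, 36, 4), (1, 34, 1), (1, 43, 2), (1, 10, 0), (1, 15, 0), (1, 27, 1), (1, 24, 0), (1, 30, 1), (1, 25, 0), (1, 31, 1), (1, 26, 1), (1, 44, 2), (1, 39, 0), (0, 0, 0), (0, 0, 0), (2, 37, 1), (1, 17, 0), (1, 23, 1), (1, 45, 0), (1, 28, 0), (1, 29, 0), (1, 9, 0), (1, 24, 1), (2, 37, 0), (1, 13, 1), (1, 32, 5), (1, 33, 1), (1, 12, 0), (1, 38, 2), (1, 32, 3), (1, 32, 7),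 (1, 20, 1), (2, 41, 0), (1, 38, 5), (1, 34, 0), (1, 35, 0), (1, 14, 0), (1, 32, 1), (1, 22, 1), (1, 39, 1), (1, 13, 0), (1, 25, 1), (1, 46, 1), (1, 17, 1), (2, 32, 1), (1, 32, 8), (1, 42, 2), (1, 10, 1), (1, 41, 3), (2, 46, 0), (1, 31, 0), (2, 30, 2), (1, 45, 2), (1, 19, 0), (1, 21, 0), (1, 22, 0), (1, 41, 0), (2, 37, 2), (2, 26, 1), (1, 32, 2), (1, 27, 5), (1, 23, 0), (1, 15, 1), (2, 30, 0), (2, 36, 6), (1, 20, 0), (1, 26, 2), (1, 33, 2), (2, 41, 2)]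
def cn : List (ℕ × ℕ × ℕ) := [(1, 47, 0), (1, 48, 0), (1, 49, 0), (1, 50, 0), (1, 51, 0), (1, 52, 0), (1, 53, 0), (1, 54, 0), (1, 34, 1), (1, 9, 1), (1, 12, 1), (1, 27, 2), (1, 11, 0), (1, 14, 1), (1, 33, 1), (1, 16, 0), (1, 18, 0), (1, 41, 1), (1, 26, 1), (2, 30, 2), (0, 0, 0), (0, 0, 0), (0, 0, 0), (0, 0, 0), (0, 0, 0), (0, 0, 0), (2, 31, 2), (0, 0, 0), (0, 0, 0)]
noncomputable def rT : Tr := rT0
noncomputable def gT : Tr := gT0
noncomputable def rC (i : ℕ) : ℕ := rT.get (nat_lit 1) i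
noncomputable def gC (i : ℕ) : ℕ := gT.get (nat_lit 0) i
noncomputable def row (p : ℕ) : ℕ := rec2 rC (nat_lit 5) (nat_lit 31) (nat_lit 130) (nat_lit 0x3ffffffffffffffffffffffffffffffff) p
noncomputable def gf (p : ℕ) : ℕ := rec2 gC (nat_lit 7) (nat_lit 127) (nat_lit 25) (nat_lit 0x1ffffff) p
noncomputable def gw (c : ℕ) : List ℕ := nth [] Wr c
noncomputable def wn (c : ℕ) : ℕ := pack (nat_lit 5) (nth [] Wn c) (nat_lit 0)
noncomputable def C : Cert :=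
  { n := (nat_lit 63), na := (nat_lit 5), M := (nat_lit 48), nc := (nat_lit 9), W := (nat_lit 7), EB := (nat_lit 13),
    LB := (nat_lit 5), nreg := (nat_lit 97), ivT := (nat_lit 0x319b5e9594e1173d8d52d28398a418820), base := (nat_lit 0x1555400),
    row := row, gf := gf, gw := gw, wn := wn }
theorem masks : Masks C (nat_lit 127) (nat_lit 8191) (nat_lit 31) (nat_lit 19) (nat_lit 524287) :=
  ⟨by decide +kernel, by decide +kernel, by decide +kernel, by decide +kernel, by decide +kernel⟩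
noncomputable def rchk : ℕ → ℕ → ℕ → Bool :=
  rowChk row gf gw (nat_lit 63) (nat_lit 48) (nat_lit 9) (nat_lit 7) (nat_lit 127) (nat_lit 13) (nat_lit 8191) (nat_lit 5) (nat_lit 31) (nat_lit 19) (nat_lit 524287) (nat_lit 97) (nat_lit 0x319b5e9594e1173d8d52d28398a418820) (nat_lit 6) (nat_lit 63) (nat_lit 8) (nat_lit 255)
noncomputable def fchk : ℕ → ℕ → ℕ → Bool :=
  auxRun row gf wn (nat_lit 63) (nat_lit 5) (nat_lit 48) (nat_lit 9) (nat_lit 7) (nat_lit 127) (nat_lit 13) (nat_lit 8191) (nat_lit 5) (nat_lit 31) (nat_lit 19) (nat_lit 0x319b5e9594e1173d8d52d28398a418820) (nat_lit 0x1555400) (nat_lit 7) (nat_lit 127)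
theorem rows_of {lo hi : ℕ} {t : JL} (h : t.run rchk (nat_lit 72) hi lo = true) : C.RowsOK lo hi :=
  rowsOK_of_run masks h
theorem facts_of {lo hi : ℕ} {t : JL} (h : t.run fchk (nat_lit 20) hi lo = true) : C.FactsOK lo hi :=
  factsOK_of_run masks h
theorem words_ok : wordsChk 63 9 7 5 97 1055022339265738135199219436291457386528 22369280 R S Wr Wn cr cn = true := by
  decide +kernel
noncomputable def j0 : JL :=
(.cons (nat_lit 16) (nat_lit 0x100140f0e2b0c2a0a28090027312524232201002c0f0e2b0c2a0a0109002726253023222f09142e001c2d1b212f091d2e001c2d1b0a01002c0f0e2b0c2a292809002726252423221f09140f001c0c1b21010914180e170016201f1e1d0f001c0c1b0a011a19180e1700160a1509140f0e130c12001100100f0e0d0c0b0a000908070605040302016968676665646362) (nat_lit 0x51349140f38d)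
(.cons (nat_lit 16) (nat_lit 0x9140f0e053d030a016c6b276a69006867014414666564632a00000914070e2b0c030a01094637622b0045380134330f0e350c000a01441443422b412a000100140f0e0d0c0b3228090027312530232211001d403f0d3e0b290009140f0e2b3d03020109143c003b3a2a210139142e0e000c2a38011a14373635002a200134330f0e2b0c00320100140f0e0d0c0b0a) (nat_lit 0x2ea2d9e6964b238af)
(.cons (nat_lit 16) (nat_lit 0x4e001d0f0e2b0c2a210009084d06053d03020009084d06053d03020009080706050c03020009080f062b0c03020047084d0e053d030a0009080f062b4c03021f091d2e002b2d1b214b0914430e004145380009080f06054a03020047080f06053e03020009080f0e2b2d0302004708070e2b040302011e1d0f002b491b21011a1963482b0016200047080f0e2b0c620a) (nat_lit 2014)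
(.cons (nat_lit 15) (nat_lit 0x61605f005a54535e5201091918482b001620285d5c0f5b13302a00511a14005a5453590a010914180e2b002a0a150958570e2b4a5600551a14000e54532a52510914180e2b002a201100140f3f0d0c0b211100140f3f0d0c0b50010014400e2b0c0b4f4e001d0f0e0d0c2a290100140f3f2b0c0b291100100f3f0d0c2a0a4e00100f0e2b0c2a0a) (nat_lit 0)
.nil))))
theorem t0 : C.RowsOK (nat_lit 0) (nat_lit 63) :=
  rows_of (t := j0) (by decide +kernel)
noncomputable def j1 : JL :=
(.cons (nat_lit 5) (nat_lit 0) (nat_lit 0)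
(.cons (nat_lit 16) (nat_lit 0x1990017a0015b0013c0011d000fe000df000c0000a800090000780006000048000300001800000) (nat_lit 0x420020107c00401ce8008031b001005320020085c00400ca80080113001001000000000000000000000000000000000000000000000000)
(.cons (nat_lit 16) (nat_lit 0x305002df002b90028c00235001fa001c6001990016c0013100104000d700095000680003b00000) (nat_lit 0x498000403125f00100bc91e00402cda4bc0030151e180020c00106000120280833f1e1801404c4108020010048883140060224408c0030101e1c2820e00a01e3c18200300e1e0410018068d0c000860000c0183418000300b1a0400018050b0e10384005009)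
(.cons (nat_lit 11) (nat_lit 0x1bb001950016f001490011c000ef00098000720004c0002600000) (nat_lit 0x17c480100e5d6800403b74580100e5b220040390ee030030178370080180a910c00206001030000901b96e800806a5b800201796d800805658d002019)
.nil))))
theorem t1 : C.FactsOK (nat_lit 0) (nat_lit 48) :=
  facts_of (t := j1) (by decide +kernel)
theorem checked : Checked C R S :=
  ⟨⟨Wr, Wn, cr, cn, fun _ => rfl, fun _ => rfl, words_ok⟩, t0,
    t1⟩

/-- In any group whose elements `g 1, …, g 9` satisfy the relators `R`, a subgroup containing the words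
of `S` has index at most 63 in the subgroup generated by these elements. -/
theorem idxLe {G : Type*} [Group G] {g : ℕ → G} (hg : Sat g R) {H : Subgroup G}
    (hS : ∀ s ∈ S, ev g s ∈ H) : IdxLe H (gen g 9) 63 :=
  checked.idxLe hg hS

end Cfsg.Agent.H74.PresS6.L8

namespace Cfsg.Agent.H74.PresS6
open Cfsg.Agent.H44

def R : List (List ℕ) := [[1, 1], [2, 2], [3, 3], [4, 4], [5, 5], [6, 6], [7, 7], [8, 8], [9, 9], [1, 2, 1, 2], [1, 3, 1, 3], [2, 3, 2, 3], [1, 4, 1, 4], [2, 4, 2, 4], [3, 4, 3, 4], [1, 5, 1, 5], [2, 5, 2, 5], [3, 5, 3, 5], [4, 5, 4, 5], [1, 6, 1, 6], [2, 6, 2, 6], [3, 6, 3, 6], [4, 6, 4, 6], [5, 6, 5, 6], [2, 7, 2, 7], [4, 7, 4, 7], [3, 6, 7, 3, 6, 7], [7, 1, 7, 1, 7, 2, 1], [3, 7, 3, 7, 3, 7, 3, 7], [5, 7, 5, 7, 5, 7, 5, 7], [1, 3, 7, 1, 3, 7, 1, 3, 7], [1, 5, 7, 1, 5, 7, 1, 5, 7], [7, 5, 7, 3, 7, 5, 7, 4, 3, 2], [3, 6, 8, 3, 6, 8], [5, 8, 5, 8, 5, 8], [6, 8, 6, 8, 6, 8], [8, 2, 8,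 5, 7, 5, 2], [2, 7, 8, 2, 7, 8], [8, 4, 8, 6, 7, 3, 2], [1, 8, 1, 8, 1, 8, 1, 8], [1, 9, 1, 9], [9, 2, 9, 6, 3], [2, 4, 9, 2, 4, 9], [2, 5, 9, 2, 5, 9], [2, 7, 9, 2, 7, 9], [9, 6, 9, 6, 5, 4], [2, 8, 9, 2, 8, 9, 2, 8, 9]]

theorem card0 {G : Type*} [Group G] {g : ℕ → G} (hg : Sat g R) :
    Finite (wgen g [[1]]) ∧ Nat.card (wgen g [[1]]) ≤ 2 :=
  (L0.checked.step hg [0, 1] (S₁ := []) (by decide +kernel) (by decide +kernel)
    (by decide +kernel)).wcard (n := 2) (m := 1) (by decide) (wcard_nil g)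

theorem card1 {G : Type*} [Group G] {g : ℕ → G} (hg : Sat g R) :
    Finite (wgen g [[1], [2]]) ∧ Nat.card (wgen g [[1], [2]]) ≤ 4 :=
  (L1.checked.step hg [0, 1, 2] (S₁ := [[1]]) (by decide +kernel) (by decide +kernel)
    (by decide +kernel)).wcard (n := 2) (m := 2) (by decide) (card0 hg)

theorem card2 {G : Type*} [Group G] {g : ℕ → G} (hg : Sat g R) :
    Finite (wgen g [[1], [2], [3]]) ∧ Nat.card (wgen g [[1], [2], [3]]) ≤ 8 :=
  (L2.checked.step hg [0, 1, 2, 3] (S₁ := [[1], [2]]) (by decide +kernel) (by decide +kernel)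
    (by decide +kernel)).wcard (n := 2) (m := 4) (by decide) (card1 hg)

theorem card3 {G : Type*} [Group G] {g : ℕ → G} (hg : Sat g R) :
    Finite (wgen g [[1], [2], [3], [4]]) ∧ Nat.card (wgen g [[1], [2], [3], [4]]) ≤ 16 :=
  (L3.checked.step hg [0, 1, 2, 3, 4] (S₁ := [[1], [2], [3]]) (by decide +kernel) (by decide +kernel)
    (by decide +kernel)).wcard (n := 2) (m := 8) (by decide) (card2 hg)

theorem card4 {G : Type*} [Group G] {g : ℕ → G} (hg : Sat g R) :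
    Finite (wgen g [[1], [2], [3], [4], [5]]) ∧ Nat.card (wgen g [[1], [2], [3], [4], [5]]) ≤ 32 :=
  (L4.checked.step hg [0, 1, 2, 3, 4, 5] (S₁ := [[1], [2], [3], [4]]) (by decide +kernel) (by decide +kernel)
    (by decide +kernel)).wcard (n := 2) (m := 16) (by decide) (card3 hg)

theorem card5 {G : Type*} [Group G] {g : ℕ → G} (hg : Sat g R) :
    Finite (wgen g [[1], [2], [3], [4], [5], [6]]) ∧ Nat.card (wgen g [[1], [2], [3], [4], [5], [6]]) ≤ 64 :=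
  (L5.checked.step hg [0, 1, 2, 3, 4, 5, 6] (S₁ := [[1], [2], [3], [4], [5]]) (by decide +kernel) (by decide +kernel)
    (by decide +kernel)).wcard (n := 2) (m := 32) (by decide) (card4 hg)

theorem card6 {G : Type*} [Group G] {g : ℕ → G} (hg : Sat g R) :
    Finite (wgen g [[1], [2], [3], [4], [5], [6], [7]]) ∧ Nat.card (wgen g [[1], [2], [3], [4], [5], [6], [7]]) ≤ 768 :=
  (L6.checked.step hg [0, 1, 2, 3, 4, 5, 6, 7] (S₁ := [[1], [2], [3], [4], [5], [6]]) (by decide +kernel) (by decide +kernel)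
    (by decide +kernel)).wcard (n := 12) (m := 64) (by decide) (card5 hg)

theorem card7 {G : Type*} [Group G] {g : ℕ → G} (hg : Sat g R) :
    Finite (wgen g [[1], [2], [3], [4], [5], [6], [7], [8]]) ∧ Nat.card (wgen g [[1], [2], [3], [4], [5], [6], [7], [8]]) ≤ 23040 :=
  (L7.checked.step hg [0, 1, 2, 3, 4, 5, 6, 7, 8] (S₁ := [[1], [2], [3], [4], [5], [6], [7]]) (by decide +kernel) (by decide +kernel)
    (by decide +kernel)).wcard (n := 30) (m := 768) (by decide) (card6 hg)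

theorem card8 {G : Type*} [Group G] {g : ℕ → G} (hg : Sat g R) :
    Finite (wgen g [[1], [2], [3], [4], [5], [6], [7], [8], [9]]) ∧ Nat.card (wgen g [[1], [2], [3], [4], [5], [6], [7], [8], [9]]) ≤ 1451520 :=
  (L8.checked.step hg [0, 1, 2, 3, 4, 5, 6, 7, 8, 9] (S₁ := [[1], [2], [3], [4], [5], [6], [7], [8]]) (by decide +kernel) (by decide +kernel)
    (by decide +kernel)).wcard (n := 63) (m := 23040) (by decide) (card7 hg)

theorem card_le {G : Type*} [Group G] {g : ℕ → G} (hg : Sat g R) :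
    Finite (wgen g [[1], [2], [3], [4], [5], [6], [7], [8], [9]]) ∧ Nat.card (wgen g [[1], [2], [3], [4], [5], [6], [7], [8], [9]]) ≤ 1451520 := card8 hg

end Cfsg.Agent.H74.PresS6
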