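import Mathlib
import Cfsg.Agent.H43.Cent
import Cfsg.Agent.H74.NetF2
import Cfsg.Agent.H74.PresS6
import Cfsg.Agent.H74.NetPc

set_option autoImplicit false
set_option maxRecDepth 1000000
set_option Elab.async false
set_option linter.style.longLine false

namespace Cfsg.Agent.H74.MS6

open Cfsg.Agent.H43 Cfsg.Agent.H46 

theorem m_hn : NOk 63 := by decide

theorem m_hk : 63 ≤ 2 ^ 6 := by decide

noncomputable def m_g1 : Net := (Net.cons (nat_lit 1) (nat_lit 0x400004040000000) (Net.cons (nat_lit 4) (nat_lit 0xc0c0400080000) (Net.cons (nat_lit 8) (nat_lit 0x73008000770000) (Net.cons (nat_lit 16) (nat_lit 0x4000000000) (Net.cons (nat_lit 32) (nat_lit 0x400000) (Net.cons (nat_lit 16) (nat_lit 0x73c400007780) (Net.cons (nat_lit 8) (nat_lit 0x7b008000770000) (Net.cons (nat_lit 4) (nat_lit 0x40f0f0c000f0f00) (Net.cons (nat_lit 1) (nat_lit 0x404444051111111) Net.nil)))))))))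

theorem m_g1_ok : Net.ok 63 m_g1 = true := by decide +kernel

noncomputable def m_g2 : Net := (Net.cons (nat_lit 1) (nat_lit 0x104010401040104) (Net.cons (nat_lit 2) (nat_lit 0x200020002000200) (Net.cons (nat_lit 4) (nat_lit 0x8080008000800) (Net.cons (nat_lit 32) (nat_lit 0x65159aea) (Net.cons (nat_lit 16) (nat_lit 0x727400007274) (Net.cons (nat_lit 8) (nat_lit 0x8008000800080) (Net.cons (nat_lit 4) (nat_lit 0x20c0a040a040a04) (Net.cons (nat_lit 2) (nat_lit 0x1300130013001300) (Net.cons (nat_lit 1) (nat_lit 0x114011401140114) Net.nil)))))))))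

theorem m_g2_ok : Net.ok 63 m_g2 = true := by decide +kernel

noncomputable def m_g3 : Net := (Net.cons (nat_lit 1) (nat_lit 0x40055400400000) (Net.cons (nat_lit 2) (nat_lit 0x222033102220000) (Net.cons (nat_lit 4) (nat_lit 0x404080900000800) (Net.cons (nat_lit 8) (nat_lit 0x4c008900000000) (Net.cons (nat_lit 16) (nat_lit 0x80800000000) (Net.cons (nat_lit 32) (nat_lit 0xdf207f8) (Net.cons (nat_lit 16) (nat_lit 2056) (Net.cons (nat_lit 8) (nat_lit 0x44008100080008) (Net.cons (nat_lit 4) (nat_lit 0x606080902020800) (Net.cons (nat_lit 2) (nat_lit 0x1223033112230000) (Net.cons (nat_lit 1) (nat_lit 0x150055401500000) Net.nil)))))))))))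

theorem m_g3_ok : Net.ok 63 m_g3 = true := by decide +kernel

noncomputable def m_g4 : Net := (Net.cons (nat_lit 1) (nat_lit 0x1104000011040000) (Net.cons (nat_lit 2) (nat_lit 0x200020002000200) (Net.cons (nat_lit 4) (nat_lit 0x8000808000800) (Net.cons (nat_lit 8) (nat_lit 0x8000080000) (Net.cons (nat_lit 16) (nat_lit 0x8000000800) (Net.cons (nat_lit 8) (nat_lit 0x8008800880080) (Net.cons (nat_lit 4) (nat_lit 0x20c02080a040a00) (Net.cons (nat_lit 2) (nat_lit 0x1300130013001300) (Net.cons (nat_lit 1) (nat_lit 0x1115000011150000) Net.nil)))))))))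

theorem m_g4_ok : Net.ok 63 m_g4 = true := by decide +kernel

noncomputable def m_g5 : Net := (Net.cons (nat_lit 1) (nat_lit 0x1100000400110040) (Net.cons (nat_lit 2) (nat_lit 0x200222220200000) (Net.cons (nat_lit 4) (nat_lit 0xa020002000000) (Net.cons (nat_lit 8) (nat_lit 0x200800000) (Net.cons (nat_lit 16) (nat_lit 0x20000000000) (Net.cons (nat_lit 32) (nat_lit 0x2000000) (Net.cons (nat_lit 16) (nat_lit 0x20200008000) (Net.cons (nat_lit 8) (nat_lit 0x8002200a00040) (Net.cons (nat_lit 4) (nat_lit 0x20f0f040a050300) (Net.cons (nat_lit 2) (nat_lit 0x1313222231330000) (Net.cons (nat_lit 1) (nat_lit 0x1100001500111540) Net.nil)))))))))))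

theorem m_g5_ok : Net.ok 63 m_g5 = true := by decide +kernel

noncomputable def m_g6 : Net := (Net.cons (nat_lit 1) (nat_lit 0x55405544444440) (Net.cons (nat_lit 2) (nat_lit 0x1110011010000100) (Net.cons (nat_lit 4) (nat_lit 0x100000400) (Net.cons (nat_lit 8) (nat_lit 0x40001000040000) (Net.cons (nat_lit 16) (nat_lit 0x100000000000) (Net.cons (nat_lit 32) (nat_lit 0x10000000) (Net.cons (nat_lit 16) (nat_lit 0x500000000400) (Net.cons (nat_lit 8) (nat_lit 0x50001100440040) (Net.cons (nat_lit 4) (nat_lit 0x60a08050a0b0500) (Net.cons (nat_lit 2) (nat_lit 0x1133013233002300) (Net.cons (nat_lit 1) (nat_lit 0x1555515544444440) Net.nil)))))))))))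

theorem m_g6_ok : Net.ok 63 m_g6 = true := by decide +kernel

noncomputable def m_g7 : Net := (Net.cons (nat_lit 2) (nat_lit 0x202000002020000) (Net.cons (nat_lit 4) (nat_lit 0x8000000080000) (Net.cons (nat_lit 8) (nat_lit 0x8000800000) (Net.cons (nat_lit 16) (nat_lit 0x8000008000) (Net.cons (nat_lit 8) (nat_lit 0x8008000880000) (Net.cons (nat_lit 4) (nat_lit 0x20a0000020a0000) (Net.cons (nat_lit 2) (nat_lit 0x1313000013130000) Net.nil)))))))

theorem m_g7_ok : Net.ok 63 m_g7 = true := by decide +kernel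

noncomputable def m_g8 : Net := (Net.cons (nat_lit 2) (nat_lit 0x20020200000000) (Net.cons (nat_lit 4) (nat_lit 0x800080000) (Net.cons (nat_lit 8) (nat_lit 0x8000000080) (Net.cons (nat_lit 16) (nat_lit 32768) (Net.cons (nat_lit 32) (nat_lit 32768) (Net.cons (nat_lit 16) (nat_lit 0x8000008080) (Net.cons (nat_lit 8) (nat_lit 0x20008800080080) (Net.cons (nat_lit 4) (nat_lit 0x505020a070f0000) (Net.cons (nat_lit 2) (nat_lit 0x1333131300000000) Net.nil)))))))))

theorem m_g8_ok : Net.ok 63 m_g8 = true := by decide +kernel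

noncomputable def m_g9 : Net := (Net.cons (nat_lit 4) (nat_lit 0x8000800000000) (Net.cons (nat_lit 8) (nat_lit 0x8000000000) (Net.cons (nat_lit 16) (nat_lit 32768) (Net.cons (nat_lit 32) (nat_lit 32768) (Net.cons (nat_lit 16) (nat_lit 0x8000008000) (Net.cons (nat_lit 8) (nat_lit 0x8008800000000) (Net.cons (nat_lit 4) (nat_lit 0x70f070f00000000) Net.nil)))))))

theorem m_g9_ok : Net.ok 63 m_g9 = true := by decide +kernel

noncomputable def p_E : List Net := [m_g1, m_g2, m_g3, m_g4, m_g5, m_g6, m_g7, m_g8, m_g9]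

theorem p_E_ok : okE 63 p_E = true := (okE_cons.2 ⟨m_g1_ok, (okE_cons.2 ⟨m_g2_ok, (okE_cons.2 ⟨m_g3_ok, (okE_cons.2 ⟨m_g4_ok, (okE_cons.2 ⟨m_g5_ok, (okE_cons.2 ⟨m_g6_ok, (okE_cons.2 ⟨m_g7_ok, (okE_cons.2 ⟨m_g8_ok, (okE_cons.2 ⟨m_g9_ok, (okE_nil 63)⟩)⟩)⟩)⟩)⟩)⟩)⟩)⟩)⟩)

def p_code : List ℕ := [0, 16, 12, 14, 6, 8, 10, 4, 2, 0]

noncomputable def m_g10 : Net := (Net.cons (nat_lit 1) (nat_lit 0x445404554401004) (Net.cons (nat_lit 2) (nat_lit 0x22002222002000) (Net.cons (nat_lit 4) (nat_lit 0x408080800000000) (Net.cons (nat_lit 8) (nat_lit 0x4000400000) (Net.cons (nat_lit 16) (nat_lit 0x4000000000) (Net.cons (nat_lit 32) (nat_lit 0xffff80) (Net.cons (nat_lit 16) (nat_lit 0x4000000080) (Net.cons (nat_lit 8) (nat_lit 0x40008000800080) (Net.cons (nat_lit 4) (nat_lit 0x308050403040304) (Net.cons (nat_lit 2) (nat_lit 0x331111110000) (Net.cons (nat_lit 1) (nat_lit 0x1050011010101414) Net.nil)))))))))))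

theorem m_g10_ok : Net.ok 63 m_g10 = true := by decide +kernel

noncomputable def m_g11 : Net := (Net.cons (nat_lit 1) (nat_lit 0x514051150415041) (Net.cons (nat_lit 2) (nat_lit 0x1002100101200120) (Net.cons (nat_lit 4) (nat_lit 0x400080c0c0400) (Net.cons (nat_lit 8) (nat_lit 0x400000080) (Net.cons (nat_lit 16) (nat_lit 32768) (Net.cons (nat_lit 32) (nat_lit 0x7fff8400) (Net.cons (nat_lit 16) (nat_lit 0x7f0c0000ffc0) (Net.cons (nat_lit 8) (nat_lit 0xc000c00c000c0) (Net.cons (nat_lit 4) (nat_lit 0x40b0f080c030308) (Net.cons (nat_lit 2) (nat_lit 0x1210121021012101) (Net.cons (nat_lit 1) (nat_lit 0x415041040514051) Net.nil)))))))))))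

theorem m_g11_ok : Net.ok 63 m_g11 = true := by decide +kernel

noncomputable def m_g12 : Net := (Net.cons (nat_lit 1) (nat_lit 0x400000400004000) (Net.cons (nat_lit 4) (nat_lit 0x8000800000000) (Net.cons (nat_lit 8) (nat_lit 0x8000400000) (Net.cons (nat_lit 16) (nat_lit 32768) (Net.cons (nat_lit 32) (nat_lit 32768) (Net.cons (nat_lit 16) (nat_lit 0x800000c000) (Net.cons (nat_lit 8) (nat_lit 0x8008800400080) (Net.cons (nat_lit 4) (nat_lit 0x40f070c00030300) (Net.cons (nat_lit 1) (nat_lit 0x1500001500155500) Net.nil)))))))))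

theorem m_g12_ok : Net.ok 63 m_g12 = true := by decide +kernel

noncomputable def m_g13 : Net := (Net.cons (nat_lit 1) (nat_lit 0x11040000110400) (Net.cons (nat_lit 2) (nat_lit 0x202000002020000) (Net.cons (nat_lit 4) (nat_lit 0x8000808000800) (Net.cons (nat_lit 8) (nat_lit 0x8000080000) (Net.cons (nat_lit 16) (nat_lit 0x8000000800) (Net.cons (nat_lit 8) (nat_lit 0x8008800880080) (Net.cons (nat_lit 4) (nat_lit 0x20a04080a020c00) (Net.cons (nat_lit 2) (nat_lit 0x1313000013130000) (Net.cons (nat_lit 1) (nat_lit 0x11150000111500) Net.nil)))))))))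

theorem m_g13_ok : Net.ok 63 m_g13 = true := by decide +kernel

noncomputable def m_g14 : Net := (Net.cons (nat_lit 1) (nat_lit 0x44401000444010) (Net.cons (nat_lit 2) (nat_lit 0x201002002010020) (Net.cons (nat_lit 4) (nat_lit 0x4060004000200) (Net.cons (nat_lit 8) (nat_lit 0x40000000040000) (Net.cons (nat_lit 16) (nat_lit 0x440000000000) (Net.cons (nat_lit 32) (nat_lit 0x7b44bf20) (Net.cons (nat_lit 16) (nat_lit 17408) (Net.cons (nat_lit 8) (nat_lit 0x44002000440020) (Net.cons (nat_lit 4) (nat_lit 0x6000a0802040e08) (Net.cons (nat_lit 2) (nat_lit 0x1203013012030130) (Net.cons (nat_lit 1) (nat_lit 0x144501001445010) Net.nil)))))))))))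

theorem m_g14_ok : Net.ok 63 m_g14 = true := by decide +kernel

noncomputable def m_g15 : Net := (Net.cons (nat_lit 1) (nat_lit 0x40554455444000) (Net.cons (nat_lit 2) (nat_lit 0x1010010000) (Net.cons (nat_lit 4) (nat_lit 0x10104040000) (Net.cons (nat_lit 8) (nat_lit 0x1000400000) (Net.cons (nat_lit 16) (nat_lit 0x100000000000) (Net.cons (nat_lit 32) (nat_lit 0x10000000) (Net.cons (nat_lit 16) (nat_lit 0x100000004000) (Net.cons (nat_lit 8) (nat_lit 0x40001100440080) (Net.cons (nat_lit 4) (nat_lit 0x3000b050e050300) (Net.cons (nat_lit 2) (nat_lit 0x233233230000) (Net.cons (nat_lit 1) (nat_lit 0x1540554455445500) Net.nil)))))))))))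

theorem m_g15_ok : Net.ok 63 m_g15 = true := by decide +kernel

noncomputable def m_g16 : Net := (Net.cons (nat_lit 1) (nat_lit 0x411000004110000) (Net.cons (nat_lit 2) (nat_lit 0x2020000020200) (Net.cons (nat_lit 4) (nat_lit 0x8000808000800) (Net.cons (nat_lit 8) (nat_lit 0x8000080000) (Net.cons (nat_lit 16) (nat_lit 0x8000000800) (Net.cons (nat_lit 8) (nat_lit 0x8008800880080) (Net.cons (nat_lit 4) (nat_lit 0x40a02080c020a00) (Net.cons (nat_lit 2) (nat_lit 0x13130000131300) (Net.cons (nat_lit 1) (nat_lit 0x1511000015110000) Net.nil)))))))))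

theorem m_g16_ok : Net.ok 63 m_g16 = true := by decide +kernel

noncomputable def u_c2_X : List Net := [m_g9, m_g7, m_g10, m_g11, m_g12, m_g13, m_g14, m_g15, m_g16]

theorem u_c2_X_ok : okE 63 u_c2_X = true := (okE_cons.2 ⟨m_g9_ok, (okE_cons.2 ⟨m_g7_ok, (okE_cons.2 ⟨m_g10_ok, (okE_cons.2 ⟨m_g11_ok, (okE_cons.2 ⟨m_g12_ok, (okE_cons.2 ⟨m_g13_ok, (okE_cons.2 ⟨m_g14_ok, (okE_cons.2 ⟨m_g15_ok, (okE_cons.2 ⟨m_g16_ok, (okE_nil 63)⟩)⟩)⟩)⟩)⟩)⟩)⟩)⟩)⟩)

noncomputable def m_g17 : Net := (Net.cons (nat_lit 1) (nat_lit 0x1100044444445540) (Net.cons (nat_lit 2) (nat_lit 0x220202220220200) (Net.cons (nat_lit 4) (nat_lit 0x1030f0f02080000) (Net.cons (nat_lit 8) (nat_lit 0xa000400000000) (Net.cons (nat_lit 16) (nat_lit 0x400000000000) (Net.cons (nat_lit 32) (nat_lit 0x29c3f4b8) (Net.cons (nat_lit 16) (nat_lit 0x400000004008) (Net.cons (nat_lit 8) (nat_lit 0x400000000a0048) (Net.cons (nat_lit 4) (nat_lit 0x10b06040b030c08) (Net.cons (nat_lit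 2) (nat_lit 0x110320112210110) (Net.cons (nat_lit 1) (nat_lit 0x1110014111011010) Net.nil)))))))))))

theorem m_g17_ok : Net.ok 63 m_g17 = true := by decide +kernel

noncomputable def m_g18 : Net := (Net.cons (nat_lit 1) (nat_lit 0x1111111104500450) (Net.cons (nat_lit 2) (nat_lit 0x2000200300030) (Net.cons (nat_lit 4) (nat_lit 0x8000000000000) (Net.cons (nat_lit 8) (nat_lit 0x800000) (Net.cons (nat_lit 32) (nat_lit 0x800000) (Net.cons (nat_lit 16) (nat_lit 0x7700007f10) (Net.cons (nat_lit 8) (nat_lit 0x8008800900010) (Net.cons (nat_lit 4) (nat_lit 0x20f0a0f00060006) (Net.cons (nat_lit 2) (nat_lit 0x1102110201300130) (Net.cons (nat_lit 1) (nat_lit 0x1111111104500450) Net.nil))))))))))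

theorem m_g18_ok : Net.ok 63 m_g18 = true := by decide +kernel

noncomputable def m_g19 : Net := (Net.cons (nat_lit 1) (nat_lit 0x1111111111041104) (Net.cons (nat_lit 2) (nat_lit 0x20220020302030) (Net.cons (nat_lit 4) (nat_lit 0x200080008000800) (Net.cons (nat_lit 8) (nat_lit 0x7f0000007f0080) (Net.cons (nat_lit 16) (nat_lit 32768) (Net.cons (nat_lit 32) (nat_lit 0x207fdfa0) (Net.cons (nat_lit 16) (nat_lit 0x5fa00000dfa0) (Net.cons (nat_lit 8) (nat_lit 0x20000000a000a0) (Net.cons (nat_lit 4) (nat_lit 0x505070708020404) (Net.cons (nat_lit 2) (nat_lit 0x303121232103232) (Net.cons (nat_lit 1) (nat_lit 5397) Net.nil)))))))))))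

theorem m_g19_ok : Net.ok 63 m_g19 = true := by decide +kernel

noncomputable def u_c2_Y : List Net := [m_g17, m_g18, m_g19]

theorem u_c2_Y_ok : okE 63 u_c2_Y = true := (okE_cons.2 ⟨m_g17_ok, (okE_cons.2 ⟨m_g18_ok, (okE_cons.2 ⟨m_g19_ok, (okE_nil 63)⟩)⟩)⟩)

noncomputable def m_g22 : Net := (Net.cons (nat_lit 4) (nat_lit 0x70f070f00000800) (Net.cons (nat_lit 16) (nat_lit 0x80000000000) (Net.cons (nat_lit 32) (nat_lit 0x2d2da52d) (Net.cons (nat_lit 16) (nat_lit 32768) (Net.cons (nat_lit 8) (nat_lit 0x7000700700070) (Net.cons (nat_lit 4) (nat_lit 0x5050d050d050d05) Net.nil))))))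

theorem m_g22_ok : Net.ok 63 m_g22 = true := by decide +kernel

noncomputable def m_g23 : Net := (Net.cons (nat_lit 2) (nat_lit 0x20202220002020) (Net.cons (nat_lit 4) (nat_lit 0x2020802080000) (Net.cons (nat_lit 8) (nat_lit 0x7500df00880000) (Net.cons (nat_lit 16) (nat_lit 0x77fd00000000) (Net.cons (nat_lit 32) (nat_lit 0x49e13e1c) (Net.cons (nat_lit 16) (nat_lit 0x449900001bce) (Net.cons (nat_lit 8) (nat_lit 0x3100cc004600bb) (Net.cons (nat_lit 4) (nat_lit 0x1010301060c0c0e) (Net.cons (nat_lit 2) (nat_lit 0x123230332323232) (Net.cons (nat_lit 1) (nat_lit 0x1111111111111111) Net.nil))))))))))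

theorem m_g23_ok : Net.ok 63 m_g23 = true := by decide +kernel

noncomputable def m_g24 : Net := (Net.cons (nat_lit 2) (nat_lit 0x1133222031112200) (Net.cons (nat_lit 4) (nat_lit 0x202000802020208) (Net.cons (nat_lit 8) (nat_lit 0x200a00080) (Net.cons (nat_lit 16) (nat_lit 0x2a00000000) (Net.cons (nat_lit 32) (nat_lit 0x5adad0f0) (Net.cons (nat_lit 16) (nat_lit 0x4eec0000ec46) (Net.cons (nat_lit 8) (nat_lit 0x28008800550057) (Net.cons (nat_lit 4) (nat_lit 0x20a0002050d0d0d) (Net.cons (nat_lit 2) (nat_lit 0x22020222202200) Net.nil)))))))))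

theorem m_g24_ok : Net.ok 63 m_g24 = true := by decide +kernel

noncomputable def m_g25 : Net := (Net.cons (nat_lit 1) (nat_lit 0x555154100014504) (Net.cons (nat_lit 2) (nat_lit 0x1303023030320110) (Net.cons (nat_lit 4) (nat_lit 0x304000f0b030d00) (Net.cons (nat_lit 8) (nat_lit 0x1a002500630000) (Net.cons (nat_lit 16) (nat_lit 0x3a6500008000) (Net.cons (nat_lit 32) (nat_lit 0x4b2cf0d9) (Net.cons (nat_lit 16) (nat_lit 0x621a0000787a) (Net.cons (nat_lit 8) (nat_lit 0x51000600f5005e) (Net.cons (nat_lit 4) (nat_lit 0x50f070904010408) (Net.cons (nat_lit 2) (nat_lit 0x1010210220203203) (Net.cons (nat_lit 1) (nat_lit 0x141054554044011) Net.nil)))))))))))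

theorem m_g25_ok : Net.ok 63 m_g25 = true := by decide +kernel

noncomputable def u_c3_X : List Net := [m_g22, m_g23, m_g24, m_g25]

theorem u_c3_X_ok : okE 63 u_c3_X = true := (okE_cons.2 ⟨m_g22_ok, (okE_cons.2 ⟨m_g23_ok, (okE_cons.2 ⟨m_g24_ok, (okE_cons.2 ⟨m_g25_ok, (okE_nil 63)⟩)⟩)⟩)⟩)

noncomputable def m_g26 : Net := (Net.cons (nat_lit 1) (nat_lit 0x101101001011010) (Net.cons (nat_lit 2) (nat_lit 0x121202203012000) (Net.cons (nat_lit 4) (nat_lit 0x303020a01030200) (Net.cons (nat_lit 8) (nat_lit 0x5f00ff00220000) (Net.cons (nat_lit 16) (nat_lit 0x200000000) (Net.cons (nat_lit 32) (nat_lit 0x5da2fd00) (Net.cons (nat_lit 16) (nat_lit 0x54740000d6d4) (Net.cons (nat_lit 8) (nat_lit 0x5d00df00a20082) (Net.cons (nat_lit 4) (nat_lit 0x109000201010a00) (Net.cons (nat_lit 2) (nat_lit 0x1032232310102103) (Net.cons (nat_lit 1) (nat_lit 0x404151504041515) Net.nil)))))))))))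

theorem m_g26_ok : Net.ok 63 m_g26 = true := by decide +kernel

noncomputable def u_c3_Y : List Net := [m_g26]

theorem u_c3_Y_ok : okE 63 u_c3_Y = true := (okE_cons.2 ⟨m_g26_ok, (okE_nil 63)⟩)

theorem p_gen : H44.gen (H44.gp 63 p_E p_code) 9 = grp 63 p_E :=
  H44.gen_gp (by decide +kernel)

theorem p_satL : H44.Sat (H44.gp 63 p_E p_code) (PresS6.R) :=
  H44.sat_of_satB m_hn (det_lab m_hk ⊤) p_E_ok le_top (by decide +kernel)

theorem p_sat : H44.Sat (H44.gp 63 p_E p_code) PresS6.R :=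
  p_satL

noncomputable def p_ch : Ch := (Ch.cons (nat_lit 0) [nat_lit 1] (Ch.cons (nat_lit 1) [nat_lit 3] (Ch.cons (nat_lit 3) [nat_lit 5] (Ch.cons (nat_lit 7) [nat_lit 7, nat_lit 9, nat_lit 11] (Ch.cons (nat_lit 15) [nat_lit 13, nat_lit 15] (Ch.cons (nat_lit 31) [nat_lit 17] Ch.nil))))))

theorem p_chk : Ch.chk 63 3 (nat_lit 0x2000202000000000400000050000000000008009) p_E p_ch 1451520 = true :=
  by decide +kernel

theorem p_card : Nat.card (grp 63 p_E) = 1451520 :=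
  card_net p_gen (Ch.le_card_grp m_hn p_E_ok p_chk) (by decide) (PresS6.card_le p_sat).2

theorem p_exact : Ch.Exact 63 p_E p_ch (grp 63 p_E) :=
  Ch.exact m_hn p_E_ok p_chk (wgrp_le_grp _ _ _) p_card.le

theorem p_pres : Pres (netGen 63 p_E p_code) 9 PresS6.R :=
  pres_net p_gen p_sat p_card.ge (by decide) (by decide +kernel) fun _ _ _ h => PresS6.card_le h

/-- The table of the vectors. -/
def pts : ℕ := 0x3f3e3d3c3b3a393837363534333231302f2e2d2c2b2a292827262524232221201f1e1d1c1b1a191817161514131211100f0e0d0c0b0a090807060504030201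

theorem pts_inj : ∀ i < 63, ∀ j < 63, tab2 3 pts i = tab2 3 pts j → i = j :=
  by decide +kernel

open Matrix in
theorem act_m_g9 : ∃ c, mat2 3 c * J (Fin 3) (ZMod 2) * (mat2 3 c)ᵀ = J (Fin 3) (ZMod 2) ∧
    ∀ i < 63, mat2 3 c *ᵥ tab2 3 pts i = tab2 3 pts (Net.pt m_g9 i) :=
  ⟨0x241008040201, by decide +kernel, by decide +kernel⟩

open Matrix in
theorem act_m_g8 : ∃ c, mat2 3 c * J (Fin 3) (ZMod 2) * (mat2 3 c)ᵀ = J (Fin 3) (ZMod 2) ∧
    ∀ i < 63, mat2 3 c *ᵥ tab2 3 pts i = tab2 3 pts (Net.pt m_g8 i) :=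
  ⟨0x221408040201, by decide +kernel, by decide +kernel⟩

open Matrix in
theorem act_m_g7 : ∃ c, mat2 3 c * J (Fin 3) (ZMod 2) * (mat2 3 c)ᵀ = J (Fin 3) (ZMod 2) ∧
    ∀ i < 63, mat2 3 c *ᵥ tab2 3 pts i = tab2 3 pts (Net.pt m_g7 i) :=
  ⟨0x201208040201, by decide +kernel, by decide +kernel⟩

open Matrix in
theorem act_m_g6 : ∃ c, mat2 3 c * J (Fin 3) (ZMod 2) * (mat2 3 c)ᵀ = J (Fin 3) (ZMod 2) ∧
    ∀ i < 63, mat2 3 c *ᵥ tab2 3 pts i = tab2 3 pts (Net.pt m_g6 i) :=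
  ⟨0x221409040201, by decide +kernel, by decide +kernel⟩

open Matrix in
theorem act_m_g5 : ∃ c, mat2 3 c * J (Fin 3) (ZMod 2) * (mat2 3 c)ᵀ = J (Fin 3) (ZMod 2) ∧
    ∀ i < 63, mat2 3 c *ᵥ tab2 3 pts i = tab2 3 pts (Net.pt m_g5 i) :=
  ⟨0x23150f040201, by decide +kernel, by decide +kernel⟩

open Matrix in
theorem act_m_g4 : ∃ c, mat2 3 c * J (Fin 3) (ZMod 2) * (mat2 3 c)ᵀ = J (Fin 3) (ZMod 2) ∧
    ∀ i < 63, mat2 3 c *ᵥ tab2 3 pts i = tab2 3 pts (Net.pt m_g4 i) :=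
  ⟨0x20130a040201, by decide +kernel, by decide +kernel⟩

open Matrix in
theorem act_m_g3 : ∃ c, mat2 3 c * J (Fin 3) (ZMod 2) * (mat2 3 c)ᵀ = J (Fin 3) (ZMod 2) ∧
    ∀ i < 63, mat2 3 c *ᵥ tab2 3 pts i = tab2 3 pts (Net.pt m_g3 i) :=
  ⟨0x201229250201, by decide +kernel, by decide +kernel⟩

open Matrix in
theorem act_m_g2 : ∃ c, mat2 3 c * J (Fin 3) (ZMod 2) * (mat2 3 c)ᵀ = J (Fin 3) (ZMod 2) ∧
    ∀ i < 63, mat2 3 c *ᵥ tab2 3 pts i = tab2 3 pts (Net.pt m_g2 i) :=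
  ⟨0x203029172201, by decide +kernel, by decide +kernel⟩

open Matrix in
theorem act_m_g1 : ∃ c, mat2 3 c * J (Fin 3) (ZMod 2) * (mat2 3 c)ᵀ = J (Fin 3) (ZMod 2) ∧
    ∀ i < 63, mat2 3 c *ᵥ tab2 3 pts i = tab2 3 pts (Net.pt m_g1 i) :=
  ⟨0x230c14040102, by decide +kernel, by decide +kernel⟩

theorem equiv {F : Type*} [Field F] [Fintype F] (hF : Fintype.card F = 2) :
    Nonempty (grp 63 p_E ≃* Cfsg.PSp 3 F) :=
  equiv_psp62 p_E_ok pts_inj (List.forall_mem_cons.2 ⟨act_m_g1, List.forall_mem_cons.2 ⟨act_m_g2, List.forall_mem_cons.2 ⟨act_m_g3, List.forall_mem_cons.2 ⟨act_m_g4, List.forall_mem_cons.2 ⟨act_m_g5, List.forall_mem_cons.2 ⟨act_m_g6, List.forall_mem_cons.2 ⟨act_m_g7, List.forall_mem_cons.2 ⟨act_m_g8, List.forall_mem_cons.2 ⟨act_m_g9, fun _ h => nomatch h⟩⟩⟩⟩⟩⟩⟩⟩⟩) p_card hF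

noncomputable def u_L : ℕ := (nat_lit 0x2000202000000000400000050000000000008009)

theorem u_det : Det 63 3 u_L (grp 63 p_E) :=
  det_of_base p_exact.isBase (by decide +kernel)

/-- Rules. -/
def u_c2_rule : List (List (List ℕ)) :=
  [[[], [1], [2, 4], [3, 4, 7], [4], [5], [6, 7, 8], [7], [8]],
   [[], [], [2], [3, 5], [4], [5], [6], [7], [8]],
   [[], [], [8], [3, 6], [4], [5], [6], [7, 8], [8]],
   [[], [], [], [6, 7], [4, 7], [5], [6, 8], [7, 8], [8]],
   [[], [], [], [], [], [5], [6, 8], [7], [8]],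
   [[], [], [], [], [], [], [6], [7], [8]],
   [[], [], [], [], [], [], [], [7], [8]],
   [[], [], [], [], [], [], [], [], [8]],
   [[], [], [], [], [], [], [], [], []]]

/-- Fused subgroups. -/
def u_c2_fq : List (List (List ℕ)) :=
  [[[1], [1, 4, 5, 7, 8], [1, 2, 5], [2, 3, 6, 7, 8], [5], [5, 7, 8], [5, 6, 8], [8]],
   [[0], [0, 1], [0, 4, 7], [1, 6, 7], [2, 3, 7], [7, 8], [5], [7]],
   [[0], [0, 1], [1, 4, 5, 8], [0, 1, 4, 6], [0, 1, 2, 8], [7, 8], [4], [8]]]

/-- Their images. -/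
def u_c2_fq' : List (List (List ℕ)) :=
  [[[1], [2, 5, 6, 7, 8], [1, 2, 4, 6, 7, 8], [1, 3, 4, 5, 6, 7], [5], [6, 8], [5, 6, 7, 8], [8]],
   [[0], [4], [1, 5], [0, 2, 3, 5, 6, 8], [0, 1, 2, 3, 4], [7, 8], [7], [5]],
   [[0, 7, 8], [0, 5, 7], [1, 4, 7], [0, 2, 5, 7], [0, 2, 5, 6, 7], [4, 8], [4, 7, 8], [8]]]

/-- Rows. -/
def u_c2_sA : List Spec :=
  [⟨1, [0], [], 2, 1, 1023⟩,
   ⟨1, [1], [], 3, 1, 1023⟩,
   ⟨1, [2], [], 6, 1, 1023⟩,
   ⟨1, [3], [], 12, 1, 1023⟩,
   ⟨1, [4], [], 21, 1, 1023⟩,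
   ⟨1, [5], [], 0, 1, 1023⟩,
   ⟨1, [6], [], 10, 1, 1023⟩,
   ⟨1, [7], [], 20, 1, 1023⟩,
   ⟨1, [8], [], 30, 1, 1023⟩,
   ⟨0, [2], [2, 2], 26, 1, 1023⟩,
   ⟨5, [7, 0], [0, 7], 71, 1, 1023⟩,
   ⟨5, [7, 5], [5, 7], 44, 1, 1023⟩,
   ⟨0, [2], [1, 0], 13, 1, 1⟩,
   ⟨0, [7], [2, 1], 17, 1, 1023⟩,
   ⟨0, [7], [5, 2], 53, 1, 1⟩,
   ⟨4, [6, 5], [5, 6], 52, 1, 1023⟩,
   ⟨3, [7, 5], [5, 7], 62, 1, 1023⟩,
   ⟨3, [5, 4], [4, 5], 51, 1, 1023⟩,
   ⟨0, [5], [2, 0], 41, 1, 1⟩,
   ⟨0, [6], [1, 0], 16, 1, 1⟩,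
   ⟨4, [7, 1], [1, 7], 7, 1, 1⟩,
   ⟨4, [6, 0], [0, 6], 5, 1, 1⟩,
   ⟨0, [2], [0, 0], 40, 1, 1023⟩,
   ⟨0, [3], [1, 1], 50, 1, 1023⟩,
   ⟨0, [6], [4, 4], 80, 1, 1023⟩,
   ⟨4, [1, 0], [0, 1], 4, 1, 1023⟩,
   ⟨4, [6, 1], [1, 6], 43, 1, 1023⟩,
   ⟨0, [3], [0, 0], 70, 1, 1023⟩,
   ⟨3, [5, 0], [0, 5], 15, 1, 1023⟩,
   ⟨4, [5, 1], [1, 5], 14, 1, 1023⟩,
   ⟨0, [3], [2, 1], 23, 1, 1⟩,
   ⟨5, [5, 0], [0, 5], 8, 1, 1⟩,
   ⟨5, [1, 1], [], 1, 1, 683⟩,
   ⟨0, [2], [2, 0], 22, 1, 1⟩,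
   ⟨0, [3], [3, 1], 32, 1, 1⟩,
   ⟨0, [7], [3, 2], 61, 1, 1⟩,
   ⟨4, [7, 3], [3, 7], 35, 1, 1023⟩,
   ⟨3, [1, 0], [0, 1], 11, 1, 1023⟩,
   ⟨3, [5, 5], [], 60, 1, 1023⟩,
   ⟨0, [3], [3, 3], 34, 1, 1023⟩,
   ⟨0, [3], [2, 2], 24, 1, 1023⟩,
   ⟨0, [4], [3, 3], 42, 1, 1023⟩,
   ⟨0, [3], [3, 0], 33, 1, 1⟩,
   ⟨3, [3, 0], [0, 3, 4], 85, 1, 1⟩,
   ⟨4, [3, 1], [1, 3, 5], 95, 1, 1⟩,
   ⟨4, [3, 0], [0, 3, 5], 31, 1, 1023⟩,
   ⟨0, [4], [3, 2], 25, 1, 1023⟩,
   ⟨5, [6, 3], [3, 6, 7], 106, 1, 1⟩,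
   ⟨5, [3, 0], [0, 3, 5], 104, 1, 1⟩,
   ⟨4, [4, 1], [1, 4, 6], 96, 1, 1⟩,
   ⟨5, [4, 0], [0, 4, 6], 105, 1, 1⟩,
   ⟨4, [3, 2], [2, 3, 7], 97, 1, 1⟩,
   ⟨3, [5, 2], [2, 5, 7], 88, 1, 1⟩,
   ⟨3, [3, 3], [4, 5], 86, 1, 1⟩,
   ⟨3, [3, 2], [2, 3, 6], 87, 1, 1⟩]

/-- Rows. -/
def u_c2_sB : List Spec :=
  [⟨3, [0, 0], [], 81, 2, 1023⟩,
   ⟨4, [0, 0], [], 90, 2, 1023⟩,
   ⟨4, [2, 2], [], 92, 2, 1023⟩,
   ⟨4, [1, 1], [], 91, 2, 1023⟩,
   ⟨5, [0, 0], [], 99, 2, 1023⟩,
   ⟨5, [2, 2], [], 101, 2, 1023⟩,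
   ⟨3, [1, 1], [], 100, 2, 819⟩,
   ⟨5, [4, 4], [6, 7], 103, 2, 1023⟩,
   ⟨4, [3, 3], [], 93, 2, 1023⟩,
   ⟨3, [2, 2], [7], 83, 2, 1023⟩,
   ⟨5, [3, 3], [5, 7], 102, 2, 1023⟩,
   ⟨4, [4, 4], [7], 94, 2, 1023⟩,
   ⟨3, [3, 1], [1, 3, 5], 84, 2, 1023⟩,
   ⟨4, [6, 6], [], 82, 4, 909⟩]

/-- Rows. -/
def u_c2_sC : List Spec :=
  [⟨2, [0], [], 100, 2, 3⟩,
   ⟨3, [0, 0], [], 81, 2, 1023⟩,
   ⟨4, [0, 0], [], 90, 2, 1023⟩,
   ⟨4, [1, 1], [], 91, 2, 1023⟩,
   ⟨5, [0, 0], [], 99, 2, 1023⟩,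
   ⟨4, [2, 2], [], 92, 2, 1023⟩,
   ⟨5, [2, 2], [], 101, 2, 1023⟩,
   ⟨3, [1, 1], [], 82, 2, 1023⟩,
   ⟨5, [4, 4], [6, 7], 103, 2, 1023⟩,
   ⟨4, [3, 3], [], 93, 2, 1023⟩,
   ⟨3, [2, 2], [7], 83, 2, 1023⟩,
   ⟨5, [3, 3], [5, 7], 102, 2, 1023⟩,
   ⟨4, [4, 4], [7], 94, 2, 1023⟩,
   ⟨3, [3, 1], [1, 3, 5], 84, 2, 1023⟩]

/-- The certificate. -/
noncomputable def u_c2 : Cert where
  q := 1
  n := 9
  nf := 3
  b := 28
  M := 1024
  D := 2
  fuel := 87
  rule := fun i j => getLL (getL3 u_c2_rule i) j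
  fq := fun i j => getLL (getL3 u_c2_fq i) j
  fq' := fun i j => getLL (getL3 u_c2_fq' i) j
  nrm := nrmM 28 108 10
  nri := getL [0, 0, 0, 1, 2, 0, 1, 2, 3]
  nrj := getL [2, 3, 6, 3, 3, 0, 1, 2, 3]
  B := getL [0x100000000000000000000000000000000000, 0x1000000000000000000000000000000000000000000, 0x1000000000000000000000000000000003ff000000100003ff, 0x100000000000000000000000003ff0000000000000000003ff0000001, 0x3fe, 0x3fe000000000000000000000, 0x3fe0000000000000000000000000000, 0x3fe0000002, 0x3fe000000200003fe]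
  nU := 1
  U := getL [unitV 28 70 * 1]
  ord := getL [2]
  sA := u_c2_sA
  sB := u_c2_sB
  sC := u_c2_sC

theorem u_c2_nrm : Nrm u_c2.b u_c2.R u_c2.M u_c2.nrm := by
  dsimp only [u_c2, Cert.R]
  exact (nrm_nrmM (b := 28) (R := 108) (v := 10) (by norm_num) : Nrm 28 108 (2 ^ 10) _)

theorem u_c2_chk : u_c2.chk 2 = true := by decide +kernel

theorem m_le20 : grp 63 u_c2_X ≤ grp 63 p_E :=
  grp_le_of_memB m_hn m_hk p_E_ok u_c2_X_ok (ws := [nat_lit 17, nat_lit 13, nat_lit 0x70b050905, nat_lit 0x5090503090b03, nat_lit 3337, nat_lit 0xd0f070b, nat_lit 0xd0f070905090b05, nat_lit 3849, nat_lit 3335]) (by decide +kernel)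

theorem m_le21 : grp 63 u_c2_Y ≤ grp 63 p_E :=
  grp_le_of_memB m_hn m_hk p_E_ok u_c2_Y_ok (ws := [nat_lit 0x110905090b, nat_lit 0x511031105, nat_lit 0x110d070b03090b0301]) (by decide +kernel)

theorem u_c2_card : 2 ^ 9 ≤ Nat.card (grp 63 u_c2_X) :=
  Ch.le_card_grp m_hn u_c2_X_ok (k := 3) (L := (nat_lit 0x2000200000000000000000440000000080000082)) (c := (Ch.cons (nat_lit 1) [nat_lit 7] (Ch.cons (nat_lit 3) [nat_lit 5, nat_lit 0x110d090301] (Ch.cons (nat_lit 7) [nat_lit 0x110b0301, nat_lit 0x110f0b01, nat_lit 0x110301] (Ch.cons (nat_lit 15) [nat_lit 3849, nat_lit 3] (Ch.cons (nat_lit 31) [nat_lit 1] Ch.nil)))))) (by decide +kernel)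

theorem u_c2_rows : allN (pcRowB u_c2 63 3 u_L u_c2_X) u_c2.n = true :=
  by decide +kernel

theorem u_c2_fus : allN (pcFusB u_c2 63 3 u_L u_c2_X u_c2_Y) u_c2.nf = true :=
  by decide +kernel

theorem u_c2_bound : MBound (grp 63 p_E) (2835 * 2835) 2 :=
  mBound_net' (C := u_c2) m_hn u_det u_c2_X_ok u_c2_Y_ok (m_le20.trans le_rfl) (m_le21.trans le_rfl)
    (by show Nat.Prime 2; norm_num) p_card u_c2_nrm (by decide +kernel) u_c2_rows u_c2_fus u_c2_card u_c2_chk

/-- Rules. -/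
def u_c3_rule : List (List (List ℕ)) :=
  [[[], [1, 2, 2], [2], [3]],
   [[], [3, 3], [2, 3], [3]],
   [[], [], [], [3]],
   [[], [], [], []]]

/-- Fused subgroups. -/
def u_c3_fq : List (List (List ℕ)) :=
  [[[0, 0], [1, 3, 3], [2, 2], [3, 3]]]

/-- Their images. -/
def u_c3_fq' : List (List (List ℕ)) :=
  [[[0, 0, 2, 3, 3], [0, 1, 1, 2, 2, 3, 3], [2, 3], [3, 3]]]

/-- Rows. -/
def u_c3_sA : List Spec :=
  [⟨1, [0], [], 1, 1, 242⟩,
   ⟨1, [1], [], 5, 1, 242⟩,
   ⟨1, [2], [], 0, 1, 242⟩,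
   ⟨1, [3], [], 6, 1, 242⟩,
   ⟨0, [1], [1, 1, 1], 7, 1, 121⟩,
   ⟨3, [3, 2], [2, 3], 11, 1, 122⟩,
   ⟨0, [2, 2], [2, 1], 15, 1, 1⟩,
   ⟨0, [2], [1, 0], 3, 1, 242⟩,
   ⟨3, [2, 0], [0, 2], 2, 1, 122⟩,
   ⟨0, [1], [0, 0, 0], 10, 1, 121⟩,
   ⟨3, [2, 1], [1, 2, 3], 19, 1, 1⟩,
   ⟨3, [1, 0], [0, 1, 2, 2], 18, 1, 122⟩]

/-- Rows. -/
def u_c3_sB : List Spec :=
  []

/-- Rows. -/
def u_c3_sC : List Spec :=
  []

/-- The certificate. -/
noncomputable def u_c3 : Cert where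
  q := 2
  n := 4
  nf := 1
  b := 24
  M := 243
  D := 3
  fuel := 99
  rule := fun i j => getLL (getL3 u_c3_rule i) j
  fq := fun i j => getLL (getL3 u_c3_fq i) j
  fq' := fun i j => getLL (getL3 u_c3_fq' i) j
  nrm := nrmL 24 20 243
  nri := getL [0, 1, 0, 1]
  nrj := getL [1, 1, 0, 2]
  B := getL [0x1000000000000, 0xf1000000000001000000, 0x78, 0xf0000000000000000000]
  nU := 0
  U := getL []
  ord := getL []
  sA := u_c3_sA
  sB := u_c3_sB
  sC := u_c3_sC

theorem u_c3_nrm : Nrm u_c3.b u_c3.R u_c3.M u_c3.nrm := by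
  dsimp only [u_c3, Cert.R]
  exact nrm_nrmL 24 20 243

theorem u_c3_chk : u_c3.chk 1 = true := by decide +kernel

theorem m_le27 : grp 63 u_c3_X ≤ grp 63 p_E :=
  grp_le_of_memB m_hn m_hk p_E_ok u_c3_X_ok (ws := [nat_lit 0xd0f0705090b0501030b11030901, nat_lit 0xd0f0705090b030b0103110301, nat_lit 0xd090b050b0311030d010311030109, nat_lit 0x110d070b050309110501030911]) (by decide +kernel)

theorem m_le28 : grp 63 u_c3_Y ≤ grp 63 p_E :=
  grp_le_of_memB m_hn m_hk p_E_ok u_c3_Y_ok (ws := [nat_lit 0x1109050911030911050103091105]) (by decide +kernel)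

theorem u_c3_card : 3 ^ 4 ≤ Nat.card (grp 63 u_c3_X) :=
  Ch.le_card_grp m_hn u_c3_X_ok (k := 2) (L := (nat_lit 0x408000000000000003)) (c := (Ch.cons (nat_lit 1) [nat_lit 3, nat_lit 1281] (Ch.cons (nat_lit 7) [nat_lit 0x7050501] (Ch.cons (nat_lit 0) [nat_lit 1] Ch.nil)))) (by decide +kernel)

theorem u_c3_rows : allN (pcRowB u_c3 63 3 u_L u_c3_X) u_c3.n = true :=
  by decide +kernel

theorem u_c3_fus : allN (pcFusB u_c3 63 3 u_L u_c3_X u_c3_Y) u_c3.nf = true :=
  by decide +kernel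

theorem u_c3_bound : MBound (grp 63 p_E) (17920 * 17920) 1 :=
  mBound_net' (C := u_c3) m_hn u_det u_c3_X_ok u_c3_Y_ok (m_le27.trans le_rfl) (m_le28.trans le_rfl)
    (by show Nat.Prime 3; norm_num) p_card u_c3_nrm (by decide +kernel) u_c3_rows u_c3_fus u_c3_card u_c3_chk

theorem u_bound : MBound (grp 63 p_E) 1 2 :=
  (((u_c2_bound.mul
    u_c3_bound).mul
    (mBound_of_prime (p := 5) (k := 290304) (by norm_num) p_card)).mul
    (mBound_of_prime (p := 7) (k := 207360) (by norm_num) p_card)).congr (by norm_num) (by norm_num)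

theorem com1 : cmw (netGen 63 p_E p_code) [1] [2] 1 = 1 :=
  cmw_netGen p_gen (by decide) (by decide) (com_pow_eq_one m_hn (det_lab m_hk ⊤) p_E_ok le_top (by decide +kernel))

theorem c_hn : NOk 240 := by decide

theorem c_hk : 240 ≤ 2 ^ 8 := by decide

noncomputable def c_g1 : Net := (Net.cons (nat_lit 2) (nat_lit 0x3003300300030003033030330000030030300033033030000303303000) (Net.cons (nat_lit 4) (nat_lit 0xc0000000f0f0c030f00000c000f0f000000030303030f0000000c0f0000) (Net.cons (nat_lit 8) (nat_lit 0xf300cc0000000000f300cc003c0030000f003000cc00ff00fc000c0000) (Net.cons (nat_lit 16) (nat_lit 0x3f300000f3c0000ccc00000f030000030c000003c0000000300) (Net.cons (nat_lit 32) (nat_lit 0xc0c00000000c3f0f00300000000f303fcf000000000cc000000) (Net.cons (nat_lit 64) (nat_lit 0x30003ccffff0000000000000000fccf000000000000) (Net.cons (nat_lit 128) (nat_lit 0x30003fcfffffcff000000000000) (Net.cons (nat_lit 64) (nat_lit 0xf0ffcfcffff0000000000000000ff3ffcfffc030000)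 (Net.cons (nat_lit 32) (nat_lit 0x33ff000000003c33fcf000000000c0fcf00300000000fc0fcf00) (Net.cons (nat_lit 16) (nat_lit 0xffc0000c033000033f0000003000000f0c3000003300000fcf0) (Net.cons (nat_lit 8) (nat_lit 0xf0003300c3000f00cf003300cf00fc00f0000c003000fc003f000f0000) (Net.cons (nat_lit 4) (nat_lit 0x30c00000f0c0f00000f030f000f0c0f0f0f03030c0c0f0f0f0f030f0300) (Net.cons (nat_lit 2) (nat_lit 0x333030000330303030000003000303300000033300300300033030000303) (Net.cons (nat_lit 1) (nat_lit 0x515011450141040050415511445501454041140404105401504511511441) Net.nil))))))))))))))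

theorem c_g1_ok : Net.ok 240 c_g1 = true := by decide +kernel

noncomputable def c_g2 : Net := (Net.cons (nat_lit 2) (nat_lit 0x3330000000000303003303030303300000303000030003300033030300) (Net.cons (nat_lit 4) (nat_lit 0xf0000000f0c03030f000f000c0c0300030f00000003000c000c00) (Net.cons (nat_lit 8) (nat_lit 0xf30030003c000f003f00cf00cc003300cc003f00000030003000000000) (Net.cons (nat_lit 16) (nat_lit 0xcf33000003000000fc330000c00000000c330000f0030000cc00) (Net.cons (nat_lit 32) (nat_lit 0xc003000000000c3033c00000000000003c030000000000000000) (Net.cons (nat_lit 64) (nat_lit 0x30cc00330c000000000000000000ff0000000000000) (Net.cons (nat_lit 128) (nat_lit 0x30cc00330c00ff0000000000000) (Net.cons (nat_lit 64) (nat_lit 0x30fcc33f0c00000000000000000cffc303300000c00) (Net.cons (nat_lit 32) (nat_lit 0xff0000000003c3cfc33000000003033f3c00000000000c0fc00) (Net.cons (nat_lit 16) (nat_lit 0xfcff000000c00000cc3f0000f300000030ff0000c0330000f30c)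 (Net.cons (nat_lit 8) (nat_lit 0x3000f300c3000f0003000c00cc003300cc000c00c300000003000000c0) (Net.cons (nat_lit 4) (nat_lit 0xc0f03000f0f0f000c0f03000f0c0c0f0f0c030c000300030f0c0c030c03) (Net.cons (nat_lit 2) (nat_lit 0x330003333333333030330030303330333330303303330303330003033300) (Net.cons (nat_lit 1) (nat_lit 0x451504554004014100055140515100005500440454545455110514045045) Net.nil))))))))))))))

theorem c_g2_ok : Net.ok 240 c_g2 = true := by decide +kernel

noncomputable def c_g3 : Net := (Net.cons (nat_lit 2) (nat_lit 0x30000000000030000033000030003333033003000300030000300000) (Net.cons (nat_lit 4) (nat_lit 0xf0f0000000f0003000f0000000c0c00000c0c0000000f00000000000000) (Net.cons (nat_lit 8) (nat_lit 0xf3000000fc00c30033000c003c00c30030000000300000000300000000) (Net.cons (nat_lit 16) (nat_lit 0x3cc300000c00000000330000c30c00000f000000033000000000) (Net.cons (nat_lit 32) (nat_lit 0x30000000000f3c330000000000330c00300000000000000000)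 (Net.cons (nat_lit 64) (nat_lit 0x300c0303cfc00000000000000000c03c000000000000) (Net.cons (nat_lit 128) (nat_lit 0x300c0303cfc0c03c000000000000) (Net.cons (nat_lit 64) (nat_lit 0x303c3fcfcfc00000000000000000c33fccf330000000) (Net.cons (nat_lit 32) (nat_lit 0xf333000000000f3c0c0c000000000ff000000000000033303000) (Net.cons (nat_lit 16) (nat_lit 0x30cf0000000c0000003f0000f3300000f3f00000030c00000000) (Net.cons (nat_lit 8) (nat_lit 0xff000c00f000cf00ff000c00c300f3003000cc00c000f0000300300000) (Net.cons (nat_lit 4) (nat_lit 0xf0f0000000f0003000c000303000000000c0f0c0f000f0000030f000c00) (Net.cons (nat_lit 2) (nat_lit 0x30000000000030300033300330003303303303333300030000300000) (Net.cons (nat_lit 1) (nat_lit 0x445405401555104540001144404111015010115540155401001045540140) Net.nil))))))))))))))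

theorem c_g3_ok : Net.ok 240 c_g3 = true := by decide +kernel

noncomputable def c_g4 : Net := (Net.cons (nat_lit 2) (nat_lit 0x330003303330330030300000330000303303033000033033330000330) (Net.cons (nat_lit 4) (nat_lit 0x30c0c000f03000c00030f0f00000f0c03000c00030c0c00000f030f0300) (Net.cons (nat_lit 8) (nat_lit 0xc00fc000f00cf0033003300c300f00003000300000003003c0000) (Net.cons (nat_lit 16) (nat_lit 0x3ccc000033ff0000030000000003000030ff0000c00000000000) (Net.cons (nat_lit 32) (nat_lit 0xf00000000030c03f00000000000c30c000000000000c00000) (Net.cons (nat_lit 64) (nat_lit 0x3c300000c300000000000000000c3c0000000000000) (Net.cons (nat_lit 128) (nat_lit 0x3c300000c30c3c0000000000000) (Net.cons (nat_lit 64) (nat_lit 0x33cf0cfc0f330000000000000000c3cf3c3000c00000) (Net.cons (nat_lit 32) (nat_lit 0x3f3000000000f0c3cc03000000003f30c03c00000000ccf00300) (Net.cons (nat_lit 16) (nat_lit 0x30fc00003ccf00000fc0000033cc0000cfc30000f00c0000f30c)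 (Net.cons (nat_lit 8) (nat_lit 0xff00cf00fc00cc00cc00f0003000f300f300cc00ff003c00fc0000003c) (Net.cons (nat_lit 4) (nat_lit 0xc0c0f000c0f0c0f000c00030f000c030f0c0f030c0c0f0f000300030f) (Net.cons (nat_lit 2) (nat_lit 0x33303333330003300003330033003333030030300333300300003333003) (Net.cons (nat_lit 1) (nat_lit 0x441440411405454155114400405405050141414411115451114140111441) Net.nil))))))))))))))

theorem c_g4_ok : Net.ok 240 c_g4 = true := by decide +kernel

noncomputable def c_g5 : Net := (Net.cons (nat_lit 2) (nat_lit 0x333030330003033030030003030033003300030003330330000030000330) (Net.cons (nat_lit 4) (nat_lit 0xc030f03000f0c030c00000f0c0c030f0c030300000c03000000000c00) (Net.cons (nat_lit 8) (nat_lit 0x3003c000f003300cf000000c300ff003f000c00030030000000000000) (Net.cons (nat_lit 16) (nat_lit 0xcccf00003c300000033000003fc000003cc30000300000000000) (Net.cons (nat_lit 32) (nat_lit 0xc0300000000cff300f300000000cc30cc030000000000000000)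 (Net.cons (nat_lit 64) (nat_lit 0x30303000c0cf0000000000000000c3f0000000000000) (Net.cons (nat_lit 128) (nat_lit 0x30303c00c0cfc3f0000000000000) (Net.cons (nat_lit 64) (nat_lit 0x3c30fc33c0cc0000000000000000f3fccfcf00000000) (Net.cons (nat_lit 32) (nat_lit 0x33cc00000000cff3f003000000000fc300ff00000000c0c03000) (Net.cons (nat_lit 16) (nat_lit 0x3f300000cfcf00003fc300000c300000033f000030000000000c) (Net.cons (nat_lit 8) (nat_lit 0xf3003c00f000f300f000cf003300cf00c0003000fc00f300cc00c000c0) (Net.cons (nat_lit 4) (nat_lit 0x30c0f0c000f030c0300000f030f0f0f03000c030f0c03000000030c03) (Net.cons (nat_lit 2) (nat_lit 0x303003330300000303330303030330033333303030330330330000330) (Net.cons (nat_lit 1) (nat_lit 0x505145154444150414105004415440050405044044454000004041004000) Net.nil))))))))))))))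

theorem c_g5_ok : Net.ok 240 c_g5 = true := by decide +kernel

noncomputable def c_g6 : Net := (Net.cons (nat_lit 2) (nat_lit 0x300300000003000030000033303333003033003303330033303000300000) (Net.cons (nat_lit 4) (nat_lit 0xc0c0c03000c0303000f0c000c0c0c00000f0c000c0c00030c00000f0000) (Net.cons (nat_lit 8) (nat_lit 0xf00000000000f3000c00c3003f003f00c3000000000030003000000000) (Net.cons (nat_lit 16) (nat_lit 0xf03000003f00000000cc000030030000f0000000300000000000) (Net.cons (nat_lit 32) (nat_lit 0xcc0000000033ff300300000000000c030000000000000c0000) (Net.cons (nat_lit 64) (nat_lit 0x3c000c000f3300000000000000000f0c000000000000) (Net.cons (nat_lit 128) (nat_lit 0x3cc00c000f330fcc000000000000) (Net.cons (nat_lit 64) (nat_lit 0x3c0cfcff0f3300000000000000003f0cc333300c0000) (Net.cons (nat_lit 32) (nat_lit 0xc0fc00000000cffff30000000000ccff000f00000000000f3000) (Net.cons (nat_lit 16) (nat_lit 0xfc300000cc00000000cc00003030000030c0000030000000000c)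 (Net.cons (nat_lit 8) (nat_lit 0xfc0000000300f3000f003c003c00ff00f000c000c30030000f00000003) (Net.cons (nat_lit 4) (nat_lit 0xc0f0f03000c0300030f03000c0c0f00030f0f030c0c00030f00000f0000) (Net.cons (nat_lit 2) (nat_lit 0x330300003003003000033300333333033033003303330333303000330030) (Net.cons (nat_lit 1) (nat_lit 0x505411010000005101155000040001410041111005001000140541000400) Net.nil))))))))))))))

theorem c_g6_ok : Net.ok 240 c_g6 = true := by decide +kernel

noncomputable def c_g7 : Net := (Net.cons (nat_lit 2) (nat_lit 0x3030000300333300303330003003003030033003030033330330000) (Net.cons (nat_lit 4) (nat_lit 0xc03000f030303000c0c000c0f000c0c000c0f0303030f03030c03000f00) (Net.cons (nat_lit 8) (nat_lit 0xcc0003000c00f0000000f000c0003c003300f3000c0003000000cc0000) (Net.cons (nat_lit 16) (nat_lit 0x30f000003c3c0000303f00000c0000000fc000000fc000000003) (Net.cons (nat_lit 32) (nat_lit 0x330f00000000cc0f003c00000000c0f000fc000000003c000000)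 (Net.cons (nat_lit 64) (nat_lit 0xc00000c0003c0000000000000000cccc000000000000) (Net.cons (nat_lit 128) (nat_lit 0xc00330c00c3ccccf000000000000) (Net.cons (nat_lit 64) (nat_lit 0x3cffff0c0fcf0000000000000000fff30cfc0c000000) (Net.cons (nat_lit 32) (nat_lit 0xc00300000000c0cf3f3c00000000fc30ff3c00000000c0c00303) (Net.cons (nat_lit 16) (nat_lit 0xfc3000003cf00000f3f000000c00000f00f000000f3000003ff) (Net.cons (nat_lit 8) (nat_lit 0x3000cc00f300c3000f00c0003f00f3003f00fc003f000300f300c3) (Net.cons (nat_lit 4) (nat_lit 0x300030c0c0c0c03030f030f0c0003030f0f03000f030c0c0c0c030c000f) (Net.cons (nat_lit 2) (nat_lit 0x300003033300300333300003333330333000000300030303300003003333) (Net.cons (nat_lit 1) (nat_lit 0x100004041440445404141044551114445540515514405110415011051155) Net.nil))))))))))))))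

theorem c_g7_ok : Net.ok 240 c_g7 = true := by decide +kernel

noncomputable def c_g8 : Net := (Net.cons (nat_lit 2) (nat_lit 0x3330300003333030300300000033030000003303300333300300330000) (Net.cons (nat_lit 4) (nat_lit 0xf030c0f000f0f0c0c00030f0f0c0f0c0003000c0f0f000f0f000c0300) (Net.cons (nat_lit 8) (nat_lit 0x300f300c0003f0003003c000300fc000f00cc00cf000c0030003c0000) (Net.cons (nat_lit 16) (nat_lit 0xc00c0000000300000fc3000000cc00000fff0000030c00000c00) (Net.cons (nat_lit 32) (nat_lit 0xc3cc030f000000003fc003330000000003000000) (Net.cons (nat_lit 64) (nat_lit 0xc00030c00c030000000000000000030c000000000000) (Net.cons (nat_lit 128) (nat_lit 0xc00030c00cc3030c030c00000000) (Net.cons (nat_lit 64) (nat_lit 0xc0c0cfcffcc300000000000000000ccc0333c0000000) (Net.cons (nat_lit 32) (nat_lit 0xfff00000000c3cc33cc000000003ff0c3ff00000000ccccf0c0) (Net.cons (nat_lit 16) (nat_lit 0xf3000000f00000003cc30000f0cc0000c33f00000c0f0000003c)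 (Net.cons (nat_lit 8) (nat_lit 0xf30003000000cf00330003003c000f000f000f00fc003f00f0000f) (Net.cons (nat_lit 4) (nat_lit 0xf0c030f00030c0f0f00000f0f0c0f000003000f0f0f000f0f000f0300) (Net.cons (nat_lit 2) (nat_lit 0x300303030300000030303003330333003300003003000330000303330000) (Net.cons (nat_lit 1) (nat_lit 0x504411100011045111510000000010411014041455000455500044440000) Net.nil))))))))))))))

theorem c_g8_ok : Net.ok 240 c_g8 = true := by decide +kernel

noncomputable def c_g9 : Net := (Net.cons (nat_lit 2) (nat_lit 0x30000000003330330330000033300033003030000300033003033333030) (Net.cons (nat_lit 4) (nat_lit 0xf00000c0f03000c0f0c0c03000f000c00000f030303030c000c00000c00) (Net.cons (nat_lit 8) (nat_lit 0xc000c0003000ff00f0003c0000000f000300c0003000cf000c003c0000) (Net.cons (nat_lit 16) (nat_lit 0x3cf000003030000000fc000030030000fcf30000300000000000) (Net.cons (nat_lit 32) (nat_lit 0xc00000000ccfccc000000000000cc30cf0000000000000000)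 (Net.cons (nat_lit 64) (nat_lit 0x3ccf3000000000000000030c0000000000000) (Net.cons (nat_lit 128) (nat_lit 0xc3ccf330f0000000000000) (Net.cons (nat_lit 64) (nat_lit 0xfc3fccff000000000000000033cc33fff0000000) (Net.cons (nat_lit 32) (nat_lit 0xfc3c00000000cffcff00000000000cfc30cf000000000cc30c00) (Net.cons (nat_lit 16) (nat_lit 0x3cf0000030f000000cfc000033030000fcff0000ff0c00000f3c) (Net.cons (nat_lit 8) (nat_lit 0xc000c0003000ff00f0003c0000000f000300c0003000cf000c003c00f3) (Net.cons (nat_lit 4) (nat_lit 0xf00000c0f03000c0f0c0c03000f000c0c000f030303030c000c03000f03) (Net.cons (nat_lit 2) (nat_lit 0x30000000003330330330000033300033003030000300033003033333030) (Net.cons (nat_lit 1) (nat_lit 0x110100041010140544000544054011401545100414010004040040400100) Net.nil))))))))))))))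

theorem c_g9_ok : Net.ok 240 c_g9 = true := by decide +kernel

noncomputable def c_g10 : Net := (Net.cons (nat_lit 1) (nat_lit 0x555555555555555555555555555555555555555555555555555555555555) Net.nil)

theorem c_g10_ok : Net.ok 240 c_g10 = true := by decide +kernel

noncomputable def cx_E : List Net := [c_g1, c_g2, c_g3, c_g4, c_g5, c_g6, c_g7, c_g8, c_g9, c_g10]

theorem cx_E_ok : okE 240 cx_E = true := (okE_cons.2 ⟨c_g1_ok, (okE_cons.2 ⟨c_g2_ok, (okE_cons.2 ⟨c_g3_ok, (okE_cons.2 ⟨c_g4_ok, (okE_cons.2 ⟨c_g5_ok, (okE_cons.2 ⟨c_g6_ok, (okE_cons.2 ⟨c_g7_ok, (okE_cons.2 ⟨c_g8_ok, (okE_cons.2 ⟨c_g9_ok, (okE_cons.2 ⟨c_g10_ok, (okE_nil 240)⟩)⟩)⟩)⟩)⟩)⟩)⟩)⟩)⟩)⟩)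

def cx_code : List ℕ := [0, 0, 2, 4, 6, 8, 10, 12, 14, 16, 18]

theorem cx_z : Cen (H44.gp 240 cx_E cx_code) 9 [[10]] :=
  cen_of_cenN c_hn c_hk cx_E_ok (by decide +kernel)

theorem cx_cenL : Cen (H44.gp 240 cx_E cx_code) 9 (PresS6.R) :=
  cen_of_cenZ (m := 2) c_hn c_hk cx_E_ok cx_z (by decide +kernel)

theorem cx_cen : Cen (H44.gp 240 cx_E cx_code) 9 PresS6.R :=
  cx_cenL

theorem x1 : orderOf (cmw (H44.gp 240 cx_E cx_code) [1] [2] 1) = 2 :=
  ((congrArg orderOf (cmw_eq_of_beq c_hn c_hk cx_E_ok (w := [10]) (by decide +kernel))).trans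
      (orderOf_gp (p := 2) (e := 0) c_hn c_hk cx_E_ok (by norm_num) (by decide +kernel) (by decide +kernel)))

theorem mult : Cfsg.HasCyclicSchurMultiplier (grp 63 p_E) 2 :=
  u_bound.finish_cyclic (p_pres.mElt cx_cen (by decide) (by decide) com1 x1)

end Cfsg.Agent.H74.MS6
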