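import Cfsg.Agent.H44.Coset
import Cfsg.Agent.H44.Perm3

set_option autoImplicit false
set_option maxRecDepth 1000000
set_option linter.all false
set_option Elab.async false

namespace Cfsg.Agent.H74.PresU43.L0
open Cfsg.Agent.H44

noncomputable def rT0 : Tr :=
 (.leaf (nat_lit 0x9020e1650))
noncomputable def gT0 : Tr :=
 (.leaf (nat_lit 0))
/-- The relators. -/
def R : List (List ℕ) := [[1, 2],
  [1, 1, 1]]
/-- The subgroup generators. -/
def S : List (List ℕ) := []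
def Wr : List (List ℕ) := [[1, 2],
  [2, 1],
  [2, 2, 2]]
def Wn : List (List ℕ) := []
def cr : List (ℕ × ℕ × ℕ) := [(0, 0, 0), (0, 0, 0), (2, 1, 0)]
def cn : List (ℕ × ℕ × ℕ) := []
noncomputable def rT : Tr := rT0
noncomputable def gT : Tr := gT0
noncomputable def rC (i : ℕ) : ℕ := rT.get (nat_lit 0) i
noncomputable def gC (i : ℕ) : ℕ := gT.get (nat_lit 0) i
noncomputable def row (p : ℕ) : ℕ := rec2 rC (nat_lit 8) (nat_lit 255) (nat_lit 12) (nat_lit 4095) p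
noncomputable def gf (p : ℕ) : ℕ := rec2 gC (nat_lit 9) (nat_lit 511) (nat_lit 8) (nat_lit 255) p
noncomputable def gw (c : ℕ) : List ℕ := nth [] Wr c
noncomputable def wn (c : ℕ) : ℕ := pack (nat_lit 2) (nth [] Wn c) (nat_lit 0)
noncomputable def C : Cert :=
  { n := (nat_lit 3), na := (nat_lit 0), M := (nat_lit 0), nc := (nat_lit 2), W := (nat_lit 2), EB := (nat_lit 4),
    LB := (nat_lit 2), nreg := (nat_lit 3), ivT := (nat_lit 24), base := (nat_lit 0),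
    row := row, gf := gf, gw := gw, wn := wn }
theorem masks : Masks C (nat_lit 3) (nat_lit 15) (nat_lit 3) (nat_lit 6) (nat_lit 63) :=
  ⟨by decide +kernel, by decide +kernel, by decide +kernel, by decide +kernel, by decide +kernel⟩
noncomputable def rchk : ℕ → ℕ → ℕ → Bool :=
  rowChk row gf gw (nat_lit 3) (nat_lit 0) (nat_lit 2) (nat_lit 2) (nat_lit 3) (nat_lit 4) (nat_lit 15) (nat_lit 2) (nat_lit 3) (nat_lit 6) (nat_lit 63) (nat_lit 3) (nat_lit 24) (nat_lit 1) (nat_lit 1) (nat_lit 6) (nat_lit 63)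
noncomputable def fchk : ℕ → ℕ → ℕ → Bool :=
  auxRun row gf wn (nat_lit 3) (nat_lit 0) (nat_lit 0) (nat_lit 2) (nat_lit 2) (nat_lit 3) (nat_lit 4) (nat_lit 15) (nat_lit 2) (nat_lit 3) (nat_lit 6) (nat_lit 24) (nat_lit 0) (nat_lit 2) (nat_lit 3)
theorem rows_of {lo hi : ℕ} {t : JL} (h : t.run rchk (nat_lit 12) hi lo = true) : C.RowsOK lo hi :=
  rowsOK_of_run masks h
theorem facts_of {lo hi : ℕ} {t : JL} (h : t.run fchk (nat_lit 20) hi lo = true) : C.FactsOK lo hi :=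
  factsOK_of_run masks h
theorem words_ok : wordsChk 3 2 2 2 3 24 0 R S Wr Wn cr cn = true := by
  decide +kernel
noncomputable def j0 : JL :=
(.cons (nat_lit 3) (nat_lit 0xc0001081) (nat_lit 0)
.nil)
theorem t0 : C.RowsOK (nat_lit 0) (nat_lit 3) :=
  rows_of (t := j0) (by decide +kernel)
theorem checked : Checked C R S :=
  ⟨⟨Wr, Wn, cr, cn, fun _ => rfl, fun _ => rfl, words_ok⟩, t0,
    fun _ _ h => absurd h (Nat.not_lt_zero _)⟩

/-- In any group whose elements `g 1, …, g 2` satisfy the relators `R`, a subgroup containing the words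
of `S` has index at most 3 in the subgroup generated by these elements. -/
theorem idxLe {G : Type*} [Group G] {g : ℕ → G} (hg : Sat g R) {H : Subgroup G}
    (hS : ∀ s ∈ S, ev g s ∈ H) : IdxLe H (gen g 2) 3 :=
  checked.idxLe hg hS

end Cfsg.Agent.H74.PresU43.L0

namespace Cfsg.Agent.H74.PresU43.L1
open Cfsg.Agent.H44

noncomputable def rT0 : Tr :=
 (.leaf (nat_lit 0x901648400e3510c614c200))
noncomputable def gT0 : Tr :=
 (.leaf (nat_lit 0x110050))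
/-- The relators. -/
def R : List (List ℕ) := [[1, 2],
  [3, 4],
  [1, 1, 1],
  [3, 3, 3],
  [4, 1, 3, 2]]
/-- The subgroup generators. -/
def S : List (List ℕ) := [[1],
  [2]]
def Wr : List (List ℕ) := [[2, 1],
  [3, 4],
  [4, 3],
  [1, 2],
  [2, 4, 1, 3],
  [1, 3, 2, 4],
  [4, 4, 4]]
def Wn : List (List ℕ) := [[1, 5]]
def cr : List (ℕ × ℕ × ℕ) := [(0, 0, 0), (0, 0, 0), (0, 0, 0), (0, 0, 0), (1, 4, 3), (1, 4, 1), (2, 3, 0)]
def cn : List (ℕ × ℕ × ℕ) := [(1, 5, 0)]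
noncomputable def rT : Tr := rT0
noncomputable def gT : Tr := gT0
noncomputable def rC (i : ℕ) : ℕ := rT.get (nat_lit 0) i
noncomputable def gC (i : ℕ) : ℕ := gT.get (nat_lit 0) i
noncomputable def row (p : ℕ) : ℕ := rec2 rC (nat_lit 7) (nat_lit 127) (nat_lit 30) (nat_lit 0x3fffffff) p
noncomputable def gf (p : ℕ) : ℕ := rec2 gC (nat_lit 8) (nat_lit 255) (nat_lit 12) (nat_lit 4095) p
noncomputable def gw (c : ℕ) : List ℕ := nth [] Wr c
noncomputable def wn (c : ℕ) : ℕ := pack (nat_lit 4) (nth [] Wn c) (nat_lit 0)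
noncomputable def C : Cert :=
  { n := (nat_lit 3), na := (nat_lit 0), M := (nat_lit 2), nc := (nat_lit 4), W := (nat_lit 2), EB := (nat_lit 6),
    LB := (nat_lit 4), nreg := (nat_lit 7), ivT := (nat_lit 0x785634120), base := (nat_lit 160),
    row := row, gf := gf, gw := gw, wn := wn }
theorem masks : Masks C (nat_lit 3) (nat_lit 63) (nat_lit 15) (nat_lit 8) (nat_lit 255) :=
  ⟨by decide +kernel, by decide +kernel, by decide +kernel, by decide +kernel, by decide +kernel⟩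
noncomputable def rchk : ℕ → ℕ → ℕ → Bool :=
  rowChk row gf gw (nat_lit 3) (nat_lit 2) (nat_lit 4) (nat_lit 2) (nat_lit 3) (nat_lit 6) (nat_lit 63) (nat_lit 4) (nat_lit 15) (nat_lit 8) (nat_lit 255) (nat_lit 7) (nat_lit 0x785634120) (nat_lit 1) (nat_lit 1) (nat_lit 7) (nat_lit 127)
noncomputable def fchk : ℕ → ℕ → ℕ → Bool :=
  auxRun row gf wn (nat_lit 3) (nat_lit 0) (nat_lit 2) (nat_lit 4) (nat_lit 2) (nat_lit 3) (nat_lit 6) (nat_lit 63) (nat_lit 4) (nat_lit 15) (nat_lit 8) (nat_lit 0x785634120) (nat_lit 160) (nat_lit 4) (nat_lit 15)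
theorem rows_of {lo hi : ℕ} {t : JL} (h : t.run rchk (nat_lit 28) hi lo = true) : C.RowsOK lo hi :=
  rowsOK_of_run masks h
theorem facts_of {lo hi : ℕ} {t : JL} (h : t.run fchk (nat_lit 20) hi lo = true) : C.FactsOK lo hi :=
  factsOK_of_run masks h
theorem words_ok : wordsChk 3 4 2 4 7 32302645536 160 R S Wr Wn cr cn = true := by
  decide +kernel
noncomputable def j0 : JL :=
(.cons (nat_lit 3) (nat_lit 0xe0008600082840608088) (nat_lit 1)
.nil)
theorem t0 : C.RowsOK (nat_lit 0) (nat_lit 3) :=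
  rows_of (t := j0) (by decide +kernel)
noncomputable def j1 : JL :=
(.cons (nat_lit 2) (nat_lit 0x1800000) (nat_lit 0x4001001000000)
.nil)
theorem t1 : C.FactsOK (nat_lit 0) (nat_lit 2) :=
  facts_of (t := j1) (by decide +kernel)
theorem checked : Checked C R S :=
  ⟨⟨Wr, Wn, cr, cn, fun _ => rfl, fun _ => rfl, words_ok⟩, t0,
    t1⟩

/-- In any group whose elements `g 1, …, g 4` satisfy the relators `R`, a subgroup containing the words
of `S` has index at most 3 in the subgroup generated by these elements. -/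
theorem idxLe {G : Type*} [Group G] {g : ℕ → G} (hg : Sat g R) {H : Subgroup G}
    (hS : ∀ s ∈ S, ev g s ∈ H) : IdxLe H (gen g 4) 3 :=
  checked.idxLe hg hS

end Cfsg.Agent.H74.PresU43.L1

namespace Cfsg.Agent.H74.PresU43.L2
open Cfsg.Agent.H44

noncomputable def rT0 : Tr :=
 (.leaf (nat_lit 0x24e93946621880))
noncomputable def gT0 : Tr :=
 (.leaf (nat_lit 0x130440a018))
/-- The relators. -/
def R : List (List ℕ) := [[1, 2],
  [3, 4],
  [5, 5],
  [1, 1, 1],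
  [3, 3, 3],
  [4, 1, 3, 2],
  [1, 5, 1, 5],
  [3, 5, 3, 5]]
/-- The subgroup generators. -/
def S : List (List ℕ) := [[1],
  [2],
  [3],
  [4]]
def Wr : List (List ℕ) := [[2, 1],
  [4, 3],
  [5, 5],
  [1, 5, 1, 5],
  [3, 5, 3, 5]]
def Wn : List (List ℕ) := [[1, 6],
  [3, 10]]
def cr : List (ℕ × ℕ × ℕ) := [(0, 0, 0), (0, 0, 0), (0, 0, 0), (1, 6, 0), (1, 7, 0)]
def cn : List (ℕ × ℕ × ℕ) := [(1, 8, 0), (1, 10, 0)]
noncomputable def rT : Tr := rT0
noncomputable def gT : Tr := gT0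
noncomputable def rC (i : ℕ) : ℕ := rT.get (nat_lit 0) i
noncomputable def gC (i : ℕ) : ℕ := gT.get (nat_lit 0) i
noncomputable def row (p : ℕ) : ℕ := rec2 rC (nat_lit 7) (nat_lit 127) (nat_lit 30) (nat_lit 0x3fffffff) p
noncomputable def gf (p : ℕ) : ℕ := rec2 gC (nat_lit 9) (nat_lit 511) (nat_lit 10) (nat_lit 1023) p
noncomputable def gw (c : ℕ) : List ℕ := nth [] Wr c
noncomputable def wn (c : ℕ) : ℕ := pack (nat_lit 4) (nth [] Wn c) (nat_lit 0)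
noncomputable def C : Cert :=
  { n := (nat_lit 2), na := (nat_lit 0), M := (nat_lit 4), nc := (nat_lit 5), W := (nat_lit 1), EB := (nat_lit 5),
    LB := (nat_lit 4), nreg := (nat_lit 5), ivT := (nat_lit 0xcdab8967534120), base := (nat_lit 5440),
    row := row, gf := gf, gw := gw, wn := wn }
theorem masks : Masks C (nat_lit 1) (nat_lit 31) (nat_lit 15) (nat_lit 6) (nat_lit 63) :=
  ⟨by decide +kernel, by decide +kernel, by decide +kernel, by decide +kernel, by decide +kernel⟩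
noncomputable def rchk : ℕ → ℕ → ℕ → Bool :=
  rowChk row gf gw (nat_lit 2) (nat_lit 4) (nat_lit 5) (nat_lit 1) (nat_lit 1) (nat_lit 5) (nat_lit 31) (nat_lit 4) (nat_lit 15) (nat_lit 6) (nat_lit 63) (nat_lit 5) (nat_lit 0xcdab8967534120) (nat_lit 2) (nat_lit 3) (nat_lit 7) (nat_lit 127)
noncomputable def fchk : ℕ → ℕ → ℕ → Bool :=
  auxRun row gf wn (nat_lit 2) (nat_lit 0) (nat_lit 4) (nat_lit 5) (nat_lit 1) (nat_lit 1) (nat_lit 5) (nat_lit 31) (nat_lit 4) (nat_lit 15) (nat_lit 6) (nat_lit 0xcdab8967534120) (nat_lit 5440) (nat_lit 4) (nat_lit 15)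
theorem rows_of {lo hi : ℕ} {t : JL} (h : t.run rchk (nat_lit 35) hi lo = true) : C.RowsOK lo hi :=
  rowsOK_of_run masks h
theorem facts_of {lo hi : ℕ} {t : JL} (h : t.run fchk (nat_lit 20) hi lo = true) : C.FactsOK lo hi :=
  factsOK_of_run masks h
theorem words_ok : wordsChk 2 5 1 4 5 57890976858063136 5440 R S Wr Wn cr cn = true := by
  decide +kernel
noncomputable def j0 : JL :=
(.cons (nat_lit 2) (nat_lit 0x20a04203041c086) (nat_lit 14)
.nil)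
theorem t0 : C.RowsOK (nat_lit 0) (nat_lit 2) :=
  rows_of (t := j0) (by decide +kernel)
noncomputable def j1 : JL :=
(.cons (nat_lit 4) (nat_lit 0x4c000300001800000) (nat_lit 0x70010025001001000000000000)
.nil)
theorem t1 : C.FactsOK (nat_lit 0) (nat_lit 4) :=
  facts_of (t := j1) (by decide +kernel)
theorem checked : Checked C R S :=
  ⟨⟨Wr, Wn, cr, cn, fun _ => rfl, fun _ => rfl, words_ok⟩, t0,
    t1⟩

/-- In any group whose elements `g 1, …, g 5` satisfy the relators `R`, a subgroup containing the words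
of `S` has index at most 2 in the subgroup generated by these elements. -/
theorem idxLe {G : Type*} [Group G] {g : ℕ → G} (hg : Sat g R) {H : Subgroup G}
    (hS : ∀ s ∈ S, ev g s ∈ H) : IdxLe H (gen g 5) 2 :=
  checked.idxLe hg hS

end Cfsg.Agent.H74.PresU43.L2

namespace Cfsg.Agent.H74.PresU43.L3
open Cfsg.Agent.H44

noncomputable def rT0 : Tr :=
 (.leaf (nat_lit 0xcd038241e0d0662b80c48453b99cca02231588c76331186a022b890ea65228d002351b95088250c05c44013194c48160a80466422908c0014098488231030444030100c04000))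
noncomputable def gT0 : Tr :=
 (.leaf (nat_lit 0x94002300084000f0002c000700))
/-- The relators. -/
def R : List (List ℕ) := [[1, 2],
  [3, 4],
  [5, 5],
  [6, 6],
  [1, 1, 1],
  [3, 3, 3],
  [4, 1, 3, 2],
  [1, 5, 1, 5],
  [3, 5, 3, 5],
  [1, 6, 1, 6],
  [5, 6, 5, 6, 5, 6],
  [6, 4, 6, 3, 6, 3, 6, 4],
  [3, 5, 6, 3, 5, 6, 3, 5, 6]]
/-- The subgroup generators. -/
def S : List (List ℕ) := [[1],
  [2],
  [3],
  [4],
  [5]]
def Wr : List (List ℕ) := [[2, 1],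
  [4, 3],
  [6, 6],
  [1, 6, 1, 6],
  [3, 4],
  [5, 5],
  [1, 2],
  [2, 4, 1, 3],
  [1, 3, 2, 4],
  [4, 4, 4],
  [1, 5, 1, 5],
  [6, 5, 6, 5, 6, 5],
  [3, 5, 3, 5],
  [6, 3, 5, 6, 3, 5, 6, 3, 5],
  [3, 6, 4, 6, 4, 6, 3, 6],
  [5, 6, 5, 6, 5, 6],
  [4, 5, 4, 5],
  [4, 6, 3, 6, 3, 6, 4, 6]]
def Wn : List (List ℕ) := [[1, 7],
  [3, 11],
  [5, 15]]
def cr : List (ℕ × ℕ × ℕ) := [(0, 0, 0), (0, 0, 0), (0, 0, 0), (1, 9, 0), (0, 0, 0), (0, 0, 0), (0, 0, 0), (1, 6, 3), (1, 6, 1), (2, 5, 0), (1, 7, 0), (1, 10, 1), (1, 8, 0), (1, 12, 2), (1, 11, 5), (1, 10, 0), (2, 8, 1), (1, 11, 1)]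
def cn : List (ℕ × ℕ × ℕ) := [(1, 13, 0), (1, 15, 0), (1, 17, 0)]
noncomputable def rT : Tr := rT0
noncomputable def gT : Tr := gT0
noncomputable def rC (i : ℕ) : ℕ := rT.get (nat_lit 0) i
noncomputable def gC (i : ℕ) : ℕ := gT.get (nat_lit 0) i
noncomputable def row (p : ℕ) : ℕ := rec2 rC (nat_lit 6) (nat_lit 63) (nat_lit 63) (nat_lit 0x7fffffffffffffff) p
noncomputable def gf (p : ℕ) : ℕ := rec2 gC (nat_lit 8) (nat_lit 255) (nat_lit 18) (nat_lit 262143) p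
noncomputable def gw (c : ℕ) : List ℕ := nth [] Wr c
noncomputable def wn (c : ℕ) : ℕ := pack (nat_lit 5) (nth [] Wn c) (nat_lit 0)
noncomputable def C : Cert :=
  { n := (nat_lit 9), na := (nat_lit 0), M := (nat_lit 6), nc := (nat_lit 6), W := (nat_lit 4), EB := (nat_lit 9),
    LB := (nat_lit 5), nreg := (nat_lit 18), ivT := (nat_lit 0xf835cb62547418a320440), base := (nat_lit 43648),
    row := row, gf := gf, gw := gw, wn := wn }
theorem masks : Masks C (nat_lit 15) (nat_lit 511) (nat_lit 31) (nat_lit 13) (nat_lit 8191) :=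
  ⟨by decide +kernel, by decide +kernel, by decide +kernel, by decide +kernel, by decide +kernel⟩
noncomputable def rchk : ℕ → ℕ → ℕ → Bool :=
  rowChk row gf gw (nat_lit 9) (nat_lit 6) (nat_lit 6) (nat_lit 4) (nat_lit 15) (nat_lit 9) (nat_lit 511) (nat_lit 5) (nat_lit 31) (nat_lit 13) (nat_lit 8191) (nat_lit 18) (nat_lit 0xf835cb62547418a320440) (nat_lit 3) (nat_lit 7) (nat_lit 7) (nat_lit 127)
noncomputable def fchk : ℕ → ℕ → ℕ → Bool :=
  auxRun row gf wn (nat_lit 9) (nat_lit 0) (nat_lit 6) (nat_lit 6) (nat_lit 4) (nat_lit 15) (nat_lit 9) (nat_lit 511) (nat_lit 5) (nat_lit 31) (nat_lit 13) (nat_lit 0xf835cb62547418a320440) (nat_lit 43648) (nat_lit 5) (nat_lit 31)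
theorem rows_of {lo hi : ℕ} {t : JL} (h : t.run rchk (nat_lit 42) hi lo = true) : C.RowsOK lo hi :=
  rowsOK_of_run masks h
theorem facts_of {lo hi : ℕ} {t : JL} (h : t.run fchk (nat_lit 20) hi lo = true) : C.FactsOK lo hi :=
  factsOK_of_run masks h
theorem words_ok : wordsChk 9 6 4 5 18 18754227528905178280494144 43648 R S Wr Wn cr cn = true := by
  decide +kernel
noncomputable def j0 : JL :=
(.cons (nat_lit 9) (nat_lit 0x1024140841c0088d022c010043c0841c0010d022c600041408b061850002241860014407001810502101950450093) (nat_lit 355)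
.nil)
theorem t0 : C.RowsOK (nat_lit 0) (nat_lit 9) :=
  rows_of (t := j0) (by decide +kernel)
noncomputable def j1 : JL :=
(.cons (nat_lit 6) (nat_lit 0x820006500048000300001800000) (nat_lit 0x2800400d00020046001001000000000000000000)
.nil)
theorem t1 : C.FactsOK (nat_lit 0) (nat_lit 6) :=
  facts_of (t := j1) (by decide +kernel)
theorem checked : Checked C R S :=
  ⟨⟨Wr, Wn, cr, cn, fun _ => rfl, fun _ => rfl, words_ok⟩, t0,
    t1⟩

/-- In any group whose elements `g 1, …, g 6` satisfy the relators `R`, a subgroup containing the words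
of `S` has index at most 9 in the subgroup generated by these elements. -/
theorem idxLe {G : Type*} [Group G] {g : ℕ → G} (hg : Sat g R) {H : Subgroup G}
    (hS : ∀ s ∈ S, ev g s ∈ H) : IdxLe H (gen g 6) 9 :=
  checked.idxLe hg hS

end Cfsg.Agent.H74.PresU43.L3

namespace Cfsg.Agent.H74.PresU43.L4
open Cfsg.Agent.H44

noncomputable def rT0 : Tr :=
 (.leaf (nat_lit 0x1c340962468b2500483111a548870a2040c1030400))
noncomputable def gT0 : Tr :=
 (.leaf (nat_lit 0x98025008c021004801000300080))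
/-- The relators. -/
def R : List (List ℕ) := [[1, 2],
  [3, 4],
  [5, 5],
  [6, 6],
  [7, 7],
  [1, 1, 1],
  [3, 3, 3],
  [4, 1, 3, 2],
  [1, 5, 1, 5],
  [3, 5, 3, 5],
  [1, 6, 1, 6],
  [5, 6, 5, 6, 5, 6],
  [6, 4, 6, 3, 6, 3, 6, 4],
  [3, 5, 6, 3, 5, 6, 3, 5, 6],
  [3, 7, 3, 7],
  [5, 6, 7, 5, 6, 7],
  [5, 7, 5, 7, 5, 7],
  [7, 1, 7, 6, 4, 6, 4, 1]]
/-- The subgroup generators. -/
def S : List (List ℕ) := [[1],
  [2],
  [3],
  [4],
  [5],
  [6]]
def Wr : List (List ℕ) := [[2, 1],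
  [4, 3],
  [7, 7],
  [1, 7, 6, 4, 6, 4, 1, 7],
  [3, 7, 3, 7],
  [5, 5],
  [6, 6],
  [1, 5, 1, 5],
  [3, 5, 3, 5],
  [6, 7, 5, 6, 7, 5],
  [7, 5, 7, 5, 7, 5]]
def Wn : List (List ℕ) := [[1, 8],
  [3, 12],
  [5, 16],
  [6, 18]]
def cr : List (ℕ × ℕ × ℕ) := [(0, 0, 0), (0, 0, 0), (0, 0, 0), (1, 17, 1), (1, 14, 0), (0, 0, 0), (0, 0, 0), (1, 8, 0), (1, 9, 0), (1, 15, 1), (1, 16, 1)]
def cn : List (ℕ × ℕ × ℕ) := [(1, 18, 0), (1, 20, 0), (1, 22, 0), (1, 23, 0)]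
noncomputable def rT : Tr := rT0
noncomputable def gT : Tr := gT0
noncomputable def rC (i : ℕ) : ℕ := rT.get (nat_lit 0) i
noncomputable def gC (i : ℕ) : ℕ := gT.get (nat_lit 0) i
noncomputable def row (p : ℕ) : ℕ := rec2 rC (nat_lit 6) (nat_lit 63) (nat_lit 56) (nat_lit 0xffffffffffffff) p
noncomputable def gf (p : ℕ) : ℕ := rec2 gC (nat_lit 8) (nat_lit 255) (nat_lit 14) (nat_lit 16383) p
noncomputable def gw (c : ℕ) : List ℕ := nth [] Wr c
noncomputable def wn (c : ℕ) : ℕ := pack (nat_lit 5) (nth [] Wn c) (nat_lit 0)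
noncomputable def C : Cert :=
  { n := (nat_lit 3), na := (nat_lit 0), M := (nat_lit 8), nc := (nat_lit 7), W := (nat_lit 2), EB := (nat_lit 7),
    LB := (nat_lit 5), nreg := (nat_lit 11), ivT := (nat_lit 0x94e1173d8d52d09398a320440), base := (nat_lit 349440),
    row := row, gf := gf, gw := gw, wn := wn }
theorem masks : Masks C (nat_lit 3) (nat_lit 127) (nat_lit 31) (nat_lit 9) (nat_lit 511) :=
  ⟨by decide +kernel, by decide +kernel, by decide +kernel, by decide +kernel, by decide +kernel⟩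
noncomputable def rchk : ℕ → ℕ → ℕ → Bool :=
  rowChk row gf gw (nat_lit 3) (nat_lit 8) (nat_lit 7) (nat_lit 2) (nat_lit 3) (nat_lit 7) (nat_lit 127) (nat_lit 5) (nat_lit 31) (nat_lit 9) (nat_lit 511) (nat_lit 11) (nat_lit 0x94e1173d8d52d09398a320440) (nat_lit 3) (nat_lit 7) (nat_lit 7) (nat_lit 127)
noncomputable def fchk : ℕ → ℕ → ℕ → Bool :=
  auxRun row gf wn (nat_lit 3) (nat_lit 0) (nat_lit 8) (nat_lit 7) (nat_lit 2) (nat_lit 3) (nat_lit 7) (nat_lit 127) (nat_lit 5) (nat_lit 31) (nat_lit 9) (nat_lit 0x94e1173d8d52d09398a320440) (nat_lit 349440) (nat_lit 5) (nat_lit 31)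
theorem rows_of {lo hi : ℕ} {t : JL} (h : t.run rchk (nat_lit 49) hi lo = true) : C.RowsOK lo hi :=
  rowsOK_of_run masks h
theorem facts_of {lo hi : ℕ} {t : JL} (h : t.run fchk (nat_lit 20) hi lo = true) : C.FactsOK lo hi :=
  factsOK_of_run masks h
theorem words_ok : wordsChk 3 7 2 5 11 737214392205380596375628153920 349440 R S Wr Wn cr cn = true := by
  decide +kernel
noncomputable def j0 : JL :=
(.cons (nat_lit 3) (nat_lit 0xb140010902200070c08281080c78e043408c) (nat_lit 4012)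
.nil)
theorem t0 : C.RowsOK (nat_lit 0) (nat_lit 3) :=
  rows_of (t := j0) (by decide +kernel)
noncomputable def j1 : JL :=
(.cons (nat_lit 8) (nat_lit 0xb70009a0007d0006000048000300001800000) (nat_lit 0x68008022c00400d20020047001001000000000000000000000000)
.nil)
theorem t1 : C.FactsOK (nat_lit 0) (nat_lit 8) :=
  facts_of (t := j1) (by decide +kernel)
theorem checked : Checked C R S :=
  ⟨⟨Wr, Wn, cr, cn, fun _ => rfl, fun _ => rfl, words_ok⟩, t0,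
    t1⟩

/-- In any group whose elements `g 1, …, g 7` satisfy the relators `R`, a subgroup containing the words
of `S` has index at most 3 in the subgroup generated by these elements. -/
theorem idxLe {G : Type*} [Group G] {g : ℕ → G} (hg : Sat g R) {H : Subgroup G}
    (hS : ∀ s ∈ S, ev g s ∈ H) : IdxLe H (gen g 7) 3 :=
  checked.idxLe hg hS

end Cfsg.Agent.H74.PresU43.L4

namespace Cfsg.Agent.H74.PresU43.L5
open Cfsg.Agent.H44

noncomputable def rT0 : Tr :=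
 (.leaf (nat_lit 0x84d344f34f3482c3104106106100))
noncomputable def gT0 : Tr :=
 (.leaf (nat_lit 0x9c09809408c084058050048038028))
/-- The relators. -/
def R : List (List ℕ) := [[1, 2],
  [3, 4],
  [5, 5],
  [6, 6],
  [7, 7],
  [8, 9],
  [1, 1, 1],
  [3, 3, 3],
  [4, 1, 3, 2],
  [1, 5, 1, 5],
  [3, 5, 3, 5],
  [1, 6, 1, 6],
  [5, 6, 5, 6, 5, 6],
  [6, 4, 6, 3, 6, 3, 6, 4],
  [3, 5, 6, 3, 5, 6, 3, 5, 6],
  [3, 7, 3, 7],
  [5, 6, 7, 5, 6, 7],
  [5, 7, 5, 7, 5, 7],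
  [7, 1, 7, 6, 4, 6, 4, 1],
  [8, 8, 5, 3, 2],
  [9, 1, 8, 5, 6, 3, 1],
  [9, 3, 8, 1, 7, 5, 4]]
/-- The subgroup generators. -/
def S : List (List ℕ) := [[1],
  [2],
  [3],
  [4],
  [5],
  [6],
  [7]]
def Wr : List (List ℕ) := [[2, 1],
  [4, 3],
  [8, 9],
  [9, 8],
  [1, 8, 5, 6, 3, 1, 9],
  [3, 8, 1, 7, 5, 4, 9],
  [5, 9, 9, 1, 4],
  [6, 3, 1, 9, 1, 8, 5],
  [7, 5, 4, 9, 3, 8, 1],
  [8, 5, 3, 2, 8]]
def Wn : List (List ℕ) := [[1, 10],
  [3, 14],
  [5, 18],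
  [6, 20],
  [7, 22]]
def cr : List (ℕ × ℕ × ℕ) := [(0, 0, 0), (0, 0, 0), (0, 0, 0), (0, 0, 0), (1, 20, 1), (1, 21, 1), (2, 19, 2), (1, 20, 4), (1, 21, 4), (1, 19, 1)]
def cn : List (ℕ × ℕ × ℕ) := [(1, 22, 0), (1, 24, 0), (1, 26, 0), (1, 27, 0), (1, 28, 0)]
noncomputable def rT : Tr := rT0
noncomputable def gT : Tr := gT0
noncomputable def rC (i : ℕ) : ℕ := rT.get (nat_lit 0) i
noncomputable def gC (i : ℕ) : ℕ := gT.get (nat_lit 0) i
noncomputable def row (p : ℕ) : ℕ := rec2 rC (nat_lit 6) (nat_lit 63) (nat_lit 60) (nat_lit 0xfffffffffffffff) p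
noncomputable def gf (p : ℕ) : ℕ := rec2 gC (nat_lit 8) (nat_lit 255) (nat_lit 12) (nat_lit 4095) p
noncomputable def gw (c : ℕ) : List ℕ := nth [] Wr c
noncomputable def wn (c : ℕ) : ℕ := pack (nat_lit 5) (nth [] Wn c) (nat_lit 0)
noncomputable def C : Cert :=
  { n := (nat_lit 2), na := (nat_lit 0), M := (nat_lit 10), nc := (nat_lit 9), W := (nat_lit 1), EB := (nat_lit 6),
    LB := (nat_lit 5), nreg := (nat_lit 10), ivT := (nat_lit 0xb5e9594e1173d8d52d09398a320440), base := (nat_lit 0x555400),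
    row := row, gf := gf, gw := gw, wn := wn }
theorem masks : Masks C (nat_lit 1) (nat_lit 63) (nat_lit 31) (nat_lit 7) (nat_lit 127) :=
  ⟨by decide +kernel, by decide +kernel, by decide +kernel, by decide +kernel, by decide +kernel⟩
noncomputable def rchk : ℕ → ℕ → ℕ → Bool :=
  rowChk row gf gw (nat_lit 2) (nat_lit 10) (nat_lit 9) (nat_lit 1) (nat_lit 1) (nat_lit 6) (nat_lit 63) (nat_lit 5) (nat_lit 31) (nat_lit 7) (nat_lit 127) (nat_lit 10) (nat_lit 0xb5e9594e1173d8d52d09398a320440) (nat_lit 4) (nat_lit 15) (nat_lit 8) (nat_lit 255)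
noncomputable def fchk : ℕ → ℕ → ℕ → Bool :=
  auxRun row gf wn (nat_lit 2) (nat_lit 0) (nat_lit 10) (nat_lit 9) (nat_lit 1) (nat_lit 1) (nat_lit 6) (nat_lit 63) (nat_lit 5) (nat_lit 31) (nat_lit 7) (nat_lit 0xb5e9594e1173d8d52d09398a320440) (nat_lit 0x555400) (nat_lit 5) (nat_lit 31)
theorem rows_of {lo hi : ℕ} {t : JL} (h : t.run rchk (nat_lit 72) hi lo = true) : C.RowsOK lo hi :=
  rowsOK_of_run masks h
theorem facts_of {lo hi : ℕ} {t : JL} (h : t.run fchk (nat_lit 20) hi lo = true) : C.FactsOK lo hi :=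
  factsOK_of_run masks h
theorem words_ok : wordsChk 2 9 1 5 10 944538608299847986500403404282659904 5592064 R S Wr Wn cr cn = true := by
  decide +kernel
noncomputable def j0 : JL :=
(.cons (nat_lit 2) (nat_lit 0xa0908070206010504030f0e0d020c010b) (nat_lit 624485)
.nil)
theorem t0 : C.RowsOK (nat_lit 0) (nat_lit 2) :=
  rows_of (t := j0) (by decide +kernel)
noncomputable def j1 : JL :=
(.cons (nat_lit 10) (nat_lit 0xec000cf000b200095000780006000048000300001800000) (nat_lit 0x1100100578008023400400d60020049001001000000000000000000000000000000)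
.nil)
theorem t1 : C.FactsOK (nat_lit 0) (nat_lit 10) :=
  facts_of (t := j1) (by decide +kernel)
theorem checked : Checked C R S :=
  ⟨⟨Wr, Wn, cr, cn, fun _ => rfl, fun _ => rfl, words_ok⟩, t0,
    t1⟩

/-- In any group whose elements `g 1, …, g 9` satisfy the relators `R`, a subgroup containing the words
of `S` has index at most 2 in the subgroup generated by these elements. -/
theorem idxLe {G : Type*} [Group G] {g : ℕ → G} (hg : Sat g R) {H : Subgroup G}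
    (hS : ∀ s ∈ S, ev g s ∈ H) : IdxLe H (gen g 9) 2 :=
  checked.idxLe hg hS

end Cfsg.Agent.H74.PresU43.L5

namespace Cfsg.Agent.H74.PresU43.L6
open Cfsg.Agent.H44

noncomputable def rT0 : Tr :=
 (.leaf (nat_lit 0x56bcb725dc765da767db76fdaa813bf6dda72bcb727c9727ca726aa6e7b96e9b93a9386a177380d68a6ead6efa5c0b9b6f78ee5224d660259085a71add70a3d30a56984a9eaacea87b0088da6c9d2b99d5069caaf956bab65f18ef1a020d1406478e647829b69605501e147c0e40f677a6a0b9461401c76a62b938d74018c6952308d6987b2308d8c80f28ca61cf016bb845ed2ea5229a9742804996298ba4873a739e889734044aa999d6177b6333dca82200399db98b6146655973e168506a9bedaa5df300daf7c2b911c8c19a9a494026927b849f2821ad7ec496c402596508b69a84dd10edce12062822b38600269e14a60af11c466ad43626350e92b128021154911218545328d9a6408021ac44298430e56b0058394925499235ace50a468a622c00438721ee8c8d10dc278da36941c2005cc0d8351b06f098663d0346998a00483424ca310252118d53a520cd49110014246b090a50c8317398430c01194a61a8230c0615ada90bce4424a6108010888c0b82d79c2c3a82b0a80118c210002920c2809c260942408c22028211804010040100601006010000))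
noncomputable def gT0 : Tr :=
 (.leaf (nat_lit 0xa00009c00098000940008c00084000640005c000540004c0003c0002c00))
/-- The relators. -/
def R : List (List ℕ) := [[1, 2],
  [3, 4],
  [5, 5],
  [6, 6],
  [7, 7],
  [8, 9],
  [10, 10],
  [1, 1, 1],
  [3, 3, 3],
  [4, 1, 3, 2],
  [1, 5, 1, 5],
  [3, 5, 3, 5],
  [1, 6, 1, 6],
  [5, 6, 5, 6, 5, 6],
  [6, 4, 6, 3, 6, 3, 6, 4],
  [3, 5, 6, 3, 5, 6, 3, 5, 6],
  [3, 7, 3, 7],
  [5, 6, 7, 5, 6, 7],
  [5, 7, 5, 7, 5, 7],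
  [7, 1, 7, 6, 4, 6, 4, 1],
  [8, 8, 5, 3, 2],
  [9, 1, 8, 5, 6, 3, 1],
  [9, 3, 8, 1, 7, 5, 4],
  [3, 10, 3, 10, 3, 10],
  [5, 10, 5, 10, 5, 10],
  [7, 10, 7, 10, 7, 10],
  [10, 8, 1, 10, 5, 4, 9],
  [10, 1, 6, 10, 2, 10, 3, 6, 7, 8]]
/-- The subgroup generators. -/
def S : List (List ℕ) := [[1],
  [2],
  [3],
  [4],
  [5],
  [6],
  [7],
  [8],
  [9]]
def Wr : List (List ℕ) := [[2, 1],
  [4, 3],
  [9, 8],
  [10, 10],
  [1, 2],
  [3, 4],
  [5, 5],
  [6, 6],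
  [7, 7],
  [8, 9],
  [5, 2, 5, 2],
  [2, 2, 2],
  [4, 1, 3, 2],
  [9, 10, 8, 3, 5, 10, 2],
  [2, 4, 1, 3],
  [5, 3, 5, 3],
  [6, 5, 9, 2, 8, 2, 4],
  [4, 4, 4],
  [7, 5, 4, 9, 3, 8, 1],
  [10, 4, 10, 4, 10, 4],
  [3, 1, 4, 2],
  [4, 9, 10, 8, 1, 10, 5],
  [6, 3, 1, 9, 1, 8, 5],
  [7, 3, 7, 3],
  [10, 5, 10, 5, 10, 5],
  [7, 5, 6, 7, 5, 6],
  [8, 10, 1, 6, 10, 2, 10, 3, 6, 7],
  [9, 2, 8, 2, 4, 6, 5],
  [10, 2, 9, 10, 8, 3, 5],
  [3, 3, 3],
  [4, 9, 3, 8, 1, 7, 5],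
  [5, 7, 5, 7, 5, 7],
  [9, 1, 4, 5, 9],
  [10, 7, 10, 7, 10, 7],
  [1, 4, 5, 9, 9],
  [5, 4, 5, 4],
  [1, 4, 2, 3],
  [1, 3, 2, 4],
  [2, 3, 1, 4],
  [9, 9, 1, 4, 5],
  [10, 8, 1, 10, 5, 4, 9],
  [1, 6, 1, 6],
  [5, 6, 5, 6, 5, 6],
  [9, 4, 8, 3, 5, 7, 2],
  [10, 2, 10, 3, 6, 7, 8, 10, 1, 6],
  [3, 8, 1, 7, 5, 4, 9],
  [6, 4, 6, 4, 6, 3, 6, 3],
  [8, 5, 3, 2, 8],
  [2, 8, 2, 4, 6, 5, 9],
  [5, 9, 9, 1, 4],
  [7, 6, 4, 10, 1, 10, 6, 2, 10, 9],
  [2, 6, 2, 6],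
  [8, 5, 6, 3, 1, 9, 1],
  [3, 6, 7, 8, 10, 1, 6, 10, 2, 10],
  [6, 3, 6, 3, 6, 4, 6, 4],
  [7, 4, 7, 4],
  [1, 7, 5, 4, 9, 3, 8],
  [6, 7, 5, 6, 7, 5],
  [3, 1, 9, 1, 8, 5, 6],
  [4, 1, 7, 1, 7, 6, 4, 6],
  [8, 1, 7, 5, 4, 9, 3],
  [3, 5, 7, 2, 9, 4, 8],
  [7, 5, 7, 5, 7, 5],
  [6, 3, 6, 4, 6, 4, 6, 3],
  [1, 1, 1],
  [5, 1, 5, 1],
  [10, 6, 2, 10, 9, 7, 6, 4, 10, 1],
  [3, 6, 3, 6, 4, 6, 4, 6],
  [4, 6, 3, 6, 3, 6, 4, 6],
  [5, 7, 6, 5, 7, 6],
  [1, 6, 10, 2, 10, 3, 6, 7, 8, 10],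
  [2, 9, 10, 8, 3, 5, 10],
  [3, 10, 3, 10, 3, 10],
  [4, 10, 4, 10, 4, 10],
  [5, 10, 5, 10, 5, 10],
  [6, 2, 10, 9, 7, 6, 4, 10, 1, 10],
  [7, 10, 7, 10, 7, 10],
  [8, 1, 10, 5, 4, 9, 10],
  [9, 10, 8, 1, 10, 5, 4],
  [6, 2, 6, 2],
  [7, 2, 3, 6, 3, 6, 7, 2],
  [8, 2, 4, 6, 5, 9, 2],
  [10, 8, 3, 5, 10, 2, 9],
  [2, 10, 3, 6, 7, 8, 10, 1, 6, 10],
  [6, 10, 2, 10, 3, 6, 7, 8, 10, 1]]
def Wn : List (List ℕ) := [[1, 11],
  [3, 15],
  [5, 19],
  [6, 21],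
  [7, 23],
  [8, 25]]
def cr : List (ℕ × ℕ × ℕ) := [(0, 0, 0), (0, 0, 0), (0, 0, 0), (0, 0, 0), (0, 0, 0), (0, 0, 0), (0, 0, 0), (0, 0, 0), (0, 0, 0), (0, 0, 0), (2, 10, 0), (2, 7, 0), (1, 9, 0), (2, 26, 5), (1, 9, 3), (1, 11, 1), (2, 21, 2), (2, 8, 0), (1, 22, 4), (2, 23, 0), (2, 9, 3), (1, 26, 5), (1, 21, 4), (1, 16, 1), (1, 24, 1), (1, 17, 2), (1, 27, 9), (2, 21, 4), (2, 26, 3), (1, 8, 0), (1, 22, 6), (1, 18, 0), (2, 20, 4), (1, 25, 1), (2, 20, 0), (2, 11, 0), (2, 9, 0), (1, 9, 1), (2, 9, 2), (2, 20, 3), (1, 26, 0), (1, 12, 0), (1, 13, 0), (2, 22, 4), (1, 27, 3), (1, 22, 1), (1, 14, 6), (1, 20, 1), (2, 21, 5), (2, 20, 2), (2, 27, 1), (2, 12, 1), (1, 21, 2), (1, 27, 6), (1, 14, 2), (2, 16, 0), (1, 22, 3), (1, 17, 1), (1, 21, 5), (1, 19, 6), (1, 22, 2), (2, 22, 0), (1, 18, 1), (1, 14, 4), (1, 7, 0), (1, 10, 1), (2, 27, 6), (1, 14, 3), (1, 14, 1), (2, 17, 2), (1, 27, 1), (2, 26, 4), (1, 23, 0),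 (2, 23, 1), (1, 24, 0), (2, 27, 7), (1, 25, 0), (1, 26, 1), (1, 26, 6), (2, 12, 0), (2, 19, 7), (2, 21, 6), (2, 26, 6), (1, 27, 4), (1, 27, 2)]
def cn : List (ℕ × ℕ × ℕ) := [(1, 28, 0), (1, 30, 0), (1, 32, 0), (1, 33, 0), (1, 34, 0), (1, 35, 0)]
noncomputable def rT : Tr := rT0
noncomputable def gT : Tr := gT0
noncomputable def rC (i : ℕ) : ℕ := rT.get (nat_lit 0) i
noncomputable def gC (i : ℕ) : ℕ := gT.get (nat_lit 0) i
noncomputable def row (p : ℕ) : ℕ := rec2 rC (nat_lit 5) (nat_lit 31) (nat_lit 110) (nat_lit 0x3fffffffffffffffffffffffffff) p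
noncomputable def gf (p : ℕ) : ℕ := rec2 gC (nat_lit 8) (nat_lit 255) (nat_lit 20) (nat_lit 0xfffff) p
noncomputable def gw (c : ℕ) : List ℕ := nth [] Wr c
noncomputable def wn (c : ℕ) : ℕ := pack (nat_lit 5) (nth [] Wn c) (nat_lit 0)
noncomputable def C : Cert :=
  { n := (nat_lit 30), na := (nat_lit 0), M := (nat_lit 12), nc := (nat_lit 10), W := (nat_lit 5), EB := (nat_lit 10),
    LB := (nat_lit 5), nreg := (nat_lit 85), ivT := (nat_lit 0x1be6757c56d3a464f835cb62909398a320440), base := (nat_lit 0xaaaa800),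
    row := row, gf := gf, gw := gw, wn := wn }
theorem masks : Masks C (nat_lit 31) (nat_lit 1023) (nat_lit 31) (nat_lit 15) (nat_lit 32767) :=
  ⟨by decide +kernel, by decide +kernel, by decide +kernel, by decide +kernel, by decide +kernel⟩
noncomputable def rchk : ℕ → ℕ → ℕ → Bool :=
  rowChk row gf gw (nat_lit 30) (nat_lit 12) (nat_lit 10) (nat_lit 5) (nat_lit 31) (nat_lit 10) (nat_lit 1023) (nat_lit 5) (nat_lit 31) (nat_lit 15) (nat_lit 32767) (nat_lit 85) (nat_lit 0x1be6757c56d3a464f835cb62909398a320440) (nat_lit 4) (nat_lit 15) (nat_lit 8) (nat_lit 255)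
noncomputable def fchk : ℕ → ℕ → ℕ → Bool :=
  auxRun row gf wn (nat_lit 30) (nat_lit 0) (nat_lit 12) (nat_lit 10) (nat_lit 5) (nat_lit 31) (nat_lit 10) (nat_lit 1023) (nat_lit 5) (nat_lit 31) (nat_lit 15) (nat_lit 0x1be6757c56d3a464f835cb62909398a320440) (nat_lit 0xaaaa800) (nat_lit 6) (nat_lit 63)
theorem rows_of {lo hi : ℕ} {t : JL} (h : t.run rchk (nat_lit 80) hi lo = true) : C.RowsOK lo hi :=
  rowsOK_of_run masks h
theorem facts_of {lo hi : ℕ} {t : JL} (h : t.run fchk (nat_lit 20) hi lo = true) : C.FactsOK lo hi :=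
  factsOK_of_run masks h
theorem words_ok : wordsChk 30 10 5 5 85 38887245277291440725472999101661688645157952 178956288 R S Wr Wn cr cn = true := by
  decide +kernel
noncomputable def j0 : JL :=
(.cons (nat_lit 16) (nat_lit 0x1d213509002b0206342a04210033083202063105290030092f07022e01052d2c0a09002b0206012a29280a0908241200272604030a09080700060f250421001308240206012322210a0008201f1e01051d1c1b1a00070206010519030a1817001615010514030a1308071200010504030a09111000060f05040e0a0908070d060c0004030a09080b0206000500030a0908070206010504035b5a595802570156) (nat_lit 0xba9876)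
(.cons (nat_lit 14) (nat_lit 0x4f4e4d554b0249480500030a4d4c4b0249540553035251500b0d150c002d030a1a00464506342a004f4e4d4c4b4a4948472d030a1a00464544012a4303350908420206004104030a3837071200272604033d184010000601052900303f0807023e0105042c3d1a00073c3b012a042100093a07022e01050400300908070206013900030a38370702360126) (nat_lit 0)
.nil))
theorem t0 : C.RowsOK (nat_lit 0) (nat_lit 30) :=
  rows_of (t := j0) (by decide +kernel)
noncomputable def j1 : JL :=
(.cons (nat_lit 12) (nat_lit 0x12600108000ea000cc000ae00090000780006000048000300001800000) (nat_lit 0x50004019200100540004010e00100330004008a001001000000000000000000000000000000000000)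
.nil)
theorem t1 : C.FactsOK (nat_lit 0) (nat_lit 12) :=
  facts_of (t := j1) (by decide +kernel)
theorem checked : Checked C R S :=
  ⟨⟨Wr, Wn, cr, cn, fun _ => rfl, fun _ => rfl, words_ok⟩, t0,
    t1⟩

/-- In any group whose elements `g 1, …, g 10` satisfy the relators `R`, a subgroup containing the words
of `S` has index at most 30 in the subgroup generated by these elements. -/
theorem idxLe {G : Type*} [Group G] {g : ℕ → G} (hg : Sat g R) {H : Subgroup G}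
    (hS : ∀ s ∈ S, ev g s ∈ H) : IdxLe H (gen g 10) 30 :=
  checked.idxLe hg hS

end Cfsg.Agent.H74.PresU43.L6

namespace Cfsg.Agent.H74.PresU43.L7
open Cfsg.Agent.H44

noncomputable def rT0 : Tr :=
 (.node (.node (.leaf (nat_lit 0x2173f3a5cf1d3a3cd8f3264b153e70c8d36a410b032400842b90ae03210a03078e1e367901e3e7810a3a240c73e7cea93848b292448d8914480081c3c10130400c6264800738391273c9d01f3654f273c500e93644f29001ce923aa469028a4e1430a469516640e803140062e84a934ca00c4030c0c234a102e4ec80ca03052272c50e950818006347c6a72c3461b0c540c64e600050300eab36280bf02f923c4ef40bd02f00aa40a4d8740a4f1f0014c0e30382071220b0e36240a702ec00402e80b902e13a43258db202dd32802d808a2e1c0b53c64ea72e300042434d1c2e7c399186c086000c0b4469cb993e50f142c511a93a6ce9c429c06b02cc0032c680b202c4c9314800b01888693184c06a362c0af386ca1c3a74003267459d32241070830066386c0ae1c38a0f1e44c111a44110000c20b041406432700ad260c98b1c0c61b180c0030644506041006302b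05252a44002387cd1f241cb0e1e3079d1a2004922380ab00087913a70c97325cb8c2a3cb892e5c04830340aa2810b040008a882654b99069c0a9347c0470630b8c1e3080c2c54002222070f2c38292041c04634480a82840a86029c605101450600081050a44044029800102940a438600a302880a1028028a082802a3874c89161400136242093624d123874d173038029027c09e00045051010a0d2030517141c70f02740283054d17027009b0604001223c4880a5c18c0648026060809a2c2ca830a640990004482162c204164002530140981220609025c58b122c1040004191062c0242e100962a34a8d12200950e0800106141900a18023025009328189101a400921640091024010200040220818c02023c08e023408c0c1008b1018001060c021000008a0224088081c08702180850210083020800b020410006001000400100040018004001800400000))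
 (.leaf (nat_lit 0x5e9179f6d413a65ef801863198d75ae98d75ae830654e53b65365dda60fd34f0060ed54cb52ad535430538ad4323aa13b748856ba53553184ef013c0060302038d1a07569d5946818574ab543d4a6001806f43010059f60038a2600385f3b7371ed603800df03782cb03758da55080165d5563d58e573f6d5d73f595c2c956f934a00592425cc195456e98314d198313f182c875545c8688da23005954766d5bdb6acdb4b65282c76f581214cf542d6b6d54236c801636c9542550c2c3632943e50a9ccf50954d14ca0dae510c0164ca02c140b801564c59d730d5a5964e1dda6729edb71642aa037001478cdbdb7131f55715123446d1b48753c28a004dfdb714ddb468c992e6969a38036da44696826b52c93bd004c72166cc0da38dce37345941a28b82686d407d76b119b5004d7aa695d5465ee58c65ee4267515d8d54e908255ee53301884622004c7b01cc02644ca00124921a540364f2f3e90f477144eab6d4024a42d4011447901e62999b3490934338d8ab23e6822a03600104edd328035d34848f13be67548554cf820a003c0d641052413ab0e2c3cb102c3eb0c2c32b01eb3af400e38600d5530dbd0369572630953503cbc1ca6d2c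00d530d3b632a983165213aa4ca80d4034c1aa3e5cf9b3874f97386ca9d266cb9b4450d1f00341a24ebc00b4eb4f3d4a693a54ed8c9a37093b64a5816a3c9d2993855114002d09c3a7010d18650143a7016700281a650fd8c664b98ca60997a55ead7c0631c14b034848f1ec000a4ed932838accab6098a242d441495cfd440002933055014163cbdbd051000d126941484d200d066e1ab8033c00a488d223468c3230a8c14603381c30f286cb55192a200285931ac03220a8814503341b71ec8b1a4af40cc1ac012000283a10c84144488123c032c0ca48f111e164c00a06842a00c80143)))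
 (.node (.leaf (nat_lit 0x91adedf83160c57f7e05e7759cdc77b815e00ec7628b9e4e78781de28da9fdf898a26283a403b077c76100e9d5d839e4e67b59fe46175c6185a16526b9874b00d1d61779636b81ba3eb70ec0ee757e262735868b7985f3370d1ed368ddbdb75280336ce1d5978d46636b3183a74f9dbc692803266cdc4a74d59b35110646736564b72f143e00bd9b5712dcc4592dbb5776c5e700b63ec8da5fd68b920e299b62ce8f923eb9bb45ab4ec073168d5dc400b57bc66c5aba60fd5ba60fc5a76cdc02c7d615647d763ed797df6078edd5c838858a72e193000ad5405ae9eb450f5a2d38f953e1eb4568735195466bd9c765518b96ed13d4515015300a854289b5cc47d6dcb3734d8c6653d4d3514c02a07505410095b4d93aa2c96db1fe58f998cd8b8d7e65b744ab8589c51713144c73114366d41baf551caa500904826ec40235519abf6741c2b6f45a406c91aaf4aac46a630d94f70d9543008d2be674d2cf493dcb44b2046700899ce893a1ce6939a498395fe48d6194969a844b0085ad297b00ed6925acd8b9e1e36549ac56d8442b6d69ccc5345bd16ed00214f3124c4b3044c0f304266ea96d91888020571dbc073656d96f10d4a6ae0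40964d93b900803226b69826776d93573699b8372c40800798e4894a2e86b359ce97b00ec03ac0ea67383cb4a8c538671d1af00792ad62a8ec8392134f6ed03c703a401d6951948552d5b851015d13abd82653003aa03a001c64995d0528995360fd2b956c4f3960c438a0068cc5857e05f79155e16b8c0e79199c61693434b6d11d53795db31714401a4f11c4b75654da66cc346653c122573d52a50ad34300693b64ab94b749083450398dc24ae55ba4d094b746b8d2800692c352dc34400640e54ab0fac47050413b050c14104f413f0432b03913a457540185291b4b531d3a46b415475c98309))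
 (.leaf (nat_lit 0x4bbc06391be4ef93be5ef6dbe3ef8dbe4ef95bcc6a9fb226897ae6e583726e87581d5f01722e97d80b848b4e0ea01361e18d8a35697625ea8b9665891ac9a8a1ba358978654d6b4a566952416b01266e583909248f7e46b8f7266e8b8e35c91ac04907b24ed8d609236daa16d95a24528b79aea87925e595b59ce0124922011cf6995922d883964e763a605e8989a608db88eb011a2ee89265ea898276e83861dd7785de38f9c8cb8d7a45e8f8e05d919a569893646601164688b8c8a4010a26295762e3939e5ec8d4a3c5939da5d5d4884b4d940419db9d5c85a6052853a36d99a94649db082a0101849575a5e98961f5d85aa358813a16c539480b00f00ef8d9a3678dae2606916252893636779a078b87462e6757803b8fb6058877a2e9877a1568770769776dcdc89b666c00ed54585a1e686f75bcd6f147678181fbb86ee15e8ba21e377b803b7b59fee6ba4763))))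
noncomputable def gT0 : Tr :=
 (.leaf (nat_lit 0x7a676ede01df12ea0408b0017002a00000a00000270000098000025000008c000021000007800001a000006000001600000500000100000030000006e2ec02b802))
/-- The relators. -/
def R : List (List ℕ) := [[1, 2],
  [3, 4],
  [5, 5],
  [6, 6],
  [7, 7],
  [8, 9],
  [10, 10],
  [11, 11],
  [1, 1, 1],
  [3, 3, 3],
  [4, 1, 3, 2],
  [1, 5, 1, 5],
  [3, 5, 3, 5],
  [1, 6, 1, 6],
  [5, 6, 5, 6, 5, 6],
  [6, 4, 6, 3, 6, 3, 6, 4],
  [3, 5, 6, 3, 5, 6, 3, 5, 6],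
  [3, 7, 3, 7],
  [5, 6, 7, 5, 6, 7],
  [5, 7, 5, 7, 5, 7],
  [7, 1, 7, 6, 4, 6, 4, 1],
  [8, 8, 5, 3, 2],
  [9, 1, 8, 5, 6, 3, 1],
  [9, 3, 8, 1, 7, 5, 4],
  [3, 10, 3, 10, 3, 10],
  [5, 10, 5, 10, 5, 10],
  [7, 10, 7, 10, 7, 10],
  [10, 8, 1, 10, 5, 4, 9],
  [10, 1, 6, 10, 2, 10, 3, 6, 7, 8],
  [10, 11, 10, 11, 10, 11, 10, 11],
  [11, 6, 7, 11, 5, 3, 6, 3],
  [11, 9, 6, 8, 11, 9, 6, 8],
  [1, 6, 11, 1, 6, 11, 1, 6, 11],
  [11, 3, 1, 5, 11, 8, 6, 9, 4],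
  [11, 5, 11, 2, 11, 8, 7, 5],
  [11, 10, 1, 10, 11, 5, 9, 3, 10, 2]]
/-- The subgroup generators. -/
def S : List (List ℕ) := [[1],
  [2],
  [3],
  [4],
  [5],
  [6],
  [7],
  [8],
  [9],
  [10]]
def Wr : List (List ℕ) := [[2, 1],
  [4, 3],
  [9, 8],
  [11, 11],
  [1, 2],
  [3, 4],
  [5, 5],
  [6, 6],
  [7, 7],
  [8, 9],
  [10, 10],
  [3, 5, 3, 5],
  [5, 1, 5, 1],
  [2, 2, 2],
  [5, 2, 5, 2],
  [7, 2, 3, 6, 3, 6, 7, 2],
  [8, 2, 4, 6, 5, 9, 2],
  [9, 1, 4, 5, 9],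
  [9, 9, 1, 4, 5],
  [11, 4, 6, 4, 5, 11, 7, 6],
  [4, 4, 4],
  [6, 4, 5, 11, 7, 6, 11, 4],
  [11, 3, 8, 6, 9, 11, 5, 2, 4],
  [2, 4, 11, 3, 8, 6, 9, 11, 5],
  [11, 2, 11, 8, 7, 5, 11, 5],
  [4, 7, 4, 7],
  [7, 11, 5, 3, 6, 3, 11, 6],
  [10, 6, 2, 10, 9, 7, 6, 4, 10, 1],
  [5, 9, 9, 1, 4],
  [6, 5, 6, 5, 6, 5],
  [7, 5, 11, 5, 11, 2, 11, 8],
  [2, 4, 1, 3],
  [6, 8, 11, 9, 6, 8, 11, 9],
  [7, 2, 7, 2, 3, 6, 3, 6],
  [10, 8, 1, 10, 5, 4, 9],
  [11, 5, 11, 2, 11, 8, 7, 5],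
  [1, 10, 11, 5, 9, 3, 10, 2, 11, 10],
  [2, 3, 1, 4],
  [5, 4, 5, 4],
  [8, 1, 7, 5, 4, 9, 3],
  [1, 6, 1, 6],
  [3, 3, 3],
  [4, 1, 3, 2],
  [7, 6, 5, 7, 6, 5],
  [9, 4, 8, 3, 5, 7, 2],
  [10, 9, 7, 6, 4, 10, 1, 10, 6, 2],
  [11, 1, 6, 11, 1, 6, 11, 1, 6],
  [9, 2, 8, 2, 4, 6, 5],
  [2, 8, 8, 5, 3],
  [3, 5, 7, 2, 9, 4, 8],
  [11, 9, 6, 8, 11, 9, 6, 8],
  [1, 8, 5, 6, 3, 1, 9],
  [7, 5, 6, 7, 5, 6],
  [1, 4, 2, 3],
  [6, 1, 6, 1],
  [8, 5, 3, 2, 8],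
  [1, 3, 2, 4],
  [6, 5, 9, 2, 8, 2, 4],
  [7, 4, 7, 4],
  [8, 3, 5, 7, 2, 9, 4],
  [2, 6, 2, 6],
  [3, 1, 9, 1, 8, 5, 6],
  [9, 11, 5, 2, 4, 11, 3, 8, 6],
  [1, 5, 1, 5],
  [5, 4, 9, 10, 8, 1, 10],
  [6, 10, 2, 10, 3, 6, 7, 8, 10, 1],
  [5, 11, 2, 11, 8, 7, 5, 11],
  [6, 3, 6, 3, 6, 4, 6, 4],
  [1, 1, 1],
  [4, 9, 3, 8, 1, 7, 5],
  [5, 7, 6, 5, 7, 6],
  [11, 5, 3, 6, 3, 11, 6, 7],
  [5, 10, 5, 10, 5, 10],
  [2, 9, 4, 8, 3, 5, 7],
  [3, 7, 3, 7],
  [5, 4, 9, 3, 8, 1, 7],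
  [6, 4, 6, 4, 1, 7, 1, 7],
  [7, 10, 7, 10, 7, 10],
  [11, 1, 10, 4, 8, 5, 11, 10, 2, 10],
  [3, 6, 3, 6, 4, 6, 4, 6],
  [8, 5, 6, 3, 1, 9, 1],
  [10, 2, 11, 10, 1, 10, 11, 5, 9, 3],
  [8, 1, 10, 5, 4, 9, 10],
  [1, 7, 5, 4, 9, 3, 8],
  [4, 5, 11, 7, 6, 11, 4, 6],
  [10, 2, 9, 10, 8, 3, 5],
  [7, 6, 4, 10, 1, 10, 6, 2, 10, 9],
  [11, 1, 11, 5, 11, 5, 7, 9],
  [3, 2, 4, 1],
  [4, 2, 3, 1],
  [7, 5, 4, 9, 3, 8, 1],
  [3, 10, 3, 10, 3, 10],
  [8, 8, 5, 3, 2],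
  [2, 11, 8, 7, 5, 11, 5, 11],
  [3, 1, 5, 11, 8, 6, 9, 4, 11],
  [4, 6, 4, 5, 11, 7, 6, 11],
  [5, 3, 6, 3, 11, 6, 7, 11],
  [8, 7, 5, 11, 5, 11, 2, 11],
  [9, 6, 8, 11, 9, 6, 8, 11],
  [10, 1, 6, 10, 2, 10, 3, 6, 7, 8],
  [11, 5, 9, 3, 10, 2, 11, 10, 1, 10],
  [4, 5, 4, 5],
  [5, 6, 3, 5, 6, 3, 5, 6, 3],
  [9, 1, 8, 5, 6, 3, 1],
  [1, 10, 5, 4, 9, 10, 8],
  [6, 7, 8, 10, 1, 6, 10, 2, 10, 3],
  [10, 8, 3, 5, 10, 2, 9],
  [5, 2, 4, 11, 3, 8, 6, 9, 11],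
  [10, 11, 10, 11, 10, 11, 10, 11],
  [1, 7, 6, 4, 6, 4, 1, 7],
  [2, 7, 2, 3, 6, 3, 6, 7],
  [5, 7, 5, 7, 5, 7],
  [9, 11, 1, 11, 5, 11, 5, 7],
  [1, 10, 6, 2, 10, 9, 7, 6, 4, 10],
  [4, 10, 4, 10, 4, 10],
  [3, 1, 4, 2],
  [6, 2, 6, 2],
  [11, 8, 7, 5, 11, 5, 11, 2],
  [9, 10, 8, 1, 10, 5, 4],
  [6, 11, 1, 6, 11, 1, 6, 11, 1],
  [3, 8, 1, 7, 5, 4, 9],
  [2, 9, 10, 8, 3, 5, 10],
  [6, 2, 10, 9, 7, 6, 4, 10, 1, 10],
  [6, 4, 10, 1, 10, 6, 2, 10, 9, 7],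
  [3, 5, 10, 2, 9, 10, 8],
  [10, 4, 10, 4, 10, 4],
  [11, 10, 11, 10, 11, 10, 11, 10],
  [6, 7, 11, 5, 3, 6, 3, 11],
  [2, 10, 3, 6, 7, 8, 10, 1, 6, 10],
  [8, 3, 5, 10, 2, 9, 10],
  [5, 3, 5, 3],
  [10, 3, 10, 3, 10, 3],
  [6, 5, 7, 6, 5, 7],
  [5, 9, 3, 10, 2, 11, 10, 1, 10, 11],
  [6, 3, 1, 9, 1, 8, 5],
  [7, 6, 4, 6, 4, 1, 7, 1],
  [11, 10, 1, 10, 11, 5, 9, 3, 10, 2],
  [2, 5, 2, 5],
  [10, 5, 10, 5, 10, 5],
  [11, 8, 6, 9, 4, 11, 3, 1, 5],
  [3, 6, 7, 2, 7, 2, 3, 6],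
  [8, 11, 9, 6, 8, 11, 9, 6],
  [1, 9, 1, 8, 5, 6, 3],
  [4, 8, 3, 5, 7, 2, 9],
  [7, 5, 7, 5, 7, 5],
  [5, 6, 5, 6, 5, 6],
  [7, 2, 9, 4, 8, 3, 5],
  [1, 11, 5, 11, 5, 7, 9, 11],
  [7, 6, 11, 4, 6, 4, 5, 11],
  [1, 6, 10, 2, 10, 3, 6, 7, 8, 10],
  [4, 8, 5, 11, 10, 2, 10, 11, 1, 10],
  [5, 6, 7, 5, 6, 7],
  [8, 10, 1, 6, 10, 2, 10, 3, 6, 7],
  [10, 7, 10, 7, 10, 7],
  [6, 2, 11, 6, 2, 11, 6, 2, 11],
  [9, 4, 11, 3, 1, 5, 11, 8, 6],
  [4, 11, 3, 1, 5, 11, 8, 6, 9],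
  [6, 9, 11, 5, 2, 4, 11, 3, 8],
  [2, 8, 2, 4, 6, 5, 9],
  [4, 6, 3, 6, 3, 6, 4, 6],
  [4, 5, 9, 9, 1],
  [10, 11, 5, 9, 3, 10, 2, 11, 10, 1],
  [4, 6, 4, 1, 7, 1, 7, 6],
  [5, 10, 2, 9, 10, 8, 3],
  [10, 3, 6, 7, 8, 10, 1, 6, 10, 2],
  [9, 7, 6, 4, 10, 1, 10, 6, 2, 10],
  [4, 11, 3, 8, 6, 9, 11, 5, 2],
  [10, 5, 4, 9, 10, 8, 1],
  [11, 6, 2, 11, 6, 2, 11, 6, 2],
  [5, 3, 2, 8, 8],
  [1, 6, 11, 1, 6, 11, 1, 6, 11],
  [9, 3, 8, 1, 7, 5, 4],
  [10, 2, 10, 3, 6, 7, 8, 10, 1, 6],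
  [6, 3, 6, 4, 6, 4, 6, 3],
  [7, 3, 7, 3],
  [11, 5, 7, 9, 11, 1, 11, 5],
  [8, 6, 9, 11, 5, 2, 4, 11, 3],
  [6, 11, 4, 6, 4, 5, 11, 7],
  [11, 5, 11, 5, 7, 9, 11, 1],
  [2, 11, 10, 1, 10, 11, 5, 9, 3, 10],
  [8, 6, 9, 4, 11, 3, 1, 5, 11],
  [10, 1, 10, 11, 5, 9, 3, 10, 2, 11],
  [8, 5, 11, 10, 2, 10, 11, 1, 10, 4],
  [4, 6, 5, 9, 2, 8, 2],
  [5, 7, 2, 9, 4, 8, 3],
  [11, 6, 7, 11, 5, 3, 6, 3],
  [2, 4, 6, 5, 9, 2, 8],
  [6, 9, 4, 11, 3, 1, 5, 11, 8]]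
def Wn : List (List ℕ) := [[1, 12],
  [3, 16],
  [5, 20],
  [6, 22],
  [7, 24],
  [8, 26],
  [10, 30],
  [4, 8, 5, 11, 10, 2, 10, 11, 1, 10],
  [10, 10],
  [7, 11, 5, 3, 6, 3, 11, 6],
  [6, 6]]
def cr : List (ℕ × ℕ × ℕ) := [(0, 0, 0), (0, 0, 0), (0, 0, 0), (0, 0, 0), (0, 0, 0), (0, 0, 0), (0, 0, 0), (0, 0, 0), (0, 0, 0), (0, 0, 0), (0, 0, 0), (1, 12, 0), (1, 11, 1), (2, 8, 0), (2, 11, 0), (2, 20, 7), (2, 22, 6), (2, 21, 4), (2, 21, 3), (2, 30, 7), (2, 9, 0), (2, 30, 1), (2, 33, 8), (2, 33, 6), (1, 34, 2), (2, 17, 1), (1, 30, 2), (2, 28, 6), (2, 21, 2), (1, 14, 1), (1, 34, 6), (1, 10, 3), (1, 31, 2), (2, 20, 5), (1, 27, 0), (1, 34, 0), (1, 35, 2), (2, 10, 2), (2, 12, 0), (1, 23, 2), (1, 13, 0), (1, 9, 0), (1, 10, 0), (2, 18, 0), (2, 23, 4), (2, 28, 9), (1, 32, 2), (2, 22, 4), (1, 21, 4), (2, 23, 0), (1, 31, 0), (1, 22, 1), (1, 18, 2), (2, 10, 0), (1, 13, 1), (1, 21, 1), (1, 10, 1), (2, 22, 2),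 (2, 17, 0), (2, 23, 6), (2, 13, 1), (1, 22, 5), (2, 33, 3), (1, 11, 0), (1, 27, 4), (1, 28, 2), (1, 34, 1), (1, 15, 2), (1, 8, 0), (1, 23, 6), (2, 18, 2), (1, 30, 3), (1, 25, 0), (2, 23, 3), (1, 17, 0), (1, 23, 5), (1, 20, 3), (1, 26, 0), (2, 35, 9), (1, 15, 3), (1, 22, 2), (1, 35, 8), (1, 27, 1), (1, 23, 3), (2, 30, 2), (2, 27, 3), (2, 28, 1), (2, 34, 3), (1, 10, 2), (2, 10, 1), (1, 23, 4), (1, 24, 0), (1, 21, 0), (1, 34, 3), (1, 33, 1), (2, 30, 0), (1, 30, 4), (1, 34, 5), (1, 31, 1), (1, 28, 0), (1, 35, 4), (2, 12, 1), (1, 16, 1), (1, 22, 0), (1, 27, 2), (1, 28, 7), (2, 27, 6), (2, 33, 5), (1, 29, 0), (1, 20, 1), (2, 20, 6), (1, 19, 0), (2, 34, 2), (2, 28, 5), (2, 24, 1), (2, 10, 3), (2, 13, 0), (1, 34, 4), (1, 27, 6), (1, 32, 1), (1, 23, 1), (2, 27, 4), (2, 28, 7), (2, 28, 2), (2, 27, 1), (2, 24, 0), (1, 29, 1), (1, 30, 1), (1, 28, 4), (2, 27, 0), (1, 12, 1), (1, 24, 1), (2, 18, 1), (1, 35,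 5), (1, 22, 4), (1, 20, 2), (1, 35, 0), (2, 11, 1), (1, 25, 1), (1, 33, 4), (2, 20, 3), (1, 31, 3), (1, 22, 6), (2, 23, 5), (1, 19, 1), (1, 14, 0), (2, 23, 2), (2, 34, 4), (2, 30, 5), (1, 28, 1), (2, 35, 2), (1, 18, 0), (1, 28, 9), (1, 26, 1), (2, 32, 1), (1, 33, 7), (1, 33, 8), (2, 33, 2), (2, 22, 5), (1, 15, 1), (2, 21, 1), (1, 35, 3), (1, 20, 4), (2, 27, 2), (1, 28, 5), (2, 28, 0), (2, 33, 7), (1, 27, 3), (2, 32, 0), (1, 21, 2), (1, 32, 0), (1, 23, 0), (1, 28, 3), (1, 15, 4), (1, 17, 1), (2, 34, 7), (2, 33, 1), (2, 30, 6), (2, 34, 5), (1, 35, 9), (1, 33, 5), (1, 35, 1), (2, 35, 3), (2, 22, 1), (2, 23, 1), (1, 30, 0), (2, 22, 0), (1, 33, 6)]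
def cn : List (ℕ × ℕ × ℕ) := [(1, 36, 0), (1, 38, 0), (1, 40, 0), (1, 41, 0), (1, 42, 0), (1, 43, 0), (1, 45, 0), (2, 35, 2), (0, 0, 0), (1, 30, 2), (0, 0, 0)]
noncomputable def rT : Tr := rT0
noncomputable def gT : Tr := gT0
noncomputable def rC (i : ℕ) : ℕ := rT.get (nat_lit 2) i
noncomputable def gC (i : ℕ) : ℕ := gT.get (nat_lit 0) i
noncomputable def row (p : ℕ) : ℕ := rec2 rC (nat_lit 5) (nat_lit 31) (nat_lit 168) (nat_lit 0xffffffffffffffffffffffffffffffffffffffffff) p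
noncomputable def gf (p : ℕ) : ℕ := rec2 gC (nat_lit 7) (nat_lit 127) (nat_lit 26) (nat_lit 0x3ffffff) p
noncomputable def gw (c : ℕ) : List ℕ := nth [] Wr c
noncomputable def wn (c : ℕ) : ℕ := pack (nat_lit 5) (nth [] Wn c) (nat_lit 0)
noncomputable def C : Cert :=
  { n := (nat_lit 112), na := (nat_lit 2), M := (nat_lit 20), nc := (nat_lit 11), W := (nat_lit 7), EB := (nat_lit 14),
    LB := (nat_lit 5), nreg := (nat_lit 188), ivT := (nat_lit 0xf7f9dd6f19b5e9594e1173d8d5a909398a320440), base := (nat_lit 0x55555000),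
    row := row, gf := gf, gw := gw, wn := wn }
theorem masks : Masks C (nat_lit 127) (nat_lit 16383) (nat_lit 31) (nat_lit 19) (nat_lit 524287) :=
  ⟨by decide +kernel, by decide +kernel, by decide +kernel, by decide +kernel, by decide +kernel⟩
noncomputable def rchk : ℕ → ℕ → ℕ → Bool :=
  rowChk row gf gw (nat_lit 112) (nat_lit 20) (nat_lit 11) (nat_lit 7) (nat_lit 127) (nat_lit 14) (nat_lit 16383) (nat_lit 5) (nat_lit 31) (nat_lit 19) (nat_lit 524287) (nat_lit 188) (nat_lit 0xf7f9dd6f19b5e9594e1173d8d5a909398a320440) (nat_lit 5) (nat_lit 31) (nat_lit 9) (nat_lit 511)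
noncomputable def fchk : ℕ → ℕ → ℕ → Bool :=
  auxRun row gf wn (nat_lit 112) (nat_lit 2) (nat_lit 20) (nat_lit 11) (nat_lit 7) (nat_lit 127) (nat_lit 14) (nat_lit 16383) (nat_lit 5) (nat_lit 31) (nat_lit 19) (nat_lit 0xf7f9dd6f19b5e9594e1173d8d5a909398a320440) (nat_lit 0x55555000) (nat_lit 6) (nat_lit 63)
theorem rows_of {lo hi : ℕ} {t : JL} (h : t.run rchk (nat_lit 99) hi lo = true) : C.RowsOK lo hi :=
  rowsOK_of_run masks h
theorem facts_of {lo hi : ℕ} {t : JL} (h : t.run fchk (nat_lit 20) hi lo = true) : C.FactsOK lo hi :=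
  factsOK_of_run masks h
theorem words_ok : wordsChk 112 11 7 5 188 1415692895568631373389430024791492604214148990016 1431654400 R S Wr Wn cr cn = true := by
  decide +kernel
noncomputable def j0 : JL :=
(.cons (nat_lit 16) (nat_lit 0x202c06001a8780e020300468330580014090401c043218814480b180280008038080c01028bc5c2d050b00007158a802290b82c0628048204e15000980a040000c14090401c0406008944823090004421078080c200281016000507c3c1d01018020502070060a0d8001a1a030040a190580c14090400004060c0142e0b0982812160385400010285016130502410070001802050202c2411080201e020303800046200c140904034040c00014000b018281208038080c010281186036130580bf012f802bd) (nat_lit 0x8bdcd62d49)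
(.cons (nat_lit 16) (nat_lit 0x190c66204820c2602f9780a040000cba091d124045c00894080b01828b60806968b2002296016120015c100701018020517958000a048200e5503004a8040000ca6090401c0406008d008521f9446a0003808a0011493c00030513810070d01802050202c060a00134981a259280a040000c14091b924040600814900b018281200239180c012280016030506c8843010184c0502000060a049088202030048004058fc14090001c043e1e8a4080b098f0763a1385400261c81016031c0246e07000184036) (nat_lit 0)
(.cons (nat_lit 16) (nat_lit 0x27800060a049ec0e02031e80a040000ca65b0401c0406009c808000994c120824808f2010280016033106cf0430117cbc0502000ee0a0490892462e0040a4f00048a64e0401c045c00814ec0b169742075078ace80e0001000030513810073981802722402ce22800134e01a259bcdc003680c7009041b0b40600814086b09000b66a038080c01028bc160008824100f0101802690202cd00a04800ce022800452040580c14090f000cc0600900080b0197412080385400011c9941603050241007000184005) (nat_lit 0)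
(.cons (nat_lit 16) (nat_lit 0x202c068e270000e0246804528c4580c140904000040c45101120b168282008038ace80e00010381205220100701018000500210060a04af40e02030040a040584800094381c0406008140823000e05808430080c01028101612050010a0701018022902210260a048210600150040a760580c140904034b40600114fe00318f09c08248080c010281000034102410070117102050002cc62804a000e1a030040a7f3f000702c0401c047d009a4ec0b09028007c0386896013701046030502488270a8000239) (nat_lit 19)
(.cons (nat_lit 16) (nat_lit 0x24294e299002140e02259bcdc003680cc41b0429146062f01400a2018292a8003a840c011481134031c08800925001802290202c2400048200e023ca7c68040580070094f01d3a0600814000b4e028129b038080c010292134034c8010a980112c02050200006824982092022e1e8e4040000c144e041252e063d258006d019892a08038080c014a16016030524c00920101802290222c060a48a1c00660622880043f00c143b1d0742a00008e4000b01988367821808be5e02810d6030015c6e0748018028f) (nat_lit 0)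
(.cons (nat_lit 16) (nat_lit 0x222c065d488201ea70303800b00580c14091b81c040600014006d019755e0821808185e028001603310ec104301018029402294062857ab90600150806c1456a70142200249403e1e8a4909a5626400854c068964a0280016030502410070d018020524268069900135301a25928dc7f001c4a6090401c040c00aac660b000e03e9e55008640134aa54a2d2e840ea0f158181c003b2a0060a2d8dc1a022c8000a000580c14093a81d4e060081466a5018441275078ace80e0001000a64113810074b970f472) (nat_lit 0)
(.cons (nat_lit 16) (nat_lit 0x3f800ee0a2710892022e1e80a143f2b078091d09c2a00130e40864000e03ebc5500864bb2a010fcac1e0ec741d0a8004c395d1f8060a57ab97200030046ca9058b422103a81d707907000006d31ad52a8021980be180280016630525410610117cbc94021f806b71d8204e150000472005b00d6a09041854e062f250fe000194c1208038080cb402800da0305255000f0a81802050002c0651048208615030040a04058480009109b0045f00a5166a20182800b203808b201229fc16ac588247407000a80205) (nat_lit 0)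
.nil)))))))
theorem t0 : C.RowsOK (nat_lit 0) (nat_lit 112) :=
  rows_of (t := j0) (by decide +kernel)
noncomputable def j1 : JL :=
(.cons (nat_lit 2) (nat_lit 0) (nat_lit 0)
(.cons (nat_lit 16) (nat_lit 0x1ce0017a0015c0013e0012000102000e4000c6000a800090000780006000048000300001800000) (nat_lit 0x2b2c008024b00a24124a1070c028021b00100764004019700100554004011300100344004008f001001000000000000000000000000000000000000000000)
(.cons (nat_lit 2) (nat_lit 0x4800000) (nat_lit 0xbcd00200b34a08508428600800a)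
.nil)))
theorem t1 : C.FactsOK (nat_lit 0) (nat_lit 20) :=
  facts_of (t := j1) (by decide +kernel)
theorem checked : Checked C R S :=
  ⟨⟨Wr, Wn, cr, cn, fun _ => rfl, fun _ => rfl, words_ok⟩, t0,
    t1⟩

/-- In any group whose elements `g 1, …, g 11` satisfy the relators `R`, a subgroup containing the words
of `S` has index at most 112 in the subgroup generated by these elements. -/
theorem idxLe {G : Type*} [Group G] {g : ℕ → G} (hg : Sat g R) {H : Subgroup G}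
    (hS : ∀ s ∈ S, ev g s ∈ H) : IdxLe H (gen g 11) 112 :=
  checked.idxLe hg hS

end Cfsg.Agent.H74.PresU43.L7

namespace Cfsg.Agent.H74.PresU43
open Cfsg.Agent.H44

def R : List (List ℕ) := [[1, 2], [3, 4], [5, 5], [6, 6], [7, 7], [8, 9], [10, 10], [11, 11], [1, 1, 1], [3, 3, 3], [4, 1, 3, 2], [1, 5, 1, 5], [3, 5, 3, 5], [1, 6, 1, 6], [5, 6, 5, 6, 5, 6], [6, 4, 6, 3, 6, 3, 6, 4], [3, 5, 6, 3, 5, 6, 3, 5, 6], [3, 7, 3, 7], [5, 6, 7, 5, 6, 7], [5, 7, 5, 7, 5, 7], [7, 1, 7, 6, 4, 6, 4, 1], [8, 8, 5, 3, 2], [9, 1, 8, 5, 6, 3, 1], [9, 3, 8, 1, 7, 5, 4], [3, 10, 3, 10, 3, 10], [5, 10, 5, 10, 5, 10], [7, 10, 7, 10, 7, 10], [10, 8, 1, 10, 5, 4, 9], [10, 1, 6, 10, 2, 10, 3, 6, 7, 8], [10, 11, 10, 11, 10, 11, 10, 11], [11, 6, 7, 11, 5, 3, 6, 3], [11, 9, 6, 8, 11, 9, 6, 8], [1, 6, 11, 1, 6, 11, 1, 6, 11], [11, 3, 1, 5, 11, 8, 6, 9, 4], [11, 5, 11, 2, 11, 8, 7, 5], [11, 10, 1, 10, 11, 5, 9, 3, 10, 2]]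

theorem card0 {G : Type*} [Group G] {g : ℕ → G} (hg : Sat g R) :
    Finite (wgen g [[1], [2]]) ∧ Nat.card (wgen g [[1], [2]]) ≤ 3 :=
  (L0.checked.step hg [0, 1, 2] (S₁ := []) (by decide +kernel) (by decide +kernel)
    (by decide +kernel)).wcard (n := 3) (m := 1) (by decide) (wcard_nil g)

theorem card1 {G : Type*} [Group G] {g : ℕ → G} (hg : Sat g R) :
    Finite (wgen g [[1], [2], [3], [4]]) ∧ Nat.card (wgen g [[1], [2], [3], [4]]) ≤ 9 :=
  (L1.checked.step hg [0, 1, 2, 3, 4] (S₁ := [[1], [2]]) (by decide +kernel) (by decide +kernel)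
    (by decide +kernel)).wcard (n := 3) (m := 3) (by decide) (card0 hg)

theorem card2 {G : Type*} [Group G] {g : ℕ → G} (hg : Sat g R) :
    Finite (wgen g [[1], [2], [3], [4], [5]]) ∧ Nat.card (wgen g [[1], [2], [3], [4], [5]]) ≤ 18 :=
  (L2.checked.step hg [0, 1, 2, 3, 4, 5] (S₁ := [[1], [2], [3], [4]]) (by decide +kernel) (by decide +kernel)
    (by decide +kernel)).wcard (n := 2) (m := 9) (by decide) (card1 hg)

theorem card3 {G : Type*} [Group G] {g : ℕ → G} (hg : Sat g R) :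
    Finite (wgen g [[1], [2], [3], [4], [5], [6]]) ∧ Nat.card (wgen g [[1], [2], [3], [4], [5], [6]]) ≤ 162 :=
  (L3.checked.step hg [0, 1, 2, 3, 4, 5, 6] (S₁ := [[1], [2], [3], [4], [5]]) (by decide +kernel) (by decide +kernel)
    (by decide +kernel)).wcard (n := 9) (m := 18) (by decide) (card2 hg)

theorem card4 {G : Type*} [Group G] {g : ℕ → G} (hg : Sat g R) :
    Finite (wgen g [[1], [2], [3], [4], [5], [6], [7]]) ∧ Nat.card (wgen g [[1], [2], [3], [4], [5], [6], [7]]) ≤ 486 :=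
  (L4.checked.step hg [0, 1, 2, 3, 4, 5, 6, 7] (S₁ := [[1], [2], [3], [4], [5], [6]]) (by decide +kernel) (by decide +kernel)
    (by decide +kernel)).wcard (n := 3) (m := 162) (by decide) (card3 hg)

theorem card5 {G : Type*} [Group G] {g : ℕ → G} (hg : Sat g R) :
    Finite (wgen g [[1], [2], [3], [4], [5], [6], [7], [8], [9]]) ∧ Nat.card (wgen g [[1], [2], [3], [4], [5], [6], [7], [8], [9]]) ≤ 972 :=
  (L5.checked.step hg [0, 1, 2, 3, 4, 5, 6, 7, 8, 9] (S₁ := [[1], [2], [3], [4], [5], [6], [7]]) (by decide +kernel) (by decide +kernel)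
    (by decide +kernel)).wcard (n := 2) (m := 486) (by decide) (card4 hg)

theorem card6 {G : Type*} [Group G] {g : ℕ → G} (hg : Sat g R) :
    Finite (wgen g [[1], [2], [3], [4], [5], [6], [7], [8], [9], [10]]) ∧ Nat.card (wgen g [[1], [2], [3], [4], [5], [6], [7], [8], [9], [10]]) ≤ 29160 :=
  (L6.checked.step hg [0, 1, 2, 3, 4, 5, 6, 7, 8, 9, 10] (S₁ := [[1], [2], [3], [4], [5], [6], [7], [8], [9]]) (by decide +kernel) (by decide +kernel)
    (by decide +kernel)).wcard (n := 30) (m := 972) (by decide) (card5 hg)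

theorem card7 {G : Type*} [Group G] {g : ℕ → G} (hg : Sat g R) :
    Finite (wgen g [[1], [2], [3], [4], [5], [6], [7], [8], [9], [10], [11]]) ∧ Nat.card (wgen g [[1], [2], [3], [4], [5], [6], [7], [8], [9], [10], [11]]) ≤ 3265920 :=
  (L7.checked.step hg [0, 1, 2, 3, 4, 5, 6, 7, 8, 9, 10, 11] (S₁ := [[1], [2], [3], [4], [5], [6], [7], [8], [9], [10]]) (by decide +kernel) (by decide +kernel)
    (by decide +kernel)).wcard (n := 112) (m := 29160) (by decide) (card6 hg)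

theorem card_le {G : Type*} [Group G] {g : ℕ → G} (hg : Sat g R) :
    Finite (wgen g [[1], [2], [3], [4], [5], [6], [7], [8], [9], [10], [11]]) ∧ Nat.card (wgen g [[1], [2], [3], [4], [5], [6], [7], [8], [9], [10], [11]]) ≤ 3265920 := card7 hg

end Cfsg.Agent.H74.PresU43
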