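import Mathlib
import Cfsg.Agent.Lead.T3Defs

/-!
# The pieces CA and QC4: compatibility of neighbouring charts
-/

set_option autoImplicit false

namespace Cfsg.Agent.H74.T3C

open Cfsg.Agent.H35 Cfsg.Agent.Lead.T3 Equiv

universe u

theorem semilin {F E : Type} [Field F] [Field E] (g : F → E) (hadd : ∀ s t, g (s + t) = g s + g t)
    (hbij : Function.Bijective g)
    (hc : ∀ t, t ≠ 0 → ∀ r, r ≠ 0 → ∀ s s', g s' = r * g s → g (t * s') = r * g (t * s)) :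
    ∃ (θ : F ≃+* E) (a : E), a ≠ 0 ∧ ∀ s, g s = a * θ s := by
  have h0 : g 0 = 0 := by
    have := hadd 0 0
    rw [add_zero] at this
    exact left_eq_add.1 this
  obtain ⟨s0, hs0⟩ := hbij.2 1
  have hne : s0 ≠ 0 := by
    rintro rfl
    rw [h0] at hs0
    exact zero_ne_one hs0
  have key : ∀ t s, g (t * s) = g (t * s0) * g s := by
    intro t s
    by_cases ht : t = 0
    · rw [ht, zero_mul, zero_mul, h0, zero_mul]
    by_cases hs : g s = 0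
    · have : s = 0 := hbij.1 (hs.trans h0.symm)
      rw [this, mul_zero, h0, mul_zero]
    rw [hc t ht (g s) hs s0 s (by rw [hs0, mul_one]), mul_comm]
  let θ0 : F →+* E :=
    { toFun := fun t => g (t * s0)
      map_one' := by rw [one_mul, hs0]
      map_mul' := fun a b => by rw [mul_assoc, key]
      map_zero' := by rw [zero_mul, h0]
      map_add' := fun a b => by rw [add_mul, hadd] }
  have hb : Function.Bijective θ0 := hbij.comp (mulRight_bijective₀ s0 hne)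
  refine ⟨RingEquiv.ofBijective θ0 hb, g 1, fun h => one_ne_zero (hbij.1 (h.trans h0.symm)),
    fun s => ?_⟩
  have := key s 1
  rw [mul_one] at this
  rw [this, mul_comm]
  rfl

theorem hh_comm {F Γ : Type*} [Field F] [Group Γ] (x : Fin 3 → Fin 3 → F → Γ) (a b : Fin 3)
    (t : F) {z : Γ} (h1 : ∀ s, Commute (x a b s) z) (h2 : ∀ s, Commute (x b a s) z) :
    Commute (hh x a b t) z := by
  unfold hh nn
  exact (((h1 _).mul_left (h2 _)).mul_left (h1 _)).mul_left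
    (((h1 _).mul_left (h2 _)).mul_left (h1 _)).inv_left

theorem hh_mem {F Γ : Type*} [Field F] [Group Γ] (x : Fin 3 → Fin 3 → F → Γ) (a b : Fin 3)
    (t : F) {H : Subgroup Γ} (h1 : ∀ s, x a b s ∈ H) (h2 : ∀ s, x b a s ∈ H) :
    hh x a b t ∈ H := by
  unfold hh nn
  exact mul_mem (mul_mem (mul_mem (h1 _) (h2 _)) (h1 _))
    (inv_mem (mul_mem (mul_mem (h1 _) (h2 _)) (h1 _)))

theorem x_zero {F Γ : Type*} [Field F] [Group Γ] {x : Fin 3 → Fin 3 → F → Γ} (h : StRel x)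
    {a b : Fin 3} (hab : a ≠ b) : x a b 0 = 1 := by
  have := h.add a b hab 0 0
  rw [add_zero] at this
  exact left_eq_mul.1 this

theorem x_inj {F Γ : Type*} [Field F] [Group Γ] {x : Fin 3 → Fin 3 → F → Γ} (h : StRel x)
    {a b : Fin 3} (hab : a ≠ b) {s t : F} (e : x a b s = x a b t) : s = t := by
  have h1 := h.add a b hab (s - t) t
  rw [sub_add_cancel, e] at h1
  exact sub_eq_zero.1 (h.inj a b hab _ (right_eq_mul.1 h1))

section

variable {I W : Type} [Group W] {X : Cox I W}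

theorem m_symm (i j : I) : X.m i j = X.m j i := by
  unfold Cox.m
  rw [← orderOf_inv, mul_inv_rev, X.inv_s, X.inv_s]

theorem s_mem {K : Set I} {i : I} (hi : i ∈ K) : X.s i ∈ X.WJ K :=
  Subgroup.subset_closure ⟨i, hi, rfl⟩

theorem s_comm {i k : I} (h : X.m i k = 2) : X.s i * X.s k = X.s k * X.s i := by
  have h1 : (X.s i * X.s k) ^ 2 = 1 := by rw [← h]; exact pow_orderOf_eq_one _
  rw [pow_two] at h1
  rw [eq_inv_of_mul_eq_one_left h1, mul_inv_rev, X.inv_s, X.inv_s]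

variable [Finite W]

theorem s_rt (cx : CxStmt) {i k : I} (h : X.m i k = 2) : X.s k ∈ X.rt 1 i := by
  have hik : i ≠ k := by
    rintro rfl
    unfold Cox.m at h
    rw [X.s_mul_s, orderOf_one] at h
    omega
  have h2 := ((cx X).2.2.2.2.2.2.2 i k hik).1 2 h.ge
  show X.len (1⁻¹ * X.s k) < X.len (X.s i * (1⁻¹ * X.s k))
  rw [inv_one, one_mul, X.exch.len_s]
  have e : X.wp (InvGen.altw i k 2) = X.s i * X.s k := by
    simp [InvGen.altw]
  rw [e] at h2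
  omega

theorem rt_shift (cx : CxStmt) (rt : RtStmt) {i k : I} (h : X.m i k = 2) (v : W) :
    X.rt (v * X.s k) i = X.rt v i := by
  obtain ⟨-, -, -, r4, -, r6, -⟩ := rt X
  refine r4 v i (v * X.s k) i ?_ ?_
  · unfold Cox.rf
    rw [mul_inv_rev, X.inv_s, mul_assoc v (X.s k), ← s_comm h]
    calc v * X.s i * v⁻¹ = v * X.s i * (X.s k * X.s k) * v⁻¹ := by rw [X.s_mul_s, mul_one]
      _ = _ := by group
  · have := (r6 v 1 i (X.s k)).2 (s_rt cx h)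
    rwa [mul_one] at this

variable {C : Type u} [Finite C] {B : Bld X C}

theorem comm4 (cx : CxStmt) (rt : RtStmt) (com : ComStmt.{u}) {σ : W → C} {K : Set I}
    (hσ : B.Apt σ) (hM : B.Mou K (σ 1)) {i k : I} (hi : i ∈ K) (hk : k ∈ K) (h : X.m i k = 2)
    {a b : Perm C} (ha : a ∈ B.R σ K 1 i ∨ a ∈ B.R σ K (X.s i) i)
    (hb : b ∈ B.R σ K 1 k ∨ b ∈ B.R σ K (X.s k) k) : Commute a b := by
  have h' : X.m k i = 2 := by rw [m_symm]; exact h
  have c := fun v hv => (com B σ K hσ hM v hv i hi k hk).1 h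
  have e1 := rt_shift cx rt h 1
  have e2 := rt_shift cx rt h' 1
  have e3 := rt_shift cx rt h (X.s i)
  have e4 := rt_shift cx rt h' (X.s k)
  rw [one_mul] at e1 e2
  rw [← s_comm h] at e4
  rcases ha with ha | ha <;> rcases hb with hb | hb
  · exact c 1 (one_mem _) a ha b hb
  · refine c (X.s k) (s_mem hk) a ?_ b hb
    show a ∈ B.U σ K _
    rw [e1]; exact ha
  · refine c (X.s i) (s_mem hi) a ha b ?_
    show b ∈ B.U σ K _
    rw [e2]; exact hb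
  · refine c (X.s i * X.s k) (mul_mem (s_mem hi) (s_mem hk)) a ?_ b ?_
    · show a ∈ B.U σ K _
      rw [e3]; exact ha
    · show b ∈ B.U σ K _
      rw [e4]; exact hb

omit [Finite W] [Finite C] in
theorem s_pan {σ : W → C} (hσ : B.Apt σ) (v : W) (i : I) : σ (v * X.s i) ∈ B.pan (σ v) i := by
  show B.δ _ _ = _
  rw [hσ, inv_mul_cancel_left]

end

theorem caStmt (cx : CxStmt) (rt : RtStmt) (mou : MouStmt.{u}) (com : ComStmt.{u})
    (stp : StpStmt.{u}) (sth : SthStmt.{u}) : CaStmt.{u} := by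
  intro I W _ _ X C _ B σ i j k F E _ _ κ κ' μ μ' hσ hT hP hQ
  have hM := mou B i j k (Or.inl hT) (σ 1)
  have hi : i ∈ ({i, j, k} : Set I) := by simp
  have hj : j ∈ ({i, j, k} : Set I) := by simp
  have hk : k ∈ ({i, j, k} : Set I) := by simp
  obtain ⟨x, hx⟩ := stp B σ {i, j, k} i j F κ κ' hσ hi hj hM hP
  obtain ⟨y, hy⟩ := stp B σ {i, j, k} j k E μ μ' hσ hj hk hM hQ
  have mx : ∀ g, g ∈ B.R σ {i, j, k} 1 j ↔ ∃ t, x 1 2 t = g := hx.mem 1 2 (by decide)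
  have my : ∀ g, g ∈ B.R σ {i, j, k} 1 j ↔ ∃ t, y 0 1 t = g := hy.mem 0 1 (by decide)
  choose g hg using fun t => (my (x 1 2 t)).1 ((mx _).2 ⟨t, rfl⟩)
  have yi : ∀ {s t : E}, y 0 1 s = y 0 1 t → s = t := x_inj hy.rel (by decide)
  have hcomm : ∀ t r, Commute (hh x 1 0 t) (hh y 2 1 r) := by
    intro t r
    have hb : ∀ a, a ∈ B.R σ {i, j, k} 1 i ∨ a ∈ B.R σ {i, j, k} (X.s i) i →
        Commute a (hh y 2 1 r) := by
      intro a ha
      refine (hh_comm y 2 1 r (fun s => ?_) (fun s => ?_)).symm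
      · exact (comm4 cx rt com hσ hM hi hk hT.2.2 ha
          (Or.inr ((hy.mem 2 1 (by decide) _).2 ⟨s, rfl⟩))).symm
      · exact (comm4 cx rt com hσ hM hi hk hT.2.2 ha
          (Or.inl ((hy.mem 1 2 (by decide) _).2 ⟨s, rfl⟩))).symm
    exact hh_comm x 1 0 t (fun s => hb _ (Or.inr ((hx.mem 1 0 (by decide) _).2 ⟨s, rfl⟩)))
      (fun s => hb _ (Or.inl ((hx.mem 0 1 (by decide) _).2 ⟨s, rfl⟩)))
  obtain ⟨θ, a, ha, hθ⟩ := semilin g
    (fun s t => yi (by rw [hg, hx.rel.add 1 2 (by decide), hy.rel.add 0 1 (by decide), hg, hg]))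
    ⟨fun s t e => x_inj hx.rel (a := 1) (b := 2) (by decide) (by rw [← hg, ← hg, e]), fun e => by
      obtain ⟨t, ht⟩ := (mx _).1 ((my _).2 ⟨e, rfl⟩)
      exact ⟨t, yi (by rw [hg, ht])⟩⟩
    (fun t ht r hr s s' e => by
      have a1 : ∀ s, hh x 1 0 t * x 1 2 s * (hh x 1 0 t)⁻¹ = x 1 2 (t * s) := fun s =>
        (sth x hx.rel 1 0 2 (by decide) (by decide) (by decide) t ht s).1
      have a2 : ∀ s, hh y 2 1 r * y 0 1 s * (hh y 2 1 r)⁻¹ = y 0 1 (r * s) := fun s =>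
        (sth y hy.rel 2 1 0 (by decide) (by decide) (by decide) r hr s).2.2.2.1
      apply yi
      rw [hg, ← a2, hg, ← a1, ← a1, ← hg s', e, ← a2, hg]
      have c := (hcomm t r).eq
      calc hh x 1 0 t * (hh y 2 1 r * x 1 2 s * (hh y 2 1 r)⁻¹) * (hh x 1 0 t)⁻¹
          = (hh x 1 0 t * hh y 2 1 r) * x 1 2 s * (hh x 1 0 t * hh y 2 1 r)⁻¹ := by group
        _ = _ := by rw [c]; group)
  refine ⟨θ, a, ha, fun z hz => ?_⟩
  have hs : σ (X.s j) ∈ B.pan (σ 1) j := by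
    have := s_pan (B := B) hσ 1 j
    rwa [one_mul] at this
  obtain ⟨u, hu, e⟩ := hM σ hσ (show B.δ _ _ ∈ X.WJ _ by rw [hσ, inv_mul_cancel]; exact one_mem _)
    1 (one_mem _) j hj _ hs z hz
  obtain ⟨t, rfl⟩ := (mx u).1 hu
  rw [← e, hx.kj, ← hθ, ← hg, hy.ki]

theorem qc4Stmt (cx : CxStmt) (rt : RtStmt) (mou : MouStmt.{u}) (free : FreeStmt.{u})
    (com : ComStmt.{u}) (res : ResStmt.{u}) (stp : StpStmt.{u}) (sth : SthStmt.{u}) :
    Qc4Stmt.{u} := by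
  intro I W _ _ X C _ B σ j k l F E _ _ κ μ μ' d hσ hQ hT hP
  obtain ⟨m4, -, x1, x3, a, hR, -⟩ := hQ
  have hM := mou B l k j (Or.inr hT) (σ 1)
  have hl : l ∈ ({l, k, j} : Set I) := by simp
  have hk : k ∈ ({l, k, j} : Set I) := by simp
  have hj : j ∈ ({l, k, j} : Set I) := by simp
  have hj' : j ∈ ({j, k} : Set I) := by simp
  have hk' : k ∈ ({j, k} : Set I) := by simp
  have hJK : ({j, k} : Set I) ⊆ {l, k, j} := by
    intro z hz
    rcases hz with rfl | rfl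
    · exact hj
    · exact hk
  obtain ⟨y, hy⟩ := stp B σ {l, k, j} l k E μ μ' hσ hl hk hM hP
  obtain ⟨S, r, hS, hr, hres⟩ := (res B).2 σ {j, k} {l, k, j} hσ hJK
  have my : ∀ g, g ∈ B.R σ {l, k, j} 1 k ↔ ∃ t, y 1 2 t = g := hy.mem 1 2 (by decide)
  have m4' : 3 ≤ X.m k j := by rw [hT.2.1]; omega
  obtain ⟨k1, k2, k3⟩ := hres 1 (one_mem _) k hk'
  obtain ⟨-, k4⟩ := k3 hM ⟨j, hj', m4'⟩
  obtain ⟨-, -, j3⟩ := hres 1 (one_mem _) j hj'
  obtain ⟨-, j4⟩ := j3 hM ⟨k, hk', by omega⟩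
  have inres : ∀ w ∈ X.WJ {j, k}, σ w ∈ B.res {j, k} (σ 1) := by
    intro w hw
    show B.δ _ _ ∈ X.WJ _
    rw [hσ, inv_one, one_mul]
    exact hw
  have yS : ∀ e, y 1 2 e ∈ S := fun e => k1 ((my _).2 ⟨e, rfl⟩)
  let Y : E → B.R σ {j, k} 1 k := fun e => ⟨r ⟨y 1 2 e, yS e⟩, k2 _ ((my _).2 ⟨e, rfl⟩)⟩
  have hYν : ∀ e, μ' ((Y e).1 (σ (X.s k))) = e := by
    intro e
    show μ' (r ⟨y 1 2 e, yS e⟩ (σ (X.s k))) = e
    rw [(hr _).2 _ (inres _ (s_mem hk'))]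
    exact hy.kj e
  have hYs : ∀ z, ∃ e, Y e = z := by
    intro z
    obtain ⟨g, hg, e⟩ := k4 z.1 z.2
    obtain ⟨t, ht⟩ := (my _).1 hg
    refine ⟨t, Subtype.ext ?_⟩
    show r ⟨y 1 2 t, yS t⟩ = z.1
    rw [← e]
    congr 1
    exact Subtype.ext ht
  have hYa : ∀ e e', Y (e + e') = Y e * Y e' := by
    intro e e'
    apply Subtype.ext
    show r ⟨y 1 2 (e + e'), yS _⟩ = r ⟨y 1 2 e, yS e⟩ * r ⟨y 1 2 e', yS e'⟩
    rw [← map_mul]
    congr 1
    exact Subtype.ext (hy.rel.add 1 2 (by decide) e e')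
  refine ⟨fun z z' => ?_, fun t => ?_⟩
  · obtain ⟨e, rfl⟩ := hYs z
    obtain ⟨e', rfl⟩ := hYs z'
    rw [← hYa, hYν, hYν, hYν]
  have hY0 : Y 0 = 1 := by
    have := hYa 0 0
    rw [add_zero] at this
    exact left_eq_mul.1 this
  have i23 : ∀ g, g ∈ B.R σ {j, k} (X.s j) k → g ∈ B.R σ {j, k} (X.s j * X.s k) j → g = 1 := by
    intro g h2 h3
    refine (free B σ {j, k} hσ).1 (X.s j) (s_mem hj') k hk' ⟨j, hj', m4'⟩ g h2 _
      (s_pan hσ (X.s j) k) ?_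
    exact h3.2.1 _ (mul_mem (s_mem hj') (s_mem hk')) ((rt X).1 _ _)
  refine ⟨μ' ((d.sm t (Y 1)).1 (σ (X.s k))), fun z => ?_⟩
  obtain ⟨e, rfl⟩ := hYs z
  by_cases he : e = 0
  · have h1 : d.sm t 1 = 1 := by
      have := d.sm_mul t 1 1
      rw [mul_one] at this
      exact left_eq_mul.1 this
    rw [hYν, he, mul_zero, hY0, h1, ← hY0, hYν]
  have hfix : ∀ w ∈ X.WJ {l, k, j}, hh y 1 0 e (σ w) = σ w := by
    intro w hw
    have hrf : X.rf (X.s l) l = X.s l := by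
      unfold Cox.rf
      rw [X.s_mul_s, one_mul, X.inv_s]
    have n1 : ∀ t, t ≠ 0 → ∀ w ∈ X.WJ {l, k, j}, nn y 1 0 t (σ w) = σ (X.s l * w) := by
      intro t ht w hw
      rw [← hrf]
      exact hy.nσ 1 0 (by decide) t ht w hw
    have hw' : X.s l * w ∈ X.WJ {l, k, j} := mul_mem (s_mem hl) hw
    have n2 : (nn y 1 0 1)⁻¹ (σ w) = σ (X.s l * w) := by
      rw [Perm.inv_eq_iff_eq, n1 1 one_ne_zero _ hw', X.s_mul_s_cancel_left]
    unfold hh
    rw [Perm.mul_apply, n2, n1 e he _ hw', X.s_mul_s_cancel_left]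
  have hA : hh y 1 0 e ∈ B.Aut {l, k, j} (σ 1) :=
    hh_mem y 1 0 e (fun s => ((hy.mem 1 0 (by decide) _).2 ⟨s, rfl⟩).1)
      (fun s => ((hy.mem 0 1 (by decide) _).2 ⟨s, rfl⟩).1)
  have hHS : hh y 1 0 e ∈ S := by
    rw [hS]
    refine ⟨hA, ?_⟩
    rw [hfix 1 (one_mem _)]
    exact inres 1 (one_mem _)
  set ψ := r ⟨hh y 1 0 e, hHS⟩ with hψ
  have hnor : ∀ v i, ∀ g ∈ B.R σ {j, k} v i, ψ * g * ψ⁻¹ ∈ B.R σ {j, k} v i := by
    intro v i g hg
    have := (free B σ {j, k} hσ).2.1 ψ (hr _).1 1 (one_mem _) (fun w hw => by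
      rw [one_mul, hψ, (hr _).2 _ (inres w hw)]
      exact hfix w (Subgroup.closure_mono (Set.image_mono hJK) hw)) v i g hg
    rwa [one_mul] at this
  have hc1 : ∀ s, ψ * x1 s * ψ⁻¹ = x1 s := by
    intro s
    obtain ⟨g, hg, e1⟩ := j4 (x1 s) ((hR.mem1 _).2 ⟨s, rfl⟩)
    have c : Commute (hh y 1 0 e) g.1 :=
      hh_comm y 1 0 e
        (fun s => comm4 cx rt com hσ hM hl hj hT.2.2
          (Or.inr ((hy.mem 1 0 (by decide) _).2 ⟨s, rfl⟩)) (Or.inl hg))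
        (fun s => comm4 cx rt com hσ hM hl hj hT.2.2
          (Or.inl ((hy.mem 0 1 (by decide) _).2 ⟨s, rfl⟩)) (Or.inl hg))
    rw [← e1, mul_inv_eq_iff_eq_mul, hψ, ← map_mul, ← map_mul]
    congr 1
    exact Subtype.ext c.eq
  have hc4 : ∀ s, ψ * (Y s).1 * ψ⁻¹ = (Y (e * s)).1 := by
    intro s
    show ψ * r ⟨y 1 2 s, yS s⟩ * ψ⁻¹ = r ⟨y 1 2 (e * s), yS _⟩
    rw [hψ, ← map_inv, ← map_mul, ← map_mul]
    congr 1
    exact Subtype.ext (sth y hy.rel 1 0 2 (by decide) (by decide) (by decide) e he s).1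
  have hkey : ∀ s s', ψ * a (d.sm s (Y s')) * ψ⁻¹ = a (d.sm s (Y (e * s'))) := by
    intro s s'
    have e1 := hR.r14 s (Y s')
    have e2 := hR.r14 s (Y (e * s'))
    have e3 : ψ * a (d.sm s (Y s')) * ψ⁻¹ * (ψ * x3 (s * d.Q (Y s')) * ψ⁻¹) =
        a (d.sm s (Y (e * s'))) * x3 (s * d.Q (Y (e * s'))) := by
      apply mul_right_cancel (b := (Y (e * s')).1)
      rw [← e2, ← hc4, ← hc1 s]
      calc ψ * a (d.sm s (Y s')) * ψ⁻¹ * (ψ * x3 (s * d.Q (Y s')) * ψ⁻¹) * (ψ * (Y s').1 * ψ⁻¹)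
          = ψ * (a (d.sm s (Y s')) * x3 (s * d.Q (Y s')) * (Y s').1) * ψ⁻¹ := by group
        _ = _ := by rw [← e1]; group
    have ma : ∀ z, a z ∈ B.R σ {j, k} (X.s j) k := fun z => hR.mem2 ▸ ⟨z, rfl⟩
    have m3 : ∀ z, x3 z ∈ B.R σ {j, k} (X.s j * X.s k) j := fun z => (hR.mem3 _).2 ⟨z, rfl⟩
    have e4 : (a (d.sm s (Y (e * s'))))⁻¹ * (ψ * a (d.sm s (Y s')) * ψ⁻¹) =
        x3 (s * d.Q (Y (e * s'))) * (ψ * x3 (s * d.Q (Y s')) * ψ⁻¹)⁻¹ := by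
      rw [eq_mul_inv_iff_mul_eq, mul_assoc, e3, inv_mul_cancel_left]
    have e5 := i23 _ (mul_mem (inv_mem (ma _)) (hnor _ _ _ (ma _)))
      (e4 ▸ mul_mem (m3 _) (inv_mem (hnor _ _ _ (m3 _))))
    exact (inv_mul_eq_one.1 e5).symm
  obtain ⟨e0, he0⟩ := hYs (d.sm t (Y 1))
  have f1 := hkey t 1
  have f2 := hkey 1 e0
  rw [d.sm_one, d.sm_one, he0, f1, mul_one] at f2
  rw [hR.inj2 f2, ← he0, hYν, hYν, hYν, mul_comm]

end Cfsg.Agent.H74.T3C
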