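import Mathlib
import Cfsg.Agent.Lead.T3Defs

/-!
# The piece KEY of the extension theorem
-/

set_option autoImplicit false

namespace Cfsg.Agent.H74.T3K

open Cfsg.Agent.H35 Cfsg.Agent.Lead.T3

universe u

section

variable {I W : Type} [Group W] [Finite W] {X : Cox I W}

theorem conj_mem (cx : CxStmt) {J K : Set I} (hJK : J ⊆ K) {v : W} (hv : v ∈ X.WJ J) :
    X.wJ K * v * X.wJ K ∈ X.WJ (X.op K '' J) := by
  obtain ⟨c1, -, c3, -⟩ := cx X
  have hinv : (X.wJ K)⁻¹ = X.wJ K := inv_eq_of_mul_eq_one_right (c1 K)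
  unfold Cox.WJ at hv
  induction hv using Subgroup.closure_induction with
  | mem x hx =>
    obtain ⟨i, hi, rfl⟩ := hx
    rw [(c3 K i (hJK hi)).2.1, mul_assoc, c1 K, mul_one]
    exact Subgroup.subset_closure ⟨_, ⟨i, hi, rfl⟩, rfl⟩
  | one => rw [mul_one, c1 K]; exact one_mem _
  | mul x y _ _ ihx ihy =>
    have e : X.wJ K * (x * y) * X.wJ K =
        (X.wJ K * x * X.wJ K) * (X.wJ K * y * X.wJ K) := by
      calc X.wJ K * (x * y) * X.wJ K = X.wJ K * x * (X.wJ K * X.wJ K) * y * X.wJ K := by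
            rw [c1 K]; group
        _ = _ := by group
    rw [e]
    exact mul_mem ihx ihy
  | inv x _ ih =>
    have e : X.wJ K * x⁻¹ * X.wJ K = (X.wJ K * x * X.wJ K)⁻¹ := by
      rw [mul_inv_rev, mul_inv_rev, hinv, mul_assoc]
    rw [e]
    exact inv_mem ih

variable {C : Type u} [Finite C] {B : Bld X C}

/-- the gate formula for a chamber opposite the base chamber -/
theorem gate (ba1 : Ba1Stmt.{u}) (ba2 : Ba2Stmt.{u}) (K : Set I) {c e : C}
    (he : B.δ c e = X.w0) :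
    B.proj K c e ∈ B.res K c ∧
      ∀ x ∈ B.res K c, B.δ x e = B.δ x (B.proj K c e) * (X.wJ K * X.w0) := by
  obtain ⟨-, -, -, b4, -, -, b7, -⟩ := ba1 B
  obtain ⟨h1, -, h3⟩ := b7 K c e
  refine ⟨h1, fun x hx => ?_⟩
  rw [(h3 x hx).1, (((ba2 B).1 K Set.univ c e (Set.subset_univ _) he).1 e (b4 _ e)).1]
  rfl

/-- projections of two chambers of one residue, both opposite the base chamber -/
theorem proj_res (cx : CxStmt) (ba1 : Ba1Stmt.{u}) (ba2 : Ba2Stmt.{u}) (J K : Set I) {c d e : C}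
    (hd : B.δ c d = X.w0) (he : B.δ c e = X.w0) (hde : e ∈ B.res J d) :
    B.δ (B.proj K c d) (B.proj K c e) ∈ X.WJ (X.op K '' (X.op Set.univ '' J ∩ K)) := by
  obtain ⟨c1, -, -, c4, -⟩ := cx X
  obtain ⟨ha, ga⟩ := gate ba1 ba2 K hd
  obtain ⟨hb, gb⟩ := gate ba1 ba2 K he
  obtain ⟨-, -, -, -, b5, b6, -⟩ := ba1 B
  set a := B.proj K c d
  set b := B.proj K c e
  have hab : B.δ a b ∈ X.WJ K := by
    have : b ∈ B.res K a := by rw [b5 K c a ha]; exact hb
    exact this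
  obtain ⟨v, hv, e1⟩ := b6 J d a e hde
  have e2 : B.δ a d = X.wJ K * X.w0 := by
    rw [ga a ha, (B.eq_one a a).2 rfl, one_mul]
  have e3 := gb a ha
  have e4 : B.δ a e = B.δ a d * v := by
    rw [B.symm e a, B.symm d a, e1]; group
  have h0 : X.w0 * X.w0 = 1 := c1 Set.univ
  have e5 : X.wJ K * B.δ a b * X.wJ K = X.w0 * v * X.w0 := by
    rw [e3, e2] at e4
    calc X.wJ K * B.δ a b * X.wJ K = X.wJ K * (B.δ a b * (X.wJ K * (X.w0 * X.w0))) := by
          rw [h0]; group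
      _ = X.wJ K * (B.δ a b * (X.wJ K * X.w0)) * X.w0 := by group
      _ = (X.wJ K * X.wJ K) * (X.w0 * v * X.w0) := by rw [e4]; group
      _ = _ := by rw [c1 K, one_mul]
  have hK : X.wJ K ∈ X.WJ K := (X.wJ_spec K).1
  have h1 : X.wJ K * B.δ a b * X.wJ K ∈ X.WJ (X.op Set.univ '' J ∩ K) := by
    rw [← c4]
    refine ⟨?_, mul_mem (mul_mem hK hab) hK⟩
    rw [e5]
    exact conj_mem cx (Set.subset_univ J) hv
  have h2 := conj_mem cx (K := K) Set.inter_subset_right h1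
  have e6 : X.wJ K * (X.wJ K * B.δ a b * X.wJ K) * X.wJ K = B.δ a b := by
    calc X.wJ K * (X.wJ K * B.δ a b * X.wJ K) * X.wJ K
        = (X.wJ K * X.wJ K) * B.δ a b * (X.wJ K * X.wJ K) := by group
      _ = _ := by rw [c1 K, one_mul, mul_one]
  rwa [e6] at h2

omit [Finite W] [Finite C] in
theorem res_mono {J K : Set I} (h : J ⊆ K) (c : C) : B.res J c ⊆ B.res K c :=
  fun _ hy => Subgroup.closure_mono (Set.image_mono h) hy

end

theorem keyStmt (cx : CxStmt) (ba1 : Ba1Stmt.{u}) (ba2 : Ba2Stmt.{u}) : KeyStmt.{u} := by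
  intro I W _ _ X C C' _ _ B B' φ ψ c d e hφ hψ hL he hce
  obtain ⟨k, l, hde⟩ := he
  refine ⟨hce, ?_⟩
  rintro x ⟨i, j, hx⟩
  obtain ⟨c1, -, c3, -⟩ := cx X
  obtain ⟨-, -, -, b4, b5, -, b7, b8, -⟩ := ba1 B
  have h0 : X.w0 * X.w0 = 1 := c1 Set.univ
  have himg : X.op Set.univ '' {k, l} = {X.op Set.univ k, X.op Set.univ l} := Set.image_pair _ _ _
  have hJ : ∀ y ∈ B.res (X.op Set.univ '' {k, l}) c, B'.δ (φ y) (ψ e) = B.δ y e := by
    intro y hy
    rw [himg] at hy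
    refine hL.2 _ _ y hy e ?_
    rw [(c3 _ k (Set.mem_univ k)).2.2, (c3 _ l (Set.mem_univ l)).2.2]
    exact hde
  have hK : ∀ y ∈ B.res {i, j} c, B'.δ (φ y) (ψ d) = B.δ y d :=
    fun y hy => hL.2 i j y hy d (b4 _ d)
  have hce' : B'.δ (φ c) (ψ e) = X.w0 := by rw [hJ c (b4 _ c), hce]
  have hcd' : B'.δ (φ c) (ψ d) = X.w0 := by rw [hK c (b4 _ c), hL.1]
  have hde' : ψ e ∈ B'.res {k, l} (ψ d) := by
    show B'.δ (ψ d) (ψ e) ∈ X.WJ {k, l}
    rw [(hψ k l).1 d (b4 _ d) e hde]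
    exact hde
  obtain ⟨iso, sur⟩ := hφ i j
  have himgK : ∀ y ∈ B.res {i, j} c, φ y ∈ B'.res {i, j} (φ c) := by
    intro y hy
    show B'.δ (φ c) (φ y) ∈ X.WJ {i, j}
    rw [iso c (b4 _ c) y hy]
    exact hy
  obtain ⟨ha, ga⟩ := gate ba1 ba2 {i, j} hL.1
  obtain ⟨hb, gb⟩ := gate ba1 ba2 {i, j} hce
  obtain ⟨ha', ga'⟩ := gate ba1 ba2 {i, j} hcd'
  obtain ⟨hb', gb'⟩ := gate ba1 ba2 {i, j} hce'
  have p1 := proj_res cx ba1 ba2 {k, l} {i, j} hL.1 hce hde
  have p2 := proj_res cx ba1 ba2 {k, l} {i, j} hcd' hce' hde'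
  obtain ⟨b2, hb2, eb2⟩ := sur hb'
  set a := B.proj {i, j} c d with hadef
  set b := B.proj {i, j} c e with hbdef
  set L := X.op Set.univ '' {k, l} ∩ {i, j} with hLdef
  have ea : φ a = B'.proj {i, j} (φ c) (ψ d) := by
    have e1 := ga' (φ a) (himgK a ha)
    rw [hK a ha, ga a ha, (B.eq_one a a).2 rfl] at e1
    exact (B'.eq_one _ _).1 (mul_right_cancel e1).symm
  rw [← ea, ← eb2, iso a ha b2 hb2] at p2
  have hca : B.δ c a = X.wJ {i, j} := by
    have e1 := ga c (b4 _ c)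
    rw [hL.1, ← mul_assoc] at e1
    have e2 : B.δ c a * X.wJ {i, j} = 1 := by
      have := mul_right_cancel (e1.symm.trans (one_mul X.w0).symm)
      exact this
    rw [eq_inv_of_mul_eq_one_left e2]
    exact inv_eq_of_mul_eq_one_right (c1 _)
  have hsame : ∀ y ∈ B.res L c, B.δ y b2 = B.δ y b := by
    intro y hy
    have hy1 : y ∈ B.res {i, j} c := res_mono Set.inter_subset_right c hy
    have hy2 : y ∈ B.res (X.op Set.univ '' {k, l}) c := res_mono Set.inter_subset_left c hy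
    have e1 := gb' (φ y) (himgK y hy1)
    rw [hJ y hy2, gb y hy1, ← eb2, iso y hy1 b2 hb2] at e1
    exact (mul_right_cancel e1).symm
  have hpr : B.proj L c b2 = B.proj L c b := by
    obtain ⟨q1, q2, -⟩ := b7 L c b
    refine b8 L c b2 _ q1 ?_
    rw [hsame _ q1]
    exact q2
  have hb2b : b2 = b := by
    have q := ((ba2 B).1 L {i, j} c a Set.inter_subset_right hca).1
    rw [← (q b2 p2).2, hpr, (q b p1).2]
  rw [gb' (φ x) (himgK x hx), gb x hx, ← eb2, iso x hx b2 hb2, hb2b]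

end Cfsg.Agent.H74.T3K
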